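import Mathlib
import Cfsg.Prelude.Def_Transfer
import Cfsg.Agent.Lib.helper13.Basic

set_option autoImplicit false

namespace Cfsg.Agent.Lib.helper13

open Cfsg
open scoped Pointwise

universe u

variable {G : Type u} [Group G] {p : ℕ}

theorem isElementaryAbelian_iff (A : Subgroup G) :
    IsElementaryAbelian p A ↔ (∀ a ∈ A, ∀ b ∈ A, a * b = b * a) ∧ ∀ a ∈ A, a ^ p = 1 := by
  constructor
  · rintro ⟨h1, h2⟩
    exact ⟨fun a ha b hb => comm_of_mem_of_isMulCommutative A ha hb, h2⟩
  · rintro ⟨h1, h2⟩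
    exact ⟨isMulCommutative_of_forall_comm A h1, h2⟩

theorem isElementaryAbelian_bot (p : ℕ) : IsElementaryAbelian p (⊥ : Subgroup G) := by
  rw [isElementaryAbelian_iff]
  constructor
  · intro a ha b hb
    rw [Subgroup.mem_bot] at ha hb
    rw [ha, hb]
  · intro a ha
    rw [Subgroup.mem_bot] at ha
    rw [ha, one_pow]

theorem elemAb_mono {A B : Subgroup G} (h : IsElementaryAbelian p A) (hBA : B ≤ A) :
    IsElementaryAbelian p B := by
  rw [isElementaryAbelian_iff] at h ⊢
  exact ⟨fun a ha b hb => h.1 a (hBA ha) b (hBA hb), fun a ha => h.2 a (hBA ha)⟩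

theorem elemAb_map {H : Type*} [Group H] {A : Subgroup G} (f : G →* H)
    (h : IsElementaryAbelian p A) : IsElementaryAbelian p (A.map f) := by
  rw [isElementaryAbelian_iff] at h ⊢
  constructor
  · rintro _ ⟨a, ha, rfl⟩ _ ⟨b, hb, rfl⟩
    rw [← map_mul, ← map_mul, h.1 a ha b hb]
  · rintro _ ⟨a, ha, rfl⟩
    rw [← map_pow, h.2 a ha, map_one]

theorem elemAb_of_map_injective {H : Type*} [Group H] {A : Subgroup G} (f : G →* H)
    (hf : Function.Injective f) (h : IsElementaryAbelian p (A.map f)) :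
    IsElementaryAbelian p A := by
  rw [isElementaryAbelian_iff] at h ⊢
  constructor
  · intro a ha b hb
    apply hf
    rw [map_mul, map_mul]
    exact h.1 _ (Subgroup.mem_map_of_mem f ha) _ (Subgroup.mem_map_of_mem f hb)
  · intro a ha
    apply hf
    rw [map_pow, map_one]
    exact h.2 _ (Subgroup.mem_map_of_mem f ha)

theorem elemAb_isPGroup [Fact p.Prime] {A : Subgroup G} (h : IsElementaryAbelian p A) :
    IsPGroup p A := by
  intro a
  refine ⟨1, ?_⟩
  apply Subtype.ext
  rw [pow_one, Subgroup.coe_pow, Subgroup.coe_one]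
  exact h.2 a a.2

/-- Two commuting elementary abelian subgroups generate an elementary abelian subgroup. -/
theorem elemAb_sup {A B : Subgroup G} (hA : IsElementaryAbelian p A)
    (hB : IsElementaryAbelian p B) (hAB : B ≤ Subgroup.centralizer (A : Set G)) :
    IsElementaryAbelian p (A ⊔ B) := by
  have hAc := hA.1
  have hBc := hB.1
  have hAA : A ≤ Subgroup.centralizer (A : Set G) := Subgroup.le_centralizer A
  have hBB : B ≤ Subgroup.centralizer (B : Set G) := Subgroup.le_centralizer B
  have hBA : A ≤ Subgroup.centralizer (B : Set G) := Subgroup.le_centralizer_iff.mp hAB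
  have hcomm : A ⊔ B ≤ Subgroup.centralizer ((A ⊔ B : Subgroup G) : Set G) := by
    apply sup_le
    · rw [Subgroup.le_centralizer_iff]
      exact sup_le hAA hAB
    · rw [Subgroup.le_centralizer_iff]
      exact sup_le hBA hBB
  have hc : ∀ x ∈ A ⊔ B, ∀ y ∈ A ⊔ B, x * y = y * x := by
    intro x hx y hy
    have := hcomm hy
    rw [Subgroup.mem_centralizer_iff] at this
    exact this x hx
  rw [isElementaryAbelian_iff]
  refine ⟨hc, ?_⟩
  let K : Subgroup G :=
    { carrier := {x | x ∈ A ⊔ B ∧ x ^ p = 1}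
      mul_mem' := by
        rintro x y ⟨hx, hxp⟩ ⟨hy, hyp⟩
        refine ⟨Subgroup.mul_mem _ hx hy, ?_⟩
        have hxy : Commute x y := hc x hx y hy
        rw [hxy.mul_pow, hxp, hyp, one_mul]
      one_mem' := ⟨Subgroup.one_mem _, one_pow p⟩
      inv_mem' := by
        rintro x ⟨hx, hxp⟩
        exact ⟨Subgroup.inv_mem _ hx, by rw [inv_pow, hxp, inv_one]⟩ }
  have hAK : A ≤ K := fun a ha => ⟨Subgroup.mem_sup_left ha, hA.2 a ha⟩
  have hBK : B ≤ K := fun b hb => ⟨Subgroup.mem_sup_right hb, hB.2 b hb⟩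
  intro x hx
  exact ((sup_le hAK hBK) hx).2

theorem isElementaryAbelian_zpowers {x : G} (hx : x ^ p = 1) :
    IsElementaryAbelian p (Subgroup.zpowers x) := by
  rw [isElementaryAbelian_iff]
  constructor
  · intro a ha b hb
    obtain ⟨i, rfl⟩ := Subgroup.mem_zpowers_iff.mp ha
    obtain ⟨j, rfl⟩ := Subgroup.mem_zpowers_iff.mp hb
    rw [← zpow_add, ← zpow_add, add_comm]
  · intro a ha
    obtain ⟨i, rfl⟩ := Subgroup.mem_zpowers_iff.mp ha
    rw [← zpow_natCast, ← zpow_mul, mul_comm, zpow_mul, zpow_natCast, hx, one_zpow]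

theorem maxElementaryAbelian_nonempty (p : ℕ) (G : Type u) [Group G] [Finite G] :
    (maxElementaryAbelianSubgroups p G).Nonempty := by
  have : Nonempty {A : Subgroup G // IsElementaryAbelian p A} := ⟨⟨⊥, isElementaryAbelian_bot p⟩⟩
  obtain ⟨A, hA⟩ := Finite.exists_max
    (fun A : {A : Subgroup G // IsElementaryAbelian p A} => Nat.card (A : Subgroup G))
  exact ⟨A.1, A.2, fun B hB => hA ⟨B, hB⟩⟩

theorem le_thompsonSubgroup {A : Subgroup G} (hA : A ∈ maxElementaryAbelianSubgroups p G) :
    A ≤ thompsonSubgroup p G :=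
  le_sSup hA

theorem eq_of_mem_max_of_le [Finite G] {A B : Subgroup G}
    (hA : A ∈ maxElementaryAbelianSubgroups p G) (hB : IsElementaryAbelian p B) (hAB : A ≤ B) :
    A = B :=
  Subgroup.eq_of_le_of_card_ge hAB (hA.2 B hB)

theorem mem_max_of_card_le {A B : Subgroup G}
    (hA : A ∈ maxElementaryAbelianSubgroups p G) (hB : IsElementaryAbelian p B)
    (h : Nat.card A ≤ Nat.card B) : B ∈ maxElementaryAbelianSubgroups p G :=
  ⟨hB, fun C hC => (hA.2 C hC).trans h⟩

/-- An element of order dividing `p` commuting with a maximal elementary abelian subgroup lies in it. -/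
theorem mem_of_mem_max_of_commute [Finite G] {A : Subgroup G}
    (hA : A ∈ maxElementaryAbelianSubgroups p G) {x : G} (hx : x ^ p = 1)
    (hxA : ∀ a ∈ A, a * x = x * a) : x ∈ A := by
  have h1 : IsElementaryAbelian p (A ⊔ Subgroup.zpowers x) := by
    apply elemAb_sup hA.1 (isElementaryAbelian_zpowers hx)
    rw [Subgroup.zpowers_le, Subgroup.mem_centralizer_iff]
    exact hxA
  have h2 := eq_of_mem_max_of_le hA h1 le_sup_left
  rw [h2]
  exact Subgroup.mem_sup_right (Subgroup.mem_zpowers x)

/-- A commuting elementary abelian subgroup lies in a maximal one. -/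
theorem le_of_mem_max_of_le_centralizer [Finite G] {A B : Subgroup G}
    (hA : A ∈ maxElementaryAbelianSubgroups p G) (hB : IsElementaryAbelian p B)
    (hBA : B ≤ Subgroup.centralizer (A : Set G)) : B ≤ A := by
  have h1 : IsElementaryAbelian p (A ⊔ B) := elemAb_sup hA.1 hB hBA
  have h2 := eq_of_mem_max_of_le hA h1 le_sup_left
  rw [h2]
  exact le_sup_right

theorem mem_max_map_equiv {H : Type u} [Group H] (e : G ≃* H) {A : Subgroup G}
    (hA : A ∈ maxElementaryAbelianSubgroups p G) :
    A.map e.toMonoidHom ∈ maxElementaryAbelianSubgroups p H := by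
  refine ⟨elemAb_map _ hA.1, fun B hB => ?_⟩
  have h1 : IsElementaryAbelian p (B.map e.symm.toMonoidHom) := elemAb_map _ hB
  have h2 := hA.2 _ h1
  rw [Subgroup.card_map_of_injective e.symm.injective] at h2
  rw [Subgroup.card_map_of_injective e.injective]
  exact h2

theorem thompsonSubgroup_characteristic (p : ℕ) (G : Type u) [Group G] :
    (thompsonSubgroup p G).Characteristic := by
  rw [Subgroup.characteristic_iff_map_le]
  intro φ
  rw [Subgroup.map_le_iff_le_comap]
  unfold thompsonSubgroup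
  apply sSup_le
  intro A hA
  rw [← Subgroup.map_le_iff_le_comap]
  exact le_sSup (mem_max_map_equiv φ hA)

/-! ### Transport between a subgroup `U` and the ambient group -/

theorem isElementaryAbelian_map_subtype_iff (U : Subgroup G) (B : Subgroup U) :
    IsElementaryAbelian p (B.map U.subtype) ↔ IsElementaryAbelian p B :=
  ⟨fun h => elemAb_of_map_injective _ U.subtype_injective h, fun h => elemAb_map _ h⟩

theorem isElementaryAbelian_subgroupOf_iff {U A : Subgroup G} (h : A ≤ U) :
    IsElementaryAbelian p (A.subgroupOf U) ↔ IsElementaryAbelian p A := by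
  rw [← isElementaryAbelian_map_subtype_iff, Subgroup.map_subgroupOf_eq_of_le h]

theorem card_subgroupOf_of_le {U A : Subgroup G} (h : A ≤ U) :
    Nat.card (A.subgroupOf U) = Nat.card A :=
  Nat.card_congr (Subgroup.subgroupOfEquivOfLe h).toEquiv

/-- If some maximal elementary abelian subgroup of `G` lies in `U`, then the maximal elementary
abelian subgroups of `U` are exactly those of `G` contained in `U`. -/
theorem mem_max_subgroup_iff {U A₀ : Subgroup G}
    (hA₀ : A₀ ∈ maxElementaryAbelianSubgroups p G) (hA₀U : A₀ ≤ U) (B : Subgroup U) :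
    B ∈ maxElementaryAbelianSubgroups p U ↔
      B.map U.subtype ∈ maxElementaryAbelianSubgroups p G := by
  constructor
  · rintro ⟨hB1, hB2⟩
    refine ⟨elemAb_map _ hB1, fun C hC => ?_⟩
    have h1 := hA₀.2 C hC
    have h2 := hB2 (A₀.subgroupOf U) ((isElementaryAbelian_subgroupOf_iff hA₀U).mpr hA₀.1)
    rw [card_subgroupOf_of_le hA₀U] at h2
    rw [Subgroup.card_subtype]
    exact h1.trans h2
  · rintro ⟨hB1, hB2⟩
    refine ⟨(isElementaryAbelian_map_subtype_iff U B).mp hB1, fun C hC => ?_⟩
    have h1 := hB2 (C.map U.subtype) (elemAb_map _ hC)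
    rw [Subgroup.card_subtype, Subgroup.card_subtype] at h1
    exact h1

theorem subgroupOf_mem_max {U A : Subgroup G}
    (hA : A ∈ maxElementaryAbelianSubgroups p G) (hAU : A ≤ U) :
    A.subgroupOf U ∈ maxElementaryAbelianSubgroups p U := by
  rw [mem_max_subgroup_iff hA hAU, Subgroup.map_subgroupOf_eq_of_le hAU]
  exact hA

/-- If some maximal elementary abelian subgroup of `G` lies in `U` then `J(U) ≤ J(G)`. -/
theorem thompsonSubgroupOf_le {U A₀ : Subgroup G}
    (hA₀ : A₀ ∈ maxElementaryAbelianSubgroups p G) (hA₀U : A₀ ≤ U) :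
    thompsonSubgroupOf p U ≤ thompsonSubgroup p G := by
  unfold thompsonSubgroupOf
  rw [Subgroup.map_le_iff_le_comap]
  unfold thompsonSubgroup
  apply sSup_le
  intro B hB
  rw [← Subgroup.map_le_iff_le_comap]
  exact le_sSup ((mem_max_subgroup_iff hA₀ hA₀U B).mp hB)

theorem le_thompsonSubgroupOf {U A : Subgroup G}
    (hA : A ∈ maxElementaryAbelianSubgroups p G) (hAU : A ≤ U) :
    A ≤ thompsonSubgroupOf p U := by
  unfold thompsonSubgroupOf
  rw [← Subgroup.map_subgroupOf_eq_of_le hAU]
  exact Subgroup.map_mono (le_sSup (subgroupOf_mem_max hA hAU))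

theorem thompsonSubgroupOf_le_self (U : Subgroup G) : thompsonSubgroupOf p U ≤ U :=
  Subgroup.map_subtype_le _

/-- A `p`-subgroup has a conjugate inside any given Sylow `p`-subgroup. -/
theorem exists_conj_map_le_sylow [Finite G] [Fact p.Prime] {A : Subgroup G} (hA : IsPGroup p A)
    (S : Sylow p G) : ∃ g : G, A.map (MulAut.conj g).toMonoidHom ≤ S := by
  obtain ⟨S', hS'⟩ := hA.exists_le_sylow
  obtain ⟨g, hg⟩ := MulAction.exists_smul_eq G S' S
  refine ⟨g, ?_⟩
  rintro _ ⟨a, ha, rfl⟩
  have h1 : (MulAut.conj g) • a ∈ (MulAut.conj g) • (S' : Subgroup G) :=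
    Subgroup.smul_mem_pointwise_smul a (MulAut.conj g) (S' : Subgroup G) (hS' ha)
  have h2 : ((g • S' : Sylow p G) : Subgroup G) = MulAut.conj g • (S' : Subgroup G) := rfl
  rw [← h2, hg] at h1
  exact h1

/-- `J(G)` is the join of the `J(S)` over the Sylow `p`-subgroups `S`. -/
theorem thompsonSubgroup_eq_iSup_sylow [Finite G] [Fact p.Prime] :
    thompsonSubgroup p G = ⨆ S : Sylow p G, thompsonSubgroupOf p (S : Subgroup G) := by
  obtain ⟨A₀, hA₀⟩ := maxElementaryAbelian_nonempty p G
  apply le_antisymm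
  · unfold thompsonSubgroup
    apply sSup_le
    intro A hA
    obtain ⟨S, hS⟩ := (elemAb_isPGroup hA.1).exists_le_sylow
    exact (le_thompsonSubgroupOf hA hS).trans (le_iSup (fun S : Sylow p G =>
      thompsonSubgroupOf p (S : Subgroup G)) S)
  · apply iSup_le
    intro S
    obtain ⟨g, hg⟩ := exists_conj_map_le_sylow (elemAb_isPGroup hA₀.1) S
    have h1 : A₀.map (MulAut.conj g).toMonoidHom ∈ maxElementaryAbelianSubgroups p G :=
      mem_max_map_equiv (MulAut.conj g) hA₀
    exact thompsonSubgroupOf_le h1 hg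

end Cfsg.Agent.Lib.helper13
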