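import Mathlib
import Cfsg.Prelude.Def_Transfer
import Cfsg.Agent.Lib.helper13.Thompson

set_option autoImplicit false

namespace Cfsg.Agent.Lib.helper13

open Cfsg

universe u

variable {G : Type u} [Group G] {p : ℕ}

/-- The elementary abelian `p`-subgroups of `G` contained in `U` of largest order among those. -/
def maxIn (p : ℕ) (U : Subgroup G) : Set (Subgroup G) :=
  {A | A ≤ U ∧ IsElementaryAbelian p A ∧
    ∀ B : Subgroup G, B ≤ U → IsElementaryAbelian p B → Nat.card B ≤ Nat.card A}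

theorem map_subtype_mem_maxIn {U : Subgroup G} {B : Subgroup U}
    (hB : B ∈ maxElementaryAbelianSubgroups p U) : B.map U.subtype ∈ maxIn p U := by
  refine ⟨Subgroup.map_subtype_le _, elemAb_map _ hB.1, fun C hCU hC => ?_⟩
  have h1 := hB.2 (C.subgroupOf U) ((isElementaryAbelian_subgroupOf_iff hCU).mpr hC)
  rw [card_subgroupOf_of_le hCU] at h1
  rw [Subgroup.card_subtype]
  exact h1

theorem subgroupOf_mem_max_of_mem_maxIn {U A : Subgroup G} (hA : A ∈ maxIn p U) :
    A.subgroupOf U ∈ maxElementaryAbelianSubgroups p U := by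
  refine ⟨(isElementaryAbelian_subgroupOf_iff hA.1).mpr hA.2.1, fun C hC => ?_⟩
  have h1 := hA.2.2 (C.map U.subtype) (Subgroup.map_subtype_le _) (elemAb_map _ hC)
  rw [Subgroup.card_subtype] at h1
  rw [card_subgroupOf_of_le hA.1]
  exact h1

/-- Intrinsic description of `J(U)` inside `G`. -/
theorem thompsonSubgroupOf_eq_sSup (U : Subgroup G) :
    thompsonSubgroupOf p U = sSup (maxIn p U) := by
  apply le_antisymm
  · unfold thompsonSubgroupOf
    rw [Subgroup.map_le_iff_le_comap]
    unfold thompsonSubgroup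
    apply sSup_le
    intro B hB
    rw [← Subgroup.map_le_iff_le_comap]
    exact le_sSup (map_subtype_mem_maxIn hB)
  · apply sSup_le
    intro A hA
    unfold thompsonSubgroupOf
    rw [← Subgroup.map_subgroupOf_eq_of_le hA.1]
    exact Subgroup.map_mono (le_sSup (subgroupOf_mem_max_of_mem_maxIn hA))

theorem maxIn_nonempty [Finite G] (p : ℕ) (U : Subgroup G) : (maxIn p U).Nonempty := by
  obtain ⟨B, hB⟩ := maxElementaryAbelian_nonempty p U
  exact ⟨_, map_subtype_mem_maxIn hB⟩

theorem le_thompsonSubgroupOf_of_mem_maxIn {U A : Subgroup G} (hA : A ∈ maxIn p U) :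
    A ≤ thompsonSubgroupOf p U := by
  rw [thompsonSubgroupOf_eq_sSup]
  exact le_sSup hA

/-- If `J(S) ≤ U ≤ S` then the maximal elementary abelian subgroups of `U` and `S` coincide. -/
theorem maxIn_eq_of_le [Finite G] {U S : Subgroup G} (hUS : U ≤ S)
    (hJ : thompsonSubgroupOf p S ≤ U) : maxIn p U = maxIn p S := by
  obtain ⟨A₀, hA₀⟩ := maxIn_nonempty p S
  have hA₀U : A₀ ≤ U := (le_thompsonSubgroupOf_of_mem_maxIn hA₀).trans hJ
  ext A
  constructor
  · rintro ⟨hAU, hA, hmax⟩
    refine ⟨hAU.trans hUS, hA, fun B hBS hB => ?_⟩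
    exact (hA₀.2.2 B hBS hB).trans (hmax A₀ hA₀U hA₀.2.1)
  · intro hA
    have hAU : A ≤ U := (le_thompsonSubgroupOf_of_mem_maxIn hA).trans hJ
    exact ⟨hAU, hA.2.1, fun B hBU hB => hA.2.2 B (hBU.trans hUS) hB⟩

/-- If `J(S) ≤ U ≤ S` then `J(U) = J(S)`. -/
theorem thompsonSubgroupOf_eq_of_le [Finite G] {U S : Subgroup G} (hUS : U ≤ S)
    (hJ : thompsonSubgroupOf p S ≤ U) : thompsonSubgroupOf p U = thompsonSubgroupOf p S := by
  rw [thompsonSubgroupOf_eq_sSup, thompsonSubgroupOf_eq_sSup, maxIn_eq_of_le hUS hJ]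

theorem map_mem_maxIn (e : MulAut G) {U A : Subgroup G} (hA : A ∈ maxIn p U) :
    A.map e.toMonoidHom ∈ maxIn p (U.map e.toMonoidHom) := by
  refine ⟨Subgroup.map_mono hA.1, elemAb_map _ hA.2.1, fun B hBU hB => ?_⟩
  have h1 : B.map e.symm.toMonoidHom ≤ U := by
    rintro _ ⟨b, hb, rfl⟩
    obtain ⟨u, hu, rfl⟩ := hBU hb
    have : e.symm.toMonoidHom (e.toMonoidHom u) = u := e.symm_apply_apply u
    rw [this]; exact hu
  have h2 := hA.2.2 _ h1 (elemAb_map _ hB)
  rw [Subgroup.card_map_of_injective e.symm.injective] at h2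
  rw [Subgroup.card_map_of_injective e.injective]
  exact h2

/-- `J` commutes with automorphisms (one inclusion). -/
theorem map_thompsonSubgroupOf_le (e : MulAut G) (U : Subgroup G) :
    (thompsonSubgroupOf p U).map e.toMonoidHom ≤ thompsonSubgroupOf p (U.map e.toMonoidHom) := by
  rw [thompsonSubgroupOf_eq_sSup, thompsonSubgroupOf_eq_sSup, Subgroup.map_le_iff_le_comap]
  apply sSup_le
  intro A hA
  rw [← Subgroup.map_le_iff_le_comap]
  exact le_sSup (map_mem_maxIn e hA)

/-- `J` commutes with automorphisms. -/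
theorem map_thompsonSubgroupOf (e : MulAut G) (U : Subgroup G) :
    (thompsonSubgroupOf p U).map e.toMonoidHom = thompsonSubgroupOf p (U.map e.toMonoidHom) := by
  apply le_antisymm (map_thompsonSubgroupOf_le e U)
  have h1 := map_thompsonSubgroupOf_le (p := p) e.symm (U.map e.toMonoidHom)
  have h2 : (U.map e.toMonoidHom).map e.symm.toMonoidHom = U := by
    ext x
    constructor
    · rintro ⟨_, ⟨u, hu, rfl⟩, rfl⟩
      have : e.symm.toMonoidHom (e.toMonoidHom u) = u := e.symm_apply_apply u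
      rw [this]; exact hu
    · intro hx
      exact ⟨e.toMonoidHom x, Subgroup.mem_map_of_mem _ hx, e.symm_apply_apply x⟩
  rw [h2] at h1
  intro x hx
  refine ⟨e.symm.toMonoidHom x, h1 (Subgroup.mem_map_of_mem _ hx), e.apply_symm_apply x⟩

theorem map_conj_eq_of_mem_normalizer {U : Subgroup G} {g : G}
    (hg : g ∈ Subgroup.normalizer (U : Set G)) : U.map (MulAut.conj g).toMonoidHom = U := by
  rw [Subgroup.mem_normalizer_iff] at hg
  ext x
  constructor
  · rintro ⟨u, hu, rfl⟩
    exact (hg u).mp hu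
  · intro hx
    refine ⟨g⁻¹ * x * g, ?_, ?_⟩
    · have h3 : g⁻¹ * x * g ∈ U := by
        rw [hg]
        have : g * (g⁻¹ * x * g) * g⁻¹ = x := by group
        rw [this]; exact hx
      exact h3
    · change g * (g⁻¹ * x * g) * g⁻¹ = x
      group

/-- The normalizer of `U` normalizes `J(U)`. -/
theorem normalizer_le_normalizer_thompsonSubgroupOf (p : ℕ) (U : Subgroup G) :
    Subgroup.normalizer (U : Set G) ≤ Subgroup.normalizer (thompsonSubgroupOf p U : Set G) := by
  intro g hg
  have key : ∀ g : G, g ∈ Subgroup.normalizer (U : Set G) →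
      ∀ x ∈ thompsonSubgroupOf p U, g * x * g⁻¹ ∈ thompsonSubgroupOf p U := by
    intro g hg x hx
    have h1 := map_thompsonSubgroupOf_le (p := p) (MulAut.conj g) U
    rw [map_conj_eq_of_mem_normalizer hg] at h1
    exact h1 (Subgroup.mem_map_of_mem _ hx)
  rw [Subgroup.mem_normalizer_iff]
  intro x
  constructor
  · exact key g hg x
  · intro hx
    have := key g⁻¹ (Subgroup.inv_mem _ hg) _ hx
    have h2 : g⁻¹ * (g * x * g⁻¹) * g⁻¹⁻¹ = x := by group
    rwa [h2] at this

end Cfsg.Agent.Lib.helper13
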