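import Mathlib
import Cfsg.Prelude.Def_Transfer
import Cfsg.Prelude.Def_PLocal
import Cfsg.Agent.Lib.helper13.Thompson2

set_option autoImplicit false

namespace Cfsg.Agent.Lib.helper13

open Cfsg

universe u

variable {G H : Type u} [Group G] [Group H] {p : ℕ}

theorem card_map_of_injOn (f : G →* H) {A : Subgroup G} (hf : Set.InjOn f (A : Set G)) :
    Nat.card (A.map f) = Nat.card A := by
  have := Nat.card_image_of_injOn hf
  exact this

theorem elemAb_of_map_injOn (f : G →* H) {A : Subgroup G} (hf : Set.InjOn f (A : Set G))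
    (h : IsElementaryAbelian p (A.map f)) : IsElementaryAbelian p A := by
  rw [isElementaryAbelian_iff] at h ⊢
  constructor
  · intro a ha b hb
    apply hf (A.mul_mem ha hb) (A.mul_mem hb ha)
    rw [map_mul, map_mul]
    exact h.1 _ (Subgroup.mem_map_of_mem f ha) _ (Subgroup.mem_map_of_mem f hb)
  · intro a ha
    apply hf (A.pow_mem ha p) A.one_mem
    rw [map_pow, map_one]
    exact h.2 _ (Subgroup.mem_map_of_mem f ha)

theorem map_comap_inf_eq (f : G →* H) {S : Subgroup G} {B : Subgroup H} (hB : B ≤ S.map f) :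
    (B.comap f ⊓ S).map f = B := by
  ext y
  constructor
  · rintro ⟨x, hx, rfl⟩
    exact (Subgroup.mem_inf.mp hx).1
  · intro hy
    obtain ⟨s, hs, rfl⟩ := hB hy
    exact ⟨s, Subgroup.mem_inf.mpr ⟨hy, hs⟩, rfl⟩

theorem map_mem_maxIn_of_injOn [Finite G] (f : G →* H) {S A : Subgroup G}
    (hf : Set.InjOn f (S : Set G)) (hA : A ∈ maxIn p S) : A.map f ∈ maxIn p (S.map f) := by
  refine ⟨Subgroup.map_mono hA.1, elemAb_map _ hA.2.1, fun B hBS hB => ?_⟩
  have h1 := map_comap_inf_eq f hBS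
  have hinj : Set.InjOn f ((B.comap f ⊓ S : Subgroup G) : Set G) :=
    hf.mono (fun x hx => (Subgroup.mem_inf.mp hx).2)
  have h2 : IsElementaryAbelian p (B.comap f ⊓ S) := by
    apply elemAb_of_map_injOn f hinj
    rw [h1]; exact hB
  have h3 := hA.2.2 _ inf_le_right h2
  rw [← card_map_of_injOn f hinj, h1] at h3
  rw [card_map_of_injOn f (hf.mono hA.1)]
  exact h3

theorem exists_mem_maxIn_of_injOn [Finite G] (f : G →* H) {S : Subgroup G} {B : Subgroup H}
    (hf : Set.InjOn f (S : Set G)) (hB : B ∈ maxIn p (S.map f)) :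
    ∃ A ∈ maxIn p S, A.map f = B := by
  have h1 := map_comap_inf_eq f hB.1
  have hinj : Set.InjOn f ((B.comap f ⊓ S : Subgroup G) : Set G) :=
    hf.mono (fun x hx => (Subgroup.mem_inf.mp hx).2)
  refine ⟨B.comap f ⊓ S, ⟨inf_le_right, ?_, fun A' hA'S hA' => ?_⟩, h1⟩
  · apply elemAb_of_map_injOn f hinj
    rw [h1]; exact hB.2.1
  · have h3 := hB.2.2 (A'.map f) (Subgroup.map_mono hA'S) (elemAb_map _ hA')
    rw [card_map_of_injOn f (hf.mono hA'S)] at h3
    rw [← card_map_of_injOn f hinj, h1]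
    exact h3

/-- `J(f(S)) = f(J(S))` when `f` is injective on `S`. -/
theorem thompsonSubgroupOf_map_of_injOn [Finite G] (f : G →* H) (S : Subgroup G)
    (hf : Set.InjOn f (S : Set G)) :
    thompsonSubgroupOf p (S.map f) = (thompsonSubgroupOf p S).map f := by
  rw [thompsonSubgroupOf_eq_sSup, thompsonSubgroupOf_eq_sSup]
  apply le_antisymm
  · apply sSup_le
    intro B hB
    obtain ⟨A, hA, rfl⟩ := exists_mem_maxIn_of_injOn f hf hB
    exact Subgroup.map_mono (le_sSup hA)
  · rw [Subgroup.map_le_iff_le_comap]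
    apply sSup_le
    intro A hA
    rw [← Subgroup.map_le_iff_le_comap]
    exact le_sSup (map_mem_maxIn_of_injOn f hf hA)

/-- `Ω₁(Z(f(S))) = f(Ω₁(Z(S)))` when `f` is injective on `S`. -/
theorem omegaOne_center_map_of_injOn (f : G →* H) (S : Subgroup G)
    (hf : Set.InjOn f (S : Set G)) :
    omegaOne p (S.map f ⊓ Subgroup.centralizer ((S.map f : Subgroup H) : Set H)) =
      (omegaOne p (S ⊓ Subgroup.centralizer (S : Set G))).map f := by
  unfold omegaOne
  apply le_antisymm
  · rw [Subgroup.closure_le]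
    rintro y ⟨hy, hyp⟩
    obtain ⟨hyS, hyC⟩ := Subgroup.mem_inf.mp hy
    obtain ⟨s, hs, rfl⟩ := hyS
    apply Subgroup.mem_map_of_mem
    apply Subgroup.subset_closure
    refine ⟨Subgroup.mem_inf.mpr ⟨hs, ?_⟩, ?_⟩
    · rw [Subgroup.mem_centralizer_iff]
      intro t ht
      apply hf (S.mul_mem ht hs) (S.mul_mem hs ht)
      rw [map_mul, map_mul]
      exact (Subgroup.mem_centralizer_iff.mp hyC) _ (Subgroup.mem_map_of_mem f ht)
    · apply hf (S.pow_mem hs p) S.one_mem
      rw [map_pow, map_one]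
      exact hyp
  · rw [Subgroup.map_le_iff_le_comap, Subgroup.closure_le]
    rintro s ⟨hs, hsp⟩
    obtain ⟨hsS, hsC⟩ := Subgroup.mem_inf.mp hs
    apply Subgroup.subset_closure
    refine ⟨Subgroup.mem_inf.mpr ⟨Subgroup.mem_map_of_mem f hsS, ?_⟩, ?_⟩
    · rw [Subgroup.mem_centralizer_iff]
      rintro _ ⟨t, ht, rfl⟩
      rw [← map_mul, ← map_mul, (Subgroup.mem_centralizer_iff.mp hsC) t ht]
    · rw [← map_pow, hsp, map_one]

end Cfsg.Agent.Lib.helper13
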