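import Mathlib
import Cfsg.Prelude.Def_OddOrderLocal

/-!
# Bender–Glauberman section 11 (exceptional maximal subgroups): shared interface

`Exc M p A₀ A` is the standing hypothesis of B-G section 11.  The `P…` definitions below are the
STATEMENTS (as `Prop`s about a fixed group `G`) of the lemmas of B-G 11.2–11.7, of the two auxiliary
tools (the fixed-point-free lemma `PFpf` and B-G 10.9 `P10_9`, `P10_9c`) and of B-G 12.3.  Each piece
of the development proves one of these `Prop`s from `Cfsg.IsMinSimpleOddOrder G` and from the earlier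
`Prop`s taken as explicit hypotheses, so that the pieces can be written independently.
Paper proofs: `notes/BG11_helper13.md` in the team repository.
-/

set_option autoImplicit false

namespace Cfsg.Agent.Lib.helper13

/-- Hypothesis (Exc) of B-G section 11: `M` is a maximal subgroup, `p ∉ σ(M)`, `A ≤ M` is elementary
abelian of order `p ^ 2`, `A₀ ≤ A` has order `p` and `N_G(A₀) ≤ M`. -/
def Exc {G : Type*} [Group G] (M : Subgroup G) (p : ℕ) (A₀ A : Subgroup G) : Prop :=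
  IsCoatom M ∧ p.Prime ∧ p ∉ Cfsg.sigma M ∧ A ≤ M ∧ Cfsg.IsElementaryAbelian p A ∧
    Nat.card A = p ^ 2 ∧ A₀ ≤ A ∧ Nat.card A₀ = p ∧ Subgroup.normalizer (A₀ : Set G) ≤ M

/-- B-G 11.2: for `g ∉ M` with `A ≤ gMg⁻¹`: `M_σ ∩ gMg⁻¹ = 1` and `C_{M_σ}(gA₀g⁻¹) = 1`. -/
def P11_2 (G : Type*) [Group G] : Prop :=
  ∀ (M : Subgroup G) (p : ℕ) (A₀ A : Subgroup G), Exc M p A₀ A → ∀ g : G, g ∉ M →
    A ≤ M.map (MulAut.conj g).toMonoidHom →
    Cfsg.sigmaCore M ⊓ M.map (MulAut.conj g).toMonoidHom = ⊥ ∧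
      Cfsg.sigmaCore M ⊓
        Subgroup.centralizer ((A₀.map (MulAut.conj g).toMonoidHom : Subgroup G) : Set G) = ⊥

/-- B-G 11.3: `M_σ` is nilpotent (and nontrivial). -/
def P11_3 (G : Type*) [Group G] : Prop :=
  ∀ (M : Subgroup G) (p : ℕ) (A₀ A : Subgroup G), Exc M p A₀ A →
    Group.IsNilpotent (Cfsg.sigmaCore M) ∧ Cfsg.sigmaCore M ≠ ⊥

/-- B-G 11.4 (weak form): a maximal subgroup `H ≥ A` with `H_σ ∩ M_σ ≠ 1` is `M`. -/
def P11_4 (G : Type*) [Group G] : Prop :=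
  ∀ (M : Subgroup G) (p : ℕ) (A₀ A : Subgroup G), Exc M p A₀ A → ∀ H : Subgroup G, IsCoatom H →
    A ≤ H → Cfsg.sigmaCore H ⊓ Cfsg.sigmaCore M ≠ ⊥ → H = M

/-- B-G 11.5: the Sylow `p`-subgroups of `M` are abelian. -/
def P11_5 (G : Type*) [Group G] : Prop :=
  ∀ (M : Subgroup G) (p : ℕ) [Fact p.Prime] (A₀ A : Subgroup G), Exc M p A₀ A →
    ∀ P : Sylow p M, IsMulCommutative (P : Subgroup M)

/-- B-G 11.6: `A = Ω₁(P)` for a Sylow `p`-subgroup `P ≥ A` of `M`, `C_{M_σ}(A) = 1`, and two distinct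
subgroups of order `p` of `A` act fixed-point-freely on `M_σ`. -/
def P11_6 (G : Type*) [Group G] : Prop :=
  ∀ (M : Subgroup G) (p : ℕ) [Fact p.Prime] (A₀ A : Subgroup G), Exc M p A₀ A →
    (∀ P : Sylow p M, A ≤ (P : Subgroup M).map M.subtype →
        ∀ x ∈ (P : Subgroup M).map M.subtype, x ^ p = 1 ↔ x ∈ A) ∧
      Cfsg.sigmaCore M ⊓ Subgroup.centralizer (A : Set G) = ⊥ ∧
      ∃ A₁ A₂ : Subgroup G, A₁ ≤ A ∧ A₂ ≤ A ∧ Nat.card A₁ = p ∧ Nat.card A₂ = p ∧ A₁ ≠ A₂ ∧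
        Cfsg.sigmaCore M ⊓ Subgroup.centralizer (A₁ : Set G) = ⊥ ∧
        Cfsg.sigmaCore M ⊓ Subgroup.centralizer (A₂ : Set G) = ⊥

/-- B-G 11.7: `M_σ A` is normal in `M`. -/
def P11_7 (G : Type*) [Group G] : Prop :=
  ∀ (M : Subgroup G) (p : ℕ) (A₀ A : Subgroup G), Exc M p A₀ A →
    M ≤ Subgroup.normalizer ((Cfsg.sigmaCore M ⊔ A : Subgroup G) : Set G)

/-- The fixed-point-free lemma: if `X ≤ M` of prime order `p ∉ σ(M)` acts fixed-point-freely on the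
nilpotent group `M_σ` and `R ≤ M` is an `X`-invariant `t`-subgroup, `t ∉ σ(M) ∪ {p}`, then `[R, X]`
centralizes `M_σ`. -/
def PFpf (G : Type*) [Group G] : Prop :=
  ∀ M : Subgroup G, IsCoatom M → Group.IsNilpotent (Cfsg.sigmaCore M) →
    ∀ (p : ℕ) (X : Subgroup G), p.Prime → p ∉ Cfsg.sigma M → X ≤ M → Nat.card X = p →
      Cfsg.sigmaCore M ⊓ Subgroup.centralizer (X : Set G) = ⊥ →
      ∀ (t : ℕ) (R : Subgroup G), t.Prime → t ≠ p → t ∉ Cfsg.sigma M → IsPGroup t R → R ≤ M →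
        X ≤ Subgroup.normalizer (R : Set G) →
        ⁅R, X⁆ ≤ Subgroup.centralizer (Cfsg.sigmaCore M : Set G)

/-- B-G 10.9 (a), (b): `A` a maximal elementary abelian `p`-subgroup of order `p ^ 2`, `q ≠ p` a prime
dividing `|C_G(A)|`, `Q` a maximal `A`-invariant `q`-subgroup.  Then some Sylow `p`-subgroup `S ≥ A`
of `G` satisfies `S ≤ N_G(Q)'` and `N_G(S) ≤ C_G(S) N_G(Q)`. -/
def P10_9 (G : Type*) [Group G] : Prop :=
  ∀ (p : ℕ) [Fact p.Prime] (A : Subgroup G), Cfsg.IsElementaryAbelian p A → Nat.card A = p ^ 2 →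
    (∀ B : Subgroup G, Cfsg.IsElementaryAbelian p B → A ≤ B → B = A) →
    ∀ (q : ℕ) (Q : Subgroup G), q.Prime → q ≠ p →
      q ∣ Nat.card (Subgroup.centralizer (A : Set G)) → Q ∈ Cfsg.maxInvSubgroups ⊤ A {q} →
      ∃ S : Sylow p G, A ≤ (S : Subgroup G) ∧
        (S : Subgroup G) ≤ ⁅Subgroup.normalizer (Q : Set G), Subgroup.normalizer (Q : Set G)⁆ ∧
        Subgroup.normalizer ((S : Subgroup G) : Set G) ≤
          Subgroup.centralizer ((S : Subgroup G) : Set G) ⊔ Subgroup.normalizer (Q : Set G)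

/-- B-G 10.9 (c): in the situation of `P10_9`, if `Q` contains a maximal elementary abelian
`q`-subgroup `B` of `G` of order `q ^ 2` (so `Q` has rank at most 2 or is narrow), then `A`
centralizes `Q`. -/
def P10_9c (G : Type*) [Group G] : Prop :=
  ∀ (p : ℕ) [Fact p.Prime] (A : Subgroup G), Cfsg.IsElementaryAbelian p A → Nat.card A = p ^ 2 →
    (∀ B : Subgroup G, Cfsg.IsElementaryAbelian p B → A ≤ B → B = A) →
    ∀ (q : ℕ) [Fact q.Prime] (Q B : Subgroup G), q ≠ p →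
      q ∣ Nat.card (Subgroup.centralizer (A : Set G)) → Q ∈ Cfsg.maxInvSubgroups ⊤ A {q} →
      Cfsg.IsElementaryAbelian q B → Nat.card B = q ^ 2 →
      (∀ B' : Subgroup G, Cfsg.IsElementaryAbelian q B' → B ≤ B' → B' = B) → B ≤ Q →
      A ≤ Subgroup.centralizer (Q : Set G)

/-- B-G 12.3 (a): `M ≠ H` maximal, `A ≤ M` elementary abelian of order `p ^ 2`, `A₀ ≤ A` of order `p`
with `N_G(A₀) ≤ H`, `p ∉ σ(M)`.  Then `A` centralizes `M_σ ∩ H`. -/
def P12_3a (G : Type*) [Group G] : Prop :=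
  ∀ M H : Subgroup G, IsCoatom M → IsCoatom H → H ≠ M →
    ∀ (p : ℕ) [Fact p.Prime] (A₀ A : Subgroup G), A ≤ M → Cfsg.IsElementaryAbelian p A →
      Nat.card A = p ^ 2 → A₀ ≤ A → Nat.card A₀ = p → Subgroup.normalizer (A₀ : Set G) ≤ H →
      p ∉ Cfsg.sigma M → Cfsg.sigmaCore M ⊓ H ≤ Subgroup.centralizer (A : Set G)

/-- B-G 12.3 (b'): same situation with `p ∉ α(M)`.  Then `C_{M_α}(A₀)` has rank at most 1 and is
centralized by `A`. -/
def P12_3b (G : Type*) [Group G] : Prop :=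
  ∀ M H : Subgroup G, IsCoatom M → IsCoatom H → H ≠ M →
    ∀ (p : ℕ) [Fact p.Prime] (A₀ A : Subgroup G), A ≤ M → Cfsg.IsElementaryAbelian p A →
      Nat.card A = p ^ 2 → A₀ ≤ A → Nat.card A₀ = p → Subgroup.normalizer (A₀ : Set G) ≤ H →
      p ∉ Cfsg.alpha M →
      Cfsg.RankLE 1 ↥(Cfsg.alphaCore M ⊓ Subgroup.centralizer (A₀ : Set G)) ∧
        Cfsg.alphaCore M ⊓ Subgroup.centralizer (A₀ : Set G) ≤ Subgroup.centralizer (A : Set G)

end Cfsg.Agent.Lib.helper13
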