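import Mathlib

set_option autoImplicit false

namespace Cfsg.Agent.Lib.helper13

variable {G : Type*} [Group G]

theorem card_subgroupOf_eq_card_inf (H K : Subgroup G) :
    Nat.card (H.subgroupOf K) = Nat.card (H ⊓ K : Subgroup G) := by
  rw [← Subgroup.subgroupOf_map_subtype, Subgroup.card_subtype]

theorem relIndex_mul_card_inf (H K : Subgroup G) :
    H.relIndex K * Nat.card (H ⊓ K : Subgroup G) = Nat.card K := by
  rw [← card_subgroupOf_eq_card_inf, Subgroup.relIndex, mul_comm]
  exact Subgroup.card_mul_index (H.subgroupOf K)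

theorem relIndex_mul_card_of_le {H K : Subgroup G} (h : H ≤ K) :
    H.relIndex K * Nat.card H = Nat.card K := by
  have := relIndex_mul_card_inf H K
  rwa [inf_of_le_left h] at this

/-- `|H| |K| ≤ |H ⊔ K| |H ⊓ K|`. -/
theorem card_mul_card_le_sup_inf [Finite G] (H K : Subgroup G) :
    Nat.card H * Nat.card K ≤ Nat.card (H ⊔ K : Subgroup G) * Nat.card (H ⊓ K : Subgroup G) := by
  have h1 : H.relIndex K ≤ H.relIndex (H ⊔ K) := by
    apply Subgroup.relIndex_le_of_le_right le_sup_right
    intro h0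
    have := relIndex_mul_card_of_le (le_sup_left : H ≤ H ⊔ K)
    rw [h0, zero_mul] at this
    exact (Nat.card_pos (α := (H ⊔ K : Subgroup G))).ne this
  have h2 := relIndex_mul_card_inf H K
  have h3 := relIndex_mul_card_of_le (le_sup_left : H ≤ H ⊔ K)
  calc Nat.card H * Nat.card K = Nat.card H * (H.relIndex K * Nat.card (H ⊓ K : Subgroup G)) := by
        rw [h2]
    _ = (H.relIndex K * Nat.card H) * Nat.card (H ⊓ K : Subgroup G) := by ring
    _ ≤ (H.relIndex (H ⊔ K) * Nat.card H) * Nat.card (H ⊓ K : Subgroup G) :=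
        Nat.mul_le_mul_right _ (Nat.mul_le_mul_right _ h1)
    _ = Nat.card (H ⊔ K : Subgroup G) * Nat.card (H ⊓ K : Subgroup G) := by rw [h3]

/-- `|H ⊔ K| |H ⊓ K| = |H| |K|` when `H` normalizes `K`. -/
theorem card_sup_mul_card_inf (H K : Subgroup G) (h : H ≤ Subgroup.normalizer (K : Set G)) :
    Nat.card (H ⊔ K : Subgroup G) * Nat.card (H ⊓ K : Subgroup G) = Nat.card H * Nat.card K := by
  have h1 : K.relIndex H = K.relIndex (H ⊔ K) := by
    unfold Subgroup.relIndex Subgroup.index
    have := Subgroup.normal_subgroupOf_of_le_normalizer h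
    have := Subgroup.normal_subgroupOf_sup_of_le_normalizer h
    exact Nat.card_congr (QuotientGroup.quotientInfEquivProdNormalizerQuotient H K h).toEquiv
  have h2 := relIndex_mul_card_inf K H
  have h3 := relIndex_mul_card_of_le (le_sup_right : K ≤ H ⊔ K)
  rw [inf_comm] at h2
  calc Nat.card (H ⊔ K : Subgroup G) * Nat.card (H ⊓ K : Subgroup G)
      = (K.relIndex (H ⊔ K) * Nat.card K) * Nat.card (H ⊓ K : Subgroup G) := by rw [h3]
    _ = (K.relIndex H * Nat.card (H ⊓ K : Subgroup G)) * Nat.card K := by rw [h1]; ring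
    _ = Nat.card H * Nat.card K := by rw [h2]

/-- `|H ⊔ K| |H ⊓ K| = |H| |K|` when `K` normalizes `H`. -/
theorem card_sup_mul_card_inf' (H K : Subgroup G) (h : K ≤ Subgroup.normalizer (H : Set G)) :
    Nat.card (H ⊔ K : Subgroup G) * Nat.card (H ⊓ K : Subgroup G) = Nat.card H * Nat.card K := by
  have := card_sup_mul_card_inf K H h
  rw [sup_comm, inf_comm, this, mul_comm]

end Cfsg.Agent.Lib.helper13
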