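import Mathlib
import Cfsg.Agent.Lib.helper13.Count

set_option autoImplicit false

namespace Cfsg.Agent.Lib.helper13

variable {G : Type*} [Group G]

/-- Sylow conjugacy inside a subgroup `M`: two `p`-subgroups of `M` of index prime to `p` in `M`
are conjugate by an element of `M`. -/
theorem exists_conj_of_not_dvd_relIndex [Finite G] {p : ℕ} [Fact p.Prime] {M J J' : Subgroup G}
    (hJ' : J' ≤ M) (hpJ : IsPGroup p J) (hpJ' : IsPGroup p J')
    (hnd : ¬ p ∣ J.relIndex M) (hnd' : ¬ p ∣ J'.relIndex M) :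
    ∃ m ∈ M, ∀ x ∈ J', m⁻¹ * x * m ∈ J := by
  have h1 : IsPGroup p (J.subgroupOf M) := hpJ.comap_subtype
  have h2 : IsPGroup p (J'.subgroupOf M) := hpJ'.comap_subtype
  have hnd1 : ¬ p ∣ (J.subgroupOf M).index := hnd
  have hnd2 : ¬ p ∣ (J'.subgroupOf M).index := hnd'
  obtain ⟨m, hm⟩ := MulAction.exists_smul_eq M (h1.toSylow hnd1) (h2.toSylow hnd2)
  refine ⟨m, m.2, fun x hx => ?_⟩
  have h3 : (⟨x, hJ' hx⟩ : M) ∈ ((h2.toSylow hnd2 : Sylow p M) : Subgroup M) := by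
    rw [IsPGroup.toSylow_coe, Subgroup.mem_subgroupOf]; exact hx
  rw [← hm, Sylow.coe_subgroup_smul, Subgroup.mem_pointwise_smul_iff_inv_smul_mem,
    IsPGroup.toSylow_coe, Subgroup.mem_subgroupOf] at h3
  have h4 : (((MulAut.conj m)⁻¹ • (⟨x, hJ' hx⟩ : M) : M) : G) = (m : G)⁻¹ * x * m := by
    rw [← map_inv, MulAut.smul_def, MulAut.conj_apply]
    simp
  rw [h4] at h3
  exact h3

/-- If `b J b⁻¹ ≤ J` in a finite group then `b` normalizes `J`. -/
theorem mem_normalizer_of_forall_conj_mem [Finite G] {J : Subgroup G} {b : G}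
    (hb : ∀ x ∈ J, b * x * b⁻¹ ∈ J) : b ∈ Subgroup.normalizer (J : Set G) := by
  have h1 : J.map (MulAut.conj b).toMonoidHom ≤ J := by
    rintro _ ⟨x, hx, rfl⟩
    exact hb x hx
  have h2 : J.map (MulAut.conj b).toMonoidHom = J :=
    Subgroup.eq_of_le_of_card_ge h1
      (by rw [Subgroup.card_map_of_injective (MulAut.conj b).injective])
  rw [Subgroup.mem_normalizer_iff]
  intro x
  refine ⟨hb x, fun hx => ?_⟩
  rw [← h2] at hx
  obtain ⟨j, hj, hjx⟩ := hx
  have : j = x := by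
    have h3 : b * j * b⁻¹ = b * x * b⁻¹ := hjx
    have h4 : j = b⁻¹ * (b * j * b⁻¹) * b := by group
    rw [h4, h3]; group
  rw [← this]; exact hj

/-- A `p`-element of a normal subgroup of order prime to `p` is trivial. -/
theorem eq_one_of_mem_pGroup_of_mem_coprime [Finite G] {p : ℕ} [Fact p.Prime] {N Z : Subgroup G}
    (hN : (Nat.card N).Coprime p) (hZ : IsPGroup p Z) {x : G} (hxZ : x ∈ Z) (hxN : x ∈ N) :
    x = 1 := by
  obtain ⟨k, hk⟩ := hZ ⟨x, hxZ⟩
  have hk' : x ^ p ^ k = 1 := by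
    have := congrArg Subtype.val hk
    simpa using this
  have h1 : orderOf x ∣ p ^ k := orderOf_dvd_of_pow_eq_one hk'
  have h2 : orderOf x ∣ Nat.card N := by
    have := orderOf_dvd_natCard (⟨x, hxN⟩ : N)
    rwa [Subgroup.orderOf_mk] at this
  have h3 : orderOf x ∣ Nat.gcd (Nat.card N) (p ^ k) := Nat.dvd_gcd h2 h1
  rw [Nat.Coprime.pow_right k hN] at h3
  exact orderOf_eq_one_iff.mp (Nat.dvd_one.mp h3)

/-- Frattini-type argument: if `N` is a normal `p'`-subgroup, `J` a `p`-subgroup and `g` maps `J`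
into `J N`, then `g ∈ N · N_G(J)`. -/
theorem exists_mul_normalizer_of_conj_mem_sup [Finite G] {p : ℕ} [Fact p.Prime] (N J : Subgroup G)
    [N.Normal] (hN : (Nat.card N).Coprime p) (hJ : IsPGroup p J) (g : G)
    (hg : ∀ x ∈ J, g * x * g⁻¹ ∈ J ⊔ N) :
    ∃ y ∈ N, ∃ b ∈ Subgroup.normalizer (J : Set G), g = y * b := by
  have hp : p.Prime := Fact.out
  set M := J ⊔ N with hM
  set J' := J.map (MulAut.conj g).toMonoidHom with hJ'def
  have hJ'M : J' ≤ M := by
    rintro _ ⟨x, hx, rfl⟩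
    exact hg x hx
  have hcard : Nat.card J' = Nat.card J :=
    Subgroup.card_map_of_injective (MulAut.conj g).injective
  have hJ'p : IsPGroup p J' := hJ.map _
  have e1 := relIndex_mul_card_of_le (le_sup_left : J ≤ M)
  have e2 := relIndex_mul_card_of_le hJ'M
  have e3 := card_sup_mul_card_inf J N (by rw [Subgroup.normalizer_eq_top]; exact le_top)
  have hJpos : 0 < Nat.card J := Nat.card_pos
  have hdvd : J.relIndex M ∣ Nat.card N := by
    have : J.relIndex M * Nat.card J ∣ Nat.card N * Nat.card J := by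
      rw [e1, mul_comm (Nat.card N), ← e3]
      exact Dvd.intro _ rfl
    exact Nat.dvd_of_mul_dvd_mul_right hJpos this
  have hnd : ¬ p ∣ J.relIndex M := by
    intro h
    exact (Nat.Prime.coprime_iff_not_dvd hp).mp hN.symm (h.trans hdvd)
  have hrel : J'.relIndex M = J.relIndex M := by
    have : J'.relIndex M * Nat.card J = J.relIndex M * Nat.card J := by
      rw [e1, ← hcard, e2]
    exact Nat.eq_of_mul_eq_mul_right hJpos this
  have hnd' : ¬ p ∣ J'.relIndex M := by rw [hrel]; exact hnd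
  obtain ⟨m, hmM, hm⟩ := exists_conj_of_not_dvd_relIndex hJ'M hJ hJ'p hnd hnd'
  have hb : m⁻¹ * g ∈ Subgroup.normalizer (J : Set G) := by
    apply mem_normalizer_of_forall_conj_mem
    intro x hx
    have h1 := hm _ (Subgroup.mem_map_of_mem (MulAut.conj g).toMonoidHom hx)
    have h2 : (MulAut.conj g).toMonoidHom x = g * x * g⁻¹ := rfl
    rw [h2] at h1
    have h3 : m⁻¹ * g * x * (m⁻¹ * g)⁻¹ = m⁻¹ * (g * x * g⁻¹) * m := by group
    rw [h3]; exact h1
  have hmM' : m ∈ N ⊔ J := by rw [sup_comm]; exact hmM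
  rw [← SetLike.mem_coe, Subgroup.normal_mul] at hmM'
  obtain ⟨y, hy, j, hj, rfl⟩ := hmM'
  refine ⟨y, hy, j * ((y * j)⁻¹ * g), ?_, by group⟩
  exact Subgroup.mul_mem _ (Subgroup.le_normalizer hj) hb

/-- If `N` is a normal `p'`-subgroup, `Z` a `p`-subgroup and `c` centralizes `Z` modulo `N`,
then `c ∈ N · C_G(Z)`. -/
theorem exists_mul_centralizer_of_commutator_mem [Finite G] {p : ℕ} [Fact p.Prime]
    (N Z : Subgroup G) [hNn : N.Normal] (hN : (Nat.card N).Coprime p) (hZ : IsPGroup p Z) (c : G)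
    (hc : ∀ z ∈ Z, c * z * c⁻¹ * z⁻¹ ∈ N) :
    ∃ y ∈ N, ∃ a ∈ Subgroup.centralizer (Z : Set G), c = y * a := by
  have hg : ∀ z ∈ Z, c * z * c⁻¹ ∈ Z ⊔ N := by
    intro z hz
    have : c * z * c⁻¹ = (c * z * c⁻¹ * z⁻¹) * z := by group
    rw [this]
    exact Subgroup.mul_mem _ (Subgroup.mem_sup_right (hc z hz)) (Subgroup.mem_sup_left hz)
  obtain ⟨y, hy, b, hb, rfl⟩ := exists_mul_normalizer_of_conj_mem_sup N Z hN hZ c hg
  refine ⟨y, hy, b, ?_, rfl⟩
  rw [Subgroup.mem_centralizer_iff]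
  intro z hz
  have h1 : b * z * b⁻¹ ∈ Z := (Subgroup.mem_normalizer_iff.mp hb z).mp hz
  have h2 : b * z * b⁻¹ * z⁻¹ ∈ Z := Z.mul_mem h1 (Z.inv_mem hz)
  have h3 : b * z * b⁻¹ * z⁻¹ ∈ N := by
    have h4 := hc z hz
    have h5 : b * z * b⁻¹ * z⁻¹ = y⁻¹ * ((y * b) * z * (y * b)⁻¹ * z⁻¹) * (z * y * z⁻¹) := by group
    rw [h5]
    exact N.mul_mem (N.mul_mem (N.inv_mem hy) h4) (hNn.conj_mem y hy z)
  have h6 := eq_one_of_mem_pGroup_of_mem_coprime hN hZ h2 h3
  calc z * b = (b * z * b⁻¹ * z⁻¹)⁻¹ * (b * z) := by group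
    _ = b * z := by rw [h6]; group

end Cfsg.Agent.Lib.helper13
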