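import Mathlib
import Cfsg.Prelude.Def_OddOrderLocal
import Cfsg.Agent.Lib.helper13.Thompson2
import Cfsg.Agent.Lib.helper13.SylowIn
import Cfsg.Agent.Lib.helper30.RankTwo
import Cfsg.Agent.Lib.helper54.UniqB

/-!
# Fusion of `p`-subgroups of a maximal subgroup `M` with `p ∈ σ(M)` (Bender–Glauberman, Lemma 10.1)

* `sf_frattini_commutator` : if every `p'`-element of the derived subgroup of `H` lies in the normal
  subgroup `C`, then `H = C · N_H(R)` for every Sylow `p`-subgroup `R` of `H`.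
* `sf_exists_conj` : for a `p`-subgroup `X` of rank at most 2 with solvable normalizer of odd order,
  any two `p`-subgroups of `N_G(X)` can be brought into a common `p`-subgroup by an element of
  `C_G(X)`.
* `sf_main` : the downward induction giving `b ∈ C_G(X) a M` whenever `X ≤ M^a` and `X ≤ M^b`.
-/

set_option autoImplicit false

namespace Cfsg.Agent.Lib.helper13

open Cfsg
open scoped Pointwise commutatorElement

section Abstract

variable {H : Type*} [Group H] [Finite H]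

/-- If every `p'`-element of the derived subgroup of `H` lies in the normal subgroup `C`, then
`H = C · N_H(R)` for every Sylow `p`-subgroup `R` of `H`. -/
theorem sf_frattini_commutator {p : ℕ} [Fact p.Prime] (C : Subgroup H) [C.Normal]
    (hC : ∀ d ∈ commutator H, (orderOf d).Coprime p → d ∈ C) (R : Sylow p H) (n : H) :
    ∃ c ∈ C, ∃ m ∈ Subgroup.normalizer ((R : Subgroup H) : Set H), n = c * m := by
  classical
  have hpp : p.Prime := Fact.out
  have hπ : Function.Surjective (QuotientGroup.mk' C) := QuotientGroup.mk'_surjective C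
  obtain ⟨Q, hQdef⟩ : ∃ Q : Sylow p (H ⧸ C), Q = R.mapSurjective hπ := ⟨_, rfl⟩
  have hQ : (Q : Subgroup (H ⧸ C)) = (R : Subgroup H).map (QuotientGroup.mk' C) := by
    rw [hQdef]; rfl
  have hcomm : commutator (H ⧸ C) = (commutator H).map (QuotientGroup.mk' C) := by
    rw [commutator_def, commutator_def, Subgroup.map_commutator, ← MonoidHom.range_eq_map,
      MonoidHom.range_eq_top.mpr hπ]
  have hpg : IsPGroup p (commutator (H ⧸ C)) := by
    rw [hcomm]
    rintro ⟨x, d, hd, rfl⟩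
    obtain ⟨k, m, hm, hkm⟩ := Nat.exists_eq_pow_mul_and_not_dvd (orderOf_pos d).ne' p hpp.ne_one
    refine ⟨k, ?_⟩
    have h1 : d ^ p ^ k ∈ commutator H := Subgroup.pow_mem _ hd _
    have h2 : (orderOf (d ^ p ^ k)).Coprime p := by
      have hdm : (d ^ p ^ k) ^ m = 1 := by rw [← pow_mul, ← hkm, pow_orderOf_eq_one]
      have h3 : orderOf (d ^ p ^ k) ∣ m := orderOf_dvd_of_pow_eq_one hdm
      exact Nat.Coprime.coprime_dvd_left h3 ((Nat.Prime.coprime_iff_not_dvd hpp).mpr hm).symm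
    have h3 := hC _ h1 h2
    apply Subtype.ext
    rw [Subgroup.coe_pow, Subgroup.coe_one, ← map_pow]
    exact (QuotientGroup.eq_one_iff _).mpr h3
  have hle : commutator (H ⧸ C) ≤ (Q : Subgroup (H ⧸ C)) := by
    obtain ⟨Q₀, hQ₀⟩ := hpg.exists_le_sylow
    obtain ⟨g, hg⟩ := MulAction.exists_smul_eq (H ⧸ C) Q₀ Q
    intro x hx
    have h1 : g⁻¹ * x * g ∈ (Q₀ : Subgroup (H ⧸ C)) := by
      apply hQ₀
      have hn : (commutator (H ⧸ C)).Normal := inferInstance
      have := hn.conj_mem x hx g⁻¹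
      simpa using this
    have h2 : (MulAut.conj g) • (g⁻¹ * x * g) ∈ (MulAut.conj g) • (Q₀ : Subgroup (H ⧸ C)) :=
      Subgroup.smul_mem_pointwise_smul _ (MulAut.conj g) (Q₀ : Subgroup (H ⧸ C)) h1
    have h3 : ((g • Q₀ : Sylow p (H ⧸ C)) : Subgroup (H ⧸ C)) =
        MulAut.conj g • (Q₀ : Subgroup (H ⧸ C)) := rfl
    rw [← h3, hg] at h2
    have h4 : (MulAut.conj g) • (g⁻¹ * x * g) = x := by
      rw [MulAut.smul_def, MulAut.conj_apply]; group
    rw [h4] at h2
    exact h2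
  have hQn : (Q : Subgroup (H ⧸ C)).Normal := by
    constructor
    intro q hq n
    have h1 : n * q * n⁻¹ = ⁅n, q⁆ * q := by
      rw [commutatorElement_def]; group
    rw [h1]
    refine Subgroup.mul_mem _ (hle ?_) hq
    rw [commutator_def]
    exact Subgroup.commutator_mem_commutator (Subgroup.mem_top n) (Subgroup.mem_top q)
  obtain ⟨S, hSdef⟩ : ∃ S : Subgroup H, S = (Q : Subgroup (H ⧸ C)).comap (QuotientGroup.mk' C) :=
    ⟨_, rfl⟩
  have hSn : S.Normal := by rw [hSdef]; exact hQn.comap _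
  have hRS : (R : Subgroup H) ≤ S := by
    rw [hSdef, hQ]; exact Subgroup.le_comap_map _ _
  have hfr := Sylow.normalizer_sup_eq_top' R hRS
  have hn : n ∈ ((Subgroup.normalizer (R : Set H) ⊔ S : Subgroup H) : Set H) := by
    rw [hfr]; exact Subgroup.mem_top n
  rw [Subgroup.mul_normal] at hn
  obtain ⟨m, hm, s, hs, rfl⟩ := Set.mem_mul.mp hn
  have hs' : QuotientGroup.mk' C s ∈ (R : Subgroup H).map (QuotientGroup.mk' C) := by
    rw [← hQ]; rw [hSdef] at hs; exact hs
  obtain ⟨r, hr, hrs⟩ := hs'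
  have hc : r⁻¹ * s ∈ C := by
    have : (QuotientGroup.mk r : H ⧸ C) = QuotientGroup.mk s := hrs
    exact QuotientGroup.eq.mp this
  have hmr : m * r ∈ Subgroup.normalizer ((R : Subgroup H) : Set H) :=
    Subgroup.mul_mem _ hm (Subgroup.le_normalizer hr)
  refine ⟨(m * r) * (r⁻¹ * s) * (m * r)⁻¹, ?_, m * r, hmr, ?_⟩
  · exact (inferInstance : C.Normal).conj_mem _ hc _
  · group

end Abstract

section Ambient

variable {G : Type*} [Group G] [Finite G]

/-- For a `p`-subgroup `X` of rank at most 2 (`p` odd) whose normalizer is solvable of odd order,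
any two `p`-subgroups of `N_G(X)` can be brought into a common `p`-subgroup by an element of
`C_G(X)`. -/
theorem sf_exists_conj {p : ℕ} [Fact p.Prime] (hp : p ≠ 2) (X : Subgroup G) (hX : IsPGroup p X)
    (hr : PRankLE p 2 X) (hNs : Group.IsSolvable (Subgroup.normalizer (X : Set G)))
    (hNodd : Odd (Nat.card (Subgroup.normalizer (X : Set G))))
    (Y₁ Y₂ : Subgroup G) (hY₁ : IsPGroup p Y₁) (hY₂ : IsPGroup p Y₂)
    (h₁ : Y₁ ≤ Subgroup.normalizer (X : Set G)) (h₂ : Y₂ ≤ Subgroup.normalizer (X : Set G)) :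
    ∃ c ∈ Subgroup.centralizer (X : Set G), ∃ R : Subgroup G, IsPGroup p R ∧ Y₁ ≤ R ∧
      Y₂.map (MulAut.conj c).toMonoidHom ≤ R := by
  classical
  obtain ⟨N, hNdef⟩ : ∃ N : Subgroup G, N = Subgroup.normalizer (X : Set G) := ⟨_, rfl⟩
  rw [← hNdef] at hNs hNodd h₁ h₂
  have hCn : ((Subgroup.centralizer (X : Set G)).subgroupOf N).Normal := by
    apply Subgroup.normal_subgroupOf_of_le_normalizer
    rw [hNdef]
    exact Cfsg.Agent.Lib.helper31.bi_normalizer_le_normalizer_centralizer X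
  have key := Cfsg.Agent.Lib.helper30.commutator_centralizes p hp X N hX hr (le_of_eq hNdef)
    hNs hNodd
  have hC : ∀ d ∈ commutator ↥N, (orderOf d).Coprime p →
      d ∈ (Subgroup.centralizer (X : Set G)).subgroupOf N := by
    intro d hd hcop
    rw [Subgroup.mem_subgroupOf, Subgroup.mem_centralizer_iff]
    have hd' : (d : G) ∈ ⁅N, N⁆ := by
      rw [← Subgroup.map_subtype_commutator]
      exact ⟨d, hd, rfl⟩
    have hcop' : (orderOf (d : G)).Coprime p := by
      rw [Subgroup.orderOf_coe]; exact hcop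
    intro x hx
    exact (key _ hd' hcop' x hx).symm
  have hY₁' : IsPGroup p (Y₁.subgroupOf N) :=
    hY₁.comap_of_injective N.subtype N.subtype_injective
  have hY₂' : IsPGroup p (Y₂.subgroupOf N) :=
    hY₂.comap_of_injective N.subtype N.subtype_injective
  obtain ⟨R₁, hR₁⟩ := hY₁'.exists_le_sylow
  obtain ⟨R₂, hR₂⟩ := hY₂'.exists_le_sylow
  obtain ⟨n, hn⟩ := MulAction.exists_smul_eq ↥N R₂ R₁
  obtain ⟨c, hc, m, hm, rfl⟩ := sf_frattini_commutator
    ((Subgroup.centralizer (X : Set G)).subgroupOf N) hC R₂ n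
  have hm' : m • R₂ = R₂ := Sylow.smul_eq_iff_mem_normalizer.mpr hm
  rw [mul_smul, hm'] at hn
  refine ⟨(c : G), Subgroup.mem_subgroupOf.mp hc, (R₁ : Subgroup ↥N).map N.subtype,
    R₁.2.map _, ?_, ?_⟩
  · intro y hy
    exact ⟨⟨y, h₁ hy⟩, hR₁ (Subgroup.mem_subgroupOf.mpr hy), rfl⟩
  · rintro _ ⟨y, hy, rfl⟩
    have hy2 : (⟨y, h₂ hy⟩ : ↥N) ∈ (R₂ : Subgroup ↥N) := hR₂ (Subgroup.mem_subgroupOf.mpr hy)
    have h2 : (MulAut.conj c) • (⟨y, h₂ hy⟩ : ↥N) ∈ (MulAut.conj c) • (R₂ : Subgroup ↥N) :=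
      Subgroup.smul_mem_pointwise_smul _ (MulAut.conj c) (R₂ : Subgroup ↥N) hy2
    have h3 : ((c • R₂ : Sylow p ↥N) : Subgroup ↥N) = MulAut.conj c • (R₂ : Subgroup ↥N) := rfl
    rw [← h3, hn] at h2
    refine ⟨_, h2, ?_⟩
    rw [MulAut.smul_def, MulAut.conj_apply]
    rfl

omit [Finite G] in
theorem sf_mem_map_conj_iff {K : Subgroup G} {g y : G} :
    y ∈ K.map (MulAut.conj g).toMonoidHom ↔ g⁻¹ * y * g ∈ K := by
  constructor
  · rintro ⟨x, hx, rfl⟩
    have : g⁻¹ * ((MulAut.conj g).toMonoidHom x) * g = x := by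
      change g⁻¹ * (g * x * g⁻¹) * g = x
      group
    rw [this]; exact hx
  · intro h
    refine ⟨g⁻¹ * y * g, h, ?_⟩
    change g * (g⁻¹ * y * g) * g⁻¹ = y
    group

omit [Finite G] in
theorem sf_card_map_conj (K : Subgroup G) (g : G) :
    Nat.card (K.map (MulAut.conj g).toMonoidHom) = Nat.card K :=
  Subgroup.card_map_of_injective (MulAut.conj g).injective

omit [Finite G] in
theorem sf_map_conj_mul (K : Subgroup G) (g h : G) :
    (K.map (MulAut.conj h).toMonoidHom).map (MulAut.conj g).toMonoidHom =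
      K.map (MulAut.conj (g * h)).toMonoidHom := by
  ext y
  simp only [sf_mem_map_conj_iff]
  have : g⁻¹ * y * g = g⁻¹ * y * g := rfl
  constructor
  · intro h1
    have : (g * h)⁻¹ * y * (g * h) = h⁻¹ * (g⁻¹ * y * g) * h := by group
    rw [this]; exact h1
  · intro h1
    have : h⁻¹ * (g⁻¹ * y * g) * h = (g * h)⁻¹ * y * (g * h) := by group
    rw [this]; exact h1

omit [Finite G] in
theorem sf_isCoatom_map_conj {M : Subgroup G} (hM : IsCoatom M) (g : G) :
    IsCoatom (M.map (MulAut.conj g).toMonoidHom) := by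
  have h := (MulEquiv.mapSubgroup (MulAut.conj g)).isCoatom_iff (a := M)
  exact h.mpr hM

/-- if `a⁻¹ b` conjugates `K` into itself then it normalizes `K` -/
theorem sf_mem_normalizer_of_map_conj_eq {K : Subgroup G} {a b : G}
    (h : K.map (MulAut.conj a).toMonoidHom = K.map (MulAut.conj b).toMonoidHom) :
    a⁻¹ * b ∈ Subgroup.normalizer (K : Set G) := by
  apply mem_normalizer_of_forall_conj_mem
  intro x hx
  have h1 : b * x * b⁻¹ ∈ K.map (MulAut.conj b).toMonoidHom := ⟨x, hx, rfl⟩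
  rw [← h, sf_mem_map_conj_iff] at h1
  have : a⁻¹ * b * x * (a⁻¹ * b)⁻¹ = a⁻¹ * (b * x * b⁻¹) * a := by group
  rw [this]; exact h1

/-- **Bender–Glauberman, Lemma 10.1 (core induction).**  `M` a maximal subgroup of a minimal simple
group of odd order, `P` a `p`-subgroup of `M` containing a conjugate (in `M`) of every `p`-subgroup
of `M`, with `N_G(P) ≤ M`.  If every proper subgroup of rank at least 3 lies in a unique maximal
subgroup, then for every nontrivial `p`-subgroup `X` the centralizer `C_G(X)` is transitive on the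
conjugates of `M` containing `X`. -/
theorem sf_main (hG : IsMinSimpleOddOrder G)
    (hU : ∀ K : Subgroup G, K ≠ ⊤ → ¬ RankLE 1 K → ¬ RankLE 2 K → InUniqueMaximal K)
    (M : Subgroup G) (hM : IsCoatom M) {p : ℕ} [Fact p.Prime] (hp : p ≠ 2)
    (P : Subgroup G) (hPp : IsPGroup p P) (hPM : P ≤ M)
    (hNP : Subgroup.normalizer (P : Set G) ≤ M)
    (hSylM : ∀ Y : Subgroup G, Y ≤ M → IsPGroup p Y →
      ∃ m ∈ M, Y ≤ P.map (MulAut.conj m).toMonoidHom) :
    ∀ (k : ℕ) (X : Subgroup G), Nat.card G - Nat.card X = k → IsPGroup p X → X ≠ ⊥ →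
      ∀ a b : G, X ≤ M.map (MulAut.conj a).toMonoidHom → X ≤ M.map (MulAut.conj b).toMonoidHom →
        ∃ c ∈ Subgroup.centralizer (X : Set G), ∃ m ∈ M, b = c * a * m := by
  classical
  obtain ⟨hodd, hsimple, hna, hsolv⟩ := id hG
  have hpp : p.Prime := Fact.out
  -- `P` is a maximal `p`-subgroup of `G`
  have hPmax : ∀ T : Subgroup G, IsPGroup p T → P ≤ T → T = P := by
    intro T hT hle
    by_contra hne
    have hlt : P < T := lt_of_le_of_ne hle (Ne.symm hne)
    have h1 := Cfsg.Agent.Lib.helper31.bi_lt_inf_normalizer_of_lt hT.isNilpotent hlt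
    obtain ⟨m, hm, hle2⟩ := hSylM (T ⊓ Subgroup.normalizer (P : Set G)) (inf_le_right.trans hNP)
      (hT.to_le inf_le_left)
    have h2 : Nat.card ↥(T ⊓ Subgroup.normalizer (P : Set G)) ≤ Nat.card P := by
      rw [← sf_card_map_conj P m]
      exact Subgroup.card_le_of_le hle2
    exact h1.ne (Subgroup.eq_of_le_of_card_ge h1.le h2)
  -- every `p`-subgroup of `G` lies in a conjugate of `P`
  have hSylG : ∀ Y : Subgroup G, IsPGroup p Y → ∃ g : G, Y ≤ P.map (MulAut.conj g).toMonoidHom := by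
    intro Y hY
    obtain ⟨g, hg⟩ := exists_conj_map_le_sylow hY
      (⟨P, hPp, fun {Q} hQ hle => hPmax Q hQ hle⟩ : Sylow p G)
    refine ⟨g⁻¹, fun y hy => ?_⟩
    rw [sf_mem_map_conj_iff, inv_inv]
    exact hg ⟨y, hy, rfl⟩
  -- a `p`-subgroup of a conjugate of `M` lies in a conjugate of `P` inside it
  have hSylM' : ∀ (Y : Subgroup G) (a : G), IsPGroup p Y → Y ≤ M.map (MulAut.conj a).toMonoidHom →
      ∃ m ∈ M, Y ≤ P.map (MulAut.conj (a * m)).toMonoidHom := by
    intro Y a hY hYa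
    have h1 : Y.map (MulAut.conj a⁻¹).toMonoidHom ≤ M := by
      rintro _ ⟨y, hy, rfl⟩
      have := sf_mem_map_conj_iff.mp (hYa hy)
      change a⁻¹ * y * a⁻¹⁻¹ ∈ M
      rw [inv_inv]; exact this
    obtain ⟨m, hm, hle⟩ := hSylM _ h1 (hY.map _)
    refine ⟨m, hm, fun y hy => ?_⟩
    have h2 : a⁻¹ * y * a ∈ P.map (MulAut.conj m).toMonoidHom := by
      apply hle
      refine ⟨y, hy, ?_⟩
      change a⁻¹ * y * a⁻¹⁻¹ = a⁻¹ * y * a
      rw [inv_inv]
    rw [sf_mem_map_conj_iff] at h2 ⊢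
    have : (a * m)⁻¹ * y * (a * m) = m⁻¹ * (a⁻¹ * y * a) * m := by group
    rw [this]; exact h2
  intro k
  induction k using Nat.strong_induction_on with
  | _ k ih =>
  intro X hk hX hX1 a b ha hb
  -- `M` is nontrivial and self-normalizing
  have hM1 : M ≠ ⊥ := by
    intro h
    apply hX1
    rw [h, Subgroup.map_bot] at ha
    exact le_bot_iff.mp ha
  have hNM : Subgroup.normalizer (M : Set G) = M :=
    Cfsg.Agent.Lib.helper31.bi_normalizer_eq_of_coatom hM hM1 le_rfl Subgroup.le_normalizer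
  have hXtop : X ≠ ⊤ := by
    intro h
    have h1 : M.map (MulAut.conj a).toMonoidHom = ⊤ := top_le_iff.mp (h ▸ ha)
    have h2 : Nat.card M = Nat.card G := by
      rw [← sf_card_map_conj M a, h1, Subgroup.card_top]
    exact hM.1 (Subgroup.eq_top_of_le_card M (le_of_eq h2.symm))
  by_cases hr : PRankLE p 2 X
  swap
  · -- rank at least 3: `X` lies in a unique maximal subgroup
    have h1 : ¬ RankLE 2 X := fun h => hr (h p hpp)
    have h2 : ¬ RankLE 1 X := by
      intro h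
      apply hr
      intro A hA hAe
      exact (h p hpp A hA hAe).trans (Nat.pow_le_pow_right hpp.pos (by norm_num))
    obtain ⟨L, -, huniq⟩ := hU X hXtop h2 h1
    have e1 := huniq _ ⟨sf_isCoatom_map_conj hM a, ha⟩
    have e2 := huniq _ ⟨sf_isCoatom_map_conj hM b, hb⟩
    have h3 := sf_mem_normalizer_of_map_conj_eq (e1.trans e2.symm)
    rw [hNM] at h3
    refine ⟨1, Subgroup.one_mem _, a⁻¹ * b, h3, ?_⟩
    group
  -- rank at most 2
  obtain ⟨m₁, hm₁, hXa⟩ := hSylM' X a hX ha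
  obtain ⟨m₂, hm₂, hXb⟩ := hSylM' X b hX hb
  suffices hsuff : ∃ c ∈ Subgroup.centralizer (X : Set G), ∃ m ∈ M, b * m₂ = c * (a * m₁) * m by
    obtain ⟨c, hc, m, hm, hbm⟩ := hsuff
    refine ⟨c, hc, m₁ * m * m₂⁻¹, M.mul_mem (M.mul_mem hm₁ hm) (M.inv_mem hm₂), ?_⟩
    have : b = b * m₂ * m₂⁻¹ := by group
    rw [this, hbm]; group
  by_cases hXS : X = P.map (MulAut.conj (a * m₁)).toMonoidHom
  · -- `X` is a Sylow subgroup
    have h1 : X = P.map (MulAut.conj (b * m₂)).toMonoidHom := by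
      apply Subgroup.eq_of_le_of_card_ge hXb
      rw [sf_card_map_conj, hXS, sf_card_map_conj]
    have h2 := sf_mem_normalizer_of_map_conj_eq (hXS.symm.trans h1)
    refine ⟨1, Subgroup.one_mem _, (a * m₁)⁻¹ * (b * m₂), hNP h2, ?_⟩
    group
  -- `X` is properly contained in both Sylow subgroups
  have hlt₁ : X < P.map (MulAut.conj (a * m₁)).toMonoidHom := lt_of_le_of_ne hXa hXS
  have hlt₂ : X < P.map (MulAut.conj (b * m₂)).toMonoidHom := by
    refine lt_of_le_of_ne hXb ?_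
    intro h
    apply hXS
    apply Subgroup.eq_of_le_of_card_ge hXa
    rw [sf_card_map_conj, h, sf_card_map_conj]
  have hS₁p : IsPGroup p (P.map (MulAut.conj (a * m₁)).toMonoidHom) := hPp.map _
  have hS₂p : IsPGroup p (P.map (MulAut.conj (b * m₂)).toMonoidHom) := hPp.map _
  have hY₁ := Cfsg.Agent.Lib.helper31.bi_lt_inf_normalizer_of_lt hS₁p.isNilpotent hlt₁
  have hY₂ := Cfsg.Agent.Lib.helper31.bi_lt_inf_normalizer_of_lt hS₂p.isNilpotent hlt₂
  obtain ⟨Y₁, hY₁def⟩ : ∃ Y : Subgroup G, Y = P.map (MulAut.conj (a * m₁)).toMonoidHom ⊓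
      Subgroup.normalizer (X : Set G) := ⟨_, rfl⟩
  obtain ⟨Y₂, hY₂def⟩ : ∃ Y : Subgroup G, Y = P.map (MulAut.conj (b * m₂)).toMonoidHom ⊓
      Subgroup.normalizer (X : Set G) := ⟨_, rfl⟩
  rw [← hY₁def] at hY₁
  rw [← hY₂def] at hY₂
  have hY₁p : IsPGroup p Y₁ := by rw [hY₁def]; exact hS₁p.to_le inf_le_left
  have hY₂p : IsPGroup p Y₂ := by rw [hY₂def]; exact hS₂p.to_le inf_le_left
  have hY₁N : Y₁ ≤ Subgroup.normalizer (X : Set G) := by rw [hY₁def]; exact inf_le_right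
  have hY₂N : Y₂ ≤ Subgroup.normalizer (X : Set G) := by rw [hY₂def]; exact inf_le_right
  have hY₁M : Y₁ ≤ M.map (MulAut.conj (a * m₁)).toMonoidHom := by
    rw [hY₁def]; exact inf_le_left.trans (Subgroup.map_mono hPM)
  have hY₂M : Y₂ ≤ M.map (MulAut.conj (b * m₂)).toMonoidHom := by
    rw [hY₂def]; exact inf_le_left.trans (Subgroup.map_mono hPM)
  have hNtop : Subgroup.normalizer (X : Set G) ≠ ⊤ := by
    intro h
    have hn : X.Normal := Subgroup.normalizer_eq_top_iff.mp h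
    rcases hn.eq_bot_or_eq_top with h1 | h1
    · exact hX1 h1
    · exact hXtop h1
  have hNs : Group.IsSolvable (Subgroup.normalizer (X : Set G)) := hsolv _ hNtop
  have hNodd : Odd (Nat.card (Subgroup.normalizer (X : Set G))) :=
    Odd.of_dvd_nat hodd (Subgroup.card_subgroup_dvd_card _)
  obtain ⟨c, hc, R, hR, hY₁R, hY₂R⟩ := sf_exists_conj hp X hX hr hNs hNodd Y₁ Y₂
    hY₁p hY₂p hY₁N hY₂N
  obtain ⟨d, hd⟩ := hSylG R hR
  have hRd : R ≤ M.map (MulAut.conj d).toMonoidHom := hd.trans (Subgroup.map_mono hPM)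
  have hXpos : 0 < Nat.card X := Nat.card_pos
  -- first application of the induction hypothesis
  have hc1 : Nat.card X < Nat.card Y₁ := by
    have := Cfsg.Agent.Lib.helper30.pgroup_lt_card p X Y₁ hY₁p hY₁
    nlinarith [hpp.two_le]
  have hk1 : Nat.card G - Nat.card Y₁ < k := by
    have := Subgroup.card_le_card_group Y₁
    omega
  have hY₁1 : Y₁ ≠ ⊥ := fun h => by rw [h] at hY₁; exact not_lt_bot hY₁
  obtain ⟨c₁, hc₁, n₁, hn₁, hd1⟩ := ih (Nat.card G - Nat.card Y₁) hk1 Y₁ rfl hY₁p hY₁1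
    (a * m₁) d hY₁M (hY₁R.trans hRd)
  -- second application
  obtain ⟨Y₃, hY₃def⟩ : ∃ Y : Subgroup G, Y = Y₂.map (MulAut.conj c).toMonoidHom := ⟨_, rfl⟩
  rw [← hY₃def] at hY₂R
  have hY₃p : IsPGroup p Y₃ := by rw [hY₃def]; exact hY₂p.map _
  have hc2 : Nat.card X < Nat.card Y₃ := by
    rw [hY₃def, sf_card_map_conj]
    have := Cfsg.Agent.Lib.helper30.pgroup_lt_card p X Y₂ hY₂p hY₂
    nlinarith [hpp.two_le]
  have hk2 : Nat.card G - Nat.card Y₃ < k := by
    have := Subgroup.card_le_card_group Y₃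
    omega
  have hXc : X ≤ Y₃ := by
    intro x hx
    rw [hY₃def]
    refine ⟨x, hY₂.le hx, ?_⟩
    change c * x * c⁻¹ = x
    have := (Subgroup.mem_centralizer_iff.mp hc) x hx
    rw [← this]; group
  have hY₃1 : Y₃ ≠ ⊥ := fun h => by rw [h] at hXc; exact hX1 (le_bot_iff.mp hXc)
  have hle2 : Y₃ ≤ M.map (MulAut.conj (c * (b * m₂))).toMonoidHom := by
    rw [hY₃def, ← sf_map_conj_mul]
    exact Subgroup.map_mono hY₂M
  obtain ⟨c₂, hc₂, n₂, hn₂, hd2⟩ := ih (Nat.card G - Nat.card Y₃) hk2 Y₃ rfl hY₃p hY₃1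
    d (c * (b * m₂)) (hY₂R.trans hRd) hle2
  have hc₁' : c₁ ∈ Subgroup.centralizer (X : Set G) := Subgroup.centralizer_le hY₁.le hc₁
  have hc₂' : c₂ ∈ Subgroup.centralizer (X : Set G) := Subgroup.centralizer_le hXc hc₂
  refine ⟨c⁻¹ * c₂ * c₁, Subgroup.mul_mem _ (Subgroup.mul_mem _ (Subgroup.inv_mem _ hc) hc₂') hc₁',
    n₁ * n₂, M.mul_mem hn₁ hn₂, ?_⟩
  have h1 : b * m₂ = c⁻¹ * (c * (b * m₂)) := by group
  rw [h1, hd2, hd1]; group

/-- **Bender–Glauberman, Lemma 10.1**, from the Uniqueness Theorem (hypothesis `hU`). -/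
theorem sf_sigma (hG : IsMinSimpleOddOrder G)
    (hU : ∀ K : Subgroup G, K ≠ ⊤ → ¬ RankLE 1 K → ¬ RankLE 2 K → InUniqueMaximal K)
    (M : Subgroup G) (hM : IsCoatom M) (p : ℕ) [Fact p.Prime] (hp : p ∈ sigma M)
    (X : Subgroup G) (hXp : IsPGroup p X) (hX1 : X ≠ ⊥) (hXM : X ≤ M) :
    (∀ g : G, X.map (MulAut.conj g).toMonoidHom ≤ M →
        ∃ m ∈ M, ∃ c ∈ Subgroup.centralizer (X : Set G), g = m * c) ∧
      Subgroup.normalizer (X : Set G) =
        (M ⊓ Subgroup.normalizer (X : Set G)) ⊔ Subgroup.centralizer (X : Set G) := by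
  classical
  obtain ⟨hodd, hsimple, hna, hsolv⟩ := id hG
  obtain ⟨hpp, hpM, P, hNP⟩ := hp
  have hp2 : p ≠ 2 := by
    rintro rfl
    have h1 : 2 ∣ Nat.card G := hpM.trans (Subgroup.card_subgroup_dvd_card M)
    exact (Nat.not_even_iff_odd.mpr hodd) (even_iff_two_dvd.mpr h1)
  have hSylM : ∀ Y : Subgroup G, Y ≤ M → IsPGroup p Y →
      ∃ m ∈ M, Y ≤ ((P : Subgroup ↥M).map M.subtype).map (MulAut.conj m).toMonoidHom := by
    intro Y hYM hY
    have hY' : IsPGroup p (Y.subgroupOf M) :=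
      hY.comap_of_injective M.subtype M.subtype_injective
    obtain ⟨Q, hQ⟩ := hY'.exists_le_sylow
    obtain ⟨m, hm⟩ := MulAction.exists_smul_eq ↥M P Q
    refine ⟨(m : G), m.2, fun y hy => ?_⟩
    have h1 : (⟨y, hYM hy⟩ : ↥M) ∈ (Q : Subgroup ↥M) := hQ (Subgroup.mem_subgroupOf.mpr hy)
    rw [← hm] at h1
    have h2 : ((m • P : Sylow p ↥M) : Subgroup ↥M) = MulAut.conj m • (P : Subgroup ↥M) := rfl
    rw [h2, Subgroup.mem_pointwise_smul_iff_inv_smul_mem] at h1
    rw [sf_mem_map_conj_iff]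
    refine ⟨_, h1, ?_⟩
    rw [MulAut.smul_def, ← map_inv, MulAut.conj_apply]
    simp
  have main := sf_main hG hU M hM hp2 ((P : Subgroup ↥M).map M.subtype) (P.2.map _)
    (Subgroup.map_subtype_le _) hNP hSylM (Nat.card G - Nat.card X) X rfl hXp hX1
  have key : ∀ g : G, X.map (MulAut.conj g).toMonoidHom ≤ M →
      ∃ m ∈ M, ∃ c ∈ Subgroup.centralizer (X : Set G), g = m * c := by
    intro g hg
    have h1 : X ≤ M.map (MulAut.conj (1 : G)).toMonoidHom := by
      intro x hx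
      rw [sf_mem_map_conj_iff]
      simpa using hXM hx
    have h2 : X ≤ M.map (MulAut.conj g⁻¹).toMonoidHom := by
      intro x hx
      rw [sf_mem_map_conj_iff, inv_inv]
      exact hg ⟨x, hx, rfl⟩
    obtain ⟨c, hc, m, hm, h⟩ := main 1 g⁻¹ h1 h2
    refine ⟨m⁻¹, M.inv_mem hm, c⁻¹, Subgroup.inv_mem _ hc, ?_⟩
    have : g = (g⁻¹)⁻¹ := by group
    rw [this, h]; group
  refine ⟨key, le_antisymm ?_ ?_⟩
  · intro g hg
    have h1 : X.map (MulAut.conj g).toMonoidHom ≤ M := by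
      rw [map_conj_eq_of_mem_normalizer hg]; exact hXM
    obtain ⟨m, hm, c, hc, rfl⟩ := key g h1
    have hcN : c ∈ Subgroup.normalizer (X : Set G) := Subgroup.centralizer_le_normalizer _ hc
    have hmN : m ∈ Subgroup.normalizer (X : Set G) := by
      have : m = m * c * c⁻¹ := by group
      rw [this]
      exact Subgroup.mul_mem _ hg (Subgroup.inv_mem _ hcN)
    exact Subgroup.mul_mem_sup ⟨hm, hmN⟩ hc
  · exact sup_le inf_le_right (Subgroup.centralizer_le_normalizer _)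

end Ambient

end Cfsg.Agent.Lib.helper13
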