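import Mathlib
import Cfsg.Prelude.Def_OddOrderLocal
import Cfsg.Agent.Lib.helper13.BGExc
import Cfsg.Agent.Lib.helper13.SigFus
import Cfsg.Agent.Lib.helper29.Trans
import Cfsg.Agent.Lib.helper8.BGTen5
import Cfsg.Agent.Lib.helper25.BGSigma
import Cfsg.Agent.Lib.helper76.CoprimeSylow
import Cfsg.Agent.S1350
import Cfsg.Agent.Lib.helper12.FrobTools
import Cfsg.Agent.Lib.helper8.BGTen6
import Cfsg.Agent.S1392
import Cfsg.Agent.Lib.helper1.Hall
import Cfsg.Agent.Lib.helper27.Radical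
import Cfsg.Agent.S1396
import Cfsg.Agent.S1403
import Cfsg.Agent.S1404
import Cfsg.Agent.S1408
import Cfsg.Agent.S1410

/-!
# B-G section 11: basic consequences of `Exc` and Sylow facts for `σ(M)`
-/

set_option autoImplicit false

namespace Cfsg.Agent.Lib.helper13

open Cfsg
open scoped Pointwise commutatorElement

variable {G : Type*} [Group G] [Finite G]

/-- the Uniqueness Theorem in the form used by helper8's library -/
theorem bgx_uniq (hG : IsMinSimpleOddOrder G) : Cfsg.Agent.Lib.helper8.BGUniqHyp G :=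
  fun K hK h1 h3 => Cfsg.Agent.S1403.result hG K hK h1 h3

/-- the fusion lemma in the form used by helper8's library -/
theorem bgx_fus (hG : IsMinSimpleOddOrder G) : Cfsg.Agent.Lib.helper8.BGFusHyp G := by
  intro M hM p hp X hXp hX1 hXM g hg
  have : Fact p.Prime := ⟨hp.1⟩
  exact (Cfsg.Agent.S1404.result hG M hM p hp X hXp hX1 hXM).1 g hg

omit [Finite G] in
theorem exc_centralizer_le {M : Subgroup G} {p : ℕ} {A₀ A : Subgroup G} (hE : Exc M p A₀ A) :
    Subgroup.centralizer (A : Set G) ≤ M := by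
  obtain ⟨-, -, -, -, -, -, hA₀A, -, hN⟩ := hE
  exact (Subgroup.centralizer_le hA₀A).trans ((Subgroup.centralizer_le_normalizer _).trans hN)

omit [Finite G] in
theorem exc_isPGroup {M : Subgroup G} {p : ℕ} {A₀ A : Subgroup G} (hE : Exc M p A₀ A) :
    IsPGroup p A := by
  obtain ⟨-, hpp, -, -, -, hc, -, -, -⟩ := hE
  have : Fact p.Prime := ⟨hpp⟩
  exact IsPGroup.of_card hc

theorem exc_rank (hG : IsMinSimpleOddOrder G) {M : Subgroup G} {p : ℕ} {A₀ A : Subgroup G}
    (hE : Exc M p A₀ A) : PRankLE p 2 M ∧ ¬ PRankLE p 1 M := by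
  obtain ⟨hM, hpp, hpσ, hAM, hAel, hc, -, -, -⟩ := hE
  constructor
  · by_contra h
    exact hpσ (Cfsg.Agent.Lib.helper8.bg_alpha_sub_sigma hG (bgx_uniq hG) M hM ⟨hpp, h⟩)
  · intro h
    have h1 := Cfsg.Agent.Lib.helper8.bg_elemAb_subgroupOf M hAel
    have h2 := h (A.subgroupOf M) h1.1 h1.2
    have h3 : Nat.card (A.subgroupOf M) = Nat.card A :=
      Nat.card_congr (Subgroup.subgroupOfEquivOfLe hAM).toEquiv
    rw [h3, hc] at h2
    have : p ^ 1 < p ^ 2 := Nat.pow_lt_pow_right hpp.one_lt (by norm_num)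
    omega

theorem exc_max (hG : IsMinSimpleOddOrder G) {M : Subgroup G} {p : ℕ} {A₀ A : Subgroup G}
    (hE : Exc M p A₀ A) :
    ∀ B : Subgroup G, IsElementaryAbelian p B → A ≤ B → B = A := by
  have hr := exc_rank hG hE
  obtain ⟨hM, hpp, hpσ, hAM, hAel, hc, -, -, -⟩ := hE
  have : Fact p.Prime := ⟨hpp⟩
  exact (Cfsg.Agent.S1408.result hG M hM p hpσ hr.1 hr.2).2 A hAM hAel hc

theorem exc_trans (hG : IsMinSimpleOddOrder G) {M : Subgroup G} {p : ℕ} {A₀ A : Subgroup G}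
    (hE : Exc M p A₀ A) : TransitivityHypothesis A := by
  have hmax := exc_max hG hE
  have hAp := exc_isPGroup hE
  obtain ⟨hM, hpp, hpσ, hAM, hAel, hc, -, -, -⟩ := hE
  have : Fact p.Prime := ⟨hpp⟩
  have hpG : p ∣ Nat.card G := by
    have h1 : p ∣ Nat.card A := by rw [hc]; exact dvd_pow_self p (by norm_num)
    exact h1.trans (Subgroup.card_subgroup_dvd_card A)
  refine Cfsg.Agent.S1396.result hG p hpG A hAp hAel.1 (Or.inl ⟨?_, fun H hH =>
    Cfsg.Agent.S1410.result hG p H hH⟩)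
  intro x hx
  refine ⟨fun hxp => ?_, fun hxA => hAel.2 x hxA⟩
  have hz : IsElementaryAbelian p (Subgroup.zpowers x) := by
    refine ⟨inferInstance, ?_⟩
    rintro a ⟨k, rfl⟩
    change (x ^ k) ^ p = 1
    rw [← zpow_natCast, ← zpow_mul, mul_comm, zpow_mul, zpow_natCast, hxp, one_zpow]
  have hcomm : ∀ a ∈ A, ∀ y ∈ Subgroup.zpowers x, a * y = y * a := by
    intro a ha y hy
    have hy' : y ∈ Subgroup.centralizer (A : Set G) := (Subgroup.zpowers_le.mpr hx) hy
    exact Subgroup.mem_centralizer_iff.mp hy' a ha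
  have hB := Cfsg.Agent.Lib.helper8.bg_elemAb_sup A (Subgroup.zpowers x) hAel hz hcomm
  have hBA := hmax _ hB le_sup_left
  have : x ∈ A ⊔ Subgroup.zpowers x :=
    (le_sup_right : Subgroup.zpowers x ≤ A ⊔ Subgroup.zpowers x) (Subgroup.mem_zpowers x)
  rw [hBA] at this
  exact this

/-- For `q ∈ σ(M)`, Sylow `q`-subgroups of `M` are Sylow in `G`. -/
theorem sigma_sylow_index (M : Subgroup G) {q : ℕ} (hq : q ∈ sigma M) [Fact q.Prime]
    (Q : Sylow q M) : ¬ q ∣ ((Q : Subgroup M).map M.subtype).index := by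
  rw [Subgroup.index_map_subtype]
  intro h
  rcases (Nat.Prime.dvd_mul Fact.out).mp h with h1 | h1
  · exact Q.not_dvd_index h1
  · exact Cfsg.Agent.Lib.helper8.bg_sigma_not_dvd_index M hq h1

/-- For `q ∈ σ(M)`, a `q`-subgroup `X ≤ M` which is a Sylow subgroup of `G` has `N_G(X) ≤ M`. -/
theorem sigma_normalizer_le (M : Subgroup G) {q : ℕ} (hq : q ∈ sigma M) (X : Subgroup G)
    (hXM : X ≤ M) (hX : IsPGroup q X) (hXi : ¬ q ∣ X.index) :
    Subgroup.normalizer (X : Set G) ≤ M := by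
  obtain ⟨hqp, hqM, P, hNP⟩ := hq
  have : Fact q.Prime := ⟨hqp⟩
  have hX' : IsPGroup q (X.subgroupOf M) :=
    hX.comap_of_injective M.subtype M.subtype_injective
  obtain ⟨Q, hQ⟩ := hX'.exists_le_sylow
  obtain ⟨m, hm⟩ := MulAction.exists_smul_eq ↥M P Q
  have hXR : X ≤ ((P : Subgroup ↥M).map M.subtype).map (MulAut.conj (m : G)).toMonoidHom := by
    intro y hy
    have h1 : (⟨y, hXM hy⟩ : ↥M) ∈ (Q : Subgroup ↥M) := hQ (Subgroup.mem_subgroupOf.mpr hy)
    rw [← hm] at h1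
    have h2 : ((m • P : Sylow q ↥M) : Subgroup ↥M) = MulAut.conj m • (P : Subgroup ↥M) := rfl
    rw [h2, Subgroup.mem_pointwise_smul_iff_inv_smul_mem] at h1
    rw [sf_mem_map_conj_iff]
    refine ⟨_, h1, ?_⟩
    rw [MulAut.smul_def, ← map_inv, MulAut.conj_apply]
    simp
  have hRq : IsPGroup q (((P : Subgroup ↥M).map M.subtype).map (MulAut.conj (m : G)).toMonoidHom) :=
    (P.2.map _).map _
  have hRX := Cfsg.Agent.Lib.helper8.bg_pgroup_max_of_not_dvd hXR hRq hXi
  have hXeq : X = ((P : Subgroup ↥M).map M.subtype).map (MulAut.conj (m : G)).toMonoidHom :=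
    le_antisymm hXR hRX
  intro g hg
  have h1 : (m : G)⁻¹ * g * (m : G) ∈
      Subgroup.normalizer ((((P : Subgroup ↥M).map M.subtype : Subgroup G)) : Set G) := by
    have h2 := Subgroup.map_equiv_normalizer_eq ((P : Subgroup ↥M).map M.subtype)
      (MulAut.conj (m : G))
    have h3 : g ∈ (Subgroup.normalizer ((((P : Subgroup ↥M).map M.subtype : Subgroup G)) : Set G)).map
        (MulAut.conj (m : G)).toMonoidHom := by
      rw [h2]
      have h4 : (((P : Subgroup ↥M).map M.subtype).map (MulAut.conj (m : G)).toMonoidHom) = X := hXeq.symm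
      rw [h4]; exact hg
    exact sf_mem_map_conj_iff.mp h3
  have h2 := hNP h1
  have : g = (m : G) * ((m : G)⁻¹ * g * (m : G)) * (m : G)⁻¹ := by group
  rw [this]
  exact M.mul_mem (M.mul_mem m.2 h2) (M.inv_mem m.2)

/-- if `H N = X` with `N` normal then `|X : H|` divides `|N|` -/
theorem index_dvd_card_of_sup_eq_top {X : Type*} [Group X] [Finite X] (H N : Subgroup X)
    [N.Normal] (h : H ⊔ N = ⊤) : H.index ∣ Nat.card N := by
  have h1 : Nat.card H * H.index = Nat.card X := H.card_mul_index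
  have h2 : Nat.card N * N.index = Nat.card X := N.card_mul_index
  have h3 : N.index = N.relIndex H := by
    rw [← Subgroup.relIndex_top_right, ← h, Subgroup.relIndex_sup_right]
  have h4 : Nat.card (N.subgroupOf H) * N.relIndex H = Nat.card H :=
    (N.subgroupOf H).card_mul_index
  have h5 : N.relIndex H ≠ 0 := by
    rw [← h3]; exact Subgroup.index_ne_zero_of_finite
  have h6 : Nat.card (N.subgroupOf H) * H.index * N.relIndex H = Nat.card N * N.relIndex H := by
    rw [← h3, h2, ← h1, ← h4, ← h3]; ring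
  have h7 := Nat.eq_of_mul_eq_mul_right (Nat.pos_of_ne_zero h5) h6
  exact Dvd.intro_left _ h7

/-- the image in `G` of the normalizer in `M` of a subgroup of `M` normalizes the image -/
theorem coe_mem_normalizer_map_subtype {M : Subgroup G} (Q : Subgroup M) (m : M)
    (hm : m ∈ Subgroup.normalizer (Q : Set M)) :
    (m : G) ∈ Subgroup.normalizer ((Q.map M.subtype : Subgroup G) : Set G) := by
  apply mem_normalizer_of_forall_conj_mem
  rintro _ ⟨x, hx, rfl⟩
  refine ⟨m * x * m⁻¹, (Subgroup.mem_normalizer_iff.mp hm x).mp hx, ?_⟩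
  simp

/-- **Invariant Sylow subgroups.**  `p ∉ σ(M)`, `q ∈ σ(M)`, `A ≤ M` a `p`-subgroup: some Sylow
`q`-subgroup of `M` (which is a Sylow `q`-subgroup of `G`) is normalized by `A`. -/
theorem exists_inv_sylow (hG : IsMinSimpleOddOrder G) (M : Subgroup G) (hM : IsCoatom M)
    {p q : ℕ} (hpp : p.Prime) (hpσ : p ∉ sigma M) (hq : q ∈ sigma M) (A : Subgroup G)
    (hAM : A ≤ M) (hA : IsPGroup p A) :
    ∃ Q : Subgroup G, Q ≤ M ∧ IsPGroup q Q ∧ ¬ q ∣ Q.index ∧
      A ≤ Subgroup.normalizer (Q : Set G) ∧ Q ≠ ⊥ := by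
  have : Fact p.Prime := ⟨hpp⟩
  have : Fact q.Prime := ⟨hq.1⟩
  have hn : ¬ p ∣ Nat.card (Sylow q M) := by
    obtain ⟨N, hN⟩ : ∃ N : Subgroup M, N = piCore (sigma M) M := ⟨_, rfl⟩
    have hNn : N.Normal := by rw [hN]; infer_instance
    obtain ⟨P'⟩ := (inferInstance : Nonempty (Sylow q N))
    have hfr := Sylow.normalizer_sup_eq_top P'
    have hKq : IsPGroup q ((P' : Subgroup N).map N.subtype) := P'.2.map _
    have hKi : ¬ q ∣ ((P' : Subgroup N).map N.subtype).index := by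
      rw [Subgroup.index_map_subtype]
      intro h
      rcases (Nat.Prime.dvd_mul hq.1).mp h with h1 | h1
      · exact P'.not_dvd_index h1
      · rw [hN] at h1
        exact Cfsg.Agent.Lib.helper25.BGS.sigma_core_not_dvd_index hG (bgx_uniq hG) (bgx_fus hG)
          M hM hq h1
    rw [Sylow.card_eq_index_normalizer (hKq.toSylow hKi)]
    have hdvd := index_dvd_card_of_sup_eq_top _ N hfr
    intro hp
    have h1 : p ∣ Nat.card N := hp.trans hdvd
    have h2 : Nat.card (sigmaCore M) = Nat.card N := by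
      rw [hN]
      exact Subgroup.card_map_of_injective M.subtype_injective
    rw [← h2] at h1
    exact hpσ ((Cfsg.Agent.S1350.result hG M hM).1.2.1 p hpp h1)
  obtain ⟨Q, hQ⟩ := Cfsg.Agent.Lib.helper76.exists_sylow_normalized_of_not_dvd_card p q
    (A.subgroupOf M) (hA.comap_of_injective M.subtype M.subtype_injective) hn
  refine ⟨(Q : Subgroup M).map M.subtype, Subgroup.map_subtype_le _, Q.2.map _,
    sigma_sylow_index M hq Q, ?_, ?_⟩
  · intro a ha
    have h1 : (⟨a, hAM ha⟩ : M) ∈ Subgroup.normalizer ((Q : Subgroup M) : Set M) :=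
      hQ (Subgroup.mem_subgroupOf.mpr ha)
    exact coe_mem_normalizer_map_subtype (Q : Subgroup M) ⟨a, hAM ha⟩ h1
  · intro h
    have h1 := sigma_sylow_index M hq Q
    rw [h, Subgroup.index_bot] at h1
    have h2 : q ∣ Nat.card M := hq.2.1
    exact h1 (h2.trans (Subgroup.card_subgroup_dvd_card M))

/-- an `A`-invariant Sylow `q`-subgroup of `G` is a maximal `A`-invariant `q`-subgroup -/
theorem mem_maxInv_of_sylow {A Q : Subgroup G} {q : ℕ} (hq : q.Prime) (hQ : IsPGroup q Q)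
    (hQi : ¬ q ∣ Q.index) (hA : A ≤ Subgroup.normalizer (Q : Set G)) :
    Q ∈ maxInvSubgroups ⊤ A {q} := by
  have : Fact q.Prime := ⟨hq⟩
  refine ⟨(Cfsg.Agent.Lib.helper29.mem_invSubgroups_top hq).mpr ⟨hQ, hA⟩, fun R hR hQR => ?_⟩
  have hR' := (Cfsg.Agent.Lib.helper29.mem_invSubgroups_top hq).mp hR
  exact le_antisymm (Cfsg.Agent.Lib.helper8.bg_pgroup_max_of_not_dvd hQR hR'.1 hQi) hQR

omit [Finite G] in
theorem index_map_conj (K : Subgroup G) (g : G) :
    (K.map (MulAut.conj g).toMonoidHom).index = K.index :=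
  Subgroup.index_map_of_bijective (MulAut.conj g).bijective K

omit [Finite G] in
theorem map_conj_ne_bot {K : Subgroup G} (g : G) (h : K ≠ ⊥) :
    K.map (MulAut.conj g).toMonoidHom ≠ ⊥ := by
  intro h1
  rw [Subgroup.map_eq_bot_iff_of_injective _ (MulAut.conj g).injective] at h1
  exact h h1

omit [Finite G] in
theorem map_conj_inv_map_conj (K : Subgroup G) (g : G) :
    (K.map (MulAut.conj g⁻¹).toMonoidHom).map (MulAut.conj g).toMonoidHom = K := by
  rw [sf_map_conj_mul]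
  ext y
  rw [sf_mem_map_conj_iff]
  simp

omit [Finite G] in
theorem map_conj_inv_le {K M : Subgroup G} (g : G)
    (h : K ≤ M.map (MulAut.conj g).toMonoidHom) : K.map (MulAut.conj g⁻¹).toMonoidHom ≤ M := by
  intro y hy
  rw [sf_mem_map_conj_iff, inv_inv] at hy
  have h1 := sf_mem_map_conj_iff.mp (h hy)
  have h2 : g⁻¹ * (g * y * g⁻¹) * g = y := by group
  rwa [h2] at h1

omit [Finite G] in
theorem normalizer_map_conj (K : Subgroup G) (g : G) :
    Subgroup.normalizer ((K.map (MulAut.conj g).toMonoidHom : Subgroup G) : Set G) =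
      (Subgroup.normalizer (K : Set G)).map (MulAut.conj g).toMonoidHom :=
  (Subgroup.map_equiv_normalizer_eq K (MulAut.conj g)).symm

/-- conjugate version of `exists_inv_sylow` -/
theorem exists_inv_sylow_conj (hG : IsMinSimpleOddOrder G) (M : Subgroup G) (hM : IsCoatom M)
    {p q : ℕ} (hpp : p.Prime) (hpσ : p ∉ sigma M) (hq : q ∈ sigma M) (g : G) (A : Subgroup G)
    (hAg : A ≤ M.map (MulAut.conj g).toMonoidHom) (hA : IsPGroup p A) :
    ∃ Q : Subgroup G, Q ≤ M.map (MulAut.conj g).toMonoidHom ∧ IsPGroup q Q ∧ ¬ q ∣ Q.index ∧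
      A ≤ Subgroup.normalizer (Q : Set G) ∧ Q ≠ ⊥ := by
  obtain ⟨Q, hQM, hQq, hQi, hAQ, hQ1⟩ := exists_inv_sylow hG M hM hpp hpσ hq
    (A.map (MulAut.conj g⁻¹).toMonoidHom) (map_conj_inv_le g hAg) (hA.map _)
  refine ⟨Q.map (MulAut.conj g).toMonoidHom, Subgroup.map_mono hQM, hQq.map _, ?_, ?_,
    map_conj_ne_bot g hQ1⟩
  · rw [index_map_conj]; exact hQi
  · rw [normalizer_map_conj]
    have h1 := Subgroup.map_mono (f := (MulAut.conj g).toMonoidHom) hAQ
    rwa [map_conj_inv_map_conj] at h1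

omit [Finite G] in
theorem piCoreOf_le (π : Set ℕ) (X : Subgroup G) : piCoreOf π X ≤ X :=
  Subgroup.map_subtype_le _

omit [Finite G] in
/-- `M` normalizes `M_σ` -/
theorem le_normalizer_sigmaCore (M : Subgroup G) :
    M ≤ Subgroup.normalizer (sigmaCore M : Set G) := by
  intro m hm
  rw [Subgroup.mem_normalizer_iff]
  intro x
  have hn : (piCore (sigma M) M).Normal := inferInstance
  constructor
  · rintro ⟨y, hy, rfl⟩
    exact ⟨⟨m, hm⟩ * y * ⟨m, hm⟩⁻¹, hn.conj_mem y hy ⟨m, hm⟩, by simp⟩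
  · rintro ⟨y, hy, hyx⟩
    have h1 := hn.conj_mem y hy ⟨m, hm⟩⁻¹
    refine ⟨⟨m, hm⟩⁻¹ * y * ⟨m, hm⟩⁻¹⁻¹, h1, ?_⟩
    have h2 : (M.subtype y : G) = m * x * m⁻¹ := hyx
    simp only [map_mul, map_inv, Subgroup.subtype_apply] at h2 ⊢
    rw [h2]; group

omit [Finite G] in
theorem le_normalizer_inf {A H K : Subgroup G} (h1 : A ≤ Subgroup.normalizer (H : Set G))
    (h2 : A ≤ Subgroup.normalizer (K : Set G)) :
    A ≤ Subgroup.normalizer ((H ⊓ K : Subgroup G) : Set G) := by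
  intro a ha
  rw [Subgroup.mem_normalizer_iff]
  intro x
  rw [Subgroup.mem_inf, Subgroup.mem_inf, ← Subgroup.mem_normalizer_iff.mp (h1 ha) x,
    ← Subgroup.mem_normalizer_iff.mp (h2 ha) x]

/-- **B-G 11.2 (a).** -/
theorem exc_TI_a (hG : IsMinSimpleOddOrder G) {M : Subgroup G} {p : ℕ} {A₀ A : Subgroup G}
    (hE : Exc M p A₀ A) (g : G) (hg : g ∉ M) (hAg : A ≤ M.map (MulAut.conj g).toMonoidHom) :
    sigmaCore M ⊓ M.map (MulAut.conj g).toMonoidHom = ⊥ := by
  by_contra hne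
  have hCA := exc_centralizer_le hE
  have hTH := exc_trans hG hE
  have hAp := exc_isPGroup hE
  obtain ⟨hodd, hsimple, hna, hsolv⟩ := id hG
  obtain ⟨hM, hpp, hpσ, hAM, hAel, hAc, hA₀A, hA₀c, hNA₀⟩ := id hE
  obtain ⟨Y, hY⟩ : ∃ Y : Subgroup G, Y = sigmaCore M ⊓ M.map (MulAut.conj g).toMonoidHom :=
    ⟨_, rfl⟩
  rw [← hY] at hne
  have hYσ : Y ≤ sigmaCore M := hY ▸ inf_le_left
  have hσM : sigmaCore M ≤ M := Subgroup.map_subtype_le _
  have hYM : Y ≤ M := hYσ.trans hσM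
  have hMtop : M ≠ ⊤ := hM.1
  have hYtop : Y ≠ ⊤ := fun h => hMtop (top_le_iff.mp (h ▸ hYM))
  have hYsolv : Group.IsSolvable Y := hsolv Y hYtop
  have hYnt : Nontrivial Y := (Subgroup.nontrivial_iff_ne_bot Y).mpr hne
  obtain ⟨q, K, hq, hKn, hK1, hKq⟩ := Cfsg.Agent.Lib.helper1.exists_normal_pgroup (G := Y)
  have : Fact q.Prime := ⟨hq⟩
  have hK_le := Cfsg.Agent.Lib.helper27.normal_pGroup_le_pCore q K hKq
  obtain ⟨Yq, hYq⟩ : ∃ Yq : Subgroup G, Yq = (pCore q Y).map Y.subtype := ⟨_, rfl⟩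
  have hYq1 : Yq ≠ ⊥ := by
    rw [hYq]
    intro h
    rw [Subgroup.map_eq_bot_iff_of_injective _ Y.subtype_injective] at h
    exact hK1 (le_bot_iff.mp (h ▸ hK_le))
  have hYqq : IsPGroup q Yq := hYq ▸ Cfsg.Agent.Lib.helper27.map_pCore_isPGroup q Y
  have hYqY : Yq ≤ Y := hYq ▸ Subgroup.map_subtype_le _
  have hAY : A ≤ Subgroup.normalizer (Y : Set G) := by
    rw [hY]
    exact le_normalizer_inf (hAM.trans (le_normalizer_sigmaCore M))
      (hAg.trans Subgroup.le_normalizer)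
  have hAYq : A ≤ Subgroup.normalizer (Yq : Set G) := by
    rw [hYq]
    exact hAY.trans
      (Cfsg.Agent.Lib.helper27.normalizer_le_normalizer_map_subtype_of_characteristic Y (pCore q Y))
  have hqσ : q ∈ sigma M := by
    have hnt : Nontrivial Yq := (Subgroup.nontrivial_iff_ne_bot Yq).mpr hYq1
    obtain ⟨n, hn0, hn⟩ := (hYqq.nontrivial_iff_card).mp hnt
    have h1 : q ∣ Nat.card Yq := by rw [hn]; exact dvd_pow_self q hn0.ne'
    exact (Cfsg.Agent.S1350.result hG M hM).1.2.1 q hq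
      (h1.trans (Subgroup.card_dvd_of_le (hYqY.trans hYσ)))
  have hqp : q ≠ p := fun h => hpσ (h ▸ hqσ)
  have hqA : ¬ q ∣ Nat.card A := by
    rw [hAc]; intro h
    exact hqp ((Nat.prime_dvd_prime_iff_eq hq hpp).mp (hq.dvd_of_dvd_pow h))
  obtain ⟨T, hT, hYqT⟩ := Cfsg.Agent.Lib.helper29.exists_maxInv_ge
    ((Cfsg.Agent.Lib.helper29.mem_invSubgroups_top hq).mpr ⟨hYqq, hAYq⟩)
  have hmeet : ∀ H : Subgroup G, Y ≤ H → H ⊓ T ≠ ⊥ := by
    intro H hYH h
    exact hYq1 (le_bot_iff.mp (h ▸ le_inf (hYqY.trans hYH) hYqT))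
  -- first application: `T` is conjugate to a Sylow subgroup inside `M`
  obtain ⟨Q1, hQ1M, hQ1q, hQ1i, hAQ1, hQ1ne⟩ := exists_inv_sylow hG M hM hpp hpσ hqσ A hAM hAp
  have hQ1max := mem_maxInv_of_sylow hq hQ1q hQ1i hAQ1
  obtain ⟨k, hk, hTk⟩ := Cfsg.Agent.S1392.result hG A hTH q hq hqA Q1 T hQ1max hT M hMtop hAM
    (by rw [inf_eq_right.mpr hQ1M]; exact hQ1ne) (hmeet M hYM)
  have hkM : k ∈ M := hCA (piCoreOf_le _ _ hk)
  have hTM : T ≤ M := by
    rw [hTk]
    rintro _ ⟨x, hx, rfl⟩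
    exact M.mul_mem (M.mul_mem hkM (hQ1M hx)) (M.inv_mem hkM)
  have hTq : IsPGroup q T := hTk ▸ hQ1q.map _
  have hTi : ¬ q ∣ T.index := by rw [hTk, index_map_conj]; exact hQ1i
  -- second application
  obtain ⟨Q2, hQ2M, hQ2q, hQ2i, hAQ2, hQ2ne⟩ :=
    exists_inv_sylow_conj hG M hM hpp hpσ hqσ g A hAg hAp
  have hQ2max := mem_maxInv_of_sylow hq hQ2q hQ2i hAQ2
  have hMgtop : M.map (MulAut.conj g).toMonoidHom ≠ ⊤ := (sf_isCoatom_map_conj hM g).1
  obtain ⟨k', hk', hTk'⟩ := Cfsg.Agent.S1392.result hG A hTH q hq hqA Q2 T hQ2max hT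
    (M.map (MulAut.conj g).toMonoidHom) hMgtop hAg
    (by rw [inf_eq_right.mpr hQ2M]; exact hQ2ne) (hmeet _ (hY ▸ inf_le_right))
  have hk'M : k' ∈ M := hCA (piCoreOf_le _ _ hk')
  have hTh : T ≤ M.map (MulAut.conj (k' * g)).toMonoidHom := by
    rw [hTk', ← sf_map_conj_mul]
    exact Subgroup.map_mono hQ2M
  -- fusion
  have hXM : T.map (MulAut.conj (k' * g)⁻¹).toMonoidHom ≤ M := map_conj_inv_le _ hTh
  have hT1 : T ≠ ⊥ := fun h => hYq1 (le_bot_iff.mp (h ▸ hYqT))
  obtain ⟨m, hm, c, hc, hmc⟩ := bgx_fus hG M hM q hqσ (T.map (MulAut.conj (k' * g)⁻¹).toMonoidHom)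
    (hTq.map _) (map_conj_ne_bot _ hT1) hXM (k' * g)
    (by rw [map_conj_inv_map_conj]; exact hTM)
  have hcM : c ∈ M :=
    sigma_normalizer_le M hqσ _ hXM (hTq.map _) (by rw [index_map_conj]; exact hTi)
      (Subgroup.centralizer_le_normalizer _ hc)
  have hgM : g = k'⁻¹ * (m * c) := by rw [← hmc]; group
  exact hg (hgM ▸ M.mul_mem (M.inv_mem hk'M) (M.mul_mem hm hcM))

omit [Finite G] in
theorem centralizer_map_conj_le (K : Subgroup G) (g : G) :
    Subgroup.centralizer ((K.map (MulAut.conj g).toMonoidHom : Subgroup G) : Set G) ≤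
      (Subgroup.centralizer (K : Set G)).map (MulAut.conj g).toMonoidHom := by
  intro x hx
  rw [sf_mem_map_conj_iff, Subgroup.mem_centralizer_iff]
  intro a ha
  have h1 := Subgroup.mem_centralizer_iff.mp hx (g * a * g⁻¹) ⟨a, ha, rfl⟩
  calc a * (g⁻¹ * x * g) = g⁻¹ * (g * a * g⁻¹ * x) * g := by group
    _ = g⁻¹ * (x * (g * a * g⁻¹)) * g := by rw [h1]
    _ = g⁻¹ * x * g * a := by group

/-- **B-G 11.2.** -/
theorem p11_2 (hG : IsMinSimpleOddOrder G) : P11_2 G := by
  intro M p A₀ A hE g hg hAg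
  have ha := exc_TI_a hG hE g hg hAg
  refine ⟨ha, ?_⟩
  obtain ⟨-, -, -, -, -, -, hA₀A, -, hN⟩ := hE
  have h1 : Subgroup.centralizer ((A₀.map (MulAut.conj g).toMonoidHom : Subgroup G) : Set G) ≤
      M.map (MulAut.conj g).toMonoidHom :=
    (centralizer_map_conj_le A₀ g).trans
      (Subgroup.map_mono ((Subgroup.centralizer_le_normalizer _).trans hN))
  exact le_bot_iff.mp (ha ▸ inf_le_inf_left _ h1)

omit [Finite G] in
/-- nilpotency transfers between `M_σ` and `O_σ(M)` -/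
theorem isNilpotent_sigmaCore_iff (M : Subgroup G) :
    Group.IsNilpotent (sigmaCore M) ↔ Group.IsNilpotent (piCore (sigma M) M) := by
  constructor
  · intro h
    exact Cfsg.Agent.Lib.helper8.bg_isNilpotent_of_injective
      ((piCore (sigma M) M).equivMapOfInjective M.subtype M.subtype_injective).toMonoidHom
      (MulEquiv.injective _) h
  · intro h
    exact Cfsg.Agent.Lib.helper8.bg_isNilpotent_of_injective
      ((piCore (sigma M) M).equivMapOfInjective M.subtype M.subtype_injective).symm.toMonoidHom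
      (MulEquiv.injective _) h

/-- **B-G 11.3**: `M_σ` is nilpotent. -/
theorem exc_sigma_nil (hG : IsMinSimpleOddOrder G) {M : Subgroup G} {p : ℕ} {A₀ A : Subgroup G}
    (hE : Exc M p A₀ A) : Group.IsNilpotent (sigmaCore M) := by
  obtain ⟨hM, hpp, hpσ, hAM, hAel, hAc, hA₀A, hA₀c, hNA₀⟩ := id hE
  have : Fact p.Prime := ⟨hpp⟩
  have hAp := exc_isPGroup hE
  obtain ⟨P, hP⟩ := (hAp.comap_of_injective M.subtype M.subtype_injective :
    IsPGroup p (A.subgroupOf M)).exists_le_sylow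
  have hpM : p ∣ Nat.card M := by
    have h1 : p ∣ Nat.card A := by rw [hAc]; exact dvd_pow_self p (by norm_num)
    exact h1.trans (Subgroup.card_dvd_of_le hAM)
  have hNP : ¬ Subgroup.normalizer ((((P : Subgroup M).map M.subtype : Subgroup G)) : Set G) ≤ M :=
    fun h => hpσ ⟨hpp, hpM, P, h⟩
  obtain ⟨g, hgN, hgM⟩ := SetLike.not_le_iff_exists.mp hNP
  have hAP : A ≤ (P : Subgroup M).map M.subtype := by
    intro a ha
    exact ⟨⟨a, hAM ha⟩, hP (Subgroup.mem_subgroupOf.mpr ha), rfl⟩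
  have hPg := map_conj_eq_of_mem_normalizer hgN
  have hAg : A ≤ M.map (MulAut.conj g).toMonoidHom := by
    intro a ha
    have h1 : a ∈ ((P : Subgroup M).map M.subtype).map (MulAut.conj g).toMonoidHom := by
      rw [hPg]; exact hAP ha
    exact Subgroup.map_mono (Subgroup.map_subtype_le _) h1
  have hb := (p11_2 hG M p A₀ A hE g hgM hAg).2
  -- a generator of `A₀`
  have hA₀1 : A₀ ≠ ⊥ := by
    intro h
    rw [h, Subgroup.card_bot] at hA₀c
    exact hpp.one_lt.ne hA₀c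
  obtain ⟨a', ha'1⟩ := (Subgroup.ne_bot_iff_exists_ne_one).mp hA₀1
  have hgen := zpowers_eq_top_of_prime_card hA₀c ha'1
  have hyP : g * (a' : G) * g⁻¹ ∈ (P : Subgroup M).map M.subtype := by
    rw [← hPg]
    exact ⟨a', hAP (hA₀A a'.2), rfl⟩
  have hyM : g * (a' : G) * g⁻¹ ∈ M := Subgroup.map_subtype_le _ hyP
  have hyp : (g * (a' : G) * g⁻¹) ^ p = 1 := by
    rw [conj_pow, hAel.2 _ (hA₀A a'.2)]; group
  have hfpf : ∀ n ∈ piCore (sigma M) M,
      (⟨g * (a' : G) * g⁻¹, hyM⟩ : M) * n = n * ⟨g * (a' : G) * g⁻¹, hyM⟩ → n = 1 := by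
    intro n hn hcomm
    have hcomm' : g * (a' : G) * g⁻¹ * (n : G) = (n : G) * (g * (a' : G) * g⁻¹) :=
      congrArg Subtype.val hcomm
    have h1 : (n : G) ∈ sigmaCore M ⊓
        Subgroup.centralizer ((A₀.map (MulAut.conj g).toMonoidHom : Subgroup G) : Set G) := by
      refine Subgroup.mem_inf.mpr ⟨⟨n, hn, rfl⟩, ?_⟩
      rw [Subgroup.mem_centralizer_iff]
      rintro _ ⟨x, hx, rfl⟩
      have hx' : (⟨x, hx⟩ : A₀) ∈ Subgroup.zpowers a' := by rw [hgen]; exact Subgroup.mem_top _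
      obtain ⟨k, hk⟩ := Subgroup.mem_zpowers_iff.mp hx'
      have hk' : (a' : G) ^ k = x := by
        have := congrArg Subtype.val hk
        simpa using this
      change g * x * g⁻¹ * (n : G) = (n : G) * (g * x * g⁻¹)
      rw [← hk']
      have h2 : g * (a' : G) ^ k * g⁻¹ = (g * (a' : G) * g⁻¹) ^ k := by
        rw [conj_zpow]
      rw [h2]
      exact ((Commute.zpow_left (show Commute (g * (a' : G) * g⁻¹) (n : G) from hcomm') k)).eq
    rw [hb] at h1
    exact Subtype.ext (Subgroup.mem_bot.mp h1)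
  have hnil := Cfsg.Agent.Lib.helper12.isNilpotent_of_fpf_conj (piCore (sigma M) M)
    (⟨g * (a' : G) * g⁻¹, hyM⟩ : M) p hpp (Subtype.ext (by simpa using hyp)) hfpf
  exact (isNilpotent_sigmaCore_iff M).mpr hnil

/-- If `M_σ` is nilpotent and `q ∈ σ(M)`, then `M` has a normal Sylow `q`-subgroup `T ≤ M_σ`; it is
a Sylow subgroup of `G` and `N_G(T) = M`. -/
theorem exists_normal_sylow_of_nil (hG : IsMinSimpleOddOrder G) (M : Subgroup G) (hM : IsCoatom M)
    (hnil : Group.IsNilpotent (sigmaCore M)) {q : ℕ} (hq : q ∈ sigma M) :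
    ∃ T : Subgroup G, T ≤ sigmaCore M ∧ IsPGroup q T ∧ ¬ q ∣ T.index ∧ T ≠ ⊥ ∧
      Subgroup.normalizer (T : Set G) = M := by
  obtain ⟨hodd, hsimple, hna, hsolv⟩ := id hG
  have : Fact q.Prime := ⟨hq.1⟩
  obtain ⟨N, hN⟩ : ∃ N : Subgroup M, N = piCore (sigma M) M := ⟨_, rfl⟩
  have hNn : N.Normal := by rw [hN]; infer_instance
  have hNnil : Group.IsNilpotent N := by rw [hN]; exact (isNilpotent_sigmaCore_iff M).mp hnil
  obtain ⟨P'⟩ := (inferInstance : Nonempty (Sylow q N))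
  have hP'n : (P' : Subgroup N).Normal := inferInstance
  have hP'c : (P' : Subgroup N).Characteristic := Sylow.characteristic_of_normal P' hP'n
  have hKq : IsPGroup q ((P' : Subgroup N).map N.subtype) := P'.2.map _
  have hKi : ¬ q ∣ ((P' : Subgroup N).map N.subtype).index := by
    rw [Subgroup.index_map_subtype]
    intro h
    rcases (Nat.Prime.dvd_mul hq.1).mp h with h1 | h1
    · exact P'.not_dvd_index h1
    · rw [hN] at h1
      exact Cfsg.Agent.Lib.helper25.BGS.sigma_core_not_dvd_index hG (bgx_uniq hG) (bgx_fus hG)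
        M hM hq h1
  have hKnorm : ∀ m : M, m ∈ Subgroup.normalizer ((((P' : Subgroup N).map N.subtype : Subgroup M)) : Set M) := by
    intro m
    have h1 := Cfsg.Agent.Lib.helper27.normalizer_le_normalizer_map_subtype_of_characteristic N
      (P' : Subgroup N)
    have h2 : m ∈ Subgroup.normalizer (N : Set M) := by
      rw [Subgroup.normalizer_eq_top_iff.mpr hNn]; exact Subgroup.mem_top m
    exact h1 h2
  have hTi := sigma_sylow_index M hq (hKq.toSylow hKi)
  have hT1 : (((P' : Subgroup N).map N.subtype : Subgroup M)).map M.subtype ≠ ⊥ := by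
    intro h
    rw [IsPGroup.toSylow_coe, h, Subgroup.index_bot] at hTi
    exact hTi (hq.2.1.trans (Subgroup.card_subgroup_dvd_card M))
  have hTM : (((P' : Subgroup N).map N.subtype : Subgroup M)).map M.subtype ≤ M :=
    Subgroup.map_subtype_le _
  refine ⟨(((P' : Subgroup N).map N.subtype : Subgroup M)).map M.subtype, ?_, hKq.map _, ?_, hT1, ?_⟩
  · rw [sigmaCore, ← hN]
    exact Subgroup.map_mono (Subgroup.map_subtype_le _)
  · simpa using hTi
  · have h1 : M ≤ Subgroup.normalizer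
        (((((P' : Subgroup N).map N.subtype : Subgroup M)).map M.subtype : Subgroup G) : Set G) := by
      intro m hm
      exact coe_mem_normalizer_map_subtype _ ⟨m, hm⟩ (hKnorm ⟨m, hm⟩)
    rcases hM.le_iff.mp h1 with h2 | h2
    · exfalso
      have hn : ((((P' : Subgroup N).map N.subtype : Subgroup M)).map M.subtype : Subgroup G).Normal :=
        Subgroup.normalizer_eq_top_iff.mp h2
      rcases hn.eq_bot_or_eq_top with h3 | h3
      · exact hT1 h3
      · exact hM.1 (top_le_iff.mp (h3 ▸ hTM))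
    · exact h2

/-- **B-G 11.3.** (the nontriviality of `M_σ` is taken as a hypothesis) -/
theorem p11_3 (hG : IsMinSimpleOddOrder G)
    (hne : ∀ M : Subgroup G, IsCoatom M → sigmaCore M ≠ ⊥) : P11_3 G :=
  fun M _ _ _ hE => ⟨exc_sigma_nil hG hE, hne M hE.1⟩

/-- **B-G 11.4 (weak form).** -/
theorem p11_4 (hG : IsMinSimpleOddOrder G) : P11_4 G := by
  intro M p A₀ A hE H hH hAH hne
  have hnil := exc_sigma_nil hG hE
  obtain ⟨hM, hpp, hpσ, hAM, hAel, hAc, hA₀A, hA₀c, hNA₀⟩ := id hE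
  have hc1 : Nat.card (sigmaCore H ⊓ sigmaCore M : Subgroup G) ≠ 1 := by
    intro h
    exact hne (Subgroup.card_eq_one.mp h)
  obtain ⟨q, hq, hqY⟩ := Nat.exists_prime_and_dvd hc1
  have : Fact q.Prime := ⟨hq⟩
  have hqM : q ∈ sigma M := (Cfsg.Agent.S1350.result hG M hM).1.2.1 q hq
    (hqY.trans (Subgroup.card_dvd_of_le inf_le_right))
  have hqH : q ∈ sigma H := (Cfsg.Agent.S1350.result hG H hH).1.2.1 q hq
    (hqY.trans (Subgroup.card_dvd_of_le inf_le_left))
  obtain ⟨T, hTσ, hTq, hTi, hT1, hNT⟩ := exists_normal_sylow_of_nil hG M hM hnil hqM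
  obtain ⟨S⟩ := (inferInstance : Nonempty (Sylow q H))
  have hSi := sigma_sylow_index H hqH S
  have hSq : IsPGroup q ((S : Subgroup H).map H.subtype) := S.2.map _
  obtain ⟨x, hx⟩ := MulAction.exists_smul_eq G (hTq.toSylow hTi) (hSq.toSylow hSi)
  have hST : (S : Subgroup H).map H.subtype = T.map (MulAut.conj x).toMonoidHom := by
    ext y
    have h1 : y ∈ ((hSq.toSylow hSi : Sylow q G) : Subgroup G) ↔
        y ∈ (S : Subgroup H).map H.subtype := by rw [IsPGroup.toSylow_coe]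
    rw [← h1, ← hx, Cfsg.Agent.Lib.helper8.bg_mem_smul_sylow, sf_mem_map_conj_iff,
      IsPGroup.toSylow_coe]
  have hNS : Subgroup.normalizer ((((S : Subgroup H).map H.subtype : Subgroup G)) : Set G) ≤ H :=
    sigma_normalizer_le H hqH _ (Subgroup.map_subtype_le _) hSq hSi
  rw [hST, normalizer_map_conj, hNT] at hNS
  have hHx : H = M.map (MulAut.conj x).toMonoidHom :=
    ((sf_isCoatom_map_conj hM x).le_iff.mp hNS).resolve_left hH.1
  by_cases hxM : x ∈ M
  · rw [hHx]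
    exact map_conj_eq_of_mem_normalizer (Subgroup.le_normalizer hxM)
  · exfalso
    have h1 := exc_TI_a hG hE x hxM (hHx ▸ hAH)
    apply hne
    have h2 : sigmaCore H ⊓ sigmaCore M ≤ sigmaCore M ⊓ M.map (MulAut.conj x).toMonoidHom := by
      rw [← hHx]
      exact le_inf inf_le_right (inf_le_left.trans (Subgroup.map_subtype_le _))
    exact le_bot_iff.mp (h1 ▸ h2)

end Cfsg.Agent.Lib.helper13
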