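import Mathlib
import Cfsg.Prelude.Def_OddOrderLocal
import Cfsg.Agent.Lib.helper13.BGExc
import Cfsg.Agent.Lib.helper13.BG11a

/-!
# B-G section 11: normal `r`-subgroups of `M` for `r ∉ σ(M)` are cyclic (towards 11.7)
-/

set_option autoImplicit false

namespace Cfsg.Agent.Lib.helper13

open Cfsg
open scoped Pointwise commutatorElement

variable {G : Type*} [Group G] [Finite G]

/-- a noncyclic `r`-subgroup of a group of odd order contains an elementary abelian subgroup of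
order `r ^ 2` -/
theorem exists_elemAb_sq_of_not_cyclic (hodd : Odd (Nat.card G)) {r : ℕ} [Fact r.Prime]
    (R : Subgroup G) (hR : IsPGroup r R) (hnc : ¬ IsCyclic R) :
    ∃ B : Subgroup G, B ≤ R ∧ IsElementaryAbelian r B ∧ Nat.card B = r ^ 2 := by
  have hr : r.Prime := Fact.out
  have hr2 : r ≠ 2 := by
    rintro rfl
    have hR1 : R ≠ ⊥ := by
      rintro rfl
      exact hnc inferInstance
    have hnt : Nontrivial R := (Subgroup.nontrivial_iff_ne_bot R).mpr hR1
    obtain ⟨n, hn0, hn⟩ := (hR.nontrivial_iff_card).mp hnt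
    have h1 : 2 ∣ Nat.card R := by rw [hn]; exact dvd_pow_self 2 hn0.ne'
    exact (Nat.not_even_iff_odd.mpr hodd)
      (even_iff_two_dvd.mpr (h1.trans (Subgroup.card_subgroup_dvd_card R)))
  have hrk : ¬ PRankLE r 1 ↥R := fun h =>
    hnc (Cfsg.Agent.Lib.helper71.BGA.isCyclic_of_prankLE_one r hr2 hR h)
  unfold PRankLE at hrk
  push Not at hrk
  obtain ⟨B0, hB0c, hB0e, hB0card⟩ := hrk
  have hB0el : IsElementaryAbelian r B0 := ⟨hB0c, hB0e⟩
  have hB0el' := (Cfsg.Agent.Lib.helper8.bg_elemAb_iff B0).mp hB0el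
  have hB0p : IsPGroup r B0 := hR.to_subgroup B0
  obtain ⟨k, hk⟩ := hB0p.exists_card_eq
  have hk2 : 2 ≤ k := by
    rw [hk] at hB0card
    have := (Nat.pow_lt_pow_iff_right hr.one_lt).mp hB0card
    omega
  have hle : r ^ 2 ≤ Nat.card B0 := by
    rw [hk]; exact Nat.pow_le_pow_right hr.pos hk2
  obtain ⟨B1, hB1le, hB1c⟩ := Sylow.exists_subgroup_le_card_pow_prime_of_le_card hr hR hle
  have hB1el : IsElementaryAbelian r B1 :=
    (Cfsg.Agent.Lib.helper8.bg_elemAb_iff B1).mpr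
      ⟨fun a ha b hb => hB0el'.1 a (hB1le ha) b (hB1le hb), fun a ha => hB0el'.2 a (hB1le ha)⟩
  refine ⟨B1.map R.subtype, Subgroup.map_subtype_le _,
    Cfsg.Agent.Lib.helper8.bg_elemAb_map B1 hB1el, ?_⟩
  rw [Subgroup.card_map_of_injective R.subtype_injective, hB1c]

omit [Finite G] in
/-- two subgroups of `M` normalized by `M` with coprime orders commute -/
theorem le_centralizer_of_normal_coprime {M R N : Subgroup G} (hRM : R ≤ M) (hNM : N ≤ M)
    (hRn : M ≤ Subgroup.normalizer (R : Set G)) (hNn : M ≤ Subgroup.normalizer (N : Set G))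
    (hcop : (Nat.card R).Coprime (Nat.card N)) : R ≤ Subgroup.centralizer (N : Set G) := by
  intro x hx
  rw [Subgroup.mem_centralizer_iff]
  intro y hy
  have h1 : x * y * x⁻¹ * y⁻¹ ∈ R ⊓ N := by
    refine ⟨?_, ?_⟩
    · have h2 : y * x⁻¹ * y⁻¹ ∈ R :=
        (Subgroup.mem_normalizer_iff.mp (hRn (hNM hy)) x⁻¹).mp (R.inv_mem hx)
      have : x * y * x⁻¹ * y⁻¹ = x * (y * x⁻¹ * y⁻¹) := by group
      rw [this]; exact R.mul_mem hx h2
    · have h2 : x * y * x⁻¹ ∈ N := (Subgroup.mem_normalizer_iff.mp (hNn (hRM hx)) y).mp hy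
      exact N.mul_mem h2 (N.inv_mem hy)
  rw [(Subgroup.disjoint_of_coprime_natCard hcop).eq_bot, Subgroup.mem_bot] at h1
  have : y * x = (x * y * x⁻¹ * y⁻¹)⁻¹ * (x * y) := by group
  rw [this, h1]; group

/-- **LEMMA CYC** (step of B-G 11.7): if `M_σ` is nilpotent and nontrivial and `r ∉ σ(M)`, every
`r`-subgroup of `M` normalized by `M` is cyclic. -/
theorem bg_cyc (hG : IsMinSimpleOddOrder G) (h9 : P10_9 G) (M : Subgroup G) (hM : IsCoatom M)
    (hnil : Group.IsNilpotent (sigmaCore M)) (hne : sigmaCore M ≠ ⊥) (r : ℕ) [Fact r.Prime]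
    (hr : r ∉ sigma M) (R : Subgroup G) (hRr : IsPGroup r R) (hRM : R ≤ M)
    (hRn : M ≤ Subgroup.normalizer (R : Set G)) : IsCyclic R := by
  by_contra hnc
  obtain ⟨hodd, hsimple, hna, hsolv⟩ := id hG
  have hrp : r.Prime := Fact.out
  obtain ⟨B, hBR, hBel, hBc⟩ := exists_elemAb_sq_of_not_cyclic hodd R hRr hnc
  have hBM : B ≤ M := hBR.trans hRM
  -- rank
  have hr2 : PRankLE r 2 M := by
    by_contra h
    exact hr (Cfsg.Agent.Lib.helper8.bg_alpha_sub_sigma hG (bgx_uniq hG) M hM ⟨hrp, h⟩)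
  have hr1 : ¬ PRankLE r 1 M := by
    intro h
    have h1 := Cfsg.Agent.Lib.helper8.bg_elemAb_subgroupOf M hBel
    have h2 := h (B.subgroupOf M) h1.1 h1.2
    have h3 : Nat.card (B.subgroupOf M) = Nat.card B :=
      Nat.card_congr (Subgroup.subgroupOfEquivOfLe hBM).toEquiv
    rw [h3, hBc] at h2
    have : r ^ 1 < r ^ 2 := Nat.pow_lt_pow_right hrp.one_lt (by norm_num)
    omega
  have hBmax := (Cfsg.Agent.S1408.result hG M hM r hr hr2 hr1).2 B hBM hBel hBc
  -- a prime `q` of `M_σ`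
  have hc1 : Nat.card (sigmaCore M) ≠ 1 := fun h => hne (Subgroup.card_eq_one.mp h)
  obtain ⟨q, hq, hqd⟩ := Nat.exists_prime_and_dvd hc1
  have hqσ : q ∈ sigma M := (Cfsg.Agent.S1350.result hG M hM).1.2.1 q hq hqd
  have hqr : q ≠ r := fun h => hr (h ▸ hqσ)
  obtain ⟨T, hTσ, hTq, hTi, hT1, hNT⟩ := exists_normal_sylow_of_nil hG M hM hnil hqσ
  have hσM : sigmaCore M ≤ M := Subgroup.map_subtype_le _
  -- `R` centralizes `M_σ`
  have hcop : (Nat.card R).Coprime (Nat.card (sigmaCore M)) := by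
    obtain ⟨k, hk⟩ := hRr.exists_card_eq
    rw [hk]
    apply Nat.Coprime.pow_left
    rw [Nat.Prime.coprime_iff_not_dvd hrp]
    intro h
    exact hr ((Cfsg.Agent.S1350.result hG M hM).1.2.1 r hrp h)
  have hRc : R ≤ Subgroup.centralizer (sigmaCore M : Set G) :=
    le_centralizer_of_normal_coprime hRM hσM hRn (le_normalizer_sigmaCore M) hcop
  have hBT : B ≤ Subgroup.centralizer (T : Set G) :=
    (hBR.trans hRc).trans (Subgroup.centralizer_le hTσ)
  have hTB : T ≤ Subgroup.centralizer (B : Set G) := Subgroup.le_centralizer_iff.mp hBT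
  have hqC : q ∣ Nat.card (Subgroup.centralizer (B : Set G)) := by
    have hnt : Nontrivial T := (Subgroup.nontrivial_iff_ne_bot T).mpr hT1
    have : Fact q.Prime := ⟨hq⟩
    obtain ⟨n, hn0, hn⟩ := (hTq.nontrivial_iff_card).mp hnt
    have h1 : q ∣ Nat.card T := by rw [hn]; exact dvd_pow_self q hn0.ne'
    exact h1.trans (Subgroup.card_dvd_of_le hTB)
  have hTmax : T ∈ maxInvSubgroups ⊤ B {q} :=
    mem_maxInv_of_sylow hq hTq hTi (hBM.trans (hNT ▸ le_rfl))
  obtain ⟨S, hBS, hSN, hNS⟩ := h9 r B hBel hBc hBmax q T hq hqr hqC hTmax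
  rw [hNT] at hSN hNS
  have hSM : (S : Subgroup G) ≤ M := by
    refine hSN.trans ?_
    rw [Subgroup.commutator_le]
    intro a ha b hb
    rw [commutatorElement_def]
    exact M.mul_mem (M.mul_mem (M.mul_mem ha hb) (M.inv_mem ha)) (M.inv_mem hb)
  -- `R ≤ S`
  have hRS : R ≤ (S : Subgroup G) := by
    have h1 : IsPGroup r (R ⊔ (S : Subgroup G) : Subgroup G) :=
      IsPGroup.to_sup_of_normal_left' hRr S.2 (hSM.trans hRn)
    exact le_sup_left.trans
      (Cfsg.Agent.Lib.helper8.bg_pgroup_max_of_not_dvd le_sup_right h1 S.not_dvd_index)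
  -- `N_G(R) = M`
  have hNR : Subgroup.normalizer (R : Set G) ≤ M := by
    rcases hM.le_iff.mp hRn with h2 | h2
    · exfalso
      have hn : R.Normal := Subgroup.normalizer_eq_top_iff.mp h2
      rcases hn.eq_bot_or_eq_top with h3 | h3
      · subst h3
        exact hnc inferInstance
      · exact hM.1 (top_le_iff.mp (h3 ▸ hRM))
    · exact h2.le
  have hCS : Subgroup.centralizer ((S : Subgroup G) : Set G) ≤ M :=
    (Subgroup.centralizer_le hRS).trans ((Subgroup.centralizer_le_normalizer _).trans hNR)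
  have hNSM : Subgroup.normalizer ((S : Subgroup G) : Set G) ≤ M := hNS.trans (sup_le hCS le_rfl)
  apply hr
  refine ⟨hrp, ?_, S.subtype hSM, ?_⟩
  · have h1 : r ∣ Nat.card B := by rw [hBc]; exact dvd_pow_self r (by norm_num)
    exact h1.trans (Subgroup.card_dvd_of_le hBM)
  · rw [Sylow.coe_subtype, Subgroup.map_subgroupOf_eq_of_le hSM]
    exact hNSM

end Cfsg.Agent.Lib.helper13
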