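import Mathlib
import Cfsg.Prelude.Def_OddOrderLocal
import Cfsg.Agent.Lib.helper13.BGExc
import Cfsg.Agent.Lib.helper13.BG11a
import Cfsg.Agent.Lib.helper13.BG11b
import Cfsg.Agent.S1451
import Cfsg.Agent.S1405
import Cfsg.Agent.Lib.helper1.Coprime
import Cfsg.Agent.Lib.helper29.Trans

/-!
# B-G section 11: `A` centralizes the normal `r`-subgroups of `M`, `r ∉ σ(M) ∪ {p}` (towards 11.7)
-/

set_option autoImplicit false

namespace Cfsg.Agent.Lib.helper13

open Cfsg
open scoped Pointwise commutatorElement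

/-- two subgroups of the same order of a finite cyclic group are equal -/
theorem cyclic_subgroup_eq_of_card {C : Type*} [Group C] [Finite C] [IsCyclic C]
    (H K : Subgroup C) (h : Nat.card H = Nat.card K) : H = K := by
  classical
  have : Fintype C := Fintype.ofFinite C
  have key : ∀ L : Subgroup C, (L : Set C) = {x : C | x ^ Nat.card L = 1} := by
    intro L
    have hd : 0 < Nat.card L := Nat.card_pos
    apply Set.eq_of_subset_of_ncard_le
    · intro x hx
      have h1 : (⟨x, hx⟩ : L) ^ Nat.card L = 1 := pow_card_eq_one'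
      exact congrArg Subtype.val h1
    · have h1 := IsCyclic.card_pow_eq_one_le (α := C) hd
      have h2 : ({x : C | x ^ Nat.card L = 1} : Set C).ncard =
          (Finset.univ.filter (fun a : C => a ^ Nat.card L = 1)).card := by
        rw [← Set.ncard_coe_finset]
        congr 1
        ext x
        simp
      rw [h2]
      have h3 : (L : Set C).ncard = Nat.card L := (Nat.card_coe_set_eq _).symm
      rw [h3]
      exact h1
    · exact Set.toFinite _
  apply SetLike.coe_injective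
  rw [key H, key K, h]

/-- In a solvable group `H` of odd order with a normal subgroup `K` of order prime to `p` such that
`H ⧸ K` has rank at most 2, a `p`-subgroup normalizes some Sylow `r`-subgroup, for each prime
`r > p`. -/
theorem exists_sylow_normalized_of_rank {H : Type*} [Group H] [Finite H] [Group.IsSolvable H]
    (hodd : Odd (Nat.card H)) (K : Subgroup H) [K.Normal] (hrk : RankLE 2 (H ⧸ K)) (p r : ℕ)
    [Fact p.Prime] [Fact r.Prime] (hpr : p < r) (hpK : ¬ p ∣ Nat.card K) (A : Subgroup H)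
    (hA : IsPGroup p A) : ∃ Q : Sylow r H, A ≤ Subgroup.normalizer (Q : Set H) := by
  have hpp : p.Prime := Fact.out
  have hrr : r.Prime := Fact.out
  have hoddQ : Odd (Nat.card (H ⧸ K)) := by
    have h1 : Nat.card (H ⧸ K) ∣ Nat.card H := by
      rw [← Subgroup.index_eq_card]; exact Subgroup.index_dvd_card K
    exact Odd.of_dvd_nat hodd h1
  obtain ⟨N, hNc, hNH⟩ := (Cfsg.Agent.S1451.result hoddQ (Or.inl hrk)).2.2 p
  obtain ⟨N', hN'⟩ : ∃ N' : Subgroup H, N' = N.comap (QuotientGroup.mk' K) := ⟨_, rfl⟩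
  have hNn : N.Normal := inferInstance
  have hN'n : N'.Normal := by rw [hN']; infer_instance
  have hidx : N'.index = N.index := by
    rw [hN']; exact Subgroup.index_comap_of_surjective N (QuotientGroup.mk'_surjective K)
  have hcard : Nat.card N' = Nat.card K * Nat.card N := by
    have h1 : Nat.card N' * N'.index = Nat.card H := N'.card_mul_index
    have h2 : Nat.card K * K.index = Nat.card H := K.card_mul_index
    have h3 : Nat.card N * N.index = Nat.card (H ⧸ K) := N.card_mul_index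
    have h4 : K.index = Nat.card (H ⧸ K) := Subgroup.index_eq_card K
    have h5 : N.index ≠ 0 := Subgroup.index_ne_zero_of_finite
    have h6 : Nat.card N' * N.index = Nat.card K * Nat.card N * N.index := by
      rw [← hidx, h1, ← h2, h4, ← h3, hidx]; ring
    exact Nat.eq_of_mul_eq_mul_right (Nat.pos_of_ne_zero h5) h6
  have hpN' : ¬ p ∣ Nat.card N' := by
    rw [hcard]
    intro h
    rcases (Nat.Prime.dvd_mul hpp).mp h with h1 | h1
    · exact hpK h1
    · exact (lt_irrefl p) (hNH.1 p hpp h1).2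
  have hrN' : ¬ r ∣ N'.index := by
    rw [hidx]; exact hNH.2 r hrr ⟨hrr, hpr⟩
  have hn : ¬ p ∣ Nat.card (Sylow r H) := by
    obtain ⟨P'⟩ := (inferInstance : Nonempty (Sylow r N'))
    have hfr := Sylow.normalizer_sup_eq_top P'
    have hKq : IsPGroup r ((P' : Subgroup N').map N'.subtype) := P'.2.map _
    have hKi : ¬ r ∣ ((P' : Subgroup N').map N'.subtype).index := by
      rw [Subgroup.index_map_subtype]
      intro h
      rcases (Nat.Prime.dvd_mul hrr).mp h with h1 | h1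
      · exact P'.not_dvd_index h1
      · exact hrN' h1
    rw [Sylow.card_eq_index_normalizer (hKq.toSylow hKi)]
    have hdvd := index_dvd_card_of_sup_eq_top _ N' hfr
    intro hp
    exact hpN' (hp.trans hdvd)
  exact Cfsg.Agent.Lib.helper76.exists_sylow_normalized_of_not_dvd_card p r A hA hn


variable {G : Type*} [Group G] [Finite G]

/-- the B-G 10.9 argument: if `M_σ` is nilpotent and nontrivial, `r ∉ σ(M)`, then `M` cannot contain
both an elementary abelian subgroup of order `r ^ 2` centralizing `M_σ` and a nontrivial `r`-subgroup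
normalized by `M` -/
theorem false_of_elemAb_cent (hG : IsMinSimpleOddOrder G) (h9 : P10_9 G) (M : Subgroup G)
    (hM : IsCoatom M) (hnil : Group.IsNilpotent (sigmaCore M)) (hne : sigmaCore M ≠ ⊥) (r : ℕ)
    [Fact r.Prime] (hr : r ∉ sigma M) (B : Subgroup G) (hBM : B ≤ M)
    (hBel : IsElementaryAbelian r B) (hBc : Nat.card B = r ^ 2)
    (hBσ : B ≤ Subgroup.centralizer (sigmaCore M : Set G)) (R : Subgroup G) (hRr : IsPGroup r R)
    (hRM : R ≤ M) (hRn : M ≤ Subgroup.normalizer (R : Set G)) (hR1 : R ≠ ⊥) : False := by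
  obtain ⟨hodd, hsimple, hna, hsolv⟩ := id hG
  have hrp : r.Prime := Fact.out
  -- rank
  have hr2 : PRankLE r 2 M := by
    by_contra h
    exact hr (Cfsg.Agent.Lib.helper8.bg_alpha_sub_sigma hG (bgx_uniq hG) M hM ⟨hrp, h⟩)
  have hr1 : ¬ PRankLE r 1 M := by
    intro h
    have h1 := Cfsg.Agent.Lib.helper8.bg_elemAb_subgroupOf M hBel
    have h2 := h (B.subgroupOf M) h1.1 h1.2
    have h3 : Nat.card (B.subgroupOf M) = Nat.card B :=
      Nat.card_congr (Subgroup.subgroupOfEquivOfLe hBM).toEquiv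
    rw [h3, hBc] at h2
    have : r ^ 1 < r ^ 2 := Nat.pow_lt_pow_right hrp.one_lt (by norm_num)
    omega
  have hBmax := (Cfsg.Agent.S1408.result hG M hM r hr hr2 hr1).2 B hBM hBel hBc
  -- a prime `q` of `M_σ`
  have hc1 : Nat.card (sigmaCore M) ≠ 1 := fun h => hne (Subgroup.card_eq_one.mp h)
  obtain ⟨q, hq, hqd⟩ := Nat.exists_prime_and_dvd hc1
  have hqσ : q ∈ sigma M := (Cfsg.Agent.S1350.result hG M hM).1.2.1 q hq hqd
  have hqr : q ≠ r := fun h => hr (h ▸ hqσ)
  obtain ⟨T, hTσ, hTq, hTi, hT1, hNT⟩ := exists_normal_sylow_of_nil hG M hM hnil hqσ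
  have hBT : B ≤ Subgroup.centralizer (T : Set G) := hBσ.trans (Subgroup.centralizer_le hTσ)
  have hTB : T ≤ Subgroup.centralizer (B : Set G) := Subgroup.le_centralizer_iff.mp hBT
  have hqC : q ∣ Nat.card (Subgroup.centralizer (B : Set G)) := by
    have hnt : Nontrivial T := (Subgroup.nontrivial_iff_ne_bot T).mpr hT1
    have : Fact q.Prime := ⟨hq⟩
    obtain ⟨n, hn0, hn⟩ := (hTq.nontrivial_iff_card).mp hnt
    have h1 : q ∣ Nat.card T := by rw [hn]; exact dvd_pow_self q hn0.ne'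
    exact h1.trans (Subgroup.card_dvd_of_le hTB)
  have hTmax : T ∈ maxInvSubgroups ⊤ B {q} :=
    mem_maxInv_of_sylow hq hTq hTi (hBM.trans (hNT ▸ le_rfl))
  obtain ⟨S, hBS, hSN, hNS⟩ := h9 r B hBel hBc hBmax q T hq hqr hqC hTmax
  rw [hNT] at hSN hNS
  have hSM : (S : Subgroup G) ≤ M := by
    refine hSN.trans ?_
    rw [Subgroup.commutator_le]
    intro a ha b hb
    rw [commutatorElement_def]
    exact M.mul_mem (M.mul_mem (M.mul_mem ha hb) (M.inv_mem ha)) (M.inv_mem hb)
  -- `R ≤ S`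
  have hRS : R ≤ (S : Subgroup G) := by
    have h1 : IsPGroup r (R ⊔ (S : Subgroup G) : Subgroup G) :=
      IsPGroup.to_sup_of_normal_left' hRr S.2 (hSM.trans hRn)
    exact le_sup_left.trans
      (Cfsg.Agent.Lib.helper8.bg_pgroup_max_of_not_dvd le_sup_right h1 S.not_dvd_index)
  -- `N_G(R) = M`
  have hNR : Subgroup.normalizer (R : Set G) ≤ M := by
    rcases hM.le_iff.mp hRn with h2 | h2
    · exfalso
      have hn : R.Normal := Subgroup.normalizer_eq_top_iff.mp h2
      rcases hn.eq_bot_or_eq_top with h3 | h3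
      · exact hR1 h3
      · exact hM.1 (top_le_iff.mp (h3 ▸ hRM))
    · exact h2.le
  have hCS : Subgroup.centralizer ((S : Subgroup G) : Set G) ≤ M :=
    (Subgroup.centralizer_le hRS).trans ((Subgroup.centralizer_le_normalizer _).trans hNR)
  have hNSM : Subgroup.normalizer ((S : Subgroup G) : Set G) ≤ M := hNS.trans (sup_le hCS le_rfl)
  apply hr
  refine ⟨hrp, ?_, S.subtype hSM, ?_⟩
  · have h1 : r ∣ Nat.card B := by rw [hBc]; exact dvd_pow_self r (by norm_num)
    exact h1.trans (Subgroup.card_dvd_of_le hBM)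
  · rw [Sylow.coe_subtype, Subgroup.map_subgroupOf_eq_of_le hSM]
    exact hNSM

/-- an element of order dividing `p` acting nontrivially on a cyclic `r`-group, `p ≠ r`: then
`p < r` -/
theorem lt_of_not_centralizing {p r : ℕ} [Fact p.Prime] [Fact r.Prime] (hpr : p ≠ r)
    (R : Subgroup G) (hR : IsPGroup r R) (hcyc : IsCyclic R) (a : G)
    (ha : a ∈ Subgroup.normalizer (R : Set G)) (hap : a ^ p = 1)
    (hac : a ∉ Subgroup.centralizer (R : Set G)) : p < r := by
  have hpp : p.Prime := Fact.out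
  have hrr : r.Prime := Fact.out
  obtain ⟨φ, hφ⟩ : ∃ φ : MulAut R, φ = Cfsg.Agent.Lib.helper8.bgConjAut R a ha := ⟨_, rfl⟩
  have h1 : φ ^ p = 1 := by
    ext y
    rw [hφ, Cfsg.Agent.Lib.helper8.bgConjAut_pow, hap]
    simp
  have h2 : φ ≠ 1 := by
    intro h
    apply hac
    rw [Subgroup.mem_centralizer_iff]
    intro y hy
    have h3 : ((φ ⟨y, hy⟩ : R) : G) = y := by rw [h]; rfl
    rw [hφ, Cfsg.Agent.Lib.helper8.bgConjAut_apply] at h3
    have h4 : a * y = a * y * a⁻¹ * a := by group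
    rw [h4, h3]
  have h3 : orderOf φ = p := orderOf_eq_prime h1 h2
  have h4 : p ∣ Nat.card (MulAut R) := h3 ▸ orderOf_dvd_natCard φ
  rw [IsCyclic.card_mulAut] at h4
  obtain ⟨k, hk⟩ := hR.exists_card_eq
  rw [hk] at h4
  rcases Nat.eq_zero_or_pos k with h0 | h0
  · subst h0
    simp at h4
    exact absurd h4 hpp.ne_one
  · rw [Nat.totient_prime_pow hrr h0] at h4
    rcases (Nat.Prime.dvd_mul hpp).mp h4 with h5 | h5
    · exact absurd ((Nat.prime_dvd_prime_iff_eq hpp hrr).mp (hpp.dvd_of_dvd_pow h5)) hpr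
    · have h6 := Nat.le_of_dvd (Nat.sub_pos_of_lt hrr.one_lt) h5
      have := hrr.one_lt
      omega

omit [Finite G] in
/-- two distinct subgroups of order `p` of a group of order `p ^ 2` generate it -/
theorem le_sup_of_card_prime {p : ℕ} (hp : p.Prime) {A A₁ A₂ : Subgroup G} (h1 : A₁ ≤ A)
    (h2 : A₂ ≤ A) (hc1 : Nat.card A₁ = p) (hc2 : Nat.card A₂ = p) (hne : A₁ ≠ A₂)
    (hc : Nat.card A = p ^ 2) : A ≤ A₁ ⊔ A₂ := by
  have hfin : Finite A := Nat.finite_of_card_ne_zero (by rw [hc]; exact pow_ne_zero 2 hp.pos.ne')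
  have hfin' : Finite (A₁ ⊔ A₂ : Subgroup G) :=
    Finite.of_injective (Subgroup.inclusion (sup_le h1 h2)) (Subgroup.inclusion_injective _)
  have hd : Nat.card (A₁ ⊔ A₂ : Subgroup G) ∣ p ^ 2 := hc ▸ Subgroup.card_dvd_of_le (sup_le h1 h2)
  obtain ⟨k, hk2, hk⟩ := (Nat.dvd_prime_pow hp).mp hd
  have hle1 : Nat.card A₁ ≤ Nat.card (A₁ ⊔ A₂ : Subgroup G) :=
    Nat.le_of_dvd Nat.card_pos (Subgroup.card_dvd_of_le le_sup_left)
  have hk1 : 1 ≤ k := by
    rcases Nat.eq_zero_or_pos k with h0 | h0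
    · subst h0
      rw [hk, hc1, pow_zero] at hle1
      have := hp.one_lt
      omega
    · exact h0
  rcases Nat.lt_or_ge k 2 with hlt | hge
  · exfalso
    have hk1' : k = 1 := by omega
    subst hk1'
    rw [pow_one] at hk
    have e1 : A₁ = A₁ ⊔ A₂ :=
      Subgroup.eq_of_le_of_card_ge le_sup_left (by rw [hk, hc1])
    have e2 : A₂ = A₁ ⊔ A₂ :=
      Subgroup.eq_of_le_of_card_ge le_sup_right (by rw [hk, hc2])
    exact hne (e1.trans e2.symm)
  · have hk2' : k = 2 := by omega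
    subst hk2'
    exact (Subgroup.eq_of_le_of_card_ge (sup_le h1 h2) (by rw [hk, hc])).ge


/-- **KEY lemma for B-G 11.7**: `A` centralizes every `r`-subgroup of `M` normalized by `M`, for
`r ∉ σ(M) ∪ {p}`. -/
theorem exc_cent_normal (hG : IsMinSimpleOddOrder G) (h3 : P11_3 G) (h6 : P11_6 G)
    (hF : PFpf G) (h9 : P10_9 G) (h9c : P10_9c G) {M : Subgroup G} {p : ℕ} {A₀ A : Subgroup G}
    (hE : Exc M p A₀ A) (r : ℕ) [Fact r.Prime] (hrp : r ≠ p) (hrσ : r ∉ sigma M)
    (R0 : Subgroup G) (hR0 : IsPGroup r R0) (hR0M : R0 ≤ M)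
    (hR0n : M ≤ Subgroup.normalizer (R0 : Set G)) : A ≤ Subgroup.centralizer (R0 : Set G) := by
  by_contra hnc
  obtain ⟨hodd, hsimple, hna, hsolv⟩ := id hG
  obtain ⟨hnil, hne⟩ := h3 M p A₀ A hE
  have hmax := exc_max hG hE
  have hAp := exc_isPGroup hE
  obtain ⟨hM, hpp, hpσ, hAM, hAel, hAc, hA₀A, hA₀c, hNA₀⟩ := id hE
  have : Fact p.Prime := ⟨hpp⟩
  have hrr : r.Prime := Fact.out
  have hAel' := (Cfsg.Agent.Lib.helper8.bg_elemAb_iff A).mp hAel
  have hR01 : R0 ≠ ⊥ := by
    rintro rfl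
    apply hnc
    intro a _
    rw [Subgroup.mem_centralizer_iff]
    intro y hy
    have hy1 : y = 1 := Subgroup.mem_bot.mp hy
    rw [hy1]; simp
  have hcyc : IsCyclic R0 := bg_cyc hG h9 M hM hnil hne r hrσ R0 hR0 hR0M hR0n
  obtain ⟨a, haA, haC⟩ := SetLike.not_le_iff_exists.mp hnc
  have hpr : p < r := lt_of_not_centralizing (Ne.symm hrp) R0 hR0 hcyc a (hR0n (hAM haA))
    (hAel'.2 a haA) haC
  -- an `A`-invariant Sylow `r`-subgroup `Rs` of `M`
  have hMsolv : Group.IsSolvable M := hsolv M hM.1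
  have h1405 := Cfsg.Agent.S1405.result hG M hM
  have hrk : RankLE 2 (↥M ⧸ piCore (alpha M) M) := h1405.2.2.2.1
  have hpK : ¬ p ∣ Nat.card (piCore (alpha M) M) := by
    intro h
    have h1 : p ∣ Nat.card (alphaCore M) := by
      unfold alphaCore
      rw [Subgroup.card_map_of_injective M.subtype_injective]
      exact h
    exact hpσ (Cfsg.Agent.Lib.helper8.bg_alpha_sub_sigma hG (bgx_uniq hG) M hM
      (h1405.1.2.1 p hpp h1))
  have hoddM : Odd (Nat.card M) := Odd.of_dvd_nat hodd (Subgroup.card_subgroup_dvd_card M)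
  obtain ⟨Q, hQ⟩ := exists_sylow_normalized_of_rank hoddM (piCore (alpha M) M) hrk p r hpr hpK
    (A.subgroupOf M)
    (hAp.comap_of_injective M.subtype M.subtype_injective)
  obtain ⟨Rs, hRs⟩ : ∃ Rs : Subgroup G, Rs = (Q : Subgroup M).map M.subtype := ⟨_, rfl⟩
  have hRsM : Rs ≤ M := by rw [hRs]; exact Subgroup.map_subtype_le _
  have hRsr : IsPGroup r Rs := by rw [hRs]; exact Q.2.map _
  have hARs : A ≤ Subgroup.normalizer (Rs : Set G) := by
    intro a ha
    rw [hRs]
    exact coe_mem_normalizer_map_subtype (Q : Subgroup M) ⟨a, hAM ha⟩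
      (hQ (Subgroup.mem_subgroupOf.mpr ha))
  have hR0Rs : R0 ≤ Rs := by
    have h1 : IsPGroup r (R0 ⊔ Rs : Subgroup G) :=
      IsPGroup.to_sup_of_normal_left' hR0 hRsr (hRsM.trans hR0n)
    have h2 : IsPGroup r ((R0 ⊔ Rs : Subgroup G).subgroupOf M) :=
      h1.comap_of_injective M.subtype M.subtype_injective
    have h3 : (Q : Subgroup M) ≤ (R0 ⊔ Rs : Subgroup G).subgroupOf M := by
      intro x hx
      rw [Subgroup.mem_subgroupOf]
      apply (le_sup_right : Rs ≤ R0 ⊔ Rs)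
      rw [hRs]
      exact ⟨x, hx, rfl⟩
    have h4 := Q.is_maximal' h2 h3
    intro x hx
    have h5 : (⟨x, hR0M hx⟩ : M) ∈ (R0 ⊔ Rs : Subgroup G).subgroupOf M := by
      rw [Subgroup.mem_subgroupOf]; exact (le_sup_left : R0 ≤ R0 ⊔ Rs) hx
    rw [h4] at h5
    rw [hRs]
    exact ⟨⟨x, hR0M hx⟩, h5, rfl⟩
  have hNR0 : Subgroup.normalizer (R0 : Set G) ≤ M := by
    rcases hM.le_iff.mp hR0n with h2 | h2
    · exfalso
      have hn : R0.Normal := Subgroup.normalizer_eq_top_iff.mp h2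
      rcases hn.eq_bot_or_eq_top with h3 | h3
      · exact hR01 h3
      · exact hM.1 (top_le_iff.mp (h3 ▸ hR0M))
    · exact h2.le
  have hrM : r ∣ Nat.card M := by
    have hnt : Nontrivial R0 := (Subgroup.nontrivial_iff_ne_bot R0).mpr hR01
    obtain ⟨n, hn0, hn⟩ := (hR0.nontrivial_iff_card).mp hnt
    have h1 : r ∣ Nat.card R0 := by rw [hn]; exact dvd_pow_self r hn0.ne'
    exact h1.trans (Subgroup.card_dvd_of_le hR0M)
  have hRsnc : ¬ IsCyclic Rs := by
    intro hc
    apply hrσ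
    refine ⟨hrr, hrM, Q, ?_⟩
    rw [← hRs]
    refine le_trans ?_ hNR0
    intro g hg
    apply mem_normalizer_of_forall_conj_mem
    have hconj : R0.map (MulAut.conj g).toMonoidHom ≤ Rs := by
      rintro _ ⟨x, hx, rfl⟩
      exact (Subgroup.mem_normalizer_iff.mp hg x).mp (hR0Rs hx)
    have hcard : Nat.card ((R0.map (MulAut.conj g).toMonoidHom).subgroupOf Rs) =
        Nat.card (R0.subgroupOf Rs) := by
      rw [Nat.card_congr (Subgroup.subgroupOfEquivOfLe hconj).toEquiv,
        Nat.card_congr (Subgroup.subgroupOfEquivOfLe hR0Rs).toEquiv,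
        Subgroup.card_map_of_injective (MulAut.conj g).injective]
    have heq := cyclic_subgroup_eq_of_card _ _ hcard
    intro x hx
    have h1 : (⟨g * x * g⁻¹, hconj ⟨x, hx, rfl⟩⟩ : Rs) ∈
        (R0.map (MulAut.conj g).toMonoidHom).subgroupOf Rs := by
      rw [Subgroup.mem_subgroupOf]; exact ⟨x, hx, rfl⟩
    rw [heq, Subgroup.mem_subgroupOf] at h1
    exact h1
  obtain ⟨B, hBRs, hBel, hBc⟩ := exists_elemAb_sq_of_not_cyclic hodd Rs hRsr hRsnc
  have hBM : B ≤ M := hBRs.trans hRsM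
  have hr2 : PRankLE r 2 M := by
    by_contra h
    exact hrσ (Cfsg.Agent.Lib.helper8.bg_alpha_sub_sigma hG (bgx_uniq hG) M hM ⟨hrr, h⟩)
  have hr1 : ¬ PRankLE r 1 M := by
    intro h
    have h1 := Cfsg.Agent.Lib.helper8.bg_elemAb_subgroupOf M hBel
    have h2 := h (B.subgroupOf M) h1.1 h1.2
    have h3 : Nat.card (B.subgroupOf M) = Nat.card B :=
      Nat.card_congr (Subgroup.subgroupOfEquivOfLe hBM).toEquiv
    rw [h3, hBc] at h2
    have : r ^ 1 < r ^ 2 := Nat.pow_lt_pow_right hrr.one_lt (by norm_num)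
    omega
  have hBmax := (Cfsg.Agent.S1408.result hG M hM r hrσ hr2 hr1).2 B hBM hBel hBc
  -- `r` divides `|C_G(A)|`
  have hrC : r ∣ Nat.card (Subgroup.centralizer (A : Set G)) := by
    by_contra hndvd
    have hfix : Rs ⊓ Subgroup.centralizer (A : Set G) = ⊥ := by
      by_contra hne1
      have hnt : Nontrivial (Rs ⊓ Subgroup.centralizer (A : Set G) : Subgroup G) :=
        (Subgroup.nontrivial_iff_ne_bot _).mpr hne1
      obtain ⟨n, hn0, hn⟩ := ((hRsr.to_le inf_le_left).nontrivial_iff_card).mp hnt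
      have h1 : r ∣ Nat.card (Rs ⊓ Subgroup.centralizer (A : Set G) : Subgroup G) := by
        rw [hn]; exact dvd_pow_self r hn0.ne'
      exact hndvd (h1.trans (Subgroup.card_dvd_of_le inf_le_right))
    obtain ⟨-, -, A₁, A₂, hA₁A, hA₂A, hA₁c, hA₂c, hA12, hfp1, hfp2⟩ := h6 M p A₀ A hE
    have hAsup : A ≤ A₁ ⊔ A₂ := le_sup_of_card_prime hpp hA₁A hA₂A hA₁c hA₂c hA12 hAc
    have hcop : ∀ X : Subgroup G, X ≤ A → ∀ Y : Subgroup G, Y ≤ Rs →
        (Nat.card X).Coprime (Nat.card Y) := by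
      intro X hX Y hY
      obtain ⟨k, hk⟩ := (hAp.to_le hX).exists_card_eq
      obtain ⟨l, hl⟩ := (hRsr.to_le hY).exists_card_eq
      rw [hk, hl]
      exact Nat.Coprime.pow _ _ ((Nat.coprime_primes hpp hrr).mpr (Ne.symm hrp))
    have hsolvX : ∀ X : Subgroup G, X ≤ A → Group.IsSolvable X := by
      intro X hX
      have := (hAp.to_le hX).isNilpotent
      infer_instance
    have e1 := Cfsg.Agent.Lib.helper1.commutator_sup_fixed A₁ Rs (hA₁A.trans hARs)
      (hcop A₁ hA₁A Rs le_rfl) (Or.inl (hsolvX A₁ hA₁A))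
    obtain ⟨R₁, hR₁⟩ : ∃ R₁ : Subgroup G, R₁ = Rs ⊓ Subgroup.centralizer (A₁ : Set G) :=
      ⟨_, rfl⟩
    rw [← hR₁] at e1
    have hR₁Rs : R₁ ≤ Rs := by rw [hR₁]; exact inf_le_left
    have hA₂R₁ : A₂ ≤ Subgroup.normalizer (R₁ : Set G) := by
      rw [hR₁]
      refine le_normalizer_inf (hA₂A.trans hARs) ?_
      refine le_trans ?_ Subgroup.le_normalizer
      intro b hb
      rw [Subgroup.mem_centralizer_iff]
      intro c hc
      exact hAel'.1 c (hA₁A hc) b (hA₂A hb)
    have e2 := Cfsg.Agent.Lib.helper1.commutator_sup_fixed A₂ R₁ hA₂R₁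
      (hcop A₂ hA₂A R₁ hR₁Rs) (Or.inl (hsolvX A₂ hA₂A))
    have hcc : R₁ ⊓ Subgroup.centralizer (A₂ : Set G) = ⊥ := by
      rw [eq_bot_iff, ← hfix]
      intro x hx
      rw [hR₁] at hx
      refine ⟨hx.1.1, ?_⟩
      have h1 : A₁ ⊔ A₂ ≤ Subgroup.centralizer ({x} : Set G) := by
        refine sup_le ?_ ?_
        · intro b hb
          rw [Subgroup.mem_centralizer_iff]
          intro y hy
          rw [Set.mem_singleton_iff] at hy
          subst hy
          exact (Subgroup.mem_centralizer_iff.mp hx.1.2 b hb).symm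
        · intro b hb
          rw [Subgroup.mem_centralizer_iff]
          intro y hy
          rw [Set.mem_singleton_iff] at hy
          subst hy
          exact (Subgroup.mem_centralizer_iff.mp hx.2 b hb).symm
      apply Subgroup.mem_centralizer_iff.mpr
      intro b hb
      exact (Subgroup.mem_centralizer_iff.mp (h1 (hAsup hb)) x (Set.mem_singleton x)).symm
    rw [hcc, sup_bot_eq] at e2
    have f1 := hF M hM hnil p A₁ hpp hpσ (hA₁A.trans hAM) hA₁c hfp1 r Rs hrr hrp hrσ hRsr hRsM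
      (hA₁A.trans hARs)
    have f2 := hF M hM hnil p A₂ hpp hpσ (hA₂A.trans hAM) hA₂c hfp2 r R₁ hrr hrp hrσ
      (hRsr.to_le hR₁Rs) (hR₁Rs.trans hRsM) hA₂R₁
    rw [e2] at f2
    have hRsσ : Rs ≤ Subgroup.centralizer (sigmaCore M : Set G) := by
      rw [← e1]; exact sup_le f1 f2
    exact false_of_elemAb_cent hG h9 M hM hnil hne r hrσ B hBM hBel hBc (hBRs.trans hRsσ)
      R0 hR0 hR0M hR0n hR01
  -- a maximal `A`-invariant `r`-subgroup `R2 ≥ Rs` of `G`
  have hRsinv : Rs ∈ invSubgroups ⊤ A {r} :=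
    (Cfsg.Agent.Lib.helper29.mem_invSubgroups_top hrr).mpr ⟨hRsr, hARs⟩
  obtain ⟨R2, hR2, hRsR2⟩ := Cfsg.Agent.Lib.helper29.exists_maxInv_ge hRsinv
  have hfin := h9c p A hAel hAc hmax r R2 B hrp hrC hR2 hBel hBc hBmax (hBRs.trans hRsR2)
  exact hnc (hfin.trans (Subgroup.centralizer_le (hR0Rs.trans hRsR2)))

end Cfsg.Agent.Lib.helper13
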