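import Mathlib
import Cfsg.Prelude.Def_OddOrderLocal
import Cfsg.Agent.Lib.helper13.BGExc
import Cfsg.Agent.Lib.helper13.BG11a
import Cfsg.Agent.Lib.helper13.BG11b
import Cfsg.Agent.Lib.helper13.BG11c

/-!
# B-G section 11: Lemma 11.7 (`M_σ A` is normal in `M`), reduction to `exc_cent_normal`
-/

set_option autoImplicit false

namespace Cfsg.Agent.Lib.helper13

open Cfsg
open scoped Pointwise commutatorElement

variable {G : Type*} [Group G] [Finite G]

/-- the normal Sylow `r`-subgroup of a nilpotent subgroup `Y`: it is normalized by `N_G(Y)` and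
contains every `r`-subgroup of `Y` -/
theorem exists_normal_sylow_of_nilpotent (Y : Subgroup G) (hY : Group.IsNilpotent Y) (r : ℕ)
    [Fact r.Prime] :
    ∃ R0 : Subgroup G, R0 ≤ Y ∧ IsPGroup r R0 ∧
      Subgroup.normalizer (Y : Set G) ≤ Subgroup.normalizer (R0 : Set G) ∧
      ∀ X : Subgroup G, X ≤ Y → IsPGroup r X → X ≤ R0 := by
  obtain ⟨P'⟩ := (inferInstance : Nonempty (Sylow r Y))
  have hP'n : (P' : Subgroup Y).Normal := inferInstance
  have hP'c : (P' : Subgroup Y).Characteristic := Sylow.characteristic_of_normal P' hP'n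
  refine ⟨(P' : Subgroup Y).map Y.subtype, Subgroup.map_subtype_le _, P'.2.map _,
    Cfsg.Agent.Lib.helper27.normalizer_le_normalizer_map_subtype_of_characteristic Y
      (P' : Subgroup Y), ?_⟩
  intro X hXY hX
  have h1 : IsPGroup r (X.subgroupOf Y) := hX.comap_of_injective Y.subtype Y.subtype_injective
  have h2 : X.subgroupOf Y ≤ (P' : Subgroup Y) :=
    Cfsg.Agent.Lib.helper8.bg_le_of_not_dvd_index (P' : Subgroup Y) P'.not_dvd_index _ h1
  intro x hx
  exact ⟨⟨x, hXY hx⟩, h2 (Subgroup.mem_subgroupOf.mpr hx), rfl⟩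

/-- `M' ∩ C_G(M_σ)` is nilpotent -/
theorem isNilpotent_comm_inf_cent (hG : IsMinSimpleOddOrder G) (M : Subgroup G) (hM : IsCoatom M) :
    Group.IsNilpotent (⁅M, M⁆ ⊓ Subgroup.centralizer (sigmaCore M : Set G) : Subgroup G) := by
  obtain ⟨Y, hY⟩ : ∃ Y : Subgroup G, Y = ⁅M, M⁆ ⊓ Subgroup.centralizer (sigmaCore M : Set G) :=
    ⟨_, rfl⟩
  rw [← hY]
  have hYM : Y ≤ M := by rw [hY]; exact inf_le_left.trans (Subgroup.commutator_le_self M)
  have h1405 := Cfsg.Agent.S1405.result hG M hM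
  have hnil := h1405.2.2.2.2
  have hmem : ∀ y : Y, ((QuotientGroup.mk' (piCore (alpha M) ↥M)).comp (Subgroup.inclusion hYM)) y ∈
      (commutator ↥M).map (QuotientGroup.mk' (piCore (alpha M) ↥M)) := by
    intro y
    have h1 : (y : G) ∈ ⁅M, M⁆ := (hY.le y.2).1
    rw [← Subgroup.map_subtype_commutator] at h1
    obtain ⟨y', hy', hyy⟩ := h1
    refine ⟨y', hy', ?_⟩
    have : y' = Subgroup.inclusion hYM y := Subtype.ext hyy
    rw [this]
    rfl
  obtain ⟨f, hf⟩ : ∃ f : ↥Y →* ↥((commutator ↥M).map (QuotientGroup.mk' (piCore (alpha M) ↥M))),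
      f = MonoidHom.codRestrict
        ((QuotientGroup.mk' (piCore (alpha M) ↥M)).comp (Subgroup.inclusion hYM)) _ hmem :=
    ⟨_, rfl⟩
  have hker : f.ker ≤ Subgroup.center ↥Y := by
    intro y hy
    rw [MonoidHom.mem_ker] at hy
    have h1 : (QuotientGroup.mk' (piCore (alpha M) ↥M)) (Subgroup.inclusion hYM y) = 1 := by
      have := congrArg Subtype.val hy
      rw [hf] at this
      exact this
    rw [QuotientGroup.mk'_apply, QuotientGroup.eq_one_iff] at h1
    have h2 : (y : G) ∈ alphaCore M := ⟨Subgroup.inclusion hYM y, h1, rfl⟩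
    have h3 : (y : G) ∈ sigmaCore M := h1405.2.2.1 h2
    rw [Subgroup.mem_center_iff]
    intro z
    have hz : (z : G) ∈ Subgroup.centralizer (sigmaCore M : Set G) := (hY.le z.2).2
    apply Subtype.ext
    rw [Subgroup.coe_mul, Subgroup.coe_mul]
    exact (Subgroup.mem_centralizer_iff.mp hz (y : G) h3).symm
  exact Subgroup.isNilpotent_of_ker_le_center f hker


/-- the normalizer of `H` normalizes the centralizer of `H` -/
theorem normalizer_le_normalizer_centralizer (H : Subgroup G) :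
    Subgroup.normalizer (H : Set G) ≤
      Subgroup.normalizer ((Subgroup.centralizer (H : Set G) : Subgroup G) : Set G) := by
  intro m hm
  apply mem_normalizer_of_forall_conj_mem
  intro x hx
  rw [Subgroup.mem_centralizer_iff] at hx ⊢
  intro h hh
  have h1 : m⁻¹ * h * m ∈ H := by
    have := (Subgroup.mem_normalizer_iff.mp hm (m⁻¹ * h * m)).mpr (by
      have e : m * (m⁻¹ * h * m) * m⁻¹ = h := by group
      rw [e]; exact hh)
    exact this
  have h2 := hx _ h1
  calc h * (m * x * m⁻¹) = m * (m⁻¹ * h * m * x) * m⁻¹ := by group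
    _ = m * (x * (m⁻¹ * h * m)) * m⁻¹ := by rw [h2]
    _ = m * x * m⁻¹ * h := by group

omit [Finite G] in
/-- `M` normalizes its commutator subgroup -/
theorem le_normalizer_commutator_self (M : Subgroup G) :
    M ≤ Subgroup.normalizer ((⁅M, M⁆ : Subgroup G) : Set G) := by
  have h1 := Cfsg.Agent.Lib.helper27.normalizer_le_normalizer_map_subtype_of_characteristic M
    (commutator ↥M)
  rw [Subgroup.map_subtype_commutator] at h1
  exact Subgroup.le_normalizer.trans h1

/-- **Lemma INV** (step of B-G 11.7): `A` centralizes every `A`-invariant `r`-subgroup of `M`, for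
`r ∉ σ(M) ∪ {p}`. -/
theorem exc_cent_inv (hG : IsMinSimpleOddOrder G) (h3 : P11_3 G) (h6 : P11_6 G)
    (hF : PFpf G) (h9 : P10_9 G) (h9c : P10_9c G) {M : Subgroup G} {p : ℕ} {A₀ A : Subgroup G}
    (hE : Exc M p A₀ A) (r : ℕ) [Fact r.Prime] (hrp : r ≠ p) (hrσ : r ∉ sigma M)
    (R : Subgroup G) (hR : IsPGroup r R) (hRM : R ≤ M)
    (hAR : A ≤ Subgroup.normalizer (R : Set G)) : R ≤ Subgroup.centralizer (A : Set G) := by
  obtain ⟨hodd, hsimple, hna, hsolv⟩ := id hG
  obtain ⟨hnil, hne⟩ := h3 M p A₀ A hE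
  have hAp := exc_isPGroup hE
  obtain ⟨hM, hpp, hpσ, hAM, hAel, hAc, hA₀A, hA₀c, hNA₀⟩ := id hE
  have : Fact p.Prime := ⟨hpp⟩
  have hrr : r.Prime := Fact.out
  have hAel' := (Cfsg.Agent.Lib.helper8.bg_elemAb_iff A).mp hAel
  obtain ⟨-, -, A₁, A₂, hA₁A, hA₂A, hA₁c, hA₂c, hA12, hfp1, hfp2⟩ := h6 M p A₀ A hE
  have hAsup : A ≤ A₁ ⊔ A₂ := le_sup_of_card_prime hpp hA₁A hA₂A hA₁c hA₂c hA12 hAc
  have hcop : ∀ X : Subgroup G, X ≤ A → ∀ Y : Subgroup G, Y ≤ R →
      (Nat.card X).Coprime (Nat.card Y) := by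
    intro X hX Y hY
    obtain ⟨k, hk⟩ := (hAp.to_le hX).exists_card_eq
    obtain ⟨l, hl⟩ := (hR.to_le hY).exists_card_eq
    rw [hk, hl]
    exact Nat.Coprime.pow _ _ ((Nat.coprime_primes hpp hrr).mpr (Ne.symm hrp))
  have hsolvX : ∀ X : Subgroup G, X ≤ A → Group.IsSolvable X := by
    intro X hX
    have := (hAp.to_le hX).isNilpotent
    infer_instance
  -- `C := C_R(M_σ)` is centralized by `A`
  obtain ⟨C, hC⟩ : ∃ C : Subgroup G, C = R ⊓ Subgroup.centralizer (sigmaCore M : Set G) :=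
    ⟨_, rfl⟩
  have hCR : C ≤ R := by rw [hC]; exact inf_le_left
  have hMcent : M ≤ Subgroup.normalizer
      ((Subgroup.centralizer (sigmaCore M : Set G) : Subgroup G) : Set G) :=
    (le_normalizer_sigmaCore M).trans (normalizer_le_normalizer_centralizer _)
  have hAC : A ≤ Subgroup.normalizer (C : Set G) := by
    rw [hC]; exact le_normalizer_inf hAR (hAM.trans hMcent)
  have hCA : C ≤ Subgroup.centralizer (A : Set G) := by
    obtain ⟨Y, hY⟩ : ∃ Y : Subgroup G,
        Y = ⁅M, M⁆ ⊓ Subgroup.centralizer (sigmaCore M : Set G) := ⟨_, rfl⟩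
    have hYnil : Group.IsNilpotent Y := by rw [hY]; exact isNilpotent_comm_inf_cent hG M hM
    have hYM : Y ≤ M := by rw [hY]; exact inf_le_left.trans (Subgroup.commutator_le_self M)
    have hMY : M ≤ Subgroup.normalizer (Y : Set G) := by
      rw [hY]; exact le_normalizer_inf (le_normalizer_commutator_self M) hMcent
    obtain ⟨R0, hR0Y, hR0r, hNR0, hR0max⟩ := exists_normal_sylow_of_nilpotent Y hYnil r
    have hAR0 : A ≤ Subgroup.centralizer (R0 : Set G) :=
      exc_cent_normal hG h3 h6 hF h9 h9c hE r hrp hrσ R0 hR0r (hR0Y.trans hYM) (hMY.trans hNR0)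
    have hcomm : ⁅C, A⁆ ≤ C := Cfsg.Agent.Lib.helper1.commutator_le_of_le_normalizer hAC
    have h1 : ⁅C, A⁆ ≤ Y := by
      rw [hY]
      refine le_inf (Subgroup.commutator_mono (hCR.trans hRM) hAM) (hcomm.trans ?_)
      rw [hC]; exact inf_le_right
    have h2 : ⁅C, A⁆ ≤ R0 := hR0max _ h1 (hR.to_le (hcomm.trans hCR))
    have h3' : ⁅C, A⁆ ≤ Subgroup.centralizer (A : Set G) :=
      h2.trans (Subgroup.le_centralizer_iff.mp hAR0)
    have e := Cfsg.Agent.Lib.helper1.commutator_sup_fixed A C hAC (hcop A le_rfl C hCR)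
      (Or.inl (hsolvX A le_rfl))
    rw [← e]
    exact sup_le h3' inf_le_right
  -- decomposition of `R`
  have e1 := Cfsg.Agent.Lib.helper1.commutator_sup_fixed A₁ R (hA₁A.trans hAR)
    (hcop A₁ hA₁A R le_rfl) (Or.inl (hsolvX A₁ hA₁A))
  obtain ⟨R₁, hR₁⟩ : ∃ R₁ : Subgroup G, R₁ = R ⊓ Subgroup.centralizer (A₁ : Set G) :=
    ⟨_, rfl⟩
  rw [← hR₁] at e1
  have hR₁R : R₁ ≤ R := by rw [hR₁]; exact inf_le_left
  have hA₂R₁ : A₂ ≤ Subgroup.normalizer (R₁ : Set G) := by
    rw [hR₁]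
    refine le_normalizer_inf (hA₂A.trans hAR) ?_
    refine le_trans ?_ Subgroup.le_normalizer
    intro b hb
    rw [Subgroup.mem_centralizer_iff]
    intro c hc
    exact hAel'.1 c (hA₁A hc) b (hA₂A hb)
  have e2 := Cfsg.Agent.Lib.helper1.commutator_sup_fixed A₂ R₁ hA₂R₁
    (hcop A₂ hA₂A R₁ hR₁R) (Or.inl (hsolvX A₂ hA₂A))
  have f1 := hF M hM hnil p A₁ hpp hpσ (hA₁A.trans hAM) hA₁c hfp1 r R hrr hrp hrσ hR hRM
    (hA₁A.trans hAR)
  have f2 := hF M hM hnil p A₂ hpp hpσ (hA₂A.trans hAM) hA₂c hfp2 r R₁ hrr hrp hrσ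
    (hR.to_le hR₁R) (hR₁R.trans hRM) hA₂R₁
  have g1 : ⁅R, A₁⁆ ≤ C := by
    rw [hC]
    exact le_inf (Cfsg.Agent.Lib.helper1.commutator_le_of_le_normalizer (hA₁A.trans hAR)) f1
  have g2 : ⁅R₁, A₂⁆ ≤ C := by
    rw [hC]
    exact le_inf ((Cfsg.Agent.Lib.helper1.commutator_le_of_le_normalizer hA₂R₁).trans hR₁R) f2
  have g3 : R₁ ⊓ Subgroup.centralizer (A₂ : Set G) ≤ Subgroup.centralizer (A : Set G) := by
    intro x hx
    have hx1 : x ∈ Subgroup.centralizer (A₁ : Set G) := (hR₁.le hx.1).2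
    have h1 : A₁ ⊔ A₂ ≤ Subgroup.centralizer ({x} : Set G) := by
      refine sup_le ?_ ?_
      · intro b hb
        rw [Subgroup.mem_centralizer_iff]
        intro y hy
        rw [Set.mem_singleton_iff] at hy
        subst hy
        exact (Subgroup.mem_centralizer_iff.mp hx1 b hb).symm
      · intro b hb
        rw [Subgroup.mem_centralizer_iff]
        intro y hy
        rw [Set.mem_singleton_iff] at hy
        subst hy
        exact (Subgroup.mem_centralizer_iff.mp hx.2 b hb).symm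
    apply Subgroup.mem_centralizer_iff.mpr
    intro b hb
    exact (Subgroup.mem_centralizer_iff.mp (h1 (hAsup hb)) x (Set.mem_singleton x)).symm
  rw [← e1]
  refine sup_le (g1.trans hCA) ?_
  rw [← e2]
  exact sup_le (g2.trans hCA) g3

end Cfsg.Agent.Lib.helper13
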