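import Mathlib
import Cfsg.Prelude.Def_Transfer
import Cfsg.Prelude.Def_Local
import Cfsg.Prelude.Def_PLocal
import Cfsg.Agent.Lib.helper13.Count
import Cfsg.Agent.Lib.helper37.CoprimeGen
import Cfsg.Agent.Lib.helper54.AxB
import Cfsg.Agent.Lib.helper40.Cores

/-!
helper13: best offenders in a faithful group `H` on an elementary abelian `p`-group `V` with
`C_H(O_{p'}(H)) ≤ O_{p'}(H)` (KS 9.3).  Core lemma `exists_hyperplane_best_offender`: every
nontrivial best offender `A ≤ H` has a hyperplane `A₀` which is again a best offender with the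
same value `|A₀||C_V(A₀)| = |A||C_V(A)|`.
-/

set_option autoImplicit false
open Cfsg

namespace Cfsg.Agent.Lib.helper13

open scoped commutatorElement

section BestOff

variable {G : Type*} [Group G]

/-- Facts about the image of `O_{p'}(H)` in `G`. -/
theorem pPrimeCore_map_facts [Finite G] (p : ℕ) (H : Subgroup G) :
    (Cfsg.pPrimeCore p ↥H).map H.subtype ≤ H ∧
    H ≤ Subgroup.normalizer (((Cfsg.pPrimeCore p ↥H).map H.subtype : Subgroup G) : Set G) ∧
    (Nat.card ↥((Cfsg.pPrimeCore p ↥H).map H.subtype)).Coprime p := by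
  refine ⟨Subgroup.map_subtype_le _, ?_, ?_⟩
  · intro h hh
    rw [Subgroup.mem_normalizer_iff]
    intro k
    have hn := Cfsg.Agent.Lib.helper40.pPrimeCore_normal' p ↥H
    constructor
    · rintro ⟨k', hk', rfl⟩
      exact ⟨⟨h, hh⟩ * k' * ⟨h, hh⟩⁻¹, hn.conj_mem k' hk' ⟨h, hh⟩, rfl⟩
    · rintro ⟨k', hk', hk'eq⟩
      refine ⟨⟨h, hh⟩⁻¹ * k' * ⟨h, hh⟩, ?_, ?_⟩
      · have h1 := hn.conj_mem k' hk' ⟨h, hh⟩⁻¹
        rw [inv_inv] at h1
        exact h1
      · show h⁻¹ * (k' : G) * h = k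
        have h2 : (k' : G) = h * k * h⁻¹ := hk'eq
        rw [h2]; group
  · rw [Subgroup.card_subtype]
    exact Cfsg.Agent.Lib.helper40.pPrimeCore_card_coprime p ↥H

theorem inf_centralizer_bot (V : Subgroup G) :
    V ⊓ Subgroup.centralizer (((⊥ : Subgroup G) : Subgroup G) : Set G) = V := by
  apply inf_eq_left.mpr
  intro v _
  rw [Subgroup.mem_centralizer_iff]
  intro h hh
  have h1 : h = 1 := Subgroup.mem_bot.mp hh
  rw [h1, one_mul, mul_one]

/-- **Hyperplane lemma for best offenders.** -/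
theorem exists_hyperplane_best_offender [Finite G] {p : ℕ} [Fact p.Prime]
    (V H : Subgroup G) (hV : Cfsg.IsElementaryAbelian p V)
    (hHV : H ≤ Subgroup.normalizer (V : Set G)) (hf : H ⊓ Subgroup.centralizer (V : Set G) = ⊥)
    (hS1 : Subgroup.centralizer (Cfsg.pPrimeCore p ↥H : Set ↥H) ≤ Cfsg.pPrimeCore p ↥H)
    (A : Subgroup G) (hAH : A ≤ H) (hA : Cfsg.IsBestOffenderOn p V A) (hA1 : A ≠ ⊥) :
    ∃ A₀ : Subgroup G, A₀ ≤ A ∧ Nat.card A = p * Nat.card A₀ ∧ Cfsg.IsBestOffenderOn p V A₀ ∧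
      Nat.card A₀ * Nat.card ↥(V ⊓ Subgroup.centralizer (A₀ : Set G)) =
        Nat.card A * Nat.card ↥(V ⊓ Subgroup.centralizer (A : Set G)) := by
  have hpp := (Fact.out : p.Prime)
  obtain ⟨hbest, hAA, hAp'⟩ := hA
  -- `A` is elementary abelian
  have hAc : ∀ a ∈ A, ∀ b ∈ A, a * b = b * a := by
    intro a ha b hb
    have h1 : ⁅a, b⁆ ∈ H ⊓ Subgroup.centralizer (V : Set G) := by
      refine ⟨?_, hAA (Subgroup.commutator_mem_commutator ha hb)⟩
      rw [commutatorElement_def]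
      exact H.mul_mem (H.mul_mem (H.mul_mem (hAH ha) (hAH hb)) (H.inv_mem (hAH ha)))
        (H.inv_mem (hAH hb))
    rw [hf, Subgroup.mem_bot, commutatorElement_eq_one_iff_mul_comm] at h1
    exact h1
  have hAp : ∀ a ∈ A, a ^ p = 1 := by
    intro a ha
    have h1 : a ^ p ∈ H ⊓ Subgroup.centralizer (V : Set G) := ⟨H.pow_mem (hAH ha) p, hAp' a ha⟩
    rwa [hf, Subgroup.mem_bot] at h1
  have hApg : IsPGroup p A := by
    rintro ⟨a, ha⟩
    refine ⟨1, Subtype.ext ?_⟩
    simp only [pow_one, Subgroup.coe_pow, Subgroup.coe_one]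
    exact hAp a ha
  have hVp : IsPGroup p V := by
    rintro ⟨v, hv⟩
    refine ⟨1, Subtype.ext ?_⟩
    simp only [pow_one, Subgroup.coe_pow, Subgroup.coe_one]
    exact hV.2 v hv
  -- the `p'`-core
  obtain ⟨hKH, hKn, hKcop⟩ := pPrimeCore_map_facts p H
  have hKcent : ∀ h ∈ H, (∀ k ∈ (Cfsg.pPrimeCore p ↥H).map H.subtype, h * k = k * h) →
      h ∈ (Cfsg.pPrimeCore p ↥H).map H.subtype := by
    intro h hh hcomm
    have h1 : (⟨h, hh⟩ : H) ∈ Subgroup.centralizer (Cfsg.pPrimeCore p ↥H : Set ↥H) := by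
      rw [Subgroup.mem_centralizer_iff]
      intro k hk
      apply Subtype.ext
      exact (hcomm k ⟨k, hk, rfl⟩).symm
    exact ⟨⟨h, hh⟩, hS1 h1, rfl⟩
  generalize (Cfsg.pPrimeCore p ↥H).map H.subtype = K at hKH hKn hKcop hKcent
  have hgen := Cfsg.Agent.Lib.helper37.coprime_gen_hyperplane p A K hAc hAp
    ((Nat.Prime.coprime_iff_not_dvd hpp).mp hKcop.symm) (hAH.trans hKn)
  have hex : ∃ B : Subgroup G, B ≤ A ∧ B.relIndex A ≤ p ∧ ∃ x ∈ K,
      x ∈ Subgroup.centralizer (B : Set G) ∧ ∃ a ∈ A, a * x ≠ x * a := by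
    by_contra hcon
    push Not at hcon
    have h1 : K ≤ Subgroup.centralizer (A : Set G) := by
      refine hgen.le.trans ?_
      apply iSup_le
      rintro ⟨B, hBA, hBp⟩
      rintro x ⟨hxK, hxB⟩
      rw [Subgroup.mem_centralizer_iff]
      intro a ha
      exact hcon B hBA hBp x hxK hxB a ha
    have h2 : A ≤ K := by
      intro a ha
      apply hKcent a (hAH ha)
      intro k hk
      have h3 := h1 hk
      rw [Subgroup.mem_centralizer_iff] at h3
      exact h3 a ha
    apply hA1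
    rw [eq_bot_iff]
    intro a ha
    rw [Subgroup.mem_bot]
    have h3 : (orderOf a).Coprime p := by
      have h4 : orderOf a ∣ Nat.card K := by
        have h5 := orderOf_dvd_natCard (⟨a, h2 ha⟩ : K)
        rwa [Subgroup.orderOf_mk] at h5
      exact Nat.Coprime.coprime_dvd_left h4 hKcop
    exact Cfsg.Agent.Lib.helper40.eq_one_of_pow_eq_one_of_coprime (k := 1)
      (by rw [pow_one]; exact hAp a ha) h3
  obtain ⟨A₀, hA₀A, hA₀idx, x, hxK, hxA₀, a, haA, hax⟩ := hex
  have hne : A₀ ≠ A := by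
    rintro rfl
    rw [Subgroup.mem_centralizer_iff] at hxA₀
    exact hax (hxA₀ a haA)
  have hidx : A₀.relIndex A = p := by
    obtain ⟨k, hk⟩ : ∃ k : ℕ, A₀.relIndex A = p ^ k := hApg.index (A₀.subgroupOf A)
    have hk0 : k ≠ 0 := by
      rintro rfl
      rw [pow_zero] at hk
      exact hne (le_antisymm hA₀A (Subgroup.relIndex_eq_one.mp hk))
    have h1 : p ^ k ≤ p ^ 1 := by rw [← hk, pow_one]; exact hA₀idx
    have hk1 : k ≤ 1 := (Nat.pow_le_pow_iff_right hpp.one_lt).mp h1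
    have hk2 : k = 1 := by omega
    rw [hk, hk2, pow_one]
  have hcardA : Nat.card A = p * Nat.card A₀ := by
    rw [← hidx]; exact (relIndex_mul_card_of_le hA₀A).symm
  -- the commutator `y = [a, x]`
  have hxH : x ∈ H := hKH hxK
  have haH : a ∈ H := hAH haA
  obtain ⟨y, hy⟩ : ∃ y : G, y = a * x * a⁻¹ * x⁻¹ := ⟨_, rfl⟩
  have hyK : y ∈ K := by
    have h1 : a * x * a⁻¹ ∈ K := (Subgroup.mem_normalizer_iff.mp (hKn haH) x).mp hxK
    rw [hy]
    exact K.mul_mem h1 (K.inv_mem hxK)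
  have hyH : y ∈ H := hKH hyK
  have hy1 : y ≠ 1 := by
    intro h
    apply hax
    rw [hy] at h
    calc a * x = (a * x * a⁻¹ * x⁻¹) * (x * a) := by group
      _ = x * a := by rw [h, one_mul]
  have hxc : ∀ b ∈ A₀, Commute b x := by
    intro b hb
    rw [Subgroup.mem_centralizer_iff] at hxA₀
    exact hxA₀ b hb
  have hyA₀ : ∀ b ∈ A₀, y * b = b * y := by
    intro b hb
    have h1 : Commute b a := hAc b (hA₀A hb) a haA
    have h2 : Commute b x := hxc b hb
    have h3 : Commute b (a * x * a⁻¹ * x⁻¹) :=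
      ((h1.mul_right h2).mul_right h1.inv_right).mul_right h2.inv_right
    rw [hy]
    exact h3.eq.symm
  have hyord : (orderOf y).Coprime p := by
    have h1 : orderOf y ∣ Nat.card K := by
      have h2 := orderOf_dvd_natCard (⟨y, hyK⟩ : K)
      rwa [Subgroup.orderOf_mk] at h2
    exact Nat.Coprime.coprime_dvd_left h1 hKcop
  -- the centralizers
  have hCle : V ⊓ Subgroup.centralizer (A : Set G) ≤ V ⊓ Subgroup.centralizer (A₀ : Set G) :=
    inf_le_inf_left _ (Subgroup.centralizer_le hA₀A)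
  have hCne : V ⊓ Subgroup.centralizer (A : Set G) ≠ V ⊓ Subgroup.centralizer (A₀ : Set G) := by
    intro heq
    have hcen : ∀ v ∈ V, (∀ b ∈ A₀, b * v = v * b) → y * v = v * y := by
      intro v hv hvb
      have hxinvV : x⁻¹ ∈ Subgroup.normalizer (V : Set G) := Subgroup.inv_mem _ (hHV hxH)
      have hw : x⁻¹ * v * x ∈ V ⊓ Subgroup.centralizer (A₀ : Set G) := by
        refine Subgroup.mem_inf.mpr ⟨?_, ?_⟩
        · have h1 := (Subgroup.mem_normalizer_iff.mp hxinvV v).mp hv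
          rw [inv_inv] at h1
          exact h1
        · rw [Subgroup.mem_centralizer_iff]
          intro b hb
          have h2 : Commute b x := hxc b hb
          have h3 : Commute b v := hvb b hb
          exact ((h2.inv_right.mul_right h3).mul_right h2).eq
      have hv0 : v ∈ V ⊓ Subgroup.centralizer (A₀ : Set G) := by
        refine Subgroup.mem_inf.mpr ⟨hv, ?_⟩
        rw [Subgroup.mem_centralizer_iff]
        exact hvb
      rw [← heq] at hw hv0
      have h1 : Commute a (x⁻¹ * v * x) := by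
        have h2 := (Subgroup.mem_inf.mp hw).2
        rw [Subgroup.mem_centralizer_iff] at h2
        exact h2 a haA
      have h2 : Commute a v := by
        have h3 := (Subgroup.mem_inf.mp hv0).2
        rw [Subgroup.mem_centralizer_iff] at h3
        exact h3 a haA
      calc y * v = a * x * (a⁻¹ * (x⁻¹ * v * x)) * x⁻¹ := by rw [hy]; group
        _ = a * x * ((x⁻¹ * v * x) * a⁻¹) * x⁻¹ := by rw [h1.inv_left.eq]
        _ = (a * v) * x * a⁻¹ * x⁻¹ := by group
        _ = (v * a) * x * a⁻¹ * x⁻¹ := by rw [h2.eq]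
        _ = v * y := by rw [hy]; group
    have hall := Cfsg.Agent.Lib.helper54.thompson_AxB A₀ (hApg.to_le hA₀A) y hyord hyA₀ V hVp
      (hA₀A.trans (hAH.trans hHV)) (hHV hyH) hcen
    have h1 : y ∈ H ⊓ Subgroup.centralizer (V : Set G) := by
      refine Subgroup.mem_inf.mpr ⟨hyH, ?_⟩
      rw [Subgroup.mem_centralizer_iff]
      intro v hv
      exact (hall v hv).symm
    rw [hf, Subgroup.mem_bot] at h1
    exact hy1 h1
  -- cardinalities
  have hle := hbest A₀ hA₀A
  have hdiv : p * Nat.card ↥(V ⊓ Subgroup.centralizer (A : Set G)) ≤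
      Nat.card ↥(V ⊓ Subgroup.centralizer (A₀ : Set G)) := by
    have h1 := relIndex_mul_card_of_le hCle
    obtain ⟨k, hk⟩ : ∃ k : ℕ, (V ⊓ Subgroup.centralizer (A : Set G)).relIndex
        (V ⊓ Subgroup.centralizer (A₀ : Set G)) = p ^ k :=
      (hVp.to_le inf_le_left).index _
    have hk0 : k ≠ 0 := by
      rintro rfl
      rw [pow_zero] at hk
      exact hCne (le_antisymm hCle (Subgroup.relIndex_eq_one.mp hk))
    rw [← h1, hk]
    apply Nat.mul_le_mul_right
    calc p = p ^ 1 := (pow_one p).symm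
      _ ≤ p ^ k := Nat.pow_le_pow_right hpp.pos (by omega)
  have heq : Nat.card A₀ * Nat.card ↥(V ⊓ Subgroup.centralizer (A₀ : Set G)) =
      Nat.card A * Nat.card ↥(V ⊓ Subgroup.centralizer (A : Set G)) := by
    apply le_antisymm hle
    rw [hcardA]
    calc p * Nat.card A₀ * Nat.card ↥(V ⊓ Subgroup.centralizer (A : Set G))
        = Nat.card A₀ * (p * Nat.card ↥(V ⊓ Subgroup.centralizer (A : Set G))) := by ring
      _ ≤ Nat.card A₀ * Nat.card ↥(V ⊓ Subgroup.centralizer (A₀ : Set G)) :=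
        Nat.mul_le_mul_left _ hdiv
  refine ⟨A₀, hA₀A, hcardA, ⟨?_, (Subgroup.commutator_mono hA₀A hA₀A).trans hAA,
    fun b hb => hAp' b (hA₀A hb)⟩, heq⟩
  intro B hB
  rw [heq]
  exact hbest B (hB.trans hA₀A)

/-- For an abelian subgroup `V` normalized by `a`: `|[V, ⟨a⟩]| · |C_V(a)| = |V|`. -/
theorem card_commutator_zpowers_mul [Finite G] (V : Subgroup G)
    (hVc : ∀ u ∈ V, ∀ v ∈ V, u * v = v * u) (a : G)
    (ha : a ∈ Subgroup.normalizer (V : Set G)) :
    Nat.card ↥(⁅V, Subgroup.zpowers a⁆) *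
      Nat.card ↥(V ⊓ Subgroup.centralizer ((Subgroup.zpowers a : Subgroup G) : Set G)) =
        Nat.card V := by
  have hconj : ∀ v ∈ V, a * v * a⁻¹ ∈ V := fun v hv => (Subgroup.mem_normalizer_iff.mp ha v).mp hv
  let f : ↥V →* ↥V :=
    { toFun := fun v => ⟨(v : G) * (a * (v : G)⁻¹ * a⁻¹), V.mul_mem v.2 (hconj _ (V.inv_mem v.2))⟩
      map_one' := by
        apply Subtype.ext
        simp
      map_mul' := by
        intro v w
        apply Subtype.ext
        show (v : G) * (w : G) * (a * ((v : G) * (w : G))⁻¹ * a⁻¹) =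
          (v : G) * (a * (v : G)⁻¹ * a⁻¹) * ((w : G) * (a * (w : G)⁻¹ * a⁻¹))
        have h1 := hVc _ (hconj _ (V.inv_mem v.2)) _
          (V.mul_mem w.2 (hconj _ (V.inv_mem w.2)))
        calc (v : G) * (w : G) * (a * ((v : G) * (w : G))⁻¹ * a⁻¹)
            = (v : G) * (((w : G) * (a * (w : G)⁻¹ * a⁻¹)) * (a * (v : G)⁻¹ * a⁻¹)) := by group
          _ = (v : G) * ((a * (v : G)⁻¹ * a⁻¹) * ((w : G) * (a * (w : G)⁻¹ * a⁻¹))) := by rw [h1]
          _ = (v : G) * (a * (v : G)⁻¹ * a⁻¹) * ((w : G) * (a * (w : G)⁻¹ * a⁻¹)) := by group }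
  have hf : ∀ v : ↥V, ((f v : ↥V) : G) = (v : G) * (a * (v : G)⁻¹ * a⁻¹) := fun v => rfl
  have hker : f.ker = (V ⊓ Subgroup.centralizer ((Subgroup.zpowers a : Subgroup G) : Set G)).subgroupOf V := by
    ext v
    rw [MonoidHom.mem_ker, Subgroup.mem_subgroupOf, Subgroup.mem_inf, Subgroup.mem_centralizer_iff]
    constructor
    · intro h
      have h1 : (v : G) * (a * (v : G)⁻¹ * a⁻¹) = 1 := by
        rw [← hf, h]; rfl
      have h2 : Commute a (v : G) := by
        show a * (v : G) = (v : G) * a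
        calc a * (v : G) = ((v : G) * (a * (v : G)⁻¹ * a⁻¹))⁻¹ * (v : G) * a := by group
          _ = (v : G) * a := by rw [h1]; group
      refine ⟨v.2, ?_⟩
      intro z hz
      obtain ⟨k, rfl⟩ := Subgroup.mem_zpowers_iff.mp hz
      exact (h2.zpow_left k).eq
    · rintro ⟨-, h⟩
      have h2 : a * (v : G) = (v : G) * a := h a (Subgroup.mem_zpowers a)
      apply Subtype.ext
      rw [hf]
      show (v : G) * (a * (v : G)⁻¹ * a⁻¹) = 1
      calc (v : G) * (a * (v : G)⁻¹ * a⁻¹) = (v : G) * a * ((v : G)⁻¹ * a⁻¹) := by group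
        _ = a * (v : G) * ((v : G)⁻¹ * a⁻¹) := by rw [h2]
        _ = 1 := by group
  have hrange : f.range.map V.subtype = ⁅V, Subgroup.zpowers a⁆ := by
    apply le_antisymm
    · rintro _ ⟨_, ⟨v, rfl⟩, rfl⟩
      have h1 : ⁅(v : G), a⁆ ∈ ⁅V, Subgroup.zpowers a⁆ :=
        Subgroup.commutator_mem_commutator v.2 (Subgroup.mem_zpowers a)
      have h2 : V.subtype (f v) = ⁅(v : G), a⁆ := by
        show (v : G) * (a * (v : G)⁻¹ * a⁻¹) = _
        rw [commutatorElement_def]; group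
      rw [h2]; exact h1
    · rw [Subgroup.commutator_le]
      have hconjR : ∀ g ∈ f.range.map V.subtype, a * g * a⁻¹ ∈ f.range.map V.subtype := by
        rintro _ ⟨_, ⟨w, rfl⟩, rfl⟩
        refine ⟨f ⟨a * w * a⁻¹, hconj _ w.2⟩, ⟨_, rfl⟩, ?_⟩
        show a * (w : G) * a⁻¹ * (a * (a * (w : G) * a⁻¹)⁻¹ * a⁻¹) =
          a * ((w : G) * (a * (w : G)⁻¹ * a⁻¹)) * a⁻¹
        group
      have hpow : ∀ n : ℕ, ∀ v ∈ V, ⁅v, a ^ n⁆ ∈ f.range.map V.subtype := by
        intro n
        induction n with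
        | zero =>
          intro v _
          rw [pow_zero, commutatorElement_one_right]
          exact Subgroup.one_mem _
        | succ n ih =>
          intro v hv
          have h1 : ⁅v, a ^ (n + 1)⁆ = (v * (a * v⁻¹ * a⁻¹)) * (a * ⁅v, a ^ n⁆ * a⁻¹) := by
            rw [commutatorElement_def, commutatorElement_def, pow_succ']
            group
          rw [h1]
          refine Subgroup.mul_mem _ ?_ (hconjR _ (ih v hv))
          exact ⟨f ⟨v, hv⟩, ⟨_, rfl⟩, rfl⟩
      intro v hv z hz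
      obtain ⟨n, rfl⟩ := (mem_powers_iff_mem_zpowers.mpr hz)
      exact hpow n v hv
  have h1 : Nat.card ↥(⁅V, Subgroup.zpowers a⁆) = Nat.card f.range := by
    rw [← hrange, Subgroup.card_subtype]
  have h2 : Nat.card ↥(V ⊓ Subgroup.centralizer ((Subgroup.zpowers a : Subgroup G) : Set G)) =
      Nat.card f.ker := by
    rw [hker, card_subgroupOf_eq_card_inf, inf_of_le_left inf_le_left]
  rw [h1, h2, ← Nat.card_congr (QuotientGroup.quotientKerEquivRange f).toEquiv, mul_comm]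
  exact (Subgroup.card_eq_card_quotient_mul_card_subgroup f.ker).symm ▸ (mul_comm _ _)

end BestOff

end Cfsg.Agent.Lib.helper13
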