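import Mathlib
import Cfsg.Agent.Lib.helper13.Basic
import Cfsg.Agent.Lib.helper13.Count

set_option autoImplicit false

namespace Cfsg.Agent.Lib.helper13

open scoped commutatorElement

variable {G : Type*} [Group G]

/-- `C_A(V)` is normalized by `A` when `A` normalizes `V`. -/
theorem le_normalizer_inf_centralizer {V A : Subgroup G}
    (hAV : A ≤ Subgroup.normalizer (V : Set G)) :
    A ≤ Subgroup.normalizer ((A ⊓ Subgroup.centralizer (V : Set G) : Subgroup G) : Set G) := by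
  rw [Subgroup.le_normalizer_iff]
  intro a ha c hc
  obtain ⟨hcA, hcV⟩ := Subgroup.mem_inf.mp hc
  refine Subgroup.mem_inf.mpr ⟨A.mul_mem (A.mul_mem ha hcA) (A.inv_mem ha), ?_⟩
  rw [Subgroup.mem_centralizer_iff] at hcV ⊢
  intro v hv
  have h1 : a⁻¹ * v * a⁻¹⁻¹ ∈ V :=
    (Subgroup.le_normalizer_iff.mp hAV) a⁻¹ (A.inv_mem ha) v hv
  have h2 := hcV _ h1
  calc v * (a * c * a⁻¹) = a * ((a⁻¹ * v * a⁻¹⁻¹) * c) * a⁻¹ := by group
    _ = a * (c * (a⁻¹ * v * a⁻¹⁻¹)) * a⁻¹ := by rw [h2]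
    _ = a * c * a⁻¹ * v := by group

/-- If `A` acts on the `p`-group `V` as a `p`-group, then `A = C_A(V) S` for a `p`-subgroup `S`. -/
theorem exists_pSubgroup_sup_centralizer [Finite G] {p : ℕ} [Fact p.Prime] (V A : Subgroup G)
    (hAV : A ≤ Subgroup.normalizer (V : Set G))
    (hp : ∀ a ∈ A, ∃ k : ℕ, a ^ (p ^ k) ∈ Subgroup.centralizer (V : Set G)) :
    ∃ S : Subgroup G, S ≤ A ∧ IsPGroup p S ∧
      ∀ a ∈ A, ∃ s ∈ S, ∃ c ∈ A ⊓ Subgroup.centralizer (V : Set G), a = s * c := by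
  classical
  set C : Subgroup G := A ⊓ Subgroup.centralizer (V : Set G) with hC
  have hAC : A ≤ Subgroup.normalizer (C : Set G) := le_normalizer_inf_centralizer hAV
  have hCn : (C.subgroupOf A).Normal := Subgroup.normal_subgroupOf_of_le_normalizer hAC
  -- the quotient is a p-group
  have hQ : IsPGroup p (↥A ⧸ C.subgroupOf A) := by
    intro q
    induction q using QuotientGroup.induction_on with
    | H a =>
      obtain ⟨k, hk⟩ := hp a a.2
      refine ⟨k, ?_⟩
      rw [← QuotientGroup.mk_pow, QuotientGroup.eq_one_iff, Subgroup.mem_subgroupOf]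
      rw [Subgroup.coe_pow]
      exact Subgroup.mem_inf.mpr ⟨A.pow_mem a.2 _, hk⟩
  obtain ⟨n, hn⟩ := IsPGroup.iff_card.mp hQ
  have hCrel : C.relIndex A = p ^ n := by
    rw [Subgroup.relIndex, Subgroup.index]; exact hn
  obtain ⟨S⟩ : Nonempty (Sylow p ↥A) := Sylow.nonempty
  set S' : Subgroup G := (S : Subgroup ↥A).map A.subtype with hS'
  have hS'A : S' ≤ A := Subgroup.map_subtype_le _
  have hS'p : IsPGroup p S' := S.isPGroup'.map _
  have hS'rel : S'.relIndex A = (S : Subgroup ↥A).index := by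
    rw [Subgroup.relIndex, Subgroup.subgroupOf, hS',
      Subgroup.comap_map_eq_self_of_injective A.subtype_injective]
  have hnd : ¬ p ∣ S'.relIndex A := by
    rw [hS'rel]; exact S.not_dvd_index
  have hT1 : (C ⊔ S').relIndex A ∣ C.relIndex A := Subgroup.relIndex_dvd_of_le_left A le_sup_left
  have hT2 : (C ⊔ S').relIndex A ∣ S'.relIndex A := Subgroup.relIndex_dvd_of_le_left A le_sup_right
  have hT : (C ⊔ S').relIndex A = 1 := by
    rw [hCrel] at hT1
    obtain ⟨j, _, hj⟩ := (Nat.dvd_prime_pow (Fact.out : p.Prime)).mp hT1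
    rcases Nat.eq_zero_or_pos j with h0 | hpos
    · rw [hj, h0, pow_zero]
    · exfalso
      apply hnd
      have : p ∣ (C ⊔ S').relIndex A := by
        rw [hj]; exact dvd_pow_self p (by omega)
      exact this.trans hT2
  have hle : A ≤ C ⊔ S' := Subgroup.relIndex_eq_one.mp hT
  refine ⟨S', hS'A, hS'p, ?_⟩
  intro a ha
  have ha' : a ∈ S' ⊔ C := by rw [sup_comm]; exact hle ha
  rw [← SetLike.mem_coe, Subgroup.coe_mul_of_left_le_normalizer_right S' C (hS'A.trans hAC)] at ha'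
  obtain ⟨s, hs, c, hc, rfl⟩ := ha'
  exact ⟨s, hs, c, hc, rfl⟩

/-- Nilpotent action: if `A` acts on the `p`-group `V` as a `p`-group and `X ≤ V` satisfies
`X ≤ [X, A]`, then `X = 1`. -/
theorem eq_bot_of_le_commutator [Finite G] {p : ℕ} [Fact p.Prime] (V A X : Subgroup G)
    (hV : IsPGroup p V) (hAV : A ≤ Subgroup.normalizer (V : Set G))
    (hp : ∀ a ∈ A, ∃ k : ℕ, a ^ (p ^ k) ∈ Subgroup.centralizer (V : Set G))
    (hXV : X ≤ V) (hX : X ≤ ⁅X, A⁆) : X = ⊥ := by
  obtain ⟨S, hSA, hSp, hS⟩ := exists_pSubgroup_sup_centralizer V A hAV hp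
  have hnorm := Subgroup.le_normalizer_iff.mp hAV
  -- ⁅X, A⁆ ≤ ⁅X, S⁆
  have h1 : ⁅X, A⁆ ≤ ⁅X, S⁆ := by
    rw [Subgroup.commutator_le]
    intro x hx a ha
    obtain ⟨s, hs, c, hc, rfl⟩ := hS a ha
    have hcV := (Subgroup.mem_inf.mp hc).2
    rw [Subgroup.mem_centralizer_iff] at hcV
    have hxc : x⁻¹ * c = c * x⁻¹ := hcV _ (V.inv_mem (hXV hx))
    have : ⁅x, s * c⁆ = ⁅x, s⁆ := by
      simp only [commutatorElement_def]
      calc x * (s * c) * x⁻¹ * (s * c)⁻¹ = x * s * (c * x⁻¹) * c⁻¹ * s⁻¹ := by group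
        _ = x * s * (x⁻¹ * c) * c⁻¹ * s⁻¹ := by rw [hxc]
        _ = x * s * x⁻¹ * s⁻¹ := by group
    rw [this]
    exact Subgroup.commutator_mem_commutator hx hs
  have hXS : X ≤ ⁅X, S⁆ := hX.trans h1
  -- P = V ⊔ S is a p-group
  have hSV : S ≤ Subgroup.normalizer (V : Set G) := hSA.trans hAV
  have hPp : IsPGroup p (V ⊔ S : Subgroup G) := hV.to_sup_of_normal_left' hSp hSV
  have hnil : Group.IsNilpotent (V ⊔ S : Subgroup G) := hPp.isNilpotent
  obtain ⟨n, hn⟩ := (Subgroup.isNilpotent_iff_lowerCentralSeries (V ⊔ S)).mp hnil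
  have key : ∀ k : ℕ, X ≤ (V ⊔ S).lowerCentralSeries k := by
    intro k
    induction k with
    | zero =>
      rw [Subgroup.lowerCentralSeries_zero]
      exact hXV.trans le_sup_left
    | succ k ih =>
      rw [Subgroup.lowerCentralSeries_succ]
      exact hXS.trans (Subgroup.commutator_mono ih le_sup_right)
  have := key n
  rw [hn] at this
  exact le_bot_iff.mp this

/-- `[V, A] ≤ V` when `A` normalizes `V`. -/
theorem commutator_le_of_le_normalizer {V A : Subgroup G}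
    (hAV : A ≤ Subgroup.normalizer (V : Set G)) : ⁅V, A⁆ ≤ V := by
  rw [Subgroup.commutator_le]
  intro v hv a ha
  have h1 : a * v⁻¹ * a⁻¹ ∈ V := (Subgroup.le_normalizer_iff.mp hAV) a ha v⁻¹ (V.inv_mem hv)
  have : ⁅v, a⁆ = v * (a * v⁻¹ * a⁻¹) := by simp only [commutatorElement_def]; group
  rw [this]
  exact V.mul_mem hv h1

end Cfsg.Agent.Lib.helper13
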