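import Mathlib
import Cfsg.Prelude.Def_OddOrderLocal
import Cfsg.Agent.Lib.helper69.BGKappaB
import Cfsg.Agent.Lib.helper60.BGTI
import Cfsg.Agent.Lib.helper71.BGRegNA
import Cfsg.Agent.S1350

/-!
# The set `Ẑ = K K* ∖ (K ∪ K*)` (Bender–Glauberman 14.2(c)-type consequences)

The frozen statements S1430 and S1431 (first two clauses) are taken as hypotheses
(`helper69.H1430`, `H1431`).  Main results: `bgz_1370`, `bgz_1371`.
-/

set_option autoImplicit false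

namespace Cfsg.Agent.Lib.helper13

open Cfsg Subgroup

variable {G : Type*} [Group G]

/-- The first two clauses of the frozen statement S1431 as a hypothesis. -/
def H1431 (G : Type*) [Group G] : Prop :=
  ∀ (M : Subgroup G), IsCoatom M → ∀ (K : Subgroup G), IsPiHallOf (kappa M) K M → K ≠ ⊥ →
    (∀ g : G, g ∉ M →
        (sigmaCore M ⊓ centralizer (K : Set G)) ⊓ M.map (MulAut.conj g).toMonoidHom = ⊥) ∧
      (∀ g ∈ M, g ∉ K ⊔ (sigmaCore M ⊓ centralizer (K : Set G)) →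
        K ⊓ K.map (MulAut.conj g).toMonoidHom = ⊥)

theorem bgz_pow_card [Finite G] {A : Subgroup G} {a : G} (ha : a ∈ A) : a ^ Nat.card A = 1 :=
  orderOf_dvd_iff_pow_eq_one.mp (Subgroup.orderOf_dvd_natCard A ha)

/-- The power trick: for commuting elements of coprime subgroups, the second factor is a fixed
power of the product. -/
theorem bgz_exists_pow [Finite G] {A B : Subgroup G} (hcop : (Nat.card A).Coprime (Nat.card B)) :
    ∃ e : ℤ, ∀ a ∈ A, ∀ b ∈ B, a * b = b * a → (a * b) ^ e = b := by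
  refine ⟨(Nat.card A : ℤ) * Nat.gcdA (Nat.card A) (Nat.card B), fun a ha b hb hab => ?_⟩
  have h1 : ((Nat.gcd (Nat.card A) (Nat.card B) : ℕ) : ℤ) =
      (Nat.card A : ℤ) * Nat.gcdA (Nat.card A) (Nat.card B) +
        (Nat.card B : ℤ) * Nat.gcdB (Nat.card A) (Nat.card B) := Nat.gcd_eq_gcd_ab _ _
  have hc : Nat.gcd (Nat.card A) (Nat.card B) = 1 := hcop
  rw [hc] at h1
  have ha1 : a ^ ((Nat.card A : ℤ) * Nat.gcdA (Nat.card A) (Nat.card B)) = 1 := by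
    rw [zpow_mul, zpow_natCast, bgz_pow_card ha, one_zpow]
  have hb0 : b ^ ((Nat.card B : ℤ) * Nat.gcdB (Nat.card A) (Nat.card B)) = 1 := by
    rw [zpow_mul, zpow_natCast, bgz_pow_card hb, one_zpow]
  have hb1 : b ^ ((Nat.card A : ℤ) * Nat.gcdA (Nat.card A) (Nat.card B)) = b := by
    have h3 : b ^ (((1 : ℕ) : ℤ)) = b := by simp
    rw [h1, zpow_add, hb0, mul_one] at h3
    exact h3
  have hcm : Commute a b := hab
  rw [hcm.mul_zpow, ha1, hb1, one_mul]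

theorem bgz_le_normalizer_of_comm {K Ks : Subgroup G}
    (hcomm : ∀ a ∈ K, ∀ b ∈ Ks, a * b = b * a) : Ks ≤ normalizer (K : Set G) := by
  intro b hb
  rw [mem_normalizer_iff]
  intro h
  constructor
  · intro hh
    have e : b * h * b⁻¹ = h := by rw [← hcomm h hh b hb]; group
    rw [e]; exact hh
  · intro hh
    have e := hcomm _ hh b hb
    have e2 : b * h = b * (b * h * b⁻¹) := by rw [← e]; group
    have e3 : h = b * h * b⁻¹ := mul_left_cancel e2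
    rw [e3]; exact hh

theorem bgz_decomp {K Ks : Subgroup G}
    (hcomm : ∀ a ∈ K, ∀ b ∈ Ks, a * b = b * a) {x : G} (hx : x ∈ K ⊔ Ks) :
    ∃ a ∈ K, ∃ b ∈ Ks, x = a * b :=
  Cfsg.Agent.Lib.helper29.exists_mul_of_mem_sup_of_le_normalizer
    (bgz_le_normalizer_of_comm hcomm) hx

/-- The core of the TI property of `Ẑ`. -/
theorem bgz_conj_mem [Finite G] {M K Ks : Subgroup G}
    (hcomm : ∀ a ∈ K, ∀ b ∈ Ks, a * b = b * a)
    (hcop : (Nat.card K).Coprime (Nat.card Ks))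
    (h1 : ∀ g : G, g ∉ M → Ks ⊓ M.map (MulAut.conj g).toMonoidHom = ⊥)
    (h2 : ∀ g ∈ M, g ∉ K ⊔ Ks → K ⊓ K.map (MulAut.conj g).toMonoidHom = ⊥)
    (hKsM : Ks ≤ M)
    {z g : G} (hz : z ∈ (↑(K ⊔ Ks) : Set G) \ ((K : Set G) ∪ ↑Ks))
    (hgz : g * z * g⁻¹ ∈ (↑(K ⊔ Ks) : Set G) \ ((K : Set G) ∪ ↑Ks)) : g ∈ K ⊔ Ks := by
  obtain ⟨a, ha, b, hb, rfl⟩ := bgz_decomp hcomm hz.1
  obtain ⟨a', ha', b', hb', hab'⟩ := bgz_decomp hcomm hgz.1
  have hab := hcomm a ha b hb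
  have hab2 := hcomm a' ha' b' hb'
  have hb1 : b ≠ 1 := by
    rintro rfl
    exact hz.2 (Or.inl (by simpa using ha))
  have ha1 : a ≠ 1 := by
    rintro rfl
    exact hz.2 (Or.inr (by simpa using hb))
  obtain ⟨e, he⟩ := bgz_exists_pow hcop
  obtain ⟨e', he'⟩ := bgz_exists_pow hcop.symm
  have hgb : g * b * g⁻¹ = b' := by
    rw [← he a ha b hb hab, ← conj_zpow, hab', he a' ha' b' hb' hab2]
  have hga : g * a * g⁻¹ = a' := by
    have e1 : (b * a) ^ e' = a := he' b hb a ha hab.symm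
    have e2 : (b' * a') ^ e' = a' := he' b' hb' a' ha' hab2.symm
    rw [← e1, ← conj_zpow, ← hab, hab', hab2, e2]
  have hgM : g ∈ M := by
    by_contra hgM
    have h3 : b' ∈ Ks ⊓ M.map (MulAut.conj g).toMonoidHom :=
      ⟨hb', ⟨b, hKsM hb, by simpa using hgb⟩⟩
    rw [h1 g hgM, mem_bot] at h3
    apply hb1
    rw [h3] at hgb
    have := congrArg (fun t => g⁻¹ * t * g) hgb
    simpa [mul_assoc] using this
  by_contra hgZ
  have h3 : a' ∈ K ⊓ K.map (MulAut.conj g).toMonoidHom :=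
    ⟨ha', ⟨a, ha, by simpa using hga⟩⟩
  rw [h2 g hgM hgZ, mem_bot] at h3
  apply ha1
  rw [h3] at hga
  have := congrArg (fun t => g⁻¹ * t * g) hga
  simpa [mul_assoc] using this

theorem bgz_le_normalizer {K Ks : Subgroup G}
    (hcomm : ∀ a ∈ K, ∀ b ∈ Ks, a * b = b * a) :
    K ⊔ Ks ≤ normalizer ((↑(K ⊔ Ks) : Set G) \ ((K : Set G) ∪ ↑Ks)) := by
  have hN1 : K ⊔ Ks ≤ normalizer (K : Set G) :=
    sup_le le_normalizer (bgz_le_normalizer_of_comm hcomm)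
  have hN2 : K ⊔ Ks ≤ normalizer (Ks : Set G) :=
    sup_le (bgz_le_normalizer_of_comm fun a ha b hb => (hcomm b hb a ha).symm) le_normalizer
  intro g hg
  rw [mem_set_normalizer_iff]
  intro x
  have e1 := mem_normalizer_iff.mp (hN1 hg) x
  have e2 := mem_normalizer_iff.mp (hN2 hg) x
  have e3 := mem_normalizer_iff.mp ((le_normalizer (H := K ⊔ Ks)) hg) x
  simp only [Set.mem_sdiff, Set.mem_union, SetLike.mem_coe]
  rw [e1, e2, e3]

theorem bgz_mul_mem {K Ks : Subgroup G} (hdisj : K ⊓ Ks = ⊥) {k c : G} (hk : k ∈ K)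
    (hk1 : k ≠ 1) (hc : c ∈ Ks) (hc1 : c ≠ 1) :
    k * c ∈ (↑(K ⊔ Ks) : Set G) \ ((K : Set G) ∪ ↑Ks) := by
  refine ⟨(K ⊔ Ks).mul_mem (le_sup_left (a := K) hk) (le_sup_right (b := Ks) hc), ?_⟩
  rintro (h | h)
  · have h3 : c ∈ K ⊓ Ks := ⟨by
      have : c = k⁻¹ * (k * c) := by group
      rw [this]; exact K.mul_mem (K.inv_mem hk) h, hc⟩
    rw [hdisj, mem_bot] at h3
    exact hc1 h3
  · have h3 : k ∈ K ⊓ Ks := ⟨hk, by
      have : k = (k * c) * c⁻¹ := by group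
      rw [this]; exact Ks.mul_mem h (Ks.inv_mem hc)⟩
    rw [hdisj, mem_bot] at h3
    exact hk1 h3

/-- Basic facts about `K` and `K* = M_σ ∩ C(K)`. -/
theorem bgz_setup [Finite G] (hG : IsMinSimpleOddOrder G)
    (h30 : Cfsg.Agent.Lib.helper69.H1430 G)
    (M : Subgroup G) (hM : IsCoatom M) (K : Subgroup G) (hK : IsPiHallOf (kappa M) K M)
    (hK1 : K ≠ ⊥) :
    (∀ a ∈ K, ∀ b ∈ sigmaCore M ⊓ centralizer (K : Set G), a * b = b * a) ∧
    (Nat.card K).Coprime (Nat.card ↥(sigmaCore M ⊓ centralizer (K : Set G))) ∧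
    sigmaCore M ⊓ centralizer (K : Set G) ≠ ⊥ ∧ K ⊓ sigmaCore M = ⊥ := by
  have hHall := (Cfsg.Agent.S1350.result hG M hM).1
  refine ⟨fun a ha b hb => (mem_centralizer_iff.mp hb.2 a ha), ?_, ?_,
    Cfsg.Agent.Lib.helper69.bgk_K_inf_sigmaCore hK hHall⟩
  · exact Nat.coprime_of_dvd fun k hk h1 h2 => (hK.2.1 k hk h1).2.2.1
      (hHall.2.1 k hk (h2.trans (Subgroup.card_dvd_of_le inf_le_left)))
  · obtain ⟨x, hxK, hx1⟩ := Cfsg.Agent.Lib.helper29.exists_ne_one_of_ne_bot hK1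
    have hox : orderOf x ≠ 1 := by rwa [Ne, orderOf_eq_one_iff]
    obtain ⟨p, hp, hpx⟩ := Nat.exists_prime_and_dvd hox
    have hpK : p ∣ Nat.card K := hpx.trans (Subgroup.orderOf_dvd_natCard K hxK)
    have hpκ : p ∈ kappa M := hK.2.1 p hp hpK
    have hoy : orderOf (x ^ (orderOf x / p)) = p :=
      orderOf_pow_orderOf_div (orderOf_pos x).ne' hpx
    have hyK : x ^ (orderOf x / p) ∈ K := K.pow_mem hxK _
    have hy1 : x ^ (orderOf x / p) ≠ 1 := by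
      intro h
      rw [h, orderOf_one] at hoy
      exact hp.one_lt.ne hoy
    obtain ⟨c, hcσ, hc1, hcy⟩ :=
      Cfsg.Agent.Lib.helper71.BGRegNA.kappa_singular M p hpκ _ (hK.1 hyK) hoy
    have h4 := (h30 M hM K hK hK1).1 _ hyK hy1
    have hc : c ∈ sigmaCore M ⊓ centralizer ({x ^ (orderOf x / p)} : Set G) := by
      refine Subgroup.mem_inf.mpr ⟨hcσ, mem_centralizer_iff.mpr fun h hh => ?_⟩
      rw [Set.mem_singleton_iff] at hh
      rw [hh]; exact hcy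
    rw [h4] at hc
    intro hbot
    rw [hbot, mem_bot] at hc
    exact hc1 hc

/-- The conclusion of the frozen statement S1370, from S1430 and S1431. -/
theorem bgz_1370 [Finite G] (hG : IsMinSimpleOddOrder G)
    (h30 : Cfsg.Agent.Lib.helper69.H1430 G) (h31 : H1431 G)
    (M : Subgroup G) (hM : IsCoatom M) (K U : Subgroup G)
    (hKU : IsSigmaDecomposition M K U) (hK1 : K ≠ ⊥) :
    IsTISubset ((↑(K ⊔ (sigmaCore M ⊓ centralizer (K : Set G))) : Set G) \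
        ((K : Set G) ∪ ↑(sigmaCore M ⊓ centralizer (K : Set G)))) ∧
      normalizer ((↑(K ⊔ (sigmaCore M ⊓ centralizer (K : Set G))) : Set G) \
        ((K : Set G) ∪ ↑(sigmaCore M ⊓ centralizer (K : Set G)))) =
        K ⊔ (sigmaCore M ⊓ centralizer (K : Set G)) := by
  obtain ⟨hcomm, hcop, hKs1, hKσ⟩ := bgz_setup hG h30 M hM K hKU.hall hK1
  obtain ⟨h1, h2⟩ := h31 M hM K hKU.hall hK1
  have hKsM : sigmaCore M ⊓ centralizer (K : Set G) ≤ M :=
    inf_le_left.trans (Cfsg.Agent.Lib.helper71.BGA.sigmaCore_le M)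
  have hle := bgz_le_normalizer hcomm
  have hdisj : K ⊓ (sigmaCore M ⊓ centralizer (K : Set G)) = ⊥ := by
    rw [← inf_assoc, hKσ, bot_inf_eq]
  refine ⟨fun g hg x hx hgx => absurd (hle (bgz_conj_mem hcomm hcop h1 h2 hKsM hx hgx)) hg,
    le_antisymm (fun g hg => ?_) hle⟩
  obtain ⟨k, hk, hk1⟩ := Cfsg.Agent.Lib.helper29.exists_ne_one_of_ne_bot hK1
  obtain ⟨c, hc, hc1⟩ := Cfsg.Agent.Lib.helper29.exists_ne_one_of_ne_bot hKs1
  have hz := bgz_mul_mem hdisj hk hk1 hc hc1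
  exact bgz_conj_mem hcomm hcop h1 h2 hKsM hz ((mem_set_normalizer_iff.mp hg _).mp hz)

/-- `|M : U M_σ| = |K|`. -/
theorem bgz_relIndex [Finite G] (hG : IsMinSimpleOddOrder G) (M : Subgroup G) (hM : IsCoatom M)
    (K U : Subgroup G) (hKU : IsSigmaDecomposition M K U) :
    (U ⊔ sigmaCore M).relIndex M = Nat.card K := by
  have hHall := (Cfsg.Agent.S1350.result hG M hM).1
  have hC := hKU.compl
  have hUσ : U ⊓ sigmaCore M = ⊥ := by
    apply le_bot_iff.mp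
    rw [← hC.2.2.1]
    exact inf_le_inf_left U le_sup_right
  have hnorm : U ≤ normalizer (sigmaCore M : Set G) :=
    hC.1.trans (Cfsg.Agent.Lib.helper71.BGA.le_normalizer_sigmaCore M)
  have hc : IsComplIn (sigmaCore M) U (U ⊔ sigmaCore M) := by
    refine ⟨le_sup_right, le_sup_left, ?_, fun m hm => ?_⟩
    · rw [inf_comm]; exact hUσ
    · rw [sup_comm] at hm
      exact Cfsg.Agent.Lib.helper29.exists_mul_of_mem_sup_of_le_normalizer hnorm hm
  have e1 := Cfsg.Agent.Lib.helper29.IsComplIn.card_mul hc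
  have e2 := Cfsg.Agent.Lib.helper29.IsComplIn.card_mul hC
  have e3 := Cfsg.Agent.Lib.helper69.bgk_card_sup hKU.hall hHall
  have hNM : U ⊔ sigmaCore M ≤ M := sup_le hC.1 (Cfsg.Agent.Lib.helper71.BGA.sigmaCore_le M)
  have e4 := Cfsg.Agent.Lib.helper69.bgk_card_mul_relIndex hNM
  have hpos : 0 < Nat.card ↥(U ⊔ sigmaCore M) := Nat.card_pos
  apply Nat.eq_of_mul_eq_mul_left hpos
  rw [e4, ← e2, ← e3, ← e1]; ring

/-- Every `M`-conjugate of an element of `Ẑ` lies in `A₀(M) ∖ A(M)`. -/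
theorem bgz_fwd [Finite G] (hG : IsMinSimpleOddOrder G)
    (h30 : Cfsg.Agent.Lib.helper69.H1430 G)
    (M : Subgroup G) (hM : IsCoatom M) (K U : Subgroup G)
    (hKU : IsSigmaDecomposition M K U) (hK1 : K ≠ ⊥) {m z : G} (hm : m ∈ M)
    (hz : z ∈ (↑(K ⊔ (sigmaCore M ⊓ centralizer (K : Set G))) : Set G) \
        ((K : Set G) ∪ ↑(sigmaCore M ⊓ centralizer (K : Set G)))) :
    m * z * m⁻¹ ∈ sigmaA0 M K \ sigmaA M U := by
  obtain ⟨hcomm, hcop, hKs1, hKσ⟩ := bgz_setup hG h30 M hM K hKU.hall hK1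
  have hσM := Cfsg.Agent.Lib.helper71.BGA.sigmaCore_le M
  have hσN := Cfsg.Agent.Lib.helper71.BGA.le_normalizer_sigmaCore M
  obtain ⟨k, hk, b, hb, rfl⟩ := bgz_decomp hcomm hz.1
  have hkb := hcomm k hk b hb
  have hb1 : b ≠ 1 := by
    rintro rfl
    exact hz.2 (Or.inl (by simpa using hk))
  have hk1 : k ≠ 1 := by
    rintro rfl
    exact hz.2 (Or.inr (by simpa using hb))
  have hkM : k ∈ M := hKU.hall.1 hk
  have hbσ : b ∈ sigmaCore M := hb.1
  have hbM : b ∈ M := hσM hbσ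
  have hmN := mem_normalizer_iff.mp (hσN hm)
  refine ⟨⟨⟨M.mul_mem (M.mul_mem hm (M.mul_mem hkM hbM)) (M.inv_mem hm), m * b * m⁻¹,
    (hmN b).mp hbσ, ?_, ?_⟩, ?_⟩, ?_⟩
  · intro h
    apply hb1
    have := congrArg (fun t => m⁻¹ * t * m) h
    simpa [mul_assoc] using this
  · have e : b * (k * b) = k * b * b := by rw [← mul_assoc, ← hkb]
    calc m * (k * b) * m⁻¹ * (m * b * m⁻¹) = m * ((k * b) * b) * m⁻¹ := by group
      _ = m * (b * (k * b)) * m⁻¹ := by rw [e]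
      _ = m * b * m⁻¹ * (m * (k * b) * m⁻¹) := by group
  · rintro ⟨k', hk', hk'1, m', hm', heq⟩
    obtain ⟨e, he⟩ := bgz_exists_pow hcop
    have hpow : (k * b) ^ e = b := he k hk b hb hkb
    have h5 : (m'⁻¹ * m) * (k * b) * (m'⁻¹ * m)⁻¹ = k' := by
      have : (m'⁻¹ * m) * (k * b) * (m'⁻¹ * m)⁻¹ = m'⁻¹ * (m * (k * b) * m⁻¹) * m' := by group
      rw [this, heq]; group
    have h6 : (m'⁻¹ * m) * b * (m'⁻¹ * m)⁻¹ = k' ^ e := by
      rw [← h5, conj_zpow, hpow]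
    have hgM : m'⁻¹ * m ∈ M := M.mul_mem (M.inv_mem hm') hm
    have h7 : (m'⁻¹ * m) * b * (m'⁻¹ * m)⁻¹ ∈ K ⊓ sigmaCore M :=
      ⟨by rw [h6]; exact K.zpow_mem hk' e, (mem_normalizer_iff.mp (hσN hgM) b).mp hbσ⟩
    rw [hKσ, mem_bot] at h7
    apply hb1
    have := congrArg (fun t => (m'⁻¹ * m)⁻¹ * t * (m'⁻¹ * m)) h7
    simpa [mul_assoc] using this
  · rintro ⟨-, hN⟩
    have hMN := Cfsg.Agent.Lib.helper60.BGTI.le_normalizer_U_sup M K U hKU
    have hzN : k * b ∈ U ⊔ sigmaCore M := (mem_normalizer_iff.mp (hMN hm) (k * b)).mpr hN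
    have hkN : k ∈ U ⊔ sigmaCore M := by
      have : k = (k * b) * b⁻¹ := by group
      rw [this]
      exact (U ⊔ sigmaCore M).mul_mem hzN
        ((U ⊔ sigmaCore M).inv_mem (le_sup_right (a := U) hbσ))
    have hnorm : U ≤ normalizer (sigmaCore M : Set G) := hKU.compl.1.trans hσN
    rw [sup_comm] at hkN
    obtain ⟨s, hs, u, hu, hksu⟩ :=
      Cfsg.Agent.Lib.helper29.exists_mul_of_mem_sup_of_le_normalizer hnorm hkN
    have hu1 : u ∈ U ⊓ (K ⊔ sigmaCore M) := by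
      refine ⟨hu, ?_⟩
      have : u = s⁻¹ * k := by rw [hksu]; group
      rw [this]
      exact (K ⊔ sigmaCore M).mul_mem
        ((K ⊔ sigmaCore M).inv_mem (le_sup_right (a := K) hs))
        (le_sup_left (b := sigmaCore M) hk)
    rw [hKU.compl.2.2.1, mem_bot] at hu1
    rw [hu1, mul_one] at hksu
    have h8 : k ∈ K ⊓ sigmaCore M := ⟨hk, hksu ▸ hs⟩
    rw [hKσ, mem_bot] at h8
    exact hk1 h8

/-- Every element of `A₀(M) ∖ A(M)` is an `M`-conjugate of an element of `Ẑ`. -/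
theorem bgz_bwd [Finite G] (hG : IsMinSimpleOddOrder G)
    (h30 : Cfsg.Agent.Lib.helper69.H1430 G)
    (M : Subgroup G) (hM : IsCoatom M) (K U : Subgroup G)
    (hKU : IsSigmaDecomposition M K U) (hK1 : K ≠ ⊥) {a : G}
    (ha : a ∈ sigmaA0 M K \ sigmaA M U) :
    ∃ m ∈ M, ∃ z ∈ (↑(K ⊔ (sigmaCore M ⊓ centralizer (K : Set G))) : Set G) \
        ((K : Set G) ∪ ↑(sigmaCore M ⊓ centralizer (K : Set G))), a = m * z * m⁻¹ := by
  obtain ⟨⟨⟨haM, y, hy, hy1, hay⟩, hnc⟩, hnA⟩ := ha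
  have hσM := Cfsg.Agent.Lib.helper71.BGA.sigmaCore_le M
  have hσN := Cfsg.Agent.Lib.helper71.BGA.le_normalizer_sigmaCore M
  have haN : a ∉ U ⊔ sigmaCore M := fun h => hnA ⟨⟨haM, y, hy, hy1, hay⟩, h⟩
  have hK := hKU.hall
  have hMN := Cfsg.Agent.Lib.helper60.BGTI.le_normalizer_U_sup M K U hKU
  have hNM : U ⊔ sigmaCore M ≤ M := sup_le hKU.compl.1 hσM
  have hpowN : a ^ Nat.card K ∈ U ⊔ sigmaCore M := by
    have hnormal : ((U ⊔ sigmaCore M).subgroupOf M).Normal :=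
      (normal_subgroupOf_iff_le_normalizer hNM).mpr hMN
    have h := Subgroup.pow_index_mem ((U ⊔ sigmaCore M).subgroupOf M) (⟨a, haM⟩ : M)
    have hidx : ((U ⊔ sigmaCore M).subgroupOf M).index = Nat.card K :=
      bgz_relIndex hG M hM K U hKU
    rw [hidx] at h
    exact Subgroup.mem_subgroupOf.mp h
  have hncop : ¬ (Nat.card K).Coprime (orderOf a) := by
    intro hcop'
    obtain ⟨n, hn⟩ := exists_pow_eq_self_of_coprime hcop'
    exact haN (hn ▸ (U ⊔ sigmaCore M).pow_mem hpowN n)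
  obtain ⟨q, hq, hqK, hqa⟩ := Nat.Prime.not_coprime_iff_dvd.mp hncop
  have hqκ : q ∈ kappa M := hK.2.1 q hq hqK
  have hoy : orderOf (a ^ (orderOf a / q)) = q :=
    orderOf_pow_orderOf_div (orderOf_pos a).ne' hqa
  have hwM : a ^ (orderOf a / q) ∈ M := M.pow_mem haM _
  have : Fact q.Prime := ⟨hq⟩
  have hB : IsPGroup q (zpowers (a ^ (orderOf a / q))) := by
    apply IsPGroup.of_card (n := 1)
    rw [Nat.card_zpowers, pow_one, hoy]
  obtain ⟨g, hgM, hg⟩ := Cfsg.Agent.Lib.helper69.bgk_conj_into_hall hK (p := q) hqκ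
    (B := zpowers (a ^ (orderOf a / q))) (zpowers_le.mpr hwM) hB
  have hgw : g * a ^ (orderOf a / q) * g⁻¹ ∈ K := hg _ (mem_zpowers _)
  have hXK : zpowers (g * a ^ (orderOf a / q) * g⁻¹) ≤ K := zpowers_le.mpr hgw
  have hXc : (Nat.card (zpowers (g * a ^ (orderOf a / q) * g⁻¹))).Prime := by
    rw [Nat.card_zpowers]
    have h9 : orderOf (g * a ^ (orderOf a / q) * g⁻¹) = orderOf (a ^ (orderOf a / q)) :=
      (MulAut.conj g).orderOf_eq (a ^ (orderOf a / q))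
    rw [h9, hoy]; exact hq
  have h3 := ((h30 M hM K hK hK1).2.2 _ hXK hXc).1
  have ha'M : g * a * g⁻¹ ∈ M := M.mul_mem (M.mul_mem hgM haM) (M.inv_mem hgM)
  have ha'N : g * a * g⁻¹ ∈
      normalizer ((zpowers (g * a ^ (orderOf a / q) * g⁻¹) : Subgroup G) : Set G) := by
    apply Subgroup.centralizer_le_normalizer
    rw [Cfsg.Agent.Lib.helper71.BGRegNA.mem_cent_zpowers]
    have e : a ^ (orderOf a / q) * a = a * a ^ (orderOf a / q) := pow_mul_comm' a _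
    calc g * a ^ (orderOf a / q) * g⁻¹ * (g * a * g⁻¹)
        = g * (a ^ (orderOf a / q) * a) * g⁻¹ := by group
      _ = g * (a * a ^ (orderOf a / q)) * g⁻¹ := by rw [e]
      _ = g * a * g⁻¹ * (g * a ^ (orderOf a / q) * g⁻¹) := by group
  have ha'Z : g * a * g⁻¹ ∈ K ⊔ (sigmaCore M ⊓ centralizer (K : Set G)) := by
    rw [← h3]; exact ⟨ha'M, ha'N⟩
  have ha1 : a ≠ 1 := by
    rintro rfl
    exact haN (one_mem _)
  have haeq : a = g⁻¹ * (g * a * g⁻¹) * g⁻¹⁻¹ := by group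
  refine ⟨g⁻¹, M.inv_mem hgM, g * a * g⁻¹, ⟨ha'Z, ?_⟩, haeq⟩
  rintro (h | h)
  · apply hnc
    refine ⟨g * a * g⁻¹, h, ?_, g⁻¹, M.inv_mem hgM, haeq⟩
    intro h1
    apply ha1
    have := congrArg (fun t => g⁻¹ * t * g) h1
    simpa [mul_assoc] using this
  · apply haN
    have : a ∈ sigmaCore M := (mem_normalizer_iff.mp (hσN hgM) a).mpr h.1
    exact le_sup_right (a := U) this

/-- The conclusion of the frozen statement S1371, from S1430 and S1431. -/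
theorem bgz_1371 [Finite G] (hG : IsMinSimpleOddOrder G)
    (h30 : Cfsg.Agent.Lib.helper69.H1430 G) (h31 : H1431 G)
    (M : Subgroup G) (hM : IsCoatom M) (K U : Subgroup G)
    (hKU : IsSigmaDecomposition M K U) (hK1 : K ≠ ⊥) :
    {a : G | ∃ m ∈ M, ∃ z ∈ ((↑(K ⊔ (sigmaCore M ⊓ centralizer (K : Set G))) : Set G) \
        ((K : Set G) ∪ ↑(sigmaCore M ⊓ centralizer (K : Set G)))), a = m * z * m⁻¹} =
        sigmaA0 M K \ sigmaA M U ∧
      IsTISubset (sigmaA0 M K \ sigmaA M U) := by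
  have heq : {a : G | ∃ m ∈ M, ∃ z ∈ ((↑(K ⊔ (sigmaCore M ⊓ centralizer (K : Set G))) : Set G) \
        ((K : Set G) ∪ ↑(sigmaCore M ⊓ centralizer (K : Set G)))), a = m * z * m⁻¹} =
        sigmaA0 M K \ sigmaA M U := by
    ext a
    constructor
    · rintro ⟨m, hm, z, hz, rfl⟩
      exact bgz_fwd hG h30 M hM K U hKU hK1 hm hz
    · exact fun ha => bgz_bwd hG h30 M hM K U hKU hK1 ha
  refine ⟨heq, ?_⟩
  rw [← heq]
  obtain ⟨hcomm, hcop, hKs1, hKσ⟩ := bgz_setup hG h30 M hM K hKU.hall hK1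
  obtain ⟨h1, h2⟩ := h31 M hM K hKU.hall hK1
  have hKsM : sigmaCore M ⊓ centralizer (K : Set G) ≤ M :=
    inf_le_left.trans (Cfsg.Agent.Lib.helper71.BGA.sigmaCore_le M)
  have hZM : K ⊔ (sigmaCore M ⊓ centralizer (K : Set G)) ≤ M := sup_le hKU.hall.1 hKsM
  intro g hg x hx hgx
  exfalso
  apply hg
  obtain ⟨m, hm, z, hz, rfl⟩ := hx
  obtain ⟨m', hm', z', hz', heq'⟩ := hgx
  have h5 : (m'⁻¹ * g * m) * z * (m'⁻¹ * g * m)⁻¹ = z' := by
    have : (m'⁻¹ * g * m) * z * (m'⁻¹ * g * m)⁻¹ = m'⁻¹ * (g * (m * z * m⁻¹) * g⁻¹) * m' := by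
      group
    rw [this, heq']; group
  have h6 : m'⁻¹ * g * m ∈ K ⊔ (sigmaCore M ⊓ centralizer (K : Set G)) :=
    bgz_conj_mem hcomm hcop h1 h2 hKsM hz (h5 ▸ hz')
  have hgM : g ∈ M := by
    have : g = m' * (m'⁻¹ * g * m) * m⁻¹ := by group
    rw [this]
    exact M.mul_mem (M.mul_mem hm' (hZM h6)) (M.inv_mem hm)
  rw [mem_set_normalizer_iff]
  intro x
  constructor
  · rintro ⟨n, hn, z, hz, rfl⟩
    exact ⟨g * n, M.mul_mem hgM hn, z, hz, by group⟩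
  · rintro ⟨n, hn, z, hz, hx⟩
    refine ⟨g⁻¹ * n, M.mul_mem (M.inv_mem hgM) hn, z, hz, ?_⟩
    have : x = g⁻¹ * (g * x * g⁻¹) * g := by group
    rw [this, hx]; group

end Cfsg.Agent.Lib.helper13
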