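import Mathlib
import Cfsg.Agent.Lib.helper13.Basic
import Cfsg.Agent.Lib.helper13.Count

set_option autoImplicit false

namespace Cfsg.Agent.Lib.helper13

open scoped commutatorElement

variable {G : Type*} [Group G]

/-- Coset comparison: a map that is injective modulo subgroups bounds the relative index. -/
theorem relIndex_le_relIndex_of_map {G' : Type*} [Group G'] [Finite G'] (H K : Subgroup G)
    (L M : Subgroup G') (f : G → G') (hf : ∀ a ∈ K, f a ∈ M)
    (hinj : ∀ a ∈ K, ∀ b ∈ K, (f a)⁻¹ * f b ∈ L → a⁻¹ * b ∈ H) :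
    H.relIndex K ≤ L.relIndex M := by
  unfold Subgroup.relIndex Subgroup.index
  apply Nat.card_le_card_of_injective (fun q : K ⧸ H.subgroupOf K =>
    (QuotientGroup.mk (⟨f (q.out : K), hf _ (q.out).2⟩ : M) : M ⧸ L.subgroupOf M))
  intro q q' h
  simp only at h
  rw [QuotientGroup.eq] at h
  have h1 : (f (q.out : K))⁻¹ * f (q'.out : K) ∈ L := by
    simpa [Subgroup.mem_subgroupOf] using h
  have h2 := hinj _ q.out.2 _ q'.out.2 h1
  have h3 : (q.out)⁻¹ * q'.out ∈ H.subgroupOf K := by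
    simpa [Subgroup.mem_subgroupOf] using h2
  rw [← QuotientGroup.eq] at h3
  have e1 : (QuotientGroup.mk q.out : K ⧸ H.subgroupOf K) = q := Quotient.out_eq' q
  have e2 : (QuotientGroup.mk q'.out : K ⧸ H.subgroupOf K) = q' := Quotient.out_eq' q'
  rw [e1, e2] at h3
  exact h3

theorem centralizer_union_eq (s t : Set G) :
    Subgroup.centralizer (s ∪ t) = Subgroup.centralizer s ⊓ Subgroup.centralizer t := by
  ext x
  simp only [Subgroup.mem_centralizer_iff, Subgroup.mem_inf, Set.mem_union]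
  constructor
  · intro h
    exact ⟨fun y hy => h y (Or.inl hy), fun y hy => h y (Or.inr hy)⟩
  · rintro ⟨h1, h2⟩ y (hy | hy)
    · exact h1 y hy
    · exact h2 y hy

theorem centralizer_sup_eq (H K : Subgroup G) :
    Subgroup.centralizer ((H ⊔ K : Subgroup G) : Set G)
      = Subgroup.centralizer (H : Set G) ⊓ Subgroup.centralizer (K : Set G) := by
  apply le_antisymm
  · exact le_inf (Subgroup.centralizer_le (SetLike.coe_subset_coe.mpr le_sup_left))
      (Subgroup.centralizer_le (SetLike.coe_subset_coe.mpr le_sup_right))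
  · intro x hx
    obtain ⟨h1, h2⟩ := Subgroup.mem_inf.mp hx
    have h3 : H ⊔ K ≤ Subgroup.centralizer ({x} : Set G) := by
      apply sup_le
      · intro y hy
        rw [Subgroup.mem_centralizer_iff] at h1 ⊢
        intro z hz
        rw [Set.mem_singleton_iff] at hz
        subst hz
        exact (h1 y hy).symm
      · intro y hy
        rw [Subgroup.mem_centralizer_iff] at h2 ⊢
        intro z hz
        rw [Set.mem_singleton_iff] at hz
        subst hz
        exact (h2 y hy).symm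
    rw [Subgroup.mem_centralizer_iff]
    intro y hy
    have := h3 hy
    rw [Subgroup.mem_centralizer_iff] at this
    exact (this x rfl).symm

/-- If `[A, A]` centralizes `V`, then `ac` and `ca` act in the same way on `V`. -/
theorem conj_mul_comm_of_commutator_le {V A : Subgroup G}
    (hab : ⁅A, A⁆ ≤ Subgroup.centralizer (V : Set G)) {a c x : G} (ha : a ∈ A) (hc : c ∈ A)
    (hx : x ∈ V) : (a * c) * x * (a * c)⁻¹ = (c * a) * x * (c * a)⁻¹ := by
  have hk : ⁅a⁻¹, c⁻¹⁆ ∈ Subgroup.centralizer (V : Set G) :=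
    hab (Subgroup.commutator_mem_commutator (A.inv_mem ha) (A.inv_mem hc))
  rw [Subgroup.mem_centralizer_iff] at hk
  have h := hk x hx
  simp only [commutatorElement_def] at h
  calc (a * c) * x * (a * c)⁻¹ = c * a * ((a⁻¹ * c⁻¹ * a⁻¹⁻¹ * c⁻¹⁻¹) * x) * (a * c)⁻¹ := by group
    _ = c * a * (x * (a⁻¹ * c⁻¹ * a⁻¹⁻¹ * c⁻¹⁻¹)) * (a * c)⁻¹ := by rw [h]
    _ = (c * a) * x * (c * a)⁻¹ := by group

section Replacement

variable (V A : Subgroup G)

/-- The commutator generating set `{[u, b] | u ∈ T, b ∈ A}`. -/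
def commGens (A : Subgroup G) (T : Set G) : Set G := {g | ∃ u ∈ T, ∃ b ∈ A, ⁅u, b⁆ = g}

theorem commGens_union (T T' : Set G) : commGens A (T ∪ T') = commGens A T ∪ commGens A T' := by
  ext g
  change (∃ u ∈ T ∪ T', ∃ b ∈ A, ⁅u, b⁆ = g) ↔
    (∃ u ∈ T, ∃ b ∈ A, ⁅u, b⁆ = g) ∨ (∃ u ∈ T', ∃ b ∈ A, ⁅u, b⁆ = g)
  constructor
  · rintro ⟨u, hu | hu, b, hb, rfl⟩
    · exact Or.inl ⟨u, hu, b, hb, rfl⟩
    · exact Or.inr ⟨u, hu, b, hb, rfl⟩
  · rintro (⟨u, hu, b, hb, rfl⟩ | ⟨u, hu, b, hb, rfl⟩)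
    · exact ⟨u, Or.inl hu, b, hb, rfl⟩
    · exact ⟨u, Or.inr hu, b, hb, rfl⟩

theorem commGens_empty : commGens A (∅ : Set G) = ∅ := by
  ext g
  simp [commGens]

theorem commGens_subset {V A : Subgroup G} (hAV : A ≤ Subgroup.normalizer (V : Set G))
    {T : Set G} (hT : T ⊆ V) : commGens A T ⊆ V := by
  rintro g ⟨u, hu, b, hb, rfl⟩
  have h1 : b * u⁻¹ * b⁻¹ ∈ V :=
    (Subgroup.le_normalizer_iff.mp hAV) b hb u⁻¹ (V.inv_mem (hT hu))
  have : ⁅u, b⁆ = u * (b * u⁻¹ * b⁻¹) := by simp only [commutatorElement_def]; group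
  rw [SetLike.mem_coe, this]
  exact V.mul_mem (hT hu) h1

variable [Finite G]

/-- Single element step: `|A| |C_V(A)| ≤ |A_u| |[u,A] C_V(A)|`. -/
theorem single_le [IsMulCommutative V] (hAV : A ≤ Subgroup.normalizer (V : Set G))
    (hab : ⁅A, A⁆ ≤ Subgroup.centralizer (V : Set G)) {u : G} (hu : u ∈ V) :
    Nat.card A * Nat.card ↥(V ⊓ Subgroup.centralizer (A : Set G)) ≤
      Nat.card ↥(A ⊓ Subgroup.centralizer (commGens A {u})) *
        Nat.card ↥(Subgroup.closure (commGens A {u}) ⊔ (V ⊓ Subgroup.centralizer (A : Set G))) := by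
  set CV : Subgroup G := V ⊓ Subgroup.centralizer (A : Set G) with hCV
  set Au : Subgroup G := A ⊓ Subgroup.centralizer (commGens A {u}) with hAu
  set Du : Subgroup G := Subgroup.closure (commGens A {u}) ⊔ CV with hDu
  have hnorm := Subgroup.le_normalizer_iff.mp hAV
  have key : Au.relIndex A ≤ CV.relIndex Du := by
    apply relIndex_le_relIndex_of_map Au A CV Du (fun a => ⁅u, a⁆)
    · intro a ha
      exact Subgroup.mem_sup_left (Subgroup.subset_closure ⟨u, rfl, a, ha, rfl⟩)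
    · intro a ha b hb hz
      obtain ⟨hzV, hzA⟩ := Subgroup.mem_inf.mp hz
      rw [Subgroup.mem_centralizer_iff] at hzA
      refine Subgroup.mem_inf.mpr ⟨A.mul_mem (A.inv_mem ha) hb, ?_⟩
      rw [Subgroup.mem_centralizer_iff]
      rintro g ⟨u', hu', c, hc, rfl⟩
      rw [Set.mem_singleton_iff] at hu'
      subst hu'
      -- notation
      have hua : a * u' * a⁻¹ ∈ V := hnorm a ha u' hu
      have hub : b * u' * b⁻¹ ∈ V := hnorm b hb u' hu
      -- z = u_a u_b⁻¹
      have hz_eq : (⁅u', a⁆)⁻¹ * ⁅u', b⁆ = (a * u' * a⁻¹) * (b * u' * b⁻¹)⁻¹ := by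
        simp only [commutatorElement_def]; group
      rw [hz_eq] at hzV hzA
      set z := (a * u' * a⁻¹) * (b * u' * b⁻¹)⁻¹ with hzdef
      have hzc : c * z = z * c := hzA c hc
      -- a ⁅u,c⁆ a⁻¹ = ⁅u_a, c⁆
      have hconj : ∀ d ∈ A, d * ⁅u', c⁆ * d⁻¹ = ⁅d * u' * d⁻¹, c⁆ := by
        intro d hd
        have h1 := conj_mul_comm_of_commutator_le hab hd hc (V.inv_mem hu)
        calc d * ⁅u', c⁆ * d⁻¹ = (d * u' * d⁻¹) * ((d * c) * u'⁻¹ * (d * c)⁻¹) := by
              simp only [commutatorElement_def]; group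
          _ = (d * u' * d⁻¹) * ((c * d) * u'⁻¹ * (c * d)⁻¹) := by rw [h1]
          _ = ⁅d * u' * d⁻¹, c⁆ := by simp only [commutatorElement_def]; group
      -- ⁅u_a, c⁆ = ⁅u_b, c⁆
      have hua_eq : a * u' * a⁻¹ = z * (b * u' * b⁻¹) := by rw [hzdef]; group
      have hcub : c * (b * u' * b⁻¹)⁻¹ * c⁻¹ ∈ V := hnorm c hc _ (V.inv_mem hub)
      have c1 : z * (b * u' * b⁻¹) = (b * u' * b⁻¹) * z :=
        comm_of_mem_of_isMulCommutative V hzV hub
      have c2 : z * (c * (b * u' * b⁻¹)⁻¹ * c⁻¹) = (c * (b * u' * b⁻¹)⁻¹ * c⁻¹) * z :=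
        comm_of_mem_of_isMulCommutative V hzV hcub
      have c3 : c * z⁻¹ * c⁻¹ = z⁻¹ := by
        have : Commute c z := hzc
        rw [this.inv_right.eq]; group
      have heq : ⁅a * u' * a⁻¹, c⁆ = ⁅b * u' * b⁻¹, c⁆ := by
        rw [hua_eq]
        generalize b * u' * b⁻¹ = w at *
        calc ⁅z * w, c⁆ = z * w * (c * w⁻¹ * c⁻¹) * (c * z⁻¹ * c⁻¹) := by
              simp only [commutatorElement_def]; group
          _ = z * w * (c * w⁻¹ * c⁻¹) * z⁻¹ := by rw [c3]
          _ = (z * w) * ((c * w⁻¹ * c⁻¹) * z⁻¹) := by group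
          _ = (w * z) * ((c * w⁻¹ * c⁻¹) * z⁻¹) := by rw [c1]
          _ = w * (z * (c * w⁻¹ * c⁻¹)) * z⁻¹ := by group
          _ = w * ((c * w⁻¹ * c⁻¹) * z) * z⁻¹ := by rw [c2]
          _ = ⁅w, c⁆ := by simp only [commutatorElement_def]; group
      have e1 := hconj a ha
      have e2 := hconj b hb
      rw [heq, ← e2] at e1
      -- a x a⁻¹ = b x b⁻¹ → x (a⁻¹ b) = (a⁻¹ b) x
      calc ⁅u', c⁆ * (a⁻¹ * b) = a⁻¹ * (a * ⁅u', c⁆ * a⁻¹) * b := by group
        _ = a⁻¹ * (b * ⁅u', c⁆ * b⁻¹) * b := by rw [e1]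
        _ = a⁻¹ * b * ⁅u', c⁆ := by group
  have hAuA : Au ≤ A := inf_le_left
  have hCVDu : CV ≤ Du := le_sup_right
  have h1 := relIndex_mul_card_of_le hAuA
  have h2 := relIndex_mul_card_of_le hCVDu
  calc Nat.card A * Nat.card CV = (Au.relIndex A * Nat.card CV) * Nat.card Au := by
        rw [← h1]; ring
    _ ≤ (CV.relIndex Du * Nat.card CV) * Nat.card Au :=
        Nat.mul_le_mul_right _ (Nat.mul_le_mul_right _ key)
    _ = Nat.card Au * Nat.card Du := by rw [h2]; ring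

/-- For a "best" `A`: `A_u` has the same value and `C_V(A_u) = [u,A] C_V(A)`. -/
theorem single_eq [IsMulCommutative V] (hAV : A ≤ Subgroup.normalizer (V : Set G))
    (hab : ⁅A, A⁆ ≤ Subgroup.centralizer (V : Set G))
    (hbest : ∀ B : Subgroup G, B ≤ A →
      Nat.card B * Nat.card ↥(V ⊓ Subgroup.centralizer (B : Set G)) ≤
        Nat.card A * Nat.card ↥(V ⊓ Subgroup.centralizer (A : Set G)))
    {u : G} (hu : u ∈ V) :
    Nat.card ↥(A ⊓ Subgroup.centralizer (commGens A {u})) *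
        Nat.card ↥(V ⊓ Subgroup.centralizer ((A ⊓ Subgroup.centralizer (commGens A {u}) :
          Subgroup G) : Set G))
      = Nat.card A * Nat.card ↥(V ⊓ Subgroup.centralizer (A : Set G)) ∧
    V ⊓ Subgroup.centralizer ((A ⊓ Subgroup.centralizer (commGens A {u}) : Subgroup G) : Set G)
      = Subgroup.closure (commGens A {u}) ⊔ (V ⊓ Subgroup.centralizer (A : Set G)) := by
  have h1 := single_le V A hAV hab hu
  set CV : Subgroup G := V ⊓ Subgroup.centralizer (A : Set G) with hCV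
  set Au : Subgroup G := A ⊓ Subgroup.centralizer (commGens A {u}) with hAu
  set Du : Subgroup G := Subgroup.closure (commGens A {u}) ⊔ CV with hDu
  have hAuA : Au ≤ A := inf_le_left
  have hsub : commGens A {u} ⊆ V :=
    commGens_subset hAV (by intro x hx; rw [Set.mem_singleton_iff] at hx; rw [hx]; exact hu)
  have hDle : Du ≤ V ⊓ Subgroup.centralizer (Au : Set G) := by
    apply sup_le
    · apply le_inf
      · rw [Subgroup.closure_le]; exact hsub
      · rw [Subgroup.closure_le]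
        intro g hg
        rw [SetLike.mem_coe, Subgroup.mem_centralizer_iff]
        intro x hx
        have := (Subgroup.mem_inf.mp hx).2
        rw [Subgroup.mem_centralizer_iff] at this
        exact (this g hg).symm
    · exact inf_le_inf_left _ (Subgroup.centralizer_le (SetLike.coe_subset_coe.mpr hAuA))
  have h2 : Nat.card Du ≤ Nat.card ↥(V ⊓ Subgroup.centralizer (Au : Set G)) :=
    Subgroup.card_le_of_le hDle
  have h3 := hbest Au hAuA
  have hpos : 0 < Nat.card Au := Nat.card_pos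
  have h4 : Nat.card Au * Nat.card Du ≤
      Nat.card Au * Nat.card ↥(V ⊓ Subgroup.centralizer (Au : Set G)) :=
    Nat.mul_le_mul_left _ h2
  have h5 : Nat.card Au * Nat.card ↥(V ⊓ Subgroup.centralizer (Au : Set G))
      = Nat.card A * Nat.card CV := le_antisymm h3 (h1.trans h4)
  refine ⟨h5, ?_⟩
  have h6 : Nat.card ↥(V ⊓ Subgroup.centralizer (Au : Set G)) ≤ Nat.card Du := by
    have : Nat.card Au * Nat.card ↥(V ⊓ Subgroup.centralizer (Au : Set G))
        ≤ Nat.card Au * Nat.card Du := by rw [h5]; exact h1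
    exact Nat.le_of_mul_le_mul_left this hpos
  exact (Subgroup.eq_of_le_of_card_ge hDle h6).symm

/-- Intersection step. -/
theorem inter_eq
    (hbest : ∀ B : Subgroup G, B ≤ A →
      Nat.card B * Nat.card ↥(V ⊓ Subgroup.centralizer (B : Set G)) ≤
        Nat.card A * Nat.card ↥(V ⊓ Subgroup.centralizer (A : Set G)))
    (X Y : Subgroup G) (hX : X ≤ A) (hY : Y ≤ A)
    (hXv : Nat.card X * Nat.card ↥(V ⊓ Subgroup.centralizer (X : Set G))
      = Nat.card A * Nat.card ↥(V ⊓ Subgroup.centralizer (A : Set G)))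
    (hYv : Nat.card Y * Nat.card ↥(V ⊓ Subgroup.centralizer (Y : Set G))
      = Nat.card A * Nat.card ↥(V ⊓ Subgroup.centralizer (A : Set G))) :
    Nat.card ↥(X ⊓ Y) * Nat.card ↥(V ⊓ Subgroup.centralizer ((X ⊓ Y : Subgroup G) : Set G))
      = Nat.card A * Nat.card ↥(V ⊓ Subgroup.centralizer (A : Set G)) ∧
    V ⊓ Subgroup.centralizer ((X ⊓ Y : Subgroup G) : Set G)
      = (V ⊓ Subgroup.centralizer (X : Set G)) ⊔ (V ⊓ Subgroup.centralizer (Y : Set G)) := by
  set m := Nat.card A * Nat.card ↥(V ⊓ Subgroup.centralizer (A : Set G)) with hm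
  set CX : Subgroup G := V ⊓ Subgroup.centralizer (X : Set G) with hCX
  set CY : Subgroup G := V ⊓ Subgroup.centralizer (Y : Set G) with hCY
  set CI : Subgroup G := V ⊓ Subgroup.centralizer ((X ⊓ Y : Subgroup G) : Set G) with hCI
  have hmpos : 0 < m := Nat.mul_pos Nat.card_pos Nat.card_pos
  have h1 := card_mul_card_le_sup_inf X Y
  have h2 := card_mul_card_le_sup_inf CX CY
  have h3 : CX ⊓ CY = V ⊓ Subgroup.centralizer ((X ⊔ Y : Subgroup G) : Set G) := by
    rw [centralizer_sup_eq, hCX, hCY]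
    exact (inf_inf_distrib_left _ _ _).symm
  have h4 := hbest (X ⊔ Y) (sup_le hX hY)
  rw [← h3] at h4
  have h5 : CX ⊔ CY ≤ CI := by
    apply sup_le
    · exact inf_le_inf_left _ (Subgroup.centralizer_le (SetLike.coe_subset_coe.mpr inf_le_left))
    · exact inf_le_inf_left _ (Subgroup.centralizer_le (SetLike.coe_subset_coe.mpr inf_le_right))
  have h6 : Nat.card ↥(CX ⊔ CY) ≤ Nat.card CI := Subgroup.card_le_of_le h5
  have h7 := hbest (X ⊓ Y) (inf_le_left.trans hX)
  -- m * m ≤ m * (|X ⊓ Y| * |CX ⊔ CY|)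
  have h8 : m * m ≤ m * (Nat.card ↥(X ⊓ Y) * Nat.card ↥(CX ⊔ CY)) := by
    have hmm : m * m = (Nat.card X * Nat.card CX) * (Nat.card Y * Nat.card CY) := by
      rw [hXv, hYv]
    calc m * m = (Nat.card X * Nat.card Y) * (Nat.card CX * Nat.card CY) := by
          rw [hmm]; ring
      _ ≤ (Nat.card ↥(X ⊔ Y) * Nat.card ↥(X ⊓ Y)) * (Nat.card ↥(CX ⊔ CY) * Nat.card ↥(CX ⊓ CY)) :=
          Nat.mul_le_mul h1 h2
      _ = (Nat.card ↥(X ⊔ Y) * Nat.card ↥(CX ⊓ CY)) * (Nat.card ↥(X ⊓ Y) * Nat.card ↥(CX ⊔ CY)) := by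
          ring
      _ ≤ m * (Nat.card ↥(X ⊓ Y) * Nat.card ↥(CX ⊔ CY)) := Nat.mul_le_mul_right _ h4
  have h9 : m ≤ Nat.card ↥(X ⊓ Y) * Nat.card ↥(CX ⊔ CY) := Nat.le_of_mul_le_mul_left h8 hmpos
  have h10 : Nat.card ↥(X ⊓ Y) * Nat.card ↥(CX ⊔ CY) ≤ Nat.card ↥(X ⊓ Y) * Nat.card CI :=
    Nat.mul_le_mul_left _ h6
  have h11 : Nat.card ↥(X ⊓ Y) * Nat.card CI = m := le_antisymm h7 (h9.trans h10)
  refine ⟨h11, ?_⟩
  have hpos : 0 < Nat.card ↥(X ⊓ Y) := Nat.card_pos
  have h12 : Nat.card CI ≤ Nat.card ↥(CX ⊔ CY) := by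
    have : Nat.card ↥(X ⊓ Y) * Nat.card CI ≤ Nat.card ↥(X ⊓ Y) * Nat.card ↥(CX ⊔ CY) := by
      rw [h11]; exact h9
    exact Nat.le_of_mul_le_mul_left this hpos
  exact (Subgroup.eq_of_le_of_card_ge h5 h12).symm

/-- Finite induction: the statement for all finite sets `T ⊆ V`. -/
theorem finset_eq [IsMulCommutative V] (hAV : A ≤ Subgroup.normalizer (V : Set G))
    (hab : ⁅A, A⁆ ≤ Subgroup.centralizer (V : Set G))
    (hbest : ∀ B : Subgroup G, B ≤ A →
      Nat.card B * Nat.card ↥(V ⊓ Subgroup.centralizer (B : Set G)) ≤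
        Nat.card A * Nat.card ↥(V ⊓ Subgroup.centralizer (A : Set G)))
    (T : Set G) (hTfin : T.Finite) (hT : T ⊆ V) :
    Nat.card ↥(A ⊓ Subgroup.centralizer (commGens A T)) *
        Nat.card ↥(V ⊓ Subgroup.centralizer ((A ⊓ Subgroup.centralizer (commGens A T) :
          Subgroup G) : Set G))
      = Nat.card A * Nat.card ↥(V ⊓ Subgroup.centralizer (A : Set G)) ∧
    V ⊓ Subgroup.centralizer ((A ⊓ Subgroup.centralizer (commGens A T) : Subgroup G) : Set G)
      = Subgroup.closure (commGens A T) ⊔ (V ⊓ Subgroup.centralizer (A : Set G)) := by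
  induction T, hTfin using Set.Finite.induction_on with
  | empty =>
    have e1 : A ⊓ Subgroup.centralizer (commGens A (∅ : Set G)) = A := by
      rw [commGens_empty]
      have : Subgroup.centralizer (∅ : Set G) = ⊤ := by
        ext x; simp [Subgroup.mem_centralizer_iff]
      rw [this, inf_top_eq]
    rw [e1, commGens_empty, Subgroup.closure_empty, bot_sup_eq]
    exact ⟨rfl, rfl⟩
  | @insert u T _ _ ih =>
    have huV : u ∈ V := hT (Set.mem_insert u T)
    have hTV : T ⊆ V := fun x hx => hT (Set.mem_insert_of_mem u hx)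
    obtain ⟨ih1, ih2⟩ := ih hTV
    obtain ⟨s1, s2⟩ := single_eq V A hAV hab hbest huV
    have e0 : commGens A (insert u T) = commGens A {u} ∪ commGens A T := by
      rw [← commGens_union, Set.singleton_union]
    have e1 : A ⊓ Subgroup.centralizer (commGens A (insert u T))
        = (A ⊓ Subgroup.centralizer (commGens A {u})) ⊓ (A ⊓ Subgroup.centralizer (commGens A T)) := by
      rw [e0, centralizer_union_eq]
      exact inf_inf_distrib_left _ _ _
    have e2 : Subgroup.closure (commGens A (insert u T)) ⊔ (V ⊓ Subgroup.centralizer (A : Set G))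
        = (Subgroup.closure (commGens A {u}) ⊔ (V ⊓ Subgroup.centralizer (A : Set G))) ⊔
          (Subgroup.closure (commGens A T) ⊔ (V ⊓ Subgroup.centralizer (A : Set G))) := by
      rw [e0, Subgroup.closure_union]
      exact sup_sup_distrib_right _ _ _
    obtain ⟨r1, r2⟩ := inter_eq V A hbest _ _ inf_le_left inf_le_left s1 ih1
    rw [e1, e2]
    refine ⟨r1, ?_⟩
    rw [r2, s2, ih2]

/-- Timmesfeld replacement, counting part. -/
theorem replacement [IsMulCommutative V] (hAV : A ≤ Subgroup.normalizer (V : Set G))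
    (hab : ⁅A, A⁆ ≤ Subgroup.centralizer (V : Set G))
    (hbest : ∀ B : Subgroup G, B ≤ A →
      Nat.card B * Nat.card ↥(V ⊓ Subgroup.centralizer (B : Set G)) ≤
        Nat.card A * Nat.card ↥(V ⊓ Subgroup.centralizer (A : Set G)))
    (U : Subgroup G) (hU : U ≤ V) :
    Nat.card ↥(A ⊓ Subgroup.centralizer ((⁅U, A⁆ : Subgroup G) : Set G)) *
        Nat.card ↥(V ⊓ Subgroup.centralizer
          ((A ⊓ Subgroup.centralizer ((⁅U, A⁆ : Subgroup G) : Set G) : Subgroup G) : Set G))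
      = Nat.card A * Nat.card ↥(V ⊓ Subgroup.centralizer (A : Set G)) ∧
    V ⊓ Subgroup.centralizer
        ((A ⊓ Subgroup.centralizer ((⁅U, A⁆ : Subgroup G) : Set G) : Subgroup G) : Set G)
      = ⁅U, A⁆ ⊔ (V ⊓ Subgroup.centralizer (A : Set G)) := by
  have h := finset_eq V A hAV hab hbest (U : Set G) (Set.toFinite _) hU
  have e1 : (⁅U, A⁆ : Subgroup G) = Subgroup.closure (commGens A (U : Set G)) := by
    rw [Subgroup.commutator_def]; rfl
  rw [e1, Subgroup.centralizer_closure]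
  exact h

end Replacement

end Cfsg.Agent.Lib.helper13
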