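import Mathlib
import Cfsg.Agent.Lib.helper24.SfuDefs
import Cfsg.Agent.Lib.helper46.SfuONB
import Cfsg.Agent.Lib.helper82.SfuNORMFIB

/-! S5982, piece UBAS (racing copy): a basis whose Gram matrix is the permutation matrix of an
involution. -/

set_option autoImplicit false

namespace Cfsg.Agent.Lib.helper24

open Module Matrix Cfsg.Geo

/-- Frobenius facts for a field with `q₀ ^ 2` elements. -/
theorem h13_sfu_frob {F : Type*} [Field F] [Fintype F] (q₀ : ℕ)
    (hcard : Fintype.card F = q₀ ^ 2) :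
    (∀ c : F, (c ^ q₀) ^ q₀ = c) ∧ (∀ a b : F, (a + b) ^ q₀ = a ^ q₀ + b ^ q₀) := by
  constructor
  · intro c
    rw [← pow_mul, ← sq, ← hcard, FiniteField.pow_card]
  · obtain ⟨p, hp⟩ := CharP.exists F
    obtain ⟨k, hpk, hk⟩ := FiniteField.card F p
    have hdvd : q₀ ∣ p ^ (k : ℕ) := by
      rw [← hk, hcard]; exact dvd_pow_self _ two_ne_zero
    obtain ⟨j, -, rfl⟩ := (Nat.dvd_prime_pow hpk).1 hdvd
    intro a b
    have hfact : Fact p.Prime := ⟨hpk⟩
    exact add_pow_char_pow a b p j

/-- PIECE UBAS (racing copy). -/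
theorem h13_sfu_basis_pi {F : Type*} [Field F] [Fintype F] {n : ℕ} (q₀ : ℕ)
    (hcard : Fintype.card F = q₀ ^ 2) (f : (Fin n → F) → (Fin n → F) → F)
    (hf : IsUnitaryFormPow q₀ f) (π : Fin n → Fin n) (hπ : ∀ i, π (π i) = i) :
    ∃ v : Fin n → (Fin n → F), LinearIndependent F v ∧
      ∀ i j, f (v i) (v j) = if j = π i then 1 else 0 := by
  classical
  obtain ⟨hinv, hadd⟩ := h13_sfu_frob q₀ hcard
  obtain ⟨e, -, he⟩ := sfu_onb q₀ hcard f hf
  have hq0 : q₀ ≠ 0 := by
    rintro rfl
    have hpos : 0 < Fintype.card F := Fintype.card_pos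
    rw [hcard] at hpos
    simp at hpos
  have hadd_r : ∀ v x y, f v (x + y) = f v x + f v y := by
    intro v x y
    rw [hf.herm v (x + y), hf.add_left, hadd, ← hf.herm, ← hf.herm]
  have hsmul_r : ∀ (c : F) (v x : Fin n → F), f v (c • x) = c ^ q₀ * f v x := by
    intro c v x
    rw [hf.herm v (c • x), hf.smul_left, mul_pow, ← hf.herm]
  have hzero_l : ∀ x, f 0 x = 0 := by
    intro x
    have h := hf.smul_left 0 0 x
    simpa using h
  have hsum_l : ∀ (g : Fin n → F) (w : Fin n → (Fin n → F)) (x : Fin n → F)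
      (s : Finset (Fin n)), f (∑ j ∈ s, g j • w j) x = ∑ j ∈ s, g j * f (w j) x := by
    intro g w x s
    induction s using Finset.induction_on with
    | empty => simp [hzero_l]
    | insert a s ha ih =>
      rw [Finset.sum_insert ha, Finset.sum_insert ha, hf.add_left, hf.smul_left, ih]
  have hneg : (-1 : F) ^ q₀ = -1 := by
    have h := hadd (-1) 1
    rw [neg_add_cancel, zero_pow hq0, one_pow] at h
    exact eq_neg_of_add_eq_zero_left h.symm
  have hfib := h82_sfu_norm_fiber q₀ hcard (-1 : F) (neg_ne_zero.mpr one_ne_zero) hneg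
  have hq1 : 1 < (Finset.univ.filter (fun x : F => x ^ (q₀ + 1) = -1)).card := by
    rw [hfib]; omega
  obtain ⟨α, hαm, α', hαm', hne⟩ := Finset.one_lt_card.mp hq1
  have hα : α ^ (q₀ + 1) = -1 := (Finset.mem_filter.mp hαm).2
  have hα' : α' ^ (q₀ + 1) = -1 := (Finset.mem_filter.mp hαm').2
  have hα'0 : α' ≠ 0 := by
    rintro rfl
    rw [zero_pow (Nat.succ_ne_zero q₀)] at hα'
    exact one_ne_zero (neg_eq_zero.mp hα'.symm)
  obtain ⟨c, hc1, hc2⟩ : ∃ c : F, c ^ q₀ * (1 + α * α' ^ q₀) = 1 ∧
      c * (1 + α' * α ^ q₀) = 1 := by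
    have hD0 : (1 + α' * α ^ q₀ : F) ≠ 0 := by
      intro h0
      have h1 : α ^ q₀ * α' = α' ^ q₀ * α' := by
        rw [← pow_succ, hα']; linear_combination h0
      have h2 : α ^ q₀ = α' ^ q₀ := mul_right_cancel₀ hα'0 h1
      have h3 : (α ^ q₀) ^ q₀ = (α' ^ q₀) ^ q₀ := by rw [h2]
      rw [hinv, hinv] at h3
      exact hne h3
    have hDq : (1 + α' * α ^ q₀ : F) ^ q₀ = 1 + α * α' ^ q₀ := by
      rw [hadd, one_pow, mul_pow, hinv]; ring
    refine ⟨(1 + α' * α ^ q₀)⁻¹, ?_, inv_mul_cancel₀ hD0⟩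
    rw [inv_pow, hDq]
    exact inv_mul_cancel₀ (hDq ▸ pow_ne_zero _ hD0)
  have key : ∀ (a b a' b' : F) (i j : Fin n),
      f (a • e i + b • e (π i)) (a' • e j + b' • e (π j)) =
        a * a' ^ q₀ * (if i = j then 1 else 0) + a * b' ^ q₀ * (if i = π j then 1 else 0)
        + b * a' ^ q₀ * (if π i = j then 1 else 0)
        + b * b' ^ q₀ * (if π i = π j then 1 else 0) := by
    intro a b a' b' i j
    simp only [hf.add_left, hadd_r, hf.smul_left, hsmul_r, he]
    ring
  obtain ⟨a, ha⟩ : ∃ a : Fin n → F, a = fun j =>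
      if π j = j then 1 else if j < π j then 1 else c * α' := ⟨_, rfl⟩
  obtain ⟨b, hb⟩ : ∃ b : Fin n → F, b = fun j =>
      if π j = j then 0 else if j < π j then α else c := ⟨_, rfl⟩
  have hfixv : ∀ j, π j = j → a j = 1 ∧ b j = 0 := by
    intro j hj; rw [ha, hb]; simp [hj]
  have hltv : ∀ j, j < π j → a j = 1 ∧ b j = α := by
    intro j hj
    have hj' : π j ≠ j := ne_of_gt hj
    rw [ha, hb]; simp [hj, hj']
  have hgtv : ∀ j, π j < j → a j = c * α' ∧ b j = c := by
    intro j hj
    have hj' : π j ≠ j := ne_of_lt hj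
    have hj'' : ¬ j < π j := not_lt.mpr hj.le
    rw [ha, hb]; simp [hj', hj'']
  have hgram : ∀ i j, f (a i • e i + b i • e (π i)) (a j • e j + b j • e (π j)) =
      if j = π i then 1 else 0 := by
    intro i j
    rw [key]
    by_cases hj : j = π i
    · subst hj
      simp only [hπ, if_true]
      by_cases hfix : π i = i
      · obtain ⟨h1, h2⟩ := hfixv i hfix
        simp only [hfix, h1, h2, if_true]
        simp [hq0]
      · have hfix' : ¬ i = π i := fun h => hfix h.symm
        simp only [hfix, hfix', if_false, mul_zero, add_zero, zero_add, mul_one]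
        rcases lt_or_gt_of_ne hfix with hlt | hgt
        · -- π i < i
          obtain ⟨h1, h2⟩ := hgtv i hlt
          have hlt2 : π i < π (π i) := by rw [hπ]; exact hlt
          obtain ⟨h3, h4⟩ := hltv (π i) hlt2
          rw [h1, h2, h3, h4, one_pow]
          linear_combination hc2
        · -- i < π i
          obtain ⟨h1, h2⟩ := hltv i hgt
          have hgt2 : π (π i) < π i := by rw [hπ]; exact hgt
          obtain ⟨h3, h4⟩ := hgtv (π i) hgt2
          rw [h1, h2, h3, h4, mul_pow]
          linear_combination hc1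
    · rw [if_neg hj]
      by_cases hij : j = i
      · subst hij
        have hfix : ¬ π j = j := fun h => hj h.symm
        simp only [hfix, hj, if_true, if_false, mul_zero, add_zero, mul_one]
        rcases lt_or_gt_of_ne hfix with hlt | hgt
        · obtain ⟨h1, h2⟩ := hgtv j hlt
          rw [h1, h2]
          linear_combination (c ^ (q₀ + 1)) * hα'
        · obtain ⟨h1, h2⟩ := hltv j hgt
          rw [h1, h2]
          linear_combination hα
      · have n1 : ¬ i = j := fun h => hij h.symm
        have n2 : ¬ i = π j := fun h => hj (by rw [h, hπ])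
        have n3 : ¬ π i = j := fun h => hj h.symm
        have n4 : ¬ π i = π j := fun h => n1 (by rw [← hπ i, h, hπ])
        simp only [n1, n2, n3, n4, if_false, mul_zero, add_zero]
  refine ⟨fun j => a j • e j + b j • e (π j), ?_, hgram⟩
  rw [Fintype.linearIndependent_iff]
  intro g hg i
  have hπinj : ∀ i j, π i = π j → i = j := fun i j h => by rw [← hπ i, h, hπ]
  have h1 : f (∑ j, g j • (a j • e j + b j • e (π j))) (a (π i) • e (π i) + b (π i) • e (π (π i)))
      = g i := by
    rw [hsum_l]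
    simp only [hgram]
    rw [Finset.sum_eq_single i]
    · simp
    · intro j _ hji
      have : ¬ π i = π j := fun h => hji (hπinj _ _ h).symm
      simp [this]
    · intro h; exact absurd (Finset.mem_univ i) h
  rw [hg, hzero_l] at h1
  exact h1.symm

end Cfsg.Agent.Lib.helper24
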