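import Mathlib
import Cfsg.Agent.Lib.helper42.AICDefs

/-!
S2202 split (helper42): small general lemmas used by helper13's pieces C5, C6, Z2.
-/

set_option autoImplicit false

open Cfsg.Agent.Lib.helper42.AIC

namespace Cfsg.Agent.Lib.helper13.AIC

/-- `CP P` is normalized by `NP P` (element form). -/
theorem aic_conj_mem_cp {G : Type*} [Group G] (P : Sylow 2 G) {g c : G} (hg : g ∈ NP P)
    (hc : c ∈ CP P) : g * c * g⁻¹ ∈ CP P := by
  rw [Subgroup.mem_centralizer_iff]
  intro y hy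
  have hy' : g⁻¹ * y * g ∈ (P : Subgroup G) := by
    have h := (Subgroup.mem_set_normalizer_iff.1 ((NP P).inv_mem hg) y).1 hy
    rwa [inv_inv] at h
  have h2 := (Subgroup.mem_centralizer_iff.1 hc) (g⁻¹ * y * g) hy'
  calc y * (g * c * g⁻¹) = g * ((g⁻¹ * y * g) * c) * g⁻¹ := by group
    _ = g * (c * (g⁻¹ * y * g)) * g⁻¹ := by rw [h2]
    _ = g * c * g⁻¹ * y := by group

/-- `CP P ≤ NP P` (element form). -/
theorem aic_cp_le_np {G : Type*} [Group G] (P : Sylow 2 G) {c : G} (hc : c ∈ CP P) :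
    c ∈ NP P := by
  rw [Subgroup.mem_set_normalizer_iff]
  intro y
  have key : ∀ y ∈ (P : Subgroup G), c * y * c⁻¹ = y := by
    intro y hy
    have h2 := (Subgroup.mem_centralizer_iff.1 hc) y hy
    rw [← h2, mul_inv_cancel_right]
  constructor
  · intro hy
    rw [key y hy]
    exact hy
  · intro hy
    have h3 := key _ hy
    have h4 : y = c * y * c⁻¹ := by
      have : c⁻¹ * (c * (c * y * c⁻¹) * c⁻¹) * c = c⁻¹ * (c * y * c⁻¹) * c := by rw [h3]
      calc y = c⁻¹ * (c * y * c⁻¹) * c := by group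
        _ = c⁻¹ * (c * (c * y * c⁻¹) * c⁻¹) * c := this.symm
        _ = c * y * c⁻¹ := by group
    rw [h4]
    exact hy

end Cfsg.Agent.Lib.helper13.AIC
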