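import Mathlib
import Cfsg.Agent.Lib.helper42.AICDefs
import Cfsg.Agent.Lib.helper42.AIC_A
import Cfsg.Agent.Lib.helper15.AIC_A5
import Cfsg.Agent.Lib.helper15.AIC_A7
import Cfsg.Agent.Lib.helper15.AIC_A8
import Cfsg.Agent.Lib.helper15.AIC_A11
import Cfsg.Agent.Lib.helper69.AIC_O1
import Cfsg.Agent.Lib.helper69.AIC_O2
import Cfsg.Agent.Lib.helper18.AIC_B2core
import Cfsg.Agent.Lib.helper13.AICAux

/-!
S2202 split (helper42), PIECES B3a + B3b (helper13): `|D| = q - 1` and swapping involutions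
invert `D = NP P ⊓ NP Q`.
-/

set_option autoImplicit false

open Cfsg.Agent.Lib.helper42.AIC

namespace Cfsg.Agent.Lib.helper13.AIC

/-- B2 (helper18's core applied to the landed Wave-1 pieces). -/
theorem aic_cp_inf_np {G : Type*} [Group G] [Finite G] (hA : AIC G) (hnc : NCyc G) (hnn : NNor G)
    (hK : KTI G) (P Q : Sylow 2 G) (hPQ : P ≠ Q) {x : G} (hxP : x ∈ CP P) (hxQ : x ∈ NP Q) :
    x = 1 :=
  Cfsg.Agent.Lib.helper18.AIC.cp_inf_np_core hK P Q hPQ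
    (fun R t ht htR => Cfsg.Agent.Lib.helper42.AIC.cent_eq hA hnc R ht htR)
    (fun R S x hxR hxS hx1 => Cfsg.Agent.Lib.helper42.AIC.sylow_ti hA hnc R S hxR hxS hx1)
    (fun R x hx k hk => Cfsg.Agent.Lib.helper42.AIC.mem_of_np R hx k hk)
    (fun R S hRS x hxR hxS => Cfsg.Agent.Lib.helper15.AIC.odd_of_cp_np hA hnc R S hRS hxR hxS)
    (Cfsg.Agent.Lib.helper15.AIC.card_swap hA hnc hnn P Q hPQ)
    (fun t ht => Cfsg.Agent.Lib.helper42.AIC.exists_sylow_inv hA hnc ht)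
    (Cfsg.Agent.Lib.helper15.AIC.three_le_inv hA hnc P)
    (fun D hD w hw hwD => Cfsg.Agent.Lib.helper69.AIC.card_inverted D hD w hw hwD)
    (fun R x hxo hxR hx1 h hh => Cfsg.Agent.Lib.helper42.AIC.cent_le_np hK R hxo hxR hx1 hh)
    hxP hxQ

/-- There is an involution swapping `P` and `Q`. -/
theorem aic_exists_swap {G : Type*} [Group G] [Finite G] (hA : AIC G) (hnc : NCyc G)
    (hnn : NNor G) (P Q : Sylow 2 G) (hPQ : P ≠ Q) :
    ∃ w : G, orderOf w = 2 ∧ w • P = Q := by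
  have h7 := Cfsg.Agent.Lib.helper15.AIC.card_swap hA hnc hnn P Q hPQ
  have h12 := Cfsg.Agent.Lib.helper15.AIC.three_le_inv hA hnc P
  have hpos : 0 < Nat.card {i : G // orderOf i = 2 ∧ i • P = Q} := by
    rw [h7]
    omega
  obtain ⟨⟨w, hw⟩⟩ := (Nat.card_pos_iff.1 hpos).1
  exact ⟨w, hw⟩

/-- Basic facts on an involution `w` with `w • P = Q`. -/
theorem aic_swap_facts {G : Type*} [Group G] (P Q : Sylow 2 G) {w : G} (hw : orderOf w = 2)
    (hwP : w • P = Q) : w * w = 1 ∧ w⁻¹ = w ∧ w • Q = P := by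
  have h1 : w * w = 1 := by rw [← pow_two, ← hw, pow_orderOf_eq_one]
  have h2 : w⁻¹ = w := inv_eq_of_mul_eq_one_left h1
  refine ⟨h1, h2, ?_⟩
  rw [← hwP, smul_smul, h1, one_smul]

/-- A swapping involution normalizes `D`. -/
theorem aic_swap_norm_D {G : Type*} [Group G] (P Q : Sylow 2 G) {w : G} (hw : orderOf w = 2)
    (hwP : w • P = Q) : ∀ d ∈ NP P ⊓ NP Q, w * d * w⁻¹ ∈ NP P ⊓ NP Q := by
  obtain ⟨hww, hwinv, hwQ⟩ := aic_swap_facts P Q hw hwP
  intro d hd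
  have hdP : d • P = P := Sylow.smul_eq_iff_mem_normalizer.2 hd.1
  have hdQ : d • Q = Q := Sylow.smul_eq_iff_mem_normalizer.2 hd.2
  constructor
  · apply Sylow.smul_eq_iff_mem_normalizer.1
    rw [mul_smul, mul_smul, hwinv, hwP, hdQ, hwQ]
  · apply Sylow.smul_eq_iff_mem_normalizer.1
    rw [mul_smul, mul_smul, hwinv, hwQ, hdP, hwP]

/-- `D` has odd order. -/
theorem aic_D_odd {G : Type*} [Group G] [Finite G] (hA : AIC G) (hnc : NCyc G)
    (P Q : Sylow 2 G) (hPQ : P ≠ Q) : Odd (Nat.card ↥(NP P ⊓ NP Q)) := by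
  by_contra hodd
  rw [Nat.not_odd_iff_even, even_iff_two_dvd] at hodd
  have hp2 : Fact (Nat.Prime 2) := ⟨Nat.prime_two⟩
  obtain ⟨⟨j, hj⟩, hjo⟩ := exists_prime_orderOf_dvd_card' 2 hodd
  have hjo' : orderOf j = 2 := by rwa [Subgroup.orderOf_mk] at hjo
  have hj2 : j ^ (2 ^ 1) = 1 := by rw [pow_one, ← hjo', pow_orderOf_eq_one]
  have hjP := Cfsg.Agent.Lib.helper42.AIC.mem_of_np P hj.1 1 hj2
  have hjQ := Cfsg.Agent.Lib.helper42.AIC.mem_of_np Q hj.2 1 hj2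
  have hj1 : j ≠ 1 := by
    rintro rfl
    rw [orderOf_one] at hjo'
    omega
  exact hPQ (Cfsg.Agent.Lib.helper42.AIC.sylow_ti hA hnc P Q hjP hjQ hj1)

/-- The count `|D| = (q - 1) |C_D(w)|`. -/
theorem aic_D_count {G : Type*} [Group G] [Finite G] (hA : AIC G) (hnc : NCyc G) (hnn : NNor G)
    (P Q : Sylow 2 G) (hPQ : P ≠ Q) {w : G} (hw : orderOf w = 2) (hwP : w • P = Q) :
    Nat.card {t : G // orderOf t = 2 ∧ t ∈ (P : Subgroup G)} *
      Nat.card {d : G // d ∈ NP P ⊓ NP Q ∧ w * d = d * w} = Nat.card ↥(NP P ⊓ NP Q) := by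
  obtain ⟨hww, hwinv, hwQ⟩ := aic_swap_facts P Q hw hwP
  have hwD := aic_swap_norm_D P Q hw hwP
  have hO1 := Cfsg.Agent.Lib.helper69.AIC.card_inverted (NP P ⊓ NP Q)
    (aic_D_odd hA hnc P Q hPQ) w hww hwD
  rw [← hO1]
  congr 1
  rw [← Cfsg.Agent.Lib.helper15.AIC.card_swap hA hnc hnn P Q hPQ]
  have hp2 : Fact (Nat.Prime 2) := ⟨Nat.prime_two⟩
  have hi : ∀ i : G, orderOf i = 2 → i • P = Q →
      (i * w ∈ NP P ⊓ NP Q ∧ w * (i * w) * w⁻¹ = (i * w)⁻¹) := by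
    intro i hi2 hiP
    obtain ⟨hii, hiinv, hiQ⟩ := aic_swap_facts P Q hi2 hiP
    refine ⟨⟨?_, ?_⟩, ?_⟩
    · apply Sylow.smul_eq_iff_mem_normalizer.1
      rw [mul_smul, hwP, hiQ]
    · apply Sylow.smul_eq_iff_mem_normalizer.1
      rw [mul_smul, hwQ, hiP]
    · rw [mul_inv_rev, hwinv, hiinv, mul_assoc, mul_assoc, hww, mul_one]
  have hd : ∀ d : G, d ∈ NP P ⊓ NP Q → w * d * w⁻¹ = d⁻¹ →
      (orderOf (d * w) = 2 ∧ (d * w) • P = Q) := by
    intro d hdD hdw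
    have hdQ : d • Q = Q := Sylow.smul_eq_iff_mem_normalizer.2 hdD.2
    have h1 : (d * w) • P = Q := by rw [mul_smul, hwP, hdQ]
    refine ⟨?_, h1⟩
    apply orderOf_eq_prime
    · rw [pow_two]
      calc d * w * (d * w) = d * (w * d * w) := by group
        _ = d * (w * d * w⁻¹) := by rw [hwinv]
        _ = 1 := by rw [hdw, mul_inv_cancel]
    · intro h
      rw [h, one_smul] at h1
      exact hPQ h1
  exact Nat.card_congr
    { toFun := fun i => ⟨i.1 * w, hi i.1 i.2.1 i.2.2⟩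
      invFun := fun d => ⟨d.1 * w, hd d.1 d.2.1 d.2.2⟩
      left_inv := fun i => Subtype.ext (by
        show i.1 * w * w = i.1
        rw [mul_assoc, hww, mul_one])
      right_inv := fun d => Subtype.ext (by
        show d.1 * w * w = d.1
        rw [mul_assoc, hww, mul_one]) }

/-- B3a -/
theorem card_D {G : Type*} [Group G] [Finite G] (hA : AIC G) (hnc : NCyc G) (hnn : NNor G)
    (hK : KTI G) (P Q : Sylow 2 G) (hPQ : P ≠ Q) :
    Nat.card ↥(NP P ⊓ NP Q) = Nat.card {t : G // orderOf t = 2 ∧ t ∈ (P : Subgroup G)} := by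
  obtain ⟨w, hw, hwP⟩ := aic_exists_swap hA hnc hnn P Q hPQ
  have hcount := aic_D_count hA hnc hnn P Q hPQ hw hwP
  have h12 := Cfsg.Agent.Lib.helper15.AIC.three_le_inv hA hnc P
  have hpos : 0 < Nat.card {t : G // orderOf t = 2 ∧ t ∈ (P : Subgroup G)} := by omega
  obtain ⟨⟨t, ht2, htP⟩⟩ := (Nat.card_pos_iff.1 hpos).1
  have hcent := Cfsg.Agent.Lib.helper42.AIC.cent_eq hA hnc P ht2 htP
  let f : ↥(NP P ⊓ NP Q) → {t : G // orderOf t = 2 ∧ t ∈ (P : Subgroup G)} := fun d =>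
    ⟨(d : G) * t * (d : G)⁻¹, by
      have h := (MulAut.conj (d : G)).orderOf_eq t
      rw [MulAut.conj_apply] at h
      rw [h, ht2], (Subgroup.mem_set_normalizer_iff.1 d.2.1 t).1 htP⟩
  have hf : Function.Injective f := by
    intro d e hde
    have h1 : (d : G) * t * (d : G)⁻¹ = (e : G) * t * (e : G)⁻¹ := congrArg Subtype.val hde
    have h2 : (e : G)⁻¹ * (d : G) ∈ Subgroup.centralizer ({t} : Set G) := by
      rw [Subgroup.mem_centralizer_iff]
      intro x hx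
      rw [Set.mem_singleton_iff] at hx
      rw [hx]
      calc t * ((e : G)⁻¹ * (d : G)) = (e : G)⁻¹ * ((e : G) * t * (e : G)⁻¹) * (d : G) := by group
        _ = (e : G)⁻¹ * ((d : G) * t * (d : G)⁻¹) * (d : G) := by rw [h1]
        _ = (e : G)⁻¹ * (d : G) * t := by group
    rw [hcent] at h2
    have h3 := aic_cp_inf_np hA hnc hnn hK P Q hPQ h2
      ((NP Q).mul_mem ((NP Q).inv_mem e.2.2) d.2.2)
    exact Subtype.ext (inv_mul_eq_one.1 h3).symm
  have hle := Nat.card_le_card_of_injective f hf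
  have hkpos : 0 < Nat.card {d : G // d ∈ NP P ⊓ NP Q ∧ w * d = d * w} :=
    Nat.card_pos_iff.2 ⟨⟨⟨1, (NP P ⊓ NP Q).one_mem, by rw [mul_one, one_mul]⟩⟩, inferInstance⟩
  apply Nat.le_antisymm hle
  rw [← hcount]
  exact Nat.le_mul_of_pos_right _ hkpos

/-- B3b -/
theorem D_inverted {G : Type*} [Group G] [Finite G] (hA : AIC G) (hnc : NCyc G) (hnn : NNor G)
    (hK : KTI G) (P Q : Sylow 2 G) (hPQ : P ≠ Q) {w : G} (hw : orderOf w = 2) (hwP : w • P = Q) :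
    ∀ d ∈ NP P ⊓ NP Q, w * d * w⁻¹ = d⁻¹ := by
  obtain ⟨hww, hwinv, hwQ⟩ := aic_swap_facts P Q hw hwP
  have hwD := aic_swap_norm_D P Q hw hwP
  have hcount := aic_D_count hA hnc hnn P Q hPQ hw hwP
  have hcard := card_D hA hnc hnn hK P Q hPQ
  have h12 := Cfsg.Agent.Lib.helper15.AIC.three_le_inv hA hnc P
  have hk : Nat.card {d : G // d ∈ NP P ⊓ NP Q ∧ w * d = d * w} = 1 := by
    rw [hcard] at hcount
    have h1 : Nat.card {t : G // orderOf t = 2 ∧ t ∈ (P : Subgroup G)} *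
        Nat.card {d : G // d ∈ NP P ⊓ NP Q ∧ w * d = d * w} =
        Nat.card {t : G // orderOf t = 2 ∧ t ∈ (P : Subgroup G)} * 1 := by
      rw [hcount, mul_one]
    exact Nat.eq_of_mul_eq_mul_left (by omega) h1
  have hfpf : ∀ d ∈ NP P ⊓ NP Q, w * d = d * w → d = 1 := by
    intro d hd hdw
    have hsub : Subsingleton {d : G // d ∈ NP P ⊓ NP Q ∧ w * d = d * w} :=
      (Nat.card_eq_one_iff_unique.1 hk).1
    have h1 := Subsingleton.elim
      (⟨d, hd, hdw⟩ : {d : G // d ∈ NP P ⊓ NP Q ∧ w * d = d * w})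
      ⟨1, (NP P ⊓ NP Q).one_mem, by rw [mul_one, one_mul]⟩
    exact congrArg Subtype.val h1
  exact Cfsg.Agent.Lib.helper69.AIC.inverts_of_fpf (NP P ⊓ NP Q) w hww hwD hfpf

end Cfsg.Agent.Lib.helper13.AIC
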