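import Mathlib
import Cfsg.Agent.Lib.helper42.AICDefs
import Cfsg.Agent.Lib.helper13.AICAux
import Cfsg.Agent.Lib.helper13.AIC_B3
import Cfsg.Agent.Lib.helper4.AIC_B4a

/-!
S2202 split (helper42), PIECES C1 + C2 (helper13): `NP P = D * CP P` and conjugation into `D`.
-/

set_option autoImplicit false

open Cfsg.Agent.Lib.helper42.AIC

namespace Cfsg.Agent.Lib.helper13.AIC

/-- B4 (helper4's core applied to the landed pieces). -/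
theorem aic_D_fpf {G : Type*} [Group G] [Finite G] (hA : AIC G) (hnc : NCyc G) (hnn : NNor G)
    (hK : KTI G) (P Q : Sylow 2 G) (hPQ : P ≠ Q) {d : G} (hd : d ∈ NP P ⊓ NP Q) (hd1 : d ≠ 1)
    {c : G} (hc : c ∈ CP P) (hcd : c * d = d * c) : c = 1 :=
  Cfsg.Agent.Lib.helper4.AIC.D_fpf_of
    (fun R S _ hxR hxS hx1 => Cfsg.Agent.Lib.helper42.AIC.sylow_ti hA hnc R S hxR hxS hx1)
    (fun R _ hx k hk => Cfsg.Agent.Lib.helper42.AIC.mem_of_np R hx k hk)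
    (fun ht => Cfsg.Agent.Lib.helper42.AIC.exists_sylow_inv hA hnc ht)
    (fun D w hw hwD hfpf => Cfsg.Agent.Lib.helper69.AIC.inverts_of_fpf D w hw hwD hfpf)
    (fun R _ hxo hxR hx1 _ hh => Cfsg.Agent.Lib.helper42.AIC.cent_le_np hK R hxo hxR hx1 hh)
    (fun R S hRS _ hxR hxS => aic_cp_inf_np hA hnc hnn hK R S hRS hxR hxS)
    (fun R S hRS _ hw hwR => D_inverted hA hnc hnn hK R S hRS hw hwR)
    (fun R S hRS => aic_exists_swap hA hnc hnn R S hRS)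
    hK P Q hPQ hd hd1 hc hcd

/-- C1 -/
theorem np_decomp {G : Type*} [Group G] [Finite G] (hA : AIC G) (hnc : NCyc G) (hnn : NNor G)
    (hK : KTI G) (P Q : Sylow 2 G) (hPQ : P ≠ Q) {h : G} (hh : h ∈ NP P) :
    ∃ d ∈ NP P ⊓ NP Q, ∃ c ∈ CP P, h = d * c := by
  have hA8 := Cfsg.Agent.Lib.helper15.AIC.card_np hA hnc hnn P
  have hB3 := card_D hA hnc hnn hK P Q hPQ
  let f : ↥(NP P ⊓ NP Q) × ↥(CP P) → ↥(NP P) := fun x =>
    ⟨(x.1 : G) * (x.2 : G), (NP P).mul_mem x.1.2.1 (aic_cp_le_np P x.2.2)⟩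
  have hf : Function.Injective f := by
    rintro ⟨d, c⟩ ⟨d', c'⟩ hdc
    have h1 : (d : G) * (c : G) = (d' : G) * (c' : G) := congrArg Subtype.val hdc
    have h2 : (d' : G)⁻¹ * (d : G) = (c' : G) * (c : G)⁻¹ := by
      calc (d' : G)⁻¹ * (d : G) = (d' : G)⁻¹ * ((d : G) * (c : G)) * (c : G)⁻¹ := by group
        _ = (d' : G)⁻¹ * ((d' : G) * (c' : G)) * (c : G)⁻¹ := by rw [h1]
        _ = (c' : G) * (c : G)⁻¹ := by group
    have h3 : (d' : G)⁻¹ * (d : G) = 1 := by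
      apply aic_cp_inf_np hA hnc hnn hK P Q hPQ
      · rw [h2]
        exact (CP P).mul_mem c'.2 ((CP P).inv_mem c.2)
      · exact (NP Q).mul_mem ((NP Q).inv_mem d'.2.2) d.2.2
    have h4 : (d : G) = (d' : G) := (inv_mul_eq_one.1 h3).symm
    have h5 : (c : G) = (c' : G) := by
      rw [h4] at h1
      exact mul_left_cancel h1
    exact Prod.ext (Subtype.ext h4) (Subtype.ext h5)
  have hcard : Nat.card ↥(NP P) ≤ Nat.card (↥(NP P ⊓ NP Q) × ↥(CP P)) := by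
    rw [Nat.card_prod, hB3, hA8]
  obtain ⟨⟨d, c⟩, hdc⟩ := (hf.bijective_of_nat_card_le hcard).2 ⟨h, hh⟩
  exact ⟨d, d.2, c, c.2, (congrArg Subtype.val hdc).symm⟩

/-- C2 -/
theorem conj_into_D {G : Type*} [Group G] [Finite G] (hA : AIC G) (hnc : NCyc G) (hnn : NNor G)
    (hK : KTI G) (P Q : Sylow 2 G) (hPQ : P ≠ Q) {h : G} (hh : h ∈ NP P) (hhC : h ∉ CP P) :
    ∃ c ∈ CP P, c⁻¹ * h * c ∈ NP P ⊓ NP Q := by
  obtain ⟨d₀, hd₀, c₀, hc₀, rfl⟩ := np_decomp hA hnc hnn hK P Q hPQ hh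
  have hd₀1 : d₀ ≠ 1 := by
    rintro rfl
    apply hhC
    rw [one_mul]
    exact hc₀
  have hcomm := Cfsg.Agent.Lib.helper42.AIC.cp_comm hA hnc P
  let φ : ↥(CP P) → ↥(CP P) := fun c =>
    ⟨d₀⁻¹ * (c : G)⁻¹ * d₀ * (c : G), by
      have h1 := aic_conj_mem_cp P ((NP P).inv_mem hd₀.1) ((CP P).inv_mem c.2)
      rw [inv_inv] at h1
      exact (CP P).mul_mem h1 c.2⟩
  have hφ : Function.Injective φ := by
    intro c c' hcc
    have h1 : d₀⁻¹ * (c : G)⁻¹ * d₀ * (c : G) = d₀⁻¹ * (c' : G)⁻¹ * d₀ * (c' : G) :=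
      congrArg Subtype.val hcc
    have h1' : (c : G)⁻¹ * d₀ * (c : G) = (c' : G)⁻¹ * d₀ * (c' : G) := by
      calc (c : G)⁻¹ * d₀ * (c : G) = d₀ * (d₀⁻¹ * (c : G)⁻¹ * d₀ * (c : G)) := by group
        _ = d₀ * (d₀⁻¹ * (c' : G)⁻¹ * d₀ * (c' : G)) := by rw [h1]
        _ = (c' : G)⁻¹ * d₀ * (c' : G) := by group
    have h2 : ((c' : G) * (c : G)⁻¹) * d₀ = d₀ * ((c' : G) * (c : G)⁻¹) := by
      calc (c' : G) * (c : G)⁻¹ * d₀ = (c' : G) * ((c : G)⁻¹ * d₀ * (c : G)) * (c : G)⁻¹ := by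
            group
        _ = (c' : G) * ((c' : G)⁻¹ * d₀ * (c' : G)) * (c : G)⁻¹ := by rw [h1']
        _ = d₀ * ((c' : G) * (c : G)⁻¹) := by group
    have h3 := aic_D_fpf hA hnc hnn hK P Q hPQ hd₀ hd₀1
      ((CP P).mul_mem c'.2 ((CP P).inv_mem c.2)) h2
    exact Subtype.ext (mul_inv_eq_one.1 h3).symm
  obtain ⟨c, hc⟩ := (Finite.injective_iff_surjective.1 hφ) ⟨c₀⁻¹, (CP P).inv_mem hc₀⟩
  have hc' : d₀⁻¹ * (c : G)⁻¹ * d₀ * (c : G) = c₀⁻¹ := congrArg Subtype.val hc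
  refine ⟨c, c.2, ?_⟩
  have hcc₀ : c₀ * (c : G) = (c : G) * c₀ := hcomm c₀ hc₀ c c.2
  have h4 : (c : G)⁻¹ * (d₀ * c₀) * (c : G) = d₀ := by
    calc (c : G)⁻¹ * (d₀ * c₀) * (c : G) = (c : G)⁻¹ * d₀ * (c₀ * (c : G)) := by group
      _ = (c : G)⁻¹ * d₀ * ((c : G) * c₀) := by rw [hcc₀]
      _ = d₀ * (d₀⁻¹ * (c : G)⁻¹ * d₀ * (c : G)) * c₀ := by group
      _ = d₀ * c₀⁻¹ * c₀ := by rw [hc']
      _ = d₀ := by group
  rw [h4]
  exact hd₀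

end Cfsg.Agent.Lib.helper13.AIC
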