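import Mathlib
import Cfsg.Agent.Lib.helper42.AICDefs
import Cfsg.Agent.Lib.helper13.AICAux
import Cfsg.Agent.Lib.helper13.AIC_B3
import Cfsg.Agent.Lib.helper13.AIC_C1
import Cfsg.Agent.Lib.helper4.AIC_C3a

/-!
S2202 split (helper42), PIECE C4 (helper13): the only points fixed by `D` are `P` and `Q`.
-/

set_option autoImplicit false

open Cfsg.Agent.Lib.helper42.AIC

namespace Cfsg.Agent.Lib.helper13.AIC

/-- `D ≠ 1`. -/
theorem aic_D_ne {G : Type*} [Group G] [Finite G] (hA : AIC G) (hnc : NCyc G) (hnn : NNor G)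
    (hK : KTI G) (P Q : Sylow 2 G) (hPQ : P ≠ Q) : ∃ d ∈ NP P ⊓ NP Q, d ≠ 1 := by
  have h12 := Cfsg.Agent.Lib.helper15.AIC.three_le_inv hA hnc P
  have hcard := card_D hA hnc hnn hK P Q hPQ
  have hne : (NP P ⊓ NP Q) ≠ ⊥ := by
    rw [← Subgroup.one_lt_card_iff_ne_bot, hcard]
    omega
  obtain ⟨⟨d, hd⟩, hd1⟩ := (Subgroup.ne_bot_iff_exists_ne_one).1 hne
  exact ⟨d, hd, fun h => hd1 (Subtype.ext h)⟩

/-- C3 (helper4's core applied to the landed pieces). -/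
theorem aic_cent_D_le {G : Type*} [Group G] [Finite G] (hA : AIC G) (hnc : NCyc G) (hnn : NNor G)
    (hK : KTI G) (P Q : Sylow 2 G) (hPQ : P ≠ Q) {y : G}
    (hy : ∀ d ∈ NP P ⊓ NP Q, y * d = d * y) : y ∈ NP P ⊓ NP Q :=
  Cfsg.Agent.Lib.helper4.AIC.cent_D_le_of
    (fun R S _ hxR hxS hx1 => Cfsg.Agent.Lib.helper42.AIC.sylow_ti hA hnc R S hxR hxS hx1)
    (fun R _ hx k hk => Cfsg.Agent.Lib.helper42.AIC.mem_of_np R hx k hk)
    (fun R S hRS _ hxR hxS => aic_cp_inf_np hA hnc hnn hK R S hRS hxR hxS)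
    (fun R S hRS _ hw hwR => D_inverted hA hnc hnn hK R S hRS hw hwR)
    (fun R S hRS _ hd hd1 _ hc hcd => aic_D_fpf hA hnc hnn hK R S hRS hd hd1 hc hcd)
    (fun R S hRS _ hh => np_decomp hA hnc hnn hK R S hRS hh)
    (fun R S hRS => aic_exists_swap hA hnc hnn R S hRS)
    (fun R S hRS => aic_D_ne hA hnc hnn hK R S hRS)
    P Q hPQ hy

/-- C4 -/
theorem fix_D {G : Type*} [Group G] [Finite G] (hA : AIC G) (hnc : NCyc G) (hnn : NNor G)
    (hK : KTI G) (P Q : Sylow 2 G) (hPQ : P ≠ Q) (R : Sylow 2 G) (hRP : R ≠ P)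
    (hR : ∀ d ∈ NP P ⊓ NP Q, d ∈ NP R) : R = Q := by
  have hPR : P ≠ R := Ne.symm hRP
  have hle : NP P ⊓ NP Q ≤ NP P ⊓ NP R := fun d hd => ⟨hd.1, hR d hd⟩
  obtain ⟨w, hw, hwP⟩ := aic_exists_swap hA hnc hnn P Q hPQ
  obtain ⟨i, hi, hiP⟩ := aic_exists_swap hA hnc hnn P R hPR
  have hinvw := D_inverted hA hnc hnn hK P Q hPQ hw hwP
  have hinvi := D_inverted hA hnc hnn hK P R hPR hi hiP
  obtain ⟨hww, hwinv, hwQ⟩ := aic_swap_facts P Q hw hwP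
  have hcent : ∀ d ∈ NP P ⊓ NP Q, (w * i) * d = d * (w * i) := by
    intro d hd
    have h1 := hinvi d (hle hd)
    have h2 := hinvw d⁻¹ ((NP P ⊓ NP Q).inv_mem hd)
    rw [inv_inv] at h2
    calc w * i * d = w * (i * d * i⁻¹) * i := by group
      _ = w * d⁻¹ * i := by rw [h1]
      _ = (w * d⁻¹ * w⁻¹) * (w * i) := by group
      _ = d * (w * i) := by rw [h2]
  have hwi := aic_cent_D_le hA hnc hnn hK P Q hPQ hcent
  have h3 : (w * i) • P = P := Sylow.smul_eq_iff_mem_normalizer.2 hwi.1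
  rw [mul_smul, hiP] at h3
  calc R = w⁻¹ • (w • R) := (inv_smul_smul w R).symm
    _ = w⁻¹ • P := by rw [h3]
    _ = w • P := by rw [hwinv]
    _ = Q := hwP

end Cfsg.Agent.Lib.helper13.AIC
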