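import Mathlib
import Cfsg.Agent.Lib.helper42.AICDefs
import Cfsg.Agent.Lib.helper13.AICAux
import Cfsg.Agent.Lib.helper13.AIC_B3
import Cfsg.Agent.Lib.helper13.AIC_C1
import Cfsg.Agent.Lib.helper13.AIC_C4

/-!
S2202 split (helper42), PIECE C5 (helper13): `C(P)` is transitive on the Sylow 2-subgroups
other than `P`.
-/

set_option autoImplicit false

open Cfsg.Agent.Lib.helper42.AIC

namespace Cfsg.Agent.Lib.helper13.AIC

/-- `D = NP P ⊓ NP Q` is commutative. -/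
theorem aic5_D_comm {G : Type*} [Group G] [Finite G] (hA : AIC G) (hnc : NCyc G) (hnn : NNor G)
    (hK : KTI G) (P Q : Sylow 2 G) (hPQ : P ≠ Q) :
    ∀ x ∈ NP P ⊓ NP Q, ∀ y ∈ NP P ⊓ NP Q, x * y = y * x := by
  intro x hx y hy
  obtain ⟨w, hw, hwP⟩ := aic_exists_swap hA hnc hnn P Q hPQ
  have hinv := D_inverted hA hnc hnn hK P Q hPQ hw hwP
  have h1 := hinv x hx
  have h2 := hinv y hy
  have h3 := hinv (x * y) ((NP P ⊓ NP Q).mul_mem hx hy)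
  have h4 : w * (x * y) * w⁻¹ = (w * x * w⁻¹) * (w * y * w⁻¹) := by group
  rw [h4, h1, h2, mul_inv_rev] at h3
  -- h3 : x⁻¹ * y⁻¹ = y⁻¹ * x⁻¹
  have h5 : (x⁻¹ * y⁻¹)⁻¹ = (y⁻¹ * x⁻¹)⁻¹ := by rw [h3]
  rw [mul_inv_rev, mul_inv_rev, inv_inv, inv_inv] at h5
  exact h5.symm

/-- C5 -/
theorem cp_trans {G : Type*} [Group G] [Finite G] (hA : AIC G) (hnc : NCyc G) (hnn : NNor G)
    (hK : KTI G) (P Q : Sylow 2 G) (hPQ : P ≠ Q) (R : Sylow 2 G) (hRP : R ≠ P) :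
    ∃ c ∈ CP P, c • Q = R := by
  have hPR : P ≠ R := Ne.symm hRP
  have h12 := Cfsg.Agent.Lib.helper15.AIC.three_le_inv hA hnc P
  -- a non-identity element of `D' = NP P ⊓ NP R`
  have hcard' := card_D hA hnc hnn hK P R hPR
  have hne : (NP P ⊓ NP R) ≠ ⊥ := by
    rw [← Subgroup.one_lt_card_iff_ne_bot, hcard']
    omega
  obtain ⟨⟨d', hd'⟩, hd'1⟩ := (Subgroup.ne_bot_iff_exists_ne_one).1 hne
  have hd'1' : d' ≠ 1 := fun h => hd'1 (Subtype.ext h)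
  have hd'C : d' ∉ CP P := fun h =>
    hd'1' (aic_cp_inf_np hA hnc hnn hK P R hPR h hd'.2)
  obtain ⟨c, hc, hcD⟩ :=
    conj_into_D hA hnc hnn hK P Q hPQ hd'.1 hd'C
  refine ⟨c, hc, ?_⟩
  have hcN : c ∈ NP P := aic_cp_le_np P hc
  have hcP : c • P = P := Sylow.smul_eq_iff_mem_normalizer.2 hcN
  have hd1 : c⁻¹ * d' * c ≠ 1 := by
    intro h
    apply hd'1'
    calc d' = c * (c⁻¹ * d' * c) * c⁻¹ := by group
      _ = 1 := by rw [h]; group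
  -- the point `R' = c⁻¹ • R`
  have hR'P : c⁻¹ • R ≠ P := by
    intro h
    apply hRP
    calc R = c • (c⁻¹ • R) := (smul_inv_smul c R).symm
      _ = c • P := by rw [h]
      _ = P := hcP
  have hPR' : P ≠ c⁻¹ • R := Ne.symm hR'P
  have hdR' : c⁻¹ * d' * c ∈ NP (c⁻¹ • R) := by
    have hd'R : d' • R = R := Sylow.smul_eq_iff_mem_normalizer.2 hd'.2
    have : (c⁻¹ * d' * c) • (c⁻¹ • R) = c⁻¹ • R := by
      rw [mul_smul, mul_smul, smul_inv_smul, hd'R]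
    exact Sylow.smul_eq_iff_mem_normalizer.1 this
  -- `D'' ≤ D`
  have hle : NP P ⊓ NP (c⁻¹ • R) ≤ NP P ⊓ NP Q := by
    intro x hx
    have hxd : x * (c⁻¹ * d' * c) = (c⁻¹ * d' * c) * x :=
      aic5_D_comm hA hnc hnn hK P (c⁻¹ • R) hPR' x hx _ ⟨hcD.1, hdR'⟩
    obtain ⟨d₁, hd₁, c₁, hc₁, hx1⟩ :=
      np_decomp hA hnc hnn hK P Q hPQ hx.1
    have hd₁d : d₁ * (c⁻¹ * d' * c) = (c⁻¹ * d' * c) * d₁ :=
      aic5_D_comm hA hnc hnn hK P Q hPQ d₁ hd₁ _ hcD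
    have hc₁d : c₁ * (c⁻¹ * d' * c) = (c⁻¹ * d' * c) * c₁ := by
      have e : c₁ = d₁⁻¹ * x := by rw [hx1]; group
      rw [e]
      calc d₁⁻¹ * x * (c⁻¹ * d' * c) = d₁⁻¹ * (x * (c⁻¹ * d' * c)) := by group
        _ = d₁⁻¹ * ((c⁻¹ * d' * c) * x) := by rw [hxd]
        _ = d₁⁻¹ * ((c⁻¹ * d' * c) * d₁) * d₁⁻¹ * x := by group
        _ = d₁⁻¹ * (d₁ * (c⁻¹ * d' * c)) * d₁⁻¹ * x := by rw [hd₁d]
        _ = (c⁻¹ * d' * c) * (d₁⁻¹ * x) := by group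
    have hc₁1 : c₁ = 1 :=
      aic_D_fpf hA hnc hnn hK P Q hPQ hcD hd1 hc₁ hc₁d
    rw [hx1, hc₁1, mul_one]
    exact hd₁
  have hcardD := card_D hA hnc hnn hK P Q hPQ
  have hcardD'' := card_D hA hnc hnn hK P (c⁻¹ • R) hPR'
  have heq : NP P ⊓ NP (c⁻¹ • R) = NP P ⊓ NP Q :=
    Subgroup.eq_of_le_of_card_ge hle (by rw [hcardD, hcardD''])
  have hfix : ∀ d ∈ NP P ⊓ NP Q, d ∈ NP (c⁻¹ • R) := by
    intro d hd
    rw [← heq] at hd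
    exact hd.2
  have hRQ := fix_D hA hnc hnn hK P Q hPQ (c⁻¹ • R) hR'P hfix
  rw [← hRQ, smul_inv_smul]

end Cfsg.Agent.Lib.helper13.AIC
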