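import Mathlib
import Cfsg.Agent.Lib.helper42.AICDefs
import Cfsg.Agent.Lib.helper13.AICAux
import Cfsg.Agent.Lib.helper13.AIC_C5

/-!
S2202 split (helper42), PIECE C6 (helper13): no non-identity element fixes three Sylow
2-subgroups.
-/

set_option autoImplicit false

open Cfsg.Agent.Lib.helper42.AIC

namespace Cfsg.Agent.Lib.helper13.AIC

/-- C6 -/
theorem three_fix {G : Type*} [Group G] [Finite G] (hA : AIC G) (hnc : NCyc G) (hnn : NNor G)
    (hK : KTI G) (P Q R : Sylow 2 G) (hPQ : P ≠ Q) (hPR : P ≠ R) (hQR : Q ≠ R) {g : G}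
    (hgP : g ∈ NP P) (hgQ : g ∈ NP Q) (hgR : g ∈ NP R) : g = 1 := by
  by_contra hg1
  obtain ⟨c, hc, hcQ⟩ :=
    cp_trans hA hnc hnn hK P Q hPQ R (Ne.symm hPR)
  have hc1 : c ≠ 1 := by
    rintro rfl
    rw [one_smul] at hcQ
    exact hQR hcQ
  have hcN : c ∈ NP P := aic_cp_le_np P hc
  have h2 : c⁻¹ * g * c ∈ NP Q := by
    have hgR' : g • R = R := Sylow.smul_eq_iff_mem_normalizer.2 hgR
    have : (c⁻¹ * g * c) • Q = Q := by
      rw [mul_smul, mul_smul, hcQ, hgR', ← hcQ, inv_smul_smul]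
    exact Sylow.smul_eq_iff_mem_normalizer.1 this
  have h3 : c⁻¹ * g * c * g⁻¹ ∈ CP P := by
    have h := aic_conj_mem_cp P hgP hc
    have h' := (CP P).mul_mem ((CP P).inv_mem hc) h
    have e : c⁻¹ * (g * c * g⁻¹) = c⁻¹ * g * c * g⁻¹ := by group
    rwa [e] at h'
  have h4 : c⁻¹ * g * c * g⁻¹ ∈ NP Q := (NP Q).mul_mem h2 ((NP Q).inv_mem hgQ)
  have h5 := aic_cp_inf_np hA hnc hnn hK P Q hPQ h3 h4
  have h6 : c * g = g * c := by
    have h7 : c⁻¹ * g * c = g := mul_inv_eq_one.1 h5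
    calc c * g = c * (c⁻¹ * g * c) := by rw [h7]
      _ = g * c := by group
  exact hc1 (aic_D_fpf hA hnc hnn hK P Q hPQ ⟨hgP, hgQ⟩ hg1 hc h6)

end Cfsg.Agent.Lib.helper13.AIC
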