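import Mathlib
import Cfsg.Agent.Lib.helper2.BFDefs
import Cfsg.Agent.Lib.helper20.D1EFinal
import Cfsg.Agent.Lib.helper4.CharDecomp
import Cfsg.Agent.Lib.helper81.Kernel
import Cfsg.Agent.Lib.helper82.BFA1
import Cfsg.Agent.Lib.helper79.BFB1

/-!
# S4503, piece B1 (`Y_degree`): an exceptional character of the principal block whose
restriction to `⟨x⟩` does not contain the trivial character has degree `e = |H|`.
-/

set_option autoImplicit false
set_option linter.unusedSectionVars false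

open Cfsg Cfsg.Agent.Lib.helper20.D1E
open scoped ComplexConjugate

namespace Cfsg.Agent.Lib.helper2.BF

variable {G : Type*} [Group G] [Fintype G]

/-- `mu` as a sum over `ZMod p`. -/
theorem helper13_mu_eq (p : ℕ) [Fact p.Prime] (x : G) (f : G → ℂ) (b : ZMod p) :
    mu p x f b = (p : ℂ)⁻¹ *
      ∑ k : ZMod p, (Cfsg.Agent.Lib.helper83.D1E.eZ p (b * k))⁻¹ * f (x ^ k.val) := by
  unfold mu
  congr 1
  rw [helper82_sum_range_zmod p (fun i => f (x ^ i) * (zeta p ^ (b.val * i))⁻¹)]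
  refine Finset.sum_congr rfl fun k _ => ?_
  rw [Cfsg.Agent.Lib.helper83.D1E.eZ_mul, Cfsg.Agent.Lib.helper83.D1E.eZ, ← pow_mul, mul_comm]

/-- The row is a difference of two `mu`'s. -/
theorem helper13_rowC_mu (p : ℕ) [Fact p.Prime] (x : G) (f : G → ℂ) (b : (ZMod p)ˣ) :
    rowC p x f b = mu p x f (b : ZMod p) - mu p x f 0 := by
  rw [Cfsg.Agent.Lib.helper83.D1E.rowC_eq_mult, helper13_mu_eq, helper13_mu_eq]

/-- The value at `1` is the sum of all `mu`'s. -/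
theorem helper13_one_eq_sum_mu (p : ℕ) [Fact p.Prime] (x : G) (hxp : x ^ p = 1) (f : G → ℂ) :
    f 1 = ∑ b : ZMod p, mu p x f b := by
  have h := mu_expand p x hxp f 0
  rw [pow_zero] at h
  rw [h]
  refine Finset.sum_congr rfl fun b _ => ?_
  rw [mul_zero, pow_zero, mul_one]

/-- The row of a character which is constant `= c` on `P ∖ 1` is constant `= -c`. -/
theorem helper13_rowC_const (p : ℕ) [Fact p.Prime] (x : G) (f : G → ℂ) (c : ℂ)
    (hf : ∀ u : (ZMod p)ˣ, f (x ^ (u : ZMod p).val) = c) (b : (ZMod p)ˣ) :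
    rowC p x f b = -c := by
  have hp : p.Prime := Fact.out
  have hpc : (p : ℂ) ≠ 0 := by exact_mod_cast hp.ne_zero
  rw [Cfsg.Agent.Lib.helper83.D1E.rowC_eq]
  have h1 : ∀ u : (ZMod p)ˣ, f (x ^ (u : ZMod p).val) *
      ((Cfsg.Agent.Lib.helper83.D1E.eZ p ((b : ZMod p) * (u : ZMod p)))⁻¹ - 1)
      = c * Cfsg.Agent.Lib.helper83.D1E.eZ p ((-(b : ZMod p)) * (u : ZMod p)) - c := by
    intro u
    rw [hf u, neg_mul, Cfsg.Agent.Lib.helper83.D1E.eZ_neg]
    ring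
  rw [Finset.sum_congr rfl (fun u _ => h1 u), Finset.sum_sub_distrib, ← Finset.mul_sum,
    Cfsg.Agent.Lib.helper83.D1E.sum_units_eZ', if_neg (neg_ne_zero.mpr b.ne_zero),
    Finset.sum_const, Finset.card_univ, ZMod.card_units_eq_totient, Nat.totient_prime hp,
    nsmul_eq_mul, Nat.cast_sub hp.one_lt.le]
  push_cast
  field_simp
  ring

/-- B1. -/
theorem helper13_Y_degree (p : ℕ) [Fact p.Prime] (P : Sylow p G) (hP : Nat.card P = p)
    (x : G) (hx : x ∈ (P : Subgroup G)) (hx1 : x ≠ 1) (H : Subgroup (ZMod p)ˣ)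
    (hH : ∀ r : (ZMod p)ˣ, r ∈ H ↔ ∃ n : G, n * x * n⁻¹ = x ^ ((r : ZMod p).val))
    (M : Ideal AlgInt) (hM : IsPModular p M) (X Y : Set (IrrCharacter G))
    (εX : IrrCharacter G → ℤ) (ε : ℤ) (hD : PBData p M P (Nat.card H) X Y εX ε)
    (υ : IrrCharacter G) (hυ : υ ∈ Y) (h0 : mu p x (υ : G → ℂ) 0 = 0) :
    charDegree (υ : G → ℂ) = Nat.card H := by
  classical
  have hp : p.Prime := Fact.out
  obtain ⟨hxp, hxu⟩ := basic_x p P hP x hx hx1
  have hfinI : Finite (IrrCharacter G) := Cfsg.Agent.Lib.helper83.irr_finite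
  have hFI : Fintype (IrrCharacter G) := Fintype.ofFinite _
  have hFPB : Fintype (PB M G) := Fintype.ofFinite _
  -- rows of characters in X
  have hrowX : ∀ ξ ∈ X, ∀ b : (ZMod p)ˣ, rowZ p x (ξ : G → ℂ) b = -εX ξ := by
    intro ξ hξ b
    have h1 : rowC p x (ξ : G → ℂ) b = -(εX ξ : ℂ) := by
      refine helper13_rowC_const p x (ξ : G → ℂ) (εX ξ : ℂ) ?_ b
      intro u
      have hnd : ¬ p ∣ (u : ZMod p).val := by
        intro hdvd
        have h2 : (u : ZMod p).val = 0 := Nat.eq_zero_of_dvd_of_lt hdvd (ZMod.val_lt _)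
        exact u.ne_zero ((ZMod.val_eq_zero _).mp h2)
      have h3 := hD.valX ξ hξ (x ^ (u : ZMod p).val) (pow_mem hx _) (hxu _ hnd) 1 (one_mem _)
        (by rw [orderOf_one]; exact fun h => hp.one_lt.ne' (Nat.dvd_one.mp h))
      rw [mul_one] at h3
      exact h3
    rw [Cfsg.Agent.Lib.helper83.D1E.rowC_eq_rowZ p x hxp ξ b] at h1
    exact_mod_cast h1
  -- rows of υ
  have hrowυ : ∀ b : (ZMod p)ˣ, (rowZ p x (υ : G → ℂ) b : ℂ) = mu p x (υ : G → ℂ) (b : ZMod p) := by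
    intro b
    rw [← Cfsg.Agent.Lib.helper83.D1E.rowC_eq_rowZ p x hxp υ b, helper13_rowC_mu, h0, sub_zero]
  have hnn : ∀ b : (ZMod p)ˣ, 0 ≤ rowZ p x (υ : G → ℂ) b := by
    intro b
    obtain ⟨d, hd⟩ := mu_nat p x hxp (υ : G → ℂ) (Cfsg.Agent.Lib.helper81.irr_isCharacter υ)
      (b : ZMod p)
    have h1 : (rowZ p x (υ : G → ℂ) b : ℂ) = ((d : ℤ) : ℂ) := by
      rw [hrowυ b, hd]; simp
    have h2 : rowZ p x (υ : G → ℂ) b = (d : ℤ) := by exact_mod_cast h1
    rw [h2]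
    exact Int.natCast_nonneg d
  -- splitting the Gram sum
  set Xf : Finset (IrrCharacter G) := Finset.univ.filter (fun χ => χ ∈ X) with hXf
  set Yf : Finset (IrrCharacter G) := Finset.univ.filter (fun χ => χ ∈ Y) with hYf
  have hdisj : Disjoint Xf Yf := by
    rw [Finset.disjoint_left]
    intro χ h1 h2
    rw [hXf, Finset.mem_filter] at h1
    rw [hYf, Finset.mem_filter] at h2
    exact (Set.disjoint_left.mp hD.disj) h1.2 h2.2
  have hsplit : ∀ F : IrrCharacter G → ℤ,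
      ∑ i : PB M G, F i.1 = ∑ χ ∈ Xf, F χ + ∑ χ ∈ Yf, F χ := by
    intro F
    rw [← Finset.sum_union hdisj]
    refine (Finset.sum_subtype (Xf ∪ Yf) ?_ F).symm
    intro χ
    rw [Finset.mem_union, hXf, hYf, Finset.mem_filter, Finset.mem_filter, hD.union]
    simp
  have hcardX : (Xf.card : ℤ) = (Nat.card H : ℤ) := by
    have h1 : Nat.card X = Xf.card := by
      rw [Nat.card_eq_fintype_card, hXf]
      exact Fintype.card_subtype _
    rw [← h1, hD.cardX]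
  have hXpart : ∀ b b' : (ZMod p)ˣ,
      ∑ χ ∈ Xf, rowZ p x (χ : G → ℂ) b * rowZ p x (χ : G → ℂ) b' = (Nat.card H : ℤ) := by
    intro b b'
    have h1 : ∀ χ ∈ Xf, rowZ p x (χ : G → ℂ) b * rowZ p x (χ : G → ℂ) b' = 1 := by
      intro χ hχ
      rw [hXf, Finset.mem_filter] at hχ
      rw [hrowX χ hχ.2 b, hrowX χ hχ.2 b']
      rcases hD.signX χ hχ.2 with h | h <;> rw [h] <;> norm_num
    rw [Finset.sum_congr rfl h1, Finset.sum_const, nsmul_eq_mul, mul_one, hcardX]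
  have hYpart : ∀ b b' : (ZMod p)ˣ,
      (b⁻¹ * b' ∈ H → ∑ χ ∈ Yf, rowZ p x (χ : G → ℂ) b * rowZ p x (χ : G → ℂ) b' = 1) ∧
      (b⁻¹ * b' ∉ H → ∑ χ ∈ Yf, rowZ p x (χ : G → ℂ) b * rowZ p x (χ : G → ℂ) b' = 0) := by
    intro b b'
    have hg := pb_row_gram p M hM P hP x hx hx1 H hH b b'
    rw [hsplit (fun χ => rowZ p x (χ : G → ℂ) b * rowZ p x (χ : G → ℂ) b'), hXpart b b'] at hg
    refine ⟨fun h => ?_, fun h => ?_⟩
    · have := hg.1 h
      linarith
    · have := hg.2 h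
      linarith
  have hυY : υ ∈ Yf := by
    rw [hYf, Finset.mem_filter]
    exact ⟨Finset.mem_univ _, hυ⟩
  -- the row of υ has entries 0 or 1
  have hsq : ∀ b : (ZMod p)ˣ,
      ∑ χ ∈ Yf, rowZ p x (χ : G → ℂ) b * rowZ p x (χ : G → ℂ) b = 1 := by
    intro b
    exact (hYpart b b).1 (by rw [inv_mul_cancel]; exact one_mem H)
  have hle1 : ∀ b : (ZMod p)ˣ, rowZ p x (υ : G → ℂ) b * rowZ p x (υ : G → ℂ) b ≤ 1 := by
    intro b
    rw [← hsq b]
    exact Finset.single_le_sum (f := fun χ : IrrCharacter G =>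
      rowZ p x (χ : G → ℂ) b * rowZ p x (χ : G → ℂ) b) (fun χ _ => mul_self_nonneg _) hυY
  have h01 : ∀ b : (ZMod p)ˣ, rowZ p x (υ : G → ℂ) b = 0 ∨ rowZ p x (υ : G → ℂ) b = 1 := by
    intro b
    have h1 := hnn b
    have h2 := hle1 b
    have h3 : rowZ p x (υ : G → ℂ) b ≤ 1 := by nlinarith
    omega
  -- other characters of Y vanish where υ is 1
  have hother : ∀ b : (ZMod p)ˣ, rowZ p x (υ : G → ℂ) b = 1 →
      ∀ χ ∈ Yf, χ ≠ υ → rowZ p x (χ : G → ℂ) b = 0 := by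
    intro b hb χ hχ hne
    have h1 := hsq b
    rw [← Finset.add_sum_erase Yf _ hυY, hb, mul_one] at h1
    have h2 : ∑ χ ∈ Yf.erase υ, rowZ p x (χ : G → ℂ) b * rowZ p x (χ : G → ℂ) b = 0 := by
      linarith
    have h3 := (Finset.sum_eq_zero_iff_of_nonneg (fun χ _ => mul_self_nonneg _)).mp h2 χ
      (Finset.mem_erase.mpr ⟨hne, hχ⟩)
    exact mul_self_eq_zero.mp h3
  -- the support lies in one coset
  have hcoset : ∀ b b' : (ZMod p)ˣ, rowZ p x (υ : G → ℂ) b = 1 → rowZ p x (υ : G → ℂ) b' = 1 →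
      b⁻¹ * b' ∈ H := by
    intro b b' hb hb'
    by_contra hnot
    have h1 := (hYpart b b').2 hnot
    rw [← Finset.add_sum_erase Yf _ hυY, hb, hb', mul_one] at h1
    have h2 : ∑ χ ∈ Yf.erase υ, rowZ p x (χ : G → ℂ) b * rowZ p x (χ : G → ℂ) b' = 0 := by
      refine Finset.sum_eq_zero fun χ hχ => ?_
      rw [Finset.mem_erase] at hχ
      rw [hother b hb χ hχ.2 hχ.1, zero_mul]
    rw [h2] at h1
    norm_num at h1
  -- the degree is the sum of the row
  have hdeg : (charDegree (υ : G → ℂ) : ℂ) = ∑ u : (ZMod p)ˣ, (rowZ p x (υ : G → ℂ) u : ℂ) := by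
    rw [← Cfsg.Agent.Lib.helper81.irr_one_eq_charDegree υ,
      helper13_one_eq_sum_mu p x hxp (υ : G → ℂ),
      Cfsg.Agent.Lib.helper83.D1E.sum_zmod_eq p (fun b => mu p x (υ : G → ℂ) b), h0, zero_add]
    exact Finset.sum_congr rfl fun u _ => (hrowυ u).symm
  have hdegZ : (charDegree (υ : G → ℂ) : ℤ) = ∑ u : (ZMod p)ˣ, rowZ p x (υ : G → ℂ) u := by
    have h1 : ((charDegree (υ : G → ℂ) : ℤ) : ℂ)
        = ((∑ u : (ZMod p)ˣ, rowZ p x (υ : G → ℂ) u : ℤ) : ℂ) := by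
      rw [Int.cast_sum]
      rw [← hdeg]
      simp
    exact_mod_cast h1
  -- nonempty support
  have hex : ∃ b₀ : (ZMod p)ˣ, rowZ p x (υ : G → ℂ) b₀ = 1 := by
    by_contra hcon
    push Not at hcon
    have h1 : ∑ u : (ZMod p)ˣ, rowZ p x (υ : G → ℂ) u = 0 := by
      refine Finset.sum_eq_zero fun u _ => ?_
      rcases h01 u with h | h
      · exact h
      · exact absurd h (hcon u)
    rw [h1] at hdegZ
    have h2 := Cfsg.Agent.Lib.helper81.irr_charDegree_pos υ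
    omega
  obtain ⟨b₀, hb₀⟩ := hex
  have hrow : ∀ u : (ZMod p)ˣ,
      rowZ p x (υ : G → ℂ) u = if b₀⁻¹ * u ∈ H then 1 else 0 := by
    intro u
    split_ifs with h
    · have h1 := pb_row_inv p x hxp H hH υ b₀ (b₀⁻¹ * u) h
      rw [mul_inv_cancel_left] at h1
      rw [h1, hb₀]
    · rcases h01 u with h1 | h1
      · exact h1
      · exact absurd (hcoset b₀ u hb₀ h1) h
  have hcount : ∑ u : (ZMod p)ˣ, rowZ p x (υ : G → ℂ) u = (Nat.card H : ℤ) := by
    rw [Finset.sum_congr rfl (fun u _ => hrow u)]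
    rw [Fintype.sum_equiv (Equiv.mulLeft b₀⁻¹) (fun u => if b₀⁻¹ * u ∈ H then (1 : ℤ) else 0)
      (fun v => if v ∈ H then (1 : ℤ) else 0) (fun u => rfl)]
    rw [Finset.sum_boole, Nat.card_eq_fintype_card, Fintype.card_subtype]
  rw [hcount] at hdegZ
  exact_mod_cast hdegZ

end Cfsg.Agent.Lib.helper2.BF

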