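import Mathlib
import Cfsg.Agent.Lib.helper2.BFDefs
import Cfsg.Agent.Lib.helper20.D1EFinal
import Cfsg.Agent.Lib.helper4.CharDecomp
import Cfsg.Agent.Lib.helper4.CharTheory
import Cfsg.Agent.Lib.helper81.Kernel
import Cfsg.Agent.Lib.helper82.BFA1
import Cfsg.Agent.Lib.helper79.GaloisChar
import Cfsg.Agent.Lib.helper97.BFB6a
import Cfsg.Agent.Lib.helper79.BFB6

/-!
# S4503, piece B6 (`m_eq_one`): if the `p`-regular elements of `C_G(P)` act by scalars in `ψ`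
and the spectrum of `x` in `ψ` is one `H`-coset with multiplicity `m`, then `m = 1`.
-/

set_option autoImplicit false
set_option linter.unusedSectionVars false

open Cfsg Cfsg.Agent.Lib.helper20.D1E
open scoped ComplexConjugate

namespace Cfsg.Agent.Lib.helper2.BF

variable {G : Type*} [Group G] [Fintype G]

/-- The sum of the standard character over `ZMod p`. -/
theorem helper13_b6_sum_eZ (p : ℕ) [Fact p.Prime] (a : ZMod p) :
    ∑ k : ZMod p, Cfsg.Agent.Lib.helper83.D1E.eZ p (a * k) = if a = 0 then (p : ℂ) else 0 := by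
  rw [Cfsg.Agent.Lib.helper83.D1E.sum_zmod_eq p
      (fun k => Cfsg.Agent.Lib.helper83.D1E.eZ p (a * k)),
    mul_zero, Cfsg.Agent.Lib.helper83.D1E.eZ_zero, Cfsg.Agent.Lib.helper83.D1E.sum_units_eZ']
  split_ifs <;> ring

/-- Parseval on `ZMod p`. -/
theorem helper13_b6_parseval (p : ℕ) [Fact p.Prime] (D E : ZMod p → ℂ) :
    ∑ k : ZMod p, (∑ b : ZMod p, D b * Cfsg.Agent.Lib.helper83.D1E.eZ p (b * k)) *
        conj (∑ b : ZMod p, E b * Cfsg.Agent.Lib.helper83.D1E.eZ p (b * k))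
      = (p : ℂ) * ∑ b : ZMod p, D b * conj (E b) := by
  have h1 : ∀ k : ZMod p, (∑ b : ZMod p, D b * Cfsg.Agent.Lib.helper83.D1E.eZ p (b * k)) *
        conj (∑ b : ZMod p, E b * Cfsg.Agent.Lib.helper83.D1E.eZ p (b * k))
      = ∑ b : ZMod p, ∑ b' : ZMod p,
          D b * conj (E b') * Cfsg.Agent.Lib.helper83.D1E.eZ p ((b - b') * k) := by
    intro k
    rw [map_sum, Finset.sum_mul_sum]
    refine Finset.sum_congr rfl fun b _ => Finset.sum_congr rfl fun b' _ => ?_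
    rw [map_mul, Cfsg.Agent.Lib.helper83.D1E.eZ_conj, ← Cfsg.Agent.Lib.helper83.D1E.eZ_neg,
      sub_mul, sub_eq_add_neg, Cfsg.Agent.Lib.helper83.D1E.eZ_add]
    ring
  rw [Finset.sum_congr rfl (fun k _ => h1 k), Finset.sum_comm, Finset.mul_sum]
  refine Finset.sum_congr rfl fun b _ => ?_
  rw [Finset.sum_comm]
  have h2 : ∀ b' : ZMod p,
      ∑ k : ZMod p, D b * conj (E b') * Cfsg.Agent.Lib.helper83.D1E.eZ p ((b - b') * k)
      = if b' = b then (p : ℂ) * (D b * conj (E b)) else 0 := by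
    intro b'
    rw [← Finset.mul_sum, helper13_b6_sum_eZ]
    by_cases h : b' = b
    · subst h
      rw [if_pos (sub_self _), if_pos rfl]
      ring
    · rw [if_neg (sub_ne_zero.mpr (Ne.symm h)), if_neg h, mul_zero]
  rw [Finset.sum_congr rfl (fun b' _ => h2 b'), Finset.sum_ite_eq']
  simp

/-- B6. -/
theorem helper13_m_eq_one (p : ℕ) [Fact p.Prime] (P : Sylow p G) (hP : Nat.card P = p)
    (x : G) (hx : x ∈ (P : Subgroup G)) (hx1 : x ≠ 1) (H : Subgroup (ZMod p)ˣ)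
    (hH : ∀ r : (ZMod p)ˣ, r ∈ H ↔ ∃ n : G, n * x * n⁻¹ = x ^ ((r : ZMod p).val))
    (ψ : IrrCharacter G) (a₀ : (ZMod p)ˣ) (m : ℕ) (hm : 0 < m)
    (hmu : OrbitMu p x H (ψ : G → ℂ) a₀ m) (c : (ZMod p)ˣ) (hc : c ∉ H) (mp : ℕ)
    (hmp : mp.Coprime (Nat.card G)) (hmc : (mp : ZMod p) = (c : ZMod p))
    (hmreg : ∀ g : G, ¬ p ∣ orderOf g → g ^ mp = g)
    (hscal : ∀ k ∈ Subgroup.centralizer ((P : Subgroup G) : Set G), ¬ p ∣ orderOf k →
      ∃ μ : ℂ, ‖μ‖ = 1 ∧ ∀ g : G, (ψ : G → ℂ) (g * k) = μ * (ψ : G → ℂ) g) : m = 1 := by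
  classical
  have hp : p.Prime := Fact.out
  have hpc : (p : ℂ) ≠ 0 := by exact_mod_cast hp.ne_zero
  have hGc : (Nat.card G : ℂ) ≠ 0 := by exact_mod_cast (Nat.card_pos (α := G)).ne'
  have hec : (Nat.card H : ℂ) ≠ 0 := by exact_mod_cast (Nat.card_pos (α := H)).ne'
  have hmc0 : (m : ℂ) ≠ 0 := by exact_mod_cast hm.ne'
  have h1reg : ¬ p ∣ orderOf (1 : G) := by
    rw [orderOf_one]
    exact fun h => hp.one_lt.ne' (Nat.dvd_one.mp h)
  obtain ⟨hxp, hxu⟩ := basic_x p P hP x hx hx1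
  have hψ'irr : IsIrrCharacter G (fun g => (ψ : G → ℂ) (g ^ mp)) :=
    Cfsg.Agent.Lib.helper79.isIrrCharacter_pow_coprime mp hmp ψ.2
  set ψ' : G → ℂ := fun g => (ψ : G → ℂ) (g ^ mp) with hψ'
  set F : G → ℂ := fun g => ((ψ : G → ℂ) g - ψ' g) * conj ((ψ : G → ℂ) g - ψ' g) with hF
  have hFcl : IsClassFunction G F := by
    intro g h
    have h1 : (h * g * h⁻¹) ^ mp = h * g ^ mp * h⁻¹ := conj_pow
    show ((ψ : G → ℂ) (h * g * h⁻¹) - (ψ : G → ℂ) ((h * g * h⁻¹) ^ mp)) *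
        conj ((ψ : G → ℂ) (h * g * h⁻¹) - (ψ : G → ℂ) ((h * g * h⁻¹) ^ mp))
      = ((ψ : G → ℂ) g - (ψ : G → ℂ) (g ^ mp)) * conj ((ψ : G → ℂ) g - (ψ : G → ℂ) (g ^ mp))
    rw [h1, Cfsg.Agent.Lib.helper81.irr_classFun ψ g h,
      Cfsg.Agent.Lib.helper81.irr_classFun ψ (g ^ mp) h]
  have hFreg : ∀ g, ¬ p ∣ orderOf g → F g = 0 := by
    intro g hg
    show ((ψ : G → ℂ) g - (ψ : G → ℂ) (g ^ mp)) * conj ((ψ : G → ℂ) g - (ψ : G → ℂ) (g ^ mp)) = 0
    rw [hmreg g hg, sub_self, zero_mul]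
  -- Fourier expansion on ⟨x⟩
  set d : ZMod p → ℂ := fun b => mu p x (ψ : G → ℂ) b with hd
  have hf : ∀ k : ZMod p, (ψ : G → ℂ) (x ^ k.val)
      = ∑ b : ZMod p, d b * Cfsg.Agent.Lib.helper83.D1E.eZ p (b * k) := by
    intro k
    rw [mu_expand p x hxp (ψ : G → ℂ) k.val]
    refine Finset.sum_congr rfl fun b _ => ?_
    rw [Cfsg.Agent.Lib.helper83.D1E.eZ_mul, Cfsg.Agent.Lib.helper83.D1E.eZ, ← pow_mul]
  have hf' : ∀ k : ZMod p, ψ' (x ^ k.val)
      = ∑ b : ZMod p, d (b * ((c⁻¹ : (ZMod p)ˣ) : ZMod p)) *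
          Cfsg.Agent.Lib.helper83.D1E.eZ p (b * k) := by
    intro k
    have h1 : (x ^ k.val) ^ mp = x ^ (k * (c : ZMod p)).val := by
      rw [← pow_mul, ← hmc, ZMod.val_mul, ZMod.val_natCast, Nat.mul_mod_mod]
      exact pow_eq_pow_mod (k.val * mp) hxp
    show (ψ : G → ℂ) ((x ^ k.val) ^ mp) = _
    rw [h1, hf (k * (c : ZMod p))]
    rw [← Equiv.sum_comp (Units.mulRight c⁻¹)
      (fun b => d b * Cfsg.Agent.Lib.helper83.D1E.eZ p (b * (k * (c : ZMod p))))]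
    refine Finset.sum_congr rfl fun b _ => ?_
    have h2 : (Units.mulRight c⁻¹ : Equiv.Perm (ZMod p)) b
        = b * ((c⁻¹ : (ZMod p)ˣ) : ZMod p) := rfl
    rw [h2]
    congr 2
    rw [mul_assoc, mul_left_comm _ k, Units.inv_mul, mul_one]
  set Dd : ZMod p → ℂ := fun b => d b - d (b * ((c⁻¹ : (ZMod p)ˣ) : ZMod p)) with hDd
  have hFk : ∀ k : ZMod p, F (x ^ k.val)
      = (∑ b : ZMod p, Dd b * Cfsg.Agent.Lib.helper83.D1E.eZ p (b * k)) *
        conj (∑ b : ZMod p, Dd b * Cfsg.Agent.Lib.helper83.D1E.eZ p (b * k)) := by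
    intro k
    have h1 : (ψ : G → ℂ) (x ^ k.val) - ψ' (x ^ k.val)
        = ∑ b : ZMod p, Dd b * Cfsg.Agent.Lib.helper83.D1E.eZ p (b * k) := by
      rw [hf k, hf' k, ← Finset.sum_sub_distrib]
      refine Finset.sum_congr rfl fun b _ => ?_
      simp only [hDd]
      ring
    show ((ψ : G → ℂ) (x ^ k.val) - ψ' (x ^ k.val)) *
      conj ((ψ : G → ℂ) (x ^ k.val) - ψ' (x ^ k.val)) = _
    rw [h1]
  have hsumk : ∑ k : ZMod p, F (x ^ k.val) = (p : ℂ) * ∑ b : ZMod p, Dd b * conj (Dd b) := by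
    rw [Finset.sum_congr rfl (fun k _ => hFk k), helper13_b6_parseval]
  -- the values of `d`
  have hd0 : d 0 = 0 := by
    show mu p x (ψ : G → ℂ) 0 = 0
    rw [hmu 0, Set.indicator_of_notMem]
    rintro ⟨h, -, hh⟩
    exact (a₀ * h).ne_zero (by rw [Units.val_mul]; exact hh.symm)
  have hdu : ∀ u : (ZMod p)ˣ, d (u : ZMod p) = if a₀⁻¹ * u ∈ H then (m : ℂ) else 0 := by
    intro u
    show mu p x (ψ : G → ℂ) (u : ZMod p) = _
    rw [hmu (u : ZMod p), Set.indicator_apply]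
    have hiff : ((u : ZMod p) ∈ {b : ZMod p | ∃ h ∈ H,
        b = (a₀ : ZMod p) * ((h : (ZMod p)ˣ) : ZMod p)}) ↔ a₀⁻¹ * u ∈ H := by
      constructor
      · rintro ⟨h, hh, hb⟩
        have h3 : u = a₀ * h := Units.ext (by rw [Units.val_mul]; exact hb)
        rw [h3, inv_mul_cancel_left]
        exact hh
      · intro hh
        exact ⟨a₀⁻¹ * u, hh, by rw [← Units.val_mul, mul_inv_cancel_left]⟩
    by_cases h : a₀⁻¹ * u ∈ H
    · rw [if_pos h, if_pos (hiff.mpr h)]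
    · rw [if_neg h, if_neg (fun h' => h (hiff.mp h'))]
  have hDd0 : Dd 0 = 0 := by
    show d 0 - d (0 * ((c⁻¹ : (ZMod p)ˣ) : ZMod p)) = 0
    rw [zero_mul, sub_self]
  have hDdu : ∀ u : (ZMod p)ˣ, Dd (u : ZMod p)
      = (if a₀⁻¹ * u ∈ H then (m : ℂ) else 0)
        - (if a₀⁻¹ * (u * c⁻¹) ∈ H then (m : ℂ) else 0) := by
    intro u
    show d (u : ZMod p) - d ((u : ZMod p) * ((c⁻¹ : (ZMod p)ˣ) : ZMod p)) = _
    rw [← Units.val_mul, hdu u, hdu (u * c⁻¹)]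
  have hterm : ∀ u : (ZMod p)ˣ, Dd (u : ZMod p) * conj (Dd (u : ZMod p)) =
      (m : ℂ) ^ 2 * ((if a₀⁻¹ * u ∈ H then (1 : ℂ) else 0)
        + (if a₀⁻¹ * (u * c⁻¹) ∈ H then (1 : ℂ) else 0)) := by
    intro u
    rw [hDdu u]
    by_cases h1 : a₀⁻¹ * u ∈ H
    · have h2 : a₀⁻¹ * (u * c⁻¹) ∉ H := by
        intro h2
        apply hc
        have h3 : c = (a₀⁻¹ * (u * c⁻¹))⁻¹ * (a₀⁻¹ * u) := by
          rw [eq_inv_mul_iff_mul_eq, mul_assoc, mul_assoc, inv_mul_cancel, mul_one]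
        rw [h3]
        exact H.mul_mem (H.inv_mem h2) h1
      rw [if_pos h1, if_neg h2, if_pos h1, if_neg h2]
      simp
      ring
    · by_cases h2 : a₀⁻¹ * (u * c⁻¹) ∈ H
      · rw [if_neg h1, if_pos h2, if_neg h1, if_pos h2]
        simp
        ring
      · rw [if_neg h1, if_neg h2, if_neg h1, if_neg h2]
        simp
  have hcnt1 : ∑ u : (ZMod p)ˣ, (if a₀⁻¹ * u ∈ H then (1 : ℂ) else 0) = (Nat.card H : ℂ) := by
    rw [Fintype.sum_equiv (Equiv.mulLeft a₀⁻¹) (fun u => if a₀⁻¹ * u ∈ H then (1 : ℂ) else 0)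
      (fun v => if v ∈ H then (1 : ℂ) else 0) (fun u => rfl)]
    rw [Finset.sum_boole, Nat.card_eq_fintype_card, Fintype.card_subtype]
  have hcnt2 : ∑ u : (ZMod p)ˣ, (if a₀⁻¹ * (u * c⁻¹) ∈ H then (1 : ℂ) else 0)
      = (Nat.card H : ℂ) := by
    rw [Fintype.sum_equiv ((Equiv.mulRight c⁻¹).trans (Equiv.mulLeft a₀⁻¹))
      (fun u => if a₀⁻¹ * (u * c⁻¹) ∈ H then (1 : ℂ) else 0)
      (fun v => if v ∈ H then (1 : ℂ) else 0) (fun u => rfl)]
    rw [Finset.sum_boole, Nat.card_eq_fintype_card, Fintype.card_subtype]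
  have hDsum : ∑ b : ZMod p, Dd b * conj (Dd b) = 2 * (Nat.card H : ℂ) * (m : ℂ) ^ 2 := by
    rw [Cfsg.Agent.Lib.helper83.D1E.sum_zmod_eq p (fun b => Dd b * conj (Dd b)), hDd0, zero_mul,
      zero_add, Finset.sum_congr rfl (fun u _ => hterm u), ← Finset.mul_sum,
      Finset.sum_add_distrib, hcnt1, hcnt2]
    ring
  have hsumu : ∑ u : (ZMod p)ˣ, F (x ^ (u : ZMod p).val)
      = (p : ℂ) * (2 * (Nat.card H : ℂ) * (m : ℂ) ^ 2) := by
    have h1 := Cfsg.Agent.Lib.helper83.D1E.sum_zmod_eq p (fun k => F (x ^ k.val))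
    rw [hsumk, hDsum] at h1
    have h2 : F (x ^ (0 : ZMod p).val) = 0 := by
      rw [ZMod.val_zero, pow_zero]
      exact hFreg 1 h1reg
    rw [h2, zero_add] at h1
    exact h1.symm
  -- the TI count
  have hTI := norm_TI p P hP x hx hx1 F hFcl hFreg
  have hinner : ∀ u : (ZMod p)ˣ, ∑ k : G, Set.indicator
        {k : G | k ∈ Subgroup.centralizer ((P : Subgroup G) : Set G) ∧ ¬ p ∣ orderOf k}
        (fun k => F (x ^ (u : ZMod p).val * k)) k
      = (Nat.card {c : G // c ∈ Subgroup.centralizer ((P : Subgroup G) : Set G) ∧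
          ¬ p ∣ orderOf c} : ℂ) * F (x ^ (u : ZMod p).val) := by
    intro u
    have h1 : ∀ k : G, Set.indicator
        {k : G | k ∈ Subgroup.centralizer ((P : Subgroup G) : Set G) ∧ ¬ p ∣ orderOf k}
        (fun k => F (x ^ (u : ZMod p).val * k)) k
        = if (k ∈ Subgroup.centralizer ((P : Subgroup G) : Set G) ∧ ¬ p ∣ orderOf k)
            then F (x ^ (u : ZMod p).val) else 0 := by
      intro k
      rw [Set.indicator_apply]
      by_cases hk : k ∈ Subgroup.centralizer ((P : Subgroup G) : Set G) ∧ ¬ p ∣ orderOf k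
      · rw [if_pos hk, if_pos (show k ∈ {k : G |
          k ∈ Subgroup.centralizer ((P : Subgroup G) : Set G) ∧ ¬ p ∣ orderOf k} from hk)]
        obtain ⟨μ, hμ, hμg⟩ := hscal k hk.1 hk.2
        have hcomm : Commute (x ^ (u : ZMod p).val) k :=
          (Subgroup.mem_centralizer_iff.mp hk.1) (x ^ (u : ZMod p).val) (pow_mem hx _)
        have e1 : (ψ : G → ℂ) (x ^ (u : ZMod p).val * k)
            = μ * (ψ : G → ℂ) (x ^ (u : ZMod p).val) := hμg _
        have e2 : ψ' (x ^ (u : ZMod p).val * k) = μ * ψ' (x ^ (u : ZMod p).val) := by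
          show (ψ : G → ℂ) ((x ^ (u : ZMod p).val * k) ^ mp)
            = μ * (ψ : G → ℂ) ((x ^ (u : ZMod p).val) ^ mp)
          rw [hcomm.mul_pow, hmreg k hk.2, hμg]
        have hμμ : μ * conj μ = 1 := by
          rw [Complex.mul_conj, Complex.normSq_eq_norm_sq, hμ]
          simp
        show ((ψ : G → ℂ) (x ^ (u : ZMod p).val * k) - ψ' (x ^ (u : ZMod p).val * k)) *
            conj ((ψ : G → ℂ) (x ^ (u : ZMod p).val * k) - ψ' (x ^ (u : ZMod p).val * k))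
          = ((ψ : G → ℂ) (x ^ (u : ZMod p).val) - ψ' (x ^ (u : ZMod p).val)) *
            conj ((ψ : G → ℂ) (x ^ (u : ZMod p).val) - ψ' (x ^ (u : ZMod p).val))
        rw [e1, e2, ← mul_sub, map_mul]
        calc μ * ((ψ : G → ℂ) (x ^ (u : ZMod p).val) - ψ' (x ^ (u : ZMod p).val)) *
              (conj μ * conj ((ψ : G → ℂ) (x ^ (u : ZMod p).val) - ψ' (x ^ (u : ZMod p).val)))
            = (μ * conj μ) * (((ψ : G → ℂ) (x ^ (u : ZMod p).val) - ψ' (x ^ (u : ZMod p).val)) *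
              conj ((ψ : G → ℂ) (x ^ (u : ZMod p).val) - ψ' (x ^ (u : ZMod p).val))) := by ring
          _ = _ := by rw [hμμ, one_mul]
      · rw [if_neg hk, if_neg (show ¬ k ∈ {k : G |
          k ∈ Subgroup.centralizer ((P : Subgroup G) : Set G) ∧ ¬ p ∣ orderOf k} from hk)]
    rw [Finset.sum_congr rfl (fun k _ => h1 k), Finset.sum_ite, Finset.sum_const,
      Finset.sum_const_zero, add_zero, nsmul_eq_mul]
    congr 1
    rw [Nat.card_eq_fintype_card, Fintype.card_subtype]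
  rw [Finset.sum_congr rfl (fun u _ => hinner u), ← Finset.mul_sum, hsumu] at hTI
  -- ψ ≠ ψ'
  have hne : (ψ : G → ℂ) ≠ ψ' := by
    intro heq
    have h1 : ∀ g, F g = 0 := by
      intro g
      show ((ψ : G → ℂ) g - ψ' g) * conj ((ψ : G → ℂ) g - ψ' g) = 0
      rw [← heq, sub_self, zero_mul]
    have h2 : ∑ u : (ZMod p)ˣ, F (x ^ (u : ZMod p).val) = 0 :=
      Finset.sum_eq_zero fun u _ => h1 _
    rw [hsumu] at h2
    exact (mul_ne_zero hpc (mul_ne_zero (mul_ne_zero two_ne_zero hec) (pow_ne_zero 2 hmc0))) h2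
  -- the sum of F over G
  have hsum_inner : ∀ φ₁ φ₂ : G → ℂ,
      ∑ g : G, φ₁ g * conj (φ₂ g) = (Nat.card G : ℂ) * classInner φ₁ φ₂ := by
    intro φ₁ φ₂
    unfold classInner
    rw [← mul_assoc, mul_inv_cancel₀ hGc, one_mul]
  have hsumG : ∑ g : G, F g = 2 * (Nat.card G : ℂ) := by
    have hexp : ∀ g, F g = (ψ : G → ℂ) g * conj ((ψ : G → ℂ) g)
        - (ψ : G → ℂ) g * conj (ψ' g) - ψ' g * conj ((ψ : G → ℂ) g) + ψ' g * conj (ψ' g) := by
      intro g
      show ((ψ : G → ℂ) g - ψ' g) * conj ((ψ : G → ℂ) g - ψ' g) = _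
      rw [map_sub]
      ring
    rw [Finset.sum_congr rfl (fun g _ => hexp g), Finset.sum_add_distrib,
      Finset.sum_sub_distrib, Finset.sum_sub_distrib,
      hsum_inner, hsum_inner, hsum_inner, hsum_inner,
      Cfsg.Agent.Lib.helper4.classInner_irr_self ψ.2,
      Cfsg.Agent.Lib.helper4.classInner_irr_self hψ'irr,
      Cfsg.Agent.Lib.helper4.classInner_irr_ne ψ.2 hψ'irr hne,
      Cfsg.Agent.Lib.helper4.classInner_irr_ne hψ'irr ψ.2 (Ne.symm hne)]
    ring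
  rw [hsumG] at hTI
  -- group orders
  obtain ⟨H', hH', hcard'⟩ := Cfsg.Agent.Lib.helper46.D1E.exists_H p P hP x hx hx1
  have hHH' : H' = H := by
    ext r
    rw [hH' r, hH r]
  rw [hHH'] at hcard'
  have hCN : Subgroup.centralizer ((P : Subgroup G) : Set G)
      ≤ Subgroup.normalizer ((P : Subgroup G) : Set G) := Subgroup.centralizer_le_normalizer _
  have hNcard : Nat.card (Subgroup.normalizer ((P : Subgroup G) : Set G))
      = Nat.card (Subgroup.centralizer ((P : Subgroup G) : Set G)) * Nat.card H := by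
    have h1 := Subgroup.relIndex_mul_relIndex (H := ⊥)
      (K := Subgroup.centralizer ((P : Subgroup G) : Set G))
      (L := Subgroup.normalizer ((P : Subgroup G) : Set G)) bot_le hCN
    rw [Subgroup.relIndex_bot_left, Subgroup.relIndex_bot_left] at h1
    rw [hcard', h1]
  have hCcard := Cfsg.Agent.Lib.helper46.D1E.card_centralizer p P hP
  have hKpos : 0 < Nat.card {c : G // c ∈ Subgroup.centralizer ((P : Subgroup G) : Set G) ∧
      ¬ p ∣ orderOf c} := by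
    have hne1 : Nonempty {c : G // c ∈ Subgroup.centralizer ((P : Subgroup G) : Set G) ∧
      ¬ p ∣ orderOf c} := ⟨⟨1, one_mem _, h1reg⟩⟩
    exact Nat.card_pos
  have hepos : 0 < Nat.card H := Nat.card_pos
  set K : ℕ := Nat.card {c : G // c ∈ Subgroup.centralizer ((P : Subgroup G) : Set G) ∧
      ¬ p ∣ orderOf c} with hK
  have hnat : Nat.card (Subgroup.normalizer ((P : Subgroup G) : Set G))
      = K * p * Nat.card H * m ^ 2 := by
    have h2 : ((Nat.card (Subgroup.normalizer ((P : Subgroup G) : Set G)) : ℕ) : ℂ)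
        = ((K * p * Nat.card H * m ^ 2 : ℕ) : ℂ) := by
      push_cast
      have h3 : (Nat.card G : ℂ) *
          (2 * (Nat.card (Subgroup.normalizer ((P : Subgroup G) : Set G)) : ℂ))
          = (Nat.card G : ℂ) * (2 * ((K : ℂ) * p * (Nat.card H : ℂ) * (m : ℂ) ^ 2)) := by
        linear_combination hTI
      exact mul_left_cancel₀ two_ne_zero (mul_left_cancel₀ hGc h3)
    exact_mod_cast h2
  rw [hNcard, hCcard] at hnat
  have h6 : (K * p * Nat.card H) * 1 = (K * p * Nat.card H) * m ^ 2 := by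
    rw [mul_one, ← hnat]
    ring
  have h7 : 1 = m ^ 2 :=
    Nat.eq_of_mul_eq_mul_left (Nat.mul_pos (Nat.mul_pos hKpos hp.pos) hepos) h6
  nlinarith [h7]

end Cfsg.Agent.Lib.helper2.BF
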