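import Mathlib
import Cfsg.Prelude.Def_OddOrderLocal
import Cfsg.Prelude.Def_Local
import Cfsg.Agent.Lib.helper13.BGExc
import Cfsg.Agent.Lib.helper13.BG11a
import Cfsg.Agent.Lib.helper13.BG11b
import Cfsg.Agent.Lib.helper13.BG11c
import Cfsg.Agent.Lib.helper13.BG11d

/-!
# B-G section 11: Lemma 11.7, `[O_{p'}(M), A] ≤ M_σ`
-/

set_option autoImplicit false

namespace Cfsg.Agent.Lib.helper13

open Cfsg
open scoped Pointwise commutatorElement

/-- a `p`-group `A` normalizes some Sylow `r`-subgroup of a normal subgroup `K` of order prime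
to `p` -/
theorem exists_inv_sylow_of_normal_coprime {H : Type*} [Group H] [Finite H] (p r : ℕ)
    [Fact p.Prime] [Fact r.Prime] (hpr : p ≠ r) (K A : Subgroup H) [K.Normal]
    (hK : ¬ p ∣ Nat.card K) (hA : IsPGroup p A) :
    ∃ R : Subgroup H, R ≤ K ∧ IsPGroup r R ∧ ¬ r ∣ R.relIndex K ∧
      A ≤ Subgroup.normalizer (R : Set H) := by
  have hpp : p.Prime := Fact.out
  have hrr : r.Prime := Fact.out
  obtain ⟨T, hT⟩ : ∃ T : Subgroup H, T = K ⊔ A := ⟨_, rfl⟩
  have hKT : K ≤ T := by rw [hT]; exact le_sup_left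
  have hAT : A ≤ T := by rw [hT]; exact le_sup_right
  obtain ⟨N, hN⟩ : ∃ N : Subgroup T, N = K.subgroupOf T := ⟨_, rfl⟩
  have hNn : N.Normal := by rw [hN]; infer_instance
  have hpN : ¬ p ∣ Nat.card N := by
    rw [hN, Nat.card_congr (Subgroup.subgroupOfEquivOfLe hKT).toEquiv]
    exact hK
  have hrN : ¬ r ∣ N.index := by
    have h1 : N.index = K.relIndex T := by rw [hN]; rfl
    rw [h1, hT, Subgroup.relIndex_sup_left]
    intro h
    have h2 : r ∣ Nat.card A := h.trans (Subgroup.relIndex_dvd_card K A)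
    obtain ⟨k, hk⟩ := hA.exists_card_eq
    rw [hk] at h2
    exact hpr ((Nat.prime_dvd_prime_iff_eq hrr hpp).mp (hrr.dvd_of_dvd_pow h2)).symm
  have hn : ¬ p ∣ Nat.card (Sylow r T) := by
    obtain ⟨P'⟩ := (inferInstance : Nonempty (Sylow r N))
    have hfr := Sylow.normalizer_sup_eq_top P'
    have hKq : IsPGroup r ((P' : Subgroup N).map N.subtype) := P'.2.map _
    have hKi : ¬ r ∣ ((P' : Subgroup N).map N.subtype).index := by
      rw [Subgroup.index_map_subtype]
      intro h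
      rcases (Nat.Prime.dvd_mul hrr).mp h with h1 | h1
      · exact P'.not_dvd_index h1
      · exact hrN h1
    rw [Sylow.card_eq_index_normalizer (hKq.toSylow hKi)]
    have hdvd := index_dvd_card_of_sup_eq_top _ N hfr
    intro hp
    exact hpN (hp.trans hdvd)
  obtain ⟨Q, hQ⟩ := Cfsg.Agent.Lib.helper76.exists_sylow_normalized_of_not_dvd_card p r
    (A.subgroupOf T) (hA.comap_of_injective T.subtype T.subtype_injective) hn
  have hQN : (Q : Subgroup T) ≤ N :=
    Cfsg.Agent.Lib.helper8.bg_le_of_not_dvd_index N hrN (Q : Subgroup T) Q.2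
  have hRK : (Q : Subgroup T).map T.subtype ≤ K := by
    rintro _ ⟨x, hx, rfl⟩
    have := hQN hx
    rw [hN, Subgroup.mem_subgroupOf] at this
    exact this
  refine ⟨(Q : Subgroup T).map T.subtype, hRK, Q.2.map _, ?_, ?_⟩
  · intro h
    have h1 : ((Q : Subgroup T).map T.subtype).relIndex K * K.relIndex T =
        ((Q : Subgroup T).map T.subtype).relIndex T := Subgroup.relIndex_mul_relIndex _ _ _ hRK hKT
    have h2 : ((Q : Subgroup T).map T.subtype).relIndex T = (Q : Subgroup T).index := by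
      have h3 : ((Q : Subgroup T).map T.subtype).subgroupOf T = (Q : Subgroup T) :=
        Subgroup.comap_map_eq_self_of_injective T.subtype_injective _
      unfold Subgroup.relIndex
      rw [h3]
    rw [h2] at h1
    exact Q.not_dvd_index (h1 ▸ Dvd.dvd.mul_right h _)
  · intro a ha
    exact coe_mem_normalizer_map_subtype (Q : Subgroup T) ⟨a, hAT ha⟩
      (hQ (Subgroup.mem_subgroupOf.mpr ha))


variable {G : Type*} [Group G] [Finite G]

/-- **step of B-G 11.7**: `[O_{p'}(M), A] ≤ M_σ`. -/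
theorem exc_comm_pPrimeCore (hG : IsMinSimpleOddOrder G) (h3 : P11_3 G) (h6 : P11_6 G)
    (hF : PFpf G) (h9 : P10_9 G) (h9c : P10_9c G) {M : Subgroup G} {p : ℕ} {A₀ A : Subgroup G}
    (hE : Exc M p A₀ A) :
    ∀ k ∈ (pPrimeCore p ↥M).map M.subtype, ∀ a ∈ A, k * a * k⁻¹ * a⁻¹ ∈ sigmaCore M := by
  have hAp := exc_isPGroup hE
  obtain ⟨hM, hpp, hpσ, hAM, hAel, hAc, hA₀A, hA₀c, hNA₀⟩ := id hE
  have : Fact p.Prime := ⟨hpp⟩
  obtain ⟨N, hN⟩ : ∃ N : Subgroup M, N = piCore (sigma M) M := ⟨_, rfl⟩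
  have hNn : N.Normal := by rw [hN]; infer_instance
  obtain ⟨AM, hAMdef⟩ : ∃ AM : Subgroup M, AM = A.subgroupOf M := ⟨_, rfl⟩
  have hAMp : IsPGroup p AM := by
    rw [hAMdef]; exact hAp.comap_of_injective M.subtype M.subtype_injective
  obtain ⟨Kc, hKc⟩ : ∃ Kc : Subgroup M, Kc = (Subgroup.centralizer
      ((AM.map (QuotientGroup.mk' N) : Subgroup (↥M ⧸ N)) : Set (↥M ⧸ N))).comap
        (QuotientGroup.mk' N) := ⟨_, rfl⟩
  -- membership criterion
  have hmem : ∀ k : M, k ∈ Kc ↔ ∀ a ∈ AM, k * a * k⁻¹ * a⁻¹ ∈ N := by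
    intro k
    rw [hKc, Subgroup.mem_comap, Subgroup.mem_centralizer_iff]
    constructor
    · intro h a ha
      have h1 := h _ (Subgroup.mem_map_of_mem _ ha)
      rw [← QuotientGroup.eq_one_iff]
      have e : ((k * a * k⁻¹ * a⁻¹ : M) : ↥M ⧸ N) = (QuotientGroup.mk' N k) *
          (QuotientGroup.mk' N a) * (QuotientGroup.mk' N k)⁻¹ * (QuotientGroup.mk' N a)⁻¹ := rfl
      rw [e, ← h1]; group
    · rintro h _ ⟨a, ha, rfl⟩
      have h1 := h a ha
      rw [← QuotientGroup.eq_one_iff] at h1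
      have e : (QuotientGroup.mk' N k) * (QuotientGroup.mk' N a) * (QuotientGroup.mk' N k)⁻¹ *
          (QuotientGroup.mk' N a)⁻¹ = 1 := h1
      calc (QuotientGroup.mk' N a) * (QuotientGroup.mk' N k)
          = ((QuotientGroup.mk' N k) * (QuotientGroup.mk' N a) * (QuotientGroup.mk' N k)⁻¹ *
            (QuotientGroup.mk' N a)⁻¹)⁻¹ * ((QuotientGroup.mk' N k) * (QuotientGroup.mk' N a)) := by
            group
        _ = (QuotientGroup.mk' N k) * (QuotientGroup.mk' N a) := by rw [e]; group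
  have hKcop : (Nat.card (pPrimeCore p ↥M)).Coprime p :=
    Cfsg.Agent.Lib.helper27.pPrimeCore_coprime p
  have hpK : ¬ p ∣ Nat.card (pPrimeCore p ↥M) := by
    intro h
    exact (Nat.Prime.coprime_iff_not_dvd hpp).mp hKcop.symm h
  have hNcop : (Nat.card N).Coprime p := by
    rw [Nat.coprime_comm, Nat.Prime.coprime_iff_not_dvd hpp]
    intro h
    have h2 : p ∣ Nat.card (sigmaCore M) := by
      unfold sigmaCore
      rw [Subgroup.card_map_of_injective M.subtype_injective, ← hN]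
      exact h
    exact hpσ ((Cfsg.Agent.S1350.result hG M hM).1.2.1 p hpp h2)
  have hNK : N ≤ pPrimeCore p ↥M :=
    Cfsg.Agent.Lib.helper27.normal_coprime_le_pPrimeCore p N hNcop
  have hNKc : N ≤ Kc := by
    intro x hx
    rw [hmem]
    intro a ha
    have h1 : a * x⁻¹ * a⁻¹ ∈ N := hNn.conj_mem _ (N.inv_mem hx) a
    have e : x * a * x⁻¹ * a⁻¹ = x * (a * x⁻¹ * a⁻¹) := by group
    rw [e]; exact N.mul_mem hx h1
  -- main: `O_{p'}(M) ≤ Kc`
  have hKKc : pPrimeCore p ↥M ≤ Kc := by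
    rw [← Subgroup.relIndex_eq_one]
    by_contra hne
    obtain ⟨r, hr, hrd⟩ := Nat.exists_prime_and_dvd hne
    have : Fact r.Prime := ⟨hr⟩
    have hrK : r ∣ Nat.card (pPrimeCore p ↥M) := hrd.trans (Subgroup.relIndex_dvd_card _ _)
    have hrp : r ≠ p := by
      rintro rfl; exact hpK hrK
    by_cases hrσ : r ∈ sigma M
    · have h1 : Kc.relIndex (pPrimeCore p ↥M) ∣ N.relIndex (pPrimeCore p ↥M) :=
        Subgroup.relIndex_dvd_of_le_left _ hNKc
      have h2 : N.relIndex (pPrimeCore p ↥M) ∣ N.index := Subgroup.relIndex_dvd_index_of_normal N _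
      have h3' : ¬ r ∣ N.index := by
        rw [hN]
        exact Cfsg.Agent.Lib.helper25.BGS.sigma_core_not_dvd_index hG (bgx_uniq hG) (bgx_fus hG)
          M hM hrσ
      exact h3' (hrd.trans (h1.trans h2))
    · obtain ⟨R, hRK, hRr, hRi, hAR⟩ := exists_inv_sylow_of_normal_coprime p r (Ne.symm hrp)
        (pPrimeCore p ↥M) AM hpK hAMp
      have hARG : A ≤ Subgroup.normalizer ((R.map M.subtype : Subgroup G) : Set G) := by
        intro a ha
        exact coe_mem_normalizer_map_subtype R ⟨a, hAM ha⟩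
          (hAR (by rw [hAMdef]; exact Subgroup.mem_subgroupOf.mpr ha))
      have hcent := exc_cent_inv hG h3 h6 hF h9 h9c hE r hrp hrσ (R.map M.subtype) (hRr.map _)
        (Subgroup.map_subtype_le _) hARG
      have hRKc : R ≤ Kc := by
        intro x hx
        rw [hmem]
        intro a ha
        have hxa : (a : G) * (x : G) = (x : G) * (a : G) := by
          have h1 : (x : G) ∈ Subgroup.centralizer (A : Set G) := hcent ⟨x, hx, rfl⟩
          have h2 : (a : G) ∈ A := by
            rw [hAMdef] at ha; exact Subgroup.mem_subgroupOf.mp ha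
          exact Subgroup.mem_centralizer_iff.mp h1 _ h2
        have e : x * a * x⁻¹ * a⁻¹ = 1 := by
          have hxa' : a * x = x * a := Subtype.ext hxa
          calc x * a * x⁻¹ * a⁻¹ = (a * x) * x⁻¹ * a⁻¹ := by rw [hxa']
            _ = 1 := by group
        rw [e]; exact N.one_mem
      exact hRi (hrd.trans (Subgroup.relIndex_dvd_of_le_left _ hRKc))
  -- conclusion
  rintro _ ⟨k, hk, rfl⟩ a ha
  have h1 := (hmem k).mp (hKKc hk) ⟨a, hAM ha⟩
    (by rw [hAMdef]; exact Subgroup.mem_subgroupOf.mpr ha)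
  unfold sigmaCore
  rw [← hN]
  exact ⟨_, h1, rfl⟩

end Cfsg.Agent.Lib.helper13
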