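import Mathlib
import Cfsg.Agent.S1408
import Cfsg.Agent.S1414
import Cfsg.Agent.Lib.helper97.BGEight1
import Cfsg.Agent.Lib.helper97.BGEight2
import Cfsg.Agent.Lib.helper43.BG8FF
import Cfsg.Agent.Lib.helper60.BGTau2Ab
import Cfsg.Agent.Lib.helper60.BGCentU
import Cfsg.Agent.Lib.helper13.BG11a
import Cfsg.Agent.Lib.helper13.SylowIn
import Cfsg.Agent.Lib.helper26.Basic
import Cfsg.Agent.Lib.helper12.BGEleven
import Cfsg.Agent.Lib.helper28.PConn
import Cfsg.Agent.Lib.helper71.BGTenA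
import Cfsg.Agent.Lib.helper8.BGTwelve

/-!
# S1421, piece PAR-B (helper13, for helper97's split): `bg8_no_bad_elt`

An `r`-element `e` of the complement `E` (`r ≠ p`, `M` of `r`-rank at most 1) that acts
irreducibly on `A = A_p` cannot have a non-identity power centralizing `A` while `e` itself does
not centralize `A`.
-/

set_option autoImplicit false

namespace Cfsg.Agent.Lib.helper13

open Cfsg

variable {G : Type*} [Group G]

/-- If `e` normalizes `A`, acts irreducibly on it and commutes with `x`, then `x` has no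
non-identity fixed point in `A` or centralizes `A`. -/
theorem parb_cent_dichotomy [Finite G] {A : Subgroup G} {e x : G}
    (heA : e ∈ Subgroup.normalizer (A : Set G))
    (heline : ∀ Y : Subgroup G, Y ≤ A → e ∈ Subgroup.normalizer (Y : Set G) → Y = ⊥ ∨ Y = A)
    (hex : e * x = x * e) :
    (∀ a ∈ A, x * a = a * x → a = 1) ∨ x ∈ Subgroup.centralizer (A : Set G) := by
  have hY : e ∈ Subgroup.normalizer
      ((A ⊓ Subgroup.centralizer ({x} : Set G) : Subgroup G) : Set G) := by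
    apply mem_normalizer_of_forall_conj_mem
    intro y hy
    obtain ⟨hyA, hyC⟩ := Subgroup.mem_inf.mp hy
    refine Subgroup.mem_inf.mpr ⟨(Subgroup.mem_normalizer_iff.mp heA y).mp hyA, ?_⟩
    rw [Subgroup.mem_centralizer_iff] at hyC ⊢
    intro z hz
    rw [Set.mem_singleton_iff] at hz
    subst hz
    have hzy : Commute z y := hyC z rfl
    have hze : Commute z e := hex.symm
    exact ((hze.mul_right hzy).mul_right hze.inv_right).eq
  rcases heline _ inf_le_left hY with h | h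
  · left
    intro a ha hxa
    have h1 : a ∈ A ⊓ Subgroup.centralizer ({x} : Set G) := by
      refine Subgroup.mem_inf.mpr ⟨ha, ?_⟩
      rw [Subgroup.mem_centralizer_iff]
      intro z hz
      rw [Set.mem_singleton_iff] at hz
      subst hz
      exact hxa
    rw [h] at h1
    exact Subgroup.mem_bot.mp h1
  · right
    rw [Subgroup.mem_centralizer_iff]
    intro a ha
    rw [← h] at ha
    have h1 := Subgroup.mem_centralizer_iff.mp (Subgroup.mem_inf.mp ha).2 x rfl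
    exact h1.symm

/-- The norm-lemma step: an element `z` of order dividing `r` that normalizes `A` and commutes with
`e` lies in `E`. -/
theorem parb_mem_compl [Finite G] {A E : Subgroup G} {e z : G} {r k : ℕ} (hr : r.Prime)
    (hAab : ∀ a ∈ A, ∀ b ∈ A, a * b = b * a) (hA1 : A ≠ ⊥)
    (hrA : ∀ a ∈ A, a ^ r = 1 → a = 1)
    (hCE : Subgroup.centralizer (A : Set G) ≤ E) (heE : e ∈ E)
    (heA : e ∈ Subgroup.normalizer (A : Set G))
    (heline : ∀ Y : Subgroup G, Y ≤ A → e ∈ Subgroup.normalizer (Y : Set G) → Y = ⊥ ∨ Y = A)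
    (hek : orderOf e = r ^ k)
    (heC : e ∉ Subgroup.centralizer (A : Set G))
    (hzA : z ∈ Subgroup.normalizer (A : Set G)) (hez : e * z = z * e) (hzr : z ^ r = 1) :
    z ∈ E := by
  rcases parb_cent_dichotomy heA heline hez with hw | hzC
  swap
  · exact hCE hzC
  have hex : ∃ j : ℕ, e ^ r ^ j ∈ Subgroup.centralizer (A : Set G) :=
    ⟨k, by rw [← hek, pow_orderOf_eq_one]; exact Subgroup.one_mem _⟩
  classical
  obtain ⟨m, hm, hmin⟩ : ∃ m, e ^ r ^ m ∈ Subgroup.centralizer (A : Set G) ∧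
      ∀ j < m, e ^ r ^ j ∉ Subgroup.centralizer (A : Set G) :=
    ⟨Nat.find hex, Nat.find_spec hex, fun j hj => Nat.find_min hex hj⟩
  have hm0 : m ≠ 0 := by
    rintro rfl
    apply heC
    simpa using hm
  obtain ⟨n, rfl⟩ := Nat.exists_eq_succ_of_ne_zero hm0
  obtain ⟨u, hu⟩ : ∃ u, u = e ^ r ^ n := ⟨_, rfl⟩
  have huC : u ∉ Subgroup.centralizer (A : Set G) := by
    rw [hu]; exact hmin n (Nat.lt_succ_self n)
  have hur : u ^ r ∈ Subgroup.centralizer (A : Set G) := by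
    rw [hu, ← pow_mul, ← pow_succ]; exact hm
  have huE : u ∈ E := by rw [hu]; exact E.pow_mem heE _
  have huA : u ∈ Subgroup.normalizer (A : Set G) := by
    rw [hu]; exact Subgroup.pow_mem _ heA _
  have hce : Commute e u := by rw [hu]; exact (Commute.refl e).pow_right _
  have hcz : Commute e z := hez
  have huz : u * z = z * u := by
    rw [hu]; exact (hcz.pow_left _).eq
  by_contra hzE
  apply hA1
  apply Cfsg.Agent.Lib.helper43.bg8_norm_lemma A hAab r hr hrA u z huz huA hzA hur hzr hw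
  intro j a ha hcomm
  have hexj : e * (u * z ^ j) = (u * z ^ j) * e := (hce.mul_right (hcz.pow_right j)).eq
  rcases parb_cent_dichotomy heA heline hexj with h | h
  · exact h a ha hcomm
  · exfalso
    have h1 : u * z ^ j ∈ E := hCE h
    have h2 : z ^ j ∈ E := by
      have := E.mul_mem (E.inv_mem huE) h1
      simpa using this
    by_cases hrj : r ∣ j
    · obtain ⟨t, rfl⟩ := hrj
      rw [pow_mul, hzr, one_pow, mul_one] at h
      exact huC h
    · have hcop : Nat.Coprime j r := ((Nat.Prime.coprime_iff_not_dvd hr).mpr hrj).symm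
      obtain ⟨i, -, hi⟩ := Nat.exists_mul_mod_eq_one_of_coprime hcop hr.one_lt
      apply hzE
      have h3 : z = (z ^ j) ^ i := by
        rw [← pow_mul, pow_eq_pow_mod (j * i) hzr, hi, pow_one]
      rw [h3]
      exact E.pow_mem h2 i

/-- **S1421, piece PAR-B.** -/
theorem bg8_no_bad_elt {G : Type*} [Group G] [Finite G] (hG : Cfsg.IsMinSimpleOddOrder G)
    (h27 : Cfsg.Agent.Lib.helper97.BG8PrimeHyp G) {M E A : Subgroup G} {p : ℕ} [Fact p.Prime]
    {S : Sylow p G} (c : Cfsg.Agent.Lib.helper97.BG8Ctx M E A p S)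
    (hSE : (S : Subgroup G) ≤ E)
    (hNS : Subgroup.normalizer (A : Set G) ≤ Subgroup.normalizer ((S : Subgroup G) : Set G))
    (e : G) (heE : e ∈ E) (r k : ℕ) (hr : r.Prime) (hrp : r ≠ p) (hek : orderOf e = r ^ k)
    (hr1 : Cfsg.PRankLE r 1 M)
    (heline : ∀ Y : Subgroup G, Y ≤ A → e ∈ Subgroup.normalizer (Y : Set G) → Y = ⊥ ∨ Y = A)
    (he' : e ^ r ^ (k - 1) ∈ Subgroup.centralizer (A : Set G))
    (heC : e ∉ Subgroup.centralizer (A : Set G)) : False := by
  have hpp : p.Prime := Fact.out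
  have hrF : Fact r.Prime := ⟨hr⟩
  obtain ⟨hodd, -, -, -⟩ := id hG
  have hM := c.hM
  have hE := c.hE
  have hp := c.hp
  obtain ⟨hAE, hAe, hA2⟩ := c.hA
  have h17 := Cfsg.Agent.Lib.helper97.bg8_h17 hG
  have h18 := Cfsg.Agent.Lib.helper97.bg8_h18 hG
  obtain ⟨⟨hEA, -⟩, ⟨hCA, hNA, -⟩, -⟩ := h18 M hM E hE p hp A c.hA
  have hCE : Subgroup.centralizer (A : Set G) ≤ E := hNA ▸ hCA
  have hEM : E ≤ M := hE.1
  have hAM : A ≤ M := hAE.trans hEM
  have hAab : ∀ a ∈ A, ∀ b ∈ A, a * b = b * a :=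
    ((Cfsg.Agent.Lib.helper8.bg_elemAb_iff A).mp hAe).1
  have hAp : ∀ a ∈ A, a ^ p = 1 := hAe.2
  have hA1 : A ≠ ⊥ := by
    intro h
    rw [h, Subgroup.card_bot] at hA2
    have h1 : 1 < p ^ 2 := Nat.one_lt_pow (by norm_num) hpp.one_lt
    omega
  have hAtop : A ≠ ⊤ := by
    intro h
    apply hM.1
    rw [eq_top_iff, ← h]
    exact hAM
  have heA : e ∈ Subgroup.normalizer (A : Set G) := hEA heE
  have hk : k ≠ 0 := by
    rintro rfl
    rw [pow_zero, orderOf_eq_one_iff] at hek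
    apply heC
    rw [hek]
    exact Subgroup.one_mem _
  have hrA : ∀ a ∈ A, a ^ r = 1 → a = 1 := by
    intro a ha har
    have h1 : orderOf a ∣ p := orderOf_dvd_of_pow_eq_one (hAp a ha)
    have h2 : orderOf a ∣ r := orderOf_dvd_of_pow_eq_one har
    have h3 : orderOf a ∣ Nat.gcd p r := Nat.dvd_gcd h1 h2
    have h4 : Nat.gcd p r = 1 := (Nat.coprime_primes hpp hr).mpr (Ne.symm hrp)
    rw [h4] at h3
    exact orderOf_eq_one_iff.mp (Nat.dvd_one.mp h3)
  -- the maximal subgroup `Ms ≥ N_G(A)`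
  have hNtop : Subgroup.normalizer (A : Set G) ≠ ⊤ :=
    Cfsg.Agent.Lib.helper97.bg7_normalizer_ne_top hG hA1 hAtop
  obtain ⟨Ms, hMs, hNMs⟩ := (eq_top_or_exists_le_coatom _).resolve_left hNtop
  have hpσ : p ∈ sigma Ms :=
    Cfsg.Agent.Lib.helper97.bg7_mem_sigma_of_normalizer_le hG h17 Ms hMs p A hAe hA2 hNMs
  have hEMs : E ≤ Ms := hEA.trans hNMs
  have heMs : e ∈ Ms := hEMs heE
  have hSMs : (S : Subgroup G) ≤ Ms := hSE.trans hEMs
  have hAMs : A ≤ Ms := hAE.trans hEMs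
  have hU := bgx_uniq hG
  have hF := bgx_fus hG
  have hAσ : A ≤ sigmaCore Ms :=
    Cfsg.Agent.Lib.helper8.bg_pgroup_le_sigmaCore hG hU hF Ms hMs hpσ A hAMs (IsPGroup.of_card hA2)
  have hSσ : (S : Subgroup G) ≤ sigmaCore Ms :=
    Cfsg.Agent.Lib.helper8.bg_pgroup_le_sigmaCore hG hU hF Ms hMs hpσ S hSMs S.isPGroup'
  have hzp : IsPGroup r (Subgroup.zpowers e) :=
    IsPGroup.of_card (n := k) (by rw [Nat.card_zpowers, hek])
  have hzMs : Subgroup.zpowers e ≤ Ms := by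
    rw [Subgroup.zpowers_le]; exact heMs
  -- Step 5: `r ∉ σ(Ms)`
  have hrσ : r ∉ sigma Ms := by
    intro hrσ
    have heσ : Subgroup.zpowers e ≤ sigmaCore Ms :=
      Cfsg.Agent.Lib.helper8.bg_pgroup_le_sigmaCore hG hU hF Ms hMs hrσ _ hzMs hzp
    have hpi : ¬ IsIdealPrime p G :=
      (Cfsg.Agent.S1408.result hG M hM p hp.2.1 hp.2.2.1 hp.2.2.2).1
    have hpβ : p ∉ beta Ms := fun h => hpi h.2
    have hpd : p ∣ Nat.card Ms := hpσ.2.1
    obtain ⟨-, -, -, -, h5⟩ := Cfsg.Agent.S1414.result hG Ms hMs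
    obtain ⟨-, ⟨P, T, hTn, hTP⟩, -⟩ := h5 p hpp hpd hpβ
    have hcard : Nat.card T * Nat.card (P : Subgroup (sigmaCore Ms)) = Nat.card (sigmaCore Ms) :=
      hTP.card_mul_card
    have hTidx : T.index = Nat.card (P : Subgroup (sigmaCore Ms)) := by
      have h1 := Subgroup.card_mul_index T
      rw [← hcard] at h1
      exact Nat.eq_of_mul_eq_mul_left Nat.card_pos h1
    have hPc : Nat.card (P : Subgroup (sigmaCore Ms)) =
        p ^ (Nat.card (sigmaCore Ms)).factorization p := P.card_eq_multiplicity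
    have hridx : ¬ r ∣ T.index := by
      rw [hTidx, hPc]
      intro h
      exact hrp ((Nat.prime_dvd_prime_iff_eq hr hpp).mp (hr.dvd_of_dvd_pow h))
    have heT : Subgroup.zpowers e ≤ T.map (sigmaCore Ms).subtype :=
      Cfsg.Agent.Lib.helper71.BGA.le_map_of_isPGroup T hridx heσ hzp
    have hTcop : Nat.gcd (Nat.card T) p = 1 := by
      have h0 : Nat.Coprime p (Nat.card T) := by
        rw [Nat.Prime.coprime_iff_not_dvd hpp]
        intro hd
        have h1 : p ^ ((Nat.card (sigmaCore Ms)).factorization p + 1) ∣ Nat.card (sigmaCore Ms) := by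
          have h2 : p * p ^ (Nat.card (sigmaCore Ms)).factorization p ∣
              Nat.card T * Nat.card (P : Subgroup (sigmaCore Ms)) :=
            Nat.mul_dvd_mul hd (dvd_of_eq hPc.symm)
          rw [hcard] at h2
          rw [pow_succ, mul_comm]
          exact h2
        exact Nat.pow_succ_factorization_not_dvd Nat.card_pos.ne' hpp h1
      exact h0.symm
    apply heC
    rw [Subgroup.mem_centralizer_iff]
    intro a ha
    obtain ⟨e0, he0T, he0⟩ := heT (Subgroup.mem_zpowers e)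
    have he0' : (e0 : G) = e := he0
    obtain ⟨a0, ha0⟩ : ∃ a0 : ↥(sigmaCore Ms), a0 = ⟨a, hAσ ha⟩ := ⟨_, rfl⟩
    have ha0' : (a0 : G) = a := by rw [ha0]
    have hc0T : e0 * (a0 * e0⁻¹ * a0⁻¹) ∈ T :=
      T.mul_mem he0T (hTn.conj_mem _ (T.inv_mem he0T) a0)
    have hc0A : e * a * e⁻¹ * a⁻¹ ∈ A :=
      A.mul_mem ((Subgroup.mem_normalizer_iff.mp heA a).mp ha) (A.inv_mem ha)
    have hc0 : ((e0 * (a0 * e0⁻¹ * a0⁻¹) : ↥(sigmaCore Ms)) : G) = e * a * e⁻¹ * a⁻¹ := by
      simp only [Subgroup.coe_mul, Subgroup.coe_inv, he0', ha0']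
      group
    have hc0p : (e0 * (a0 * e0⁻¹ * a0⁻¹)) ^ p = 1 := by
      apply Subtype.ext
      rw [Subgroup.coe_pow, hc0]
      exact hAp _ hc0A
    have hc01 : e0 * (a0 * e0⁻¹ * a0⁻¹) = 1 := by
      have h1 : orderOf (e0 * (a0 * e0⁻¹ * a0⁻¹)) ∣ p := orderOf_dvd_of_pow_eq_one hc0p
      have h2 : orderOf (⟨_, hc0T⟩ : T) ∣ Nat.card T := orderOf_dvd_natCard _
      rw [Subgroup.orderOf_mk] at h2
      have h3 := Nat.dvd_gcd h2 h1
      rw [hTcop] at h3
      exact orderOf_eq_one_iff.mp (Nat.dvd_one.mp h3)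
    have h4 : e * a * e⁻¹ * a⁻¹ = 1 := by
      rw [← hc0, hc01]
      rfl
    calc a * e = (e * a * e⁻¹ * a⁻¹)⁻¹ * (e * a) := by group
      _ = e * a := by rw [h4]; simp
  have hr2 : PRankLE r 2 Ms := by
    by_contra h
    exact hrσ (Cfsg.Agent.Lib.helper8.bg_alpha_sub_sigma hG hU Ms hMs ⟨hr, h⟩)
  -- Step 6: `Ms` does not have `r`-rank 1
  have hr1' : ¬ PRankLE r 1 Ms := by
    intro hr1'
    obtain ⟨Es, hEs, hzEs⟩ := Cfsg.Agent.Lib.helper60.BGCentU.exists_compl_ge hG Ms hMs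
      (Subgroup.zpowers e) hzMs (by
        intro q hq hqd
        rw [Nat.card_zpowers, hek] at hqd
        have h1 := (Nat.prime_dvd_prime_iff_eq hq hr).mp (hq.dvd_of_dvd_pow hqd)
        rw [h1]
        exact hrσ)
    have heEs : e ∈ Es := hzEs (Subgroup.mem_zpowers e)
    have hzp' : IsPGroup r (Subgroup.zpowers (⟨e, heEs⟩ : Es)) :=
      IsPGroup.of_card (n := k) (by rw [Nat.card_zpowers, Subgroup.orderOf_mk, hek])
    obtain ⟨R, hR⟩ := hzp'.exists_le_sylow
    have heR : (⟨e, heEs⟩ : Es) ∈ (R : Subgroup Es) := hR (Subgroup.mem_zpowers _)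
    have hR1 : (R : Subgroup Es) ≠ ⊥ := by
      intro h
      rw [h, Subgroup.mem_bot] at heR
      have h1 : e = 1 := congrArg Subtype.val heR
      apply heC
      rw [h1]
      exact Subgroup.one_mem _
    have hRc : IsCyclic (R : Subgroup Es) :=
      Cfsg.Agent.Lib.helper8.bg_sylow_cyclic_of_prank_one hodd hEs.1 r hr1' R
    have hx : e ^ r ^ (k - 1) ∈ (R : Subgroup Es).map Es.subtype :=
      ⟨⟨e, heEs⟩ ^ r ^ (k - 1), Subgroup.pow_mem _ heR _, by simp⟩
    have hx1 : e ^ r ^ (k - 1) ≠ 1 := by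
      intro h
      have h1 := orderOf_dvd_of_pow_eq_one h
      rw [hek] at h1
      have h2 := (Nat.pow_dvd_pow_iff_le_right hr.one_lt).mp h1
      omega
    have key := h27 Ms hMs Es hEs r R hR1 hRc _ hx hx1
    apply heC
    rw [Subgroup.mem_centralizer_iff]
    intro a ha
    have h1 : a ∈ sigmaCore Ms ⊓ Subgroup.centralizer ({e ^ r ^ (k - 1)} : Set G) := by
      refine Subgroup.mem_inf.mpr ⟨hAσ ha, ?_⟩
      rw [Subgroup.mem_centralizer_iff]
      intro y hy
      rw [Set.mem_singleton_iff] at hy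
      subst hy
      exact ((Subgroup.mem_centralizer_iff.mp he') a ha).symm
    rw [key] at h1
    have h2 := Subgroup.mem_centralizer_iff.mp (Subgroup.mem_inf.mp h1).2 e ⟨⟨e, heEs⟩, heR, rfl⟩
    exact h2.symm
  -- Step 7: `r ∈ τ₂(Ms)`
  have hrτ : r ∈ tau2 Ms := ⟨hr, hrσ, hr2, hr1'⟩
  obtain ⟨B0, hB0M, hB0e, hB0c⟩ := Cfsg.Agent.Lib.helper8.bg_exists_elemAb_sq Ms r hr2 hr1'
  obtain ⟨hnil, -, -⟩ := h17 Ms hMs r hrτ B0 ⟨hB0M, hB0e, hB0c⟩
  obtain ⟨P, hzP⟩ := Cfsg.Agent.Lib.helper12.exc_exists_sylow hzMs hzp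
  have hB0p : IsPGroup r (B0.subgroupOf Ms) := (IsPGroup.of_card hB0c).comap_subtype
  obtain ⟨m, hm⟩ := Cfsg.Agent.Lib.helper26.exists_conj_le_sylow P (B0.subgroupOf Ms) hB0p
  obtain ⟨Q, hQ⟩ : ∃ Q : Subgroup G, Q = (P : Subgroup Ms).map Ms.subtype := ⟨_, rfl⟩
  have hQM : Q ≤ Ms := by rw [hQ]; exact Subgroup.map_subtype_le _
  have hQp : IsPGroup r Q := by rw [hQ]; exact P.isPGroup'.map _
  have hQc := Cfsg.Agent.Lib.helper97.bg8_psub_comm h17 Ms hMs r hrτ B0 ⟨hB0M, hB0e, hB0c⟩ Q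
    hQM hQp
  have heQ : e ∈ Q := by rw [hQ]; exact hzP (Subgroup.mem_zpowers e)
  -- `Ms ≤ N_G(A)`
  have hMsA : Ms ≤ Subgroup.normalizer (A : Set G) := by
    obtain ⟨T, hTσ, hTp, hTall, hTn⟩ :=
      Cfsg.Agent.Lib.helper60.BGTau2Ab.exists_normal_sylow_of_nilpotent (sigmaCore Ms) hnil p
    have hST : (S : Subgroup G) ≤ T := hTall S hSσ S.isPGroup'
    have hTS : T = (S : Subgroup G) := S.is_maximal' hTp hST
    have hSM : (S : Subgroup G) ≤ M := hSE.trans hEM
    obtain ⟨-, h2, -⟩ := h17 M hM p hp A ⟨hAM, hAe, hA2⟩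
    have hmap : ((S.subtype hSM : Sylow p M) : Subgroup M).map M.subtype = (S : Subgroup G) := by
      rw [Sylow.coe_subtype, Subgroup.map_subgroupOf_eq_of_le hSM]
    have hΩ := ((h2 (S.subtype hSM)).2 (by rw [hmap]; exact c.hAS)).1
    rw [hmap] at hΩ
    intro n hn
    have hnS : n ∈ Subgroup.normalizer ((S : Subgroup G) : Set G) := by
      rw [← hTS]
      exact hTn (le_normalizer_sigmaCore Ms hn)
    apply mem_normalizer_of_forall_conj_mem
    intro a ha
    have h1 : n * a * n⁻¹ ∈ (S : Subgroup G) :=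
      (Subgroup.mem_normalizer_iff.mp hnS a).mp (c.hAS ha)
    apply (hΩ _ h1).mp
    rw [conj_pow, hAp a ha]
    group
  -- Step 8: the conjugate of `B0` inside `Q` lies in `E`
  have hBE : ∀ b ∈ B0, (m : G) * b * (m : G)⁻¹ ∈ E := by
    intro b hb
    have hbQ : (m : G) * b * (m : G)⁻¹ ∈ Q := by
      have h1 := hm ⟨b, hB0M hb⟩ (Subgroup.mem_subgroupOf.mpr hb)
      rw [hQ]
      exact ⟨_, h1, by simp⟩
    have hbr : ((m : G) * b * (m : G)⁻¹) ^ r = 1 := by
      rw [conj_pow, hB0e.2 b hb]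
      group
    exact parb_mem_compl hr hAab hA1 hrA hCE heE heA heline hek heC (hMsA (hQM hbQ))
      (hQc e heQ _ hbQ) hbr
  -- Step 9
  apply (Cfsg.Agent.Lib.helper28.not_pRankLE_subgroup_iff r 1 M).mpr ?_ hr1
  refine ⟨B0.map (MulAut.conj (m : G)).toMonoidHom, ?_,
    Cfsg.Agent.Lib.helper12.isElementaryAbelian_map_conj hB0e _, ?_⟩
  · rintro _ ⟨b, hb, rfl⟩
    exact hEM (hBE b hb)
  · rw [Subgroup.card_map_of_injective (MulAut.conj (m : G)).injective, hB0c]
    exact Nat.pow_lt_pow_right hr.one_lt (by norm_num)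

end Cfsg.Agent.Lib.helper13
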