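import Mathlib
import Cfsg.Agent.Lib.helper2.BGDefs
import Cfsg.Agent.Lib.helper20.D1EFinal
import Cfsg.Agent.Lib.helper4.CharDecomp
import Cfsg.Agent.Lib.helper81.Kernel
import Cfsg.Agent.Lib.helper48.BGJ
import Cfsg.Agent.Lib.helper40.BGO00

/-!
# S4504 piece L (`S1_formula`): the characters trivial on the centre.
-/

set_option autoImplicit false

open Cfsg Cfsg.Agent.Lib.helper20.D1E Cfsg.Agent.Lib.helper2.BF
open scoped ComplexConjugate

namespace Cfsg.Agent.Lib.helper2.BG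

universe u

variable {G : Type*} [Group G] [Fintype G]

/-- A character trivial on the centre is invariant under central translations. -/
theorem helper13_triv_mul (χ : IrrCharacter G)
    (hs : ∀ z ∈ Subgroup.center G, (χ : G → ℂ) z = (χ : G → ℂ) 1) (g z : G)
    (hz : z ∈ Subgroup.center G) : (χ : G → ℂ) (g * z) = (χ : G → ℂ) g := by
  rw [helper48_cm χ g z hz, hs z hz, div_self (Cfsg.Agent.Lib.helper81.irr_one_ne_zero χ),
    one_mul]

/-- A character trivial on the centre and outside the principal block vanishes at `x`. -/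
theorem helper13_vanish (p : ℕ) [Fact p.Prime] (P : Sylow p G) (hP : Nat.card P = p)
    (x : G) (hx : x ∈ (P : Subgroup G)) (hx1 : x ≠ 1)
    (M : Ideal AlgInt) (hM : IsPModular p M)
    (hK : ∀ k ∈ Subgroup.centralizer ((P : Subgroup G) : Set G), ¬ p ∣ orderOf k →
      k ∈ Subgroup.center G)
    (hZ : ∀ z ∈ Subgroup.center G, ¬ p ∣ orderOf z)
    (χ : IrrCharacter G)
    (hs : ∀ z ∈ Subgroup.center G, (χ : G → ℂ) z = (χ : G → ℂ) 1)
    (hχ : χ ∉ principalBlock M G) : (χ : G → ℂ) x = 0 := by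
  classical
  have hKZ := (card_centralizer p P hP hK hZ).2
  have h0 := section_sum_eq_zero p M hM P hP x hx hx1 χ hχ
  have h1 : ∑ y : G, Set.indicator
      {y : G | y ∈ Subgroup.centralizer ((P : Subgroup G) : Set G) ∧ ¬ p ∣ orderOf y}
      (fun y => (χ : G → ℂ) (x * y)) y
      = ∑ y : G, Set.indicator ((Subgroup.center G : Subgroup G) : Set G)
        (fun _ => (χ : G → ℂ) x) y := by
    refine Finset.sum_congr rfl (fun y _ => ?_)
    by_cases hy : y ∈ Subgroup.center G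
    · rw [Set.indicator_of_mem (show y ∈ {y : G | y ∈ Subgroup.centralizer
          ((P : Subgroup G) : Set G) ∧ ¬ p ∣ orderOf y} from (hKZ y).2 hy),
        Set.indicator_of_mem (show y ∈ ((Subgroup.center G : Subgroup G) : Set G) from hy)]
      exact helper13_triv_mul χ hs x y hy
    · rw [Set.indicator_of_notMem (show y ∉ {y : G | y ∈ Subgroup.centralizer
          ((P : Subgroup G) : Set G) ∧ ¬ p ∣ orderOf y} from fun h => hy ((hKZ y).1 h)),
        Set.indicator_of_notMem (show y ∉ ((Subgroup.center G : Subgroup G) : Set G) from hy)]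
  rw [h1, helper48_sum_ind_const] at h0
  rcases mul_eq_zero.mp h0 with h | h
  · exfalso
    have hpos : 0 < Nat.card (Subgroup.center G) := Nat.card_pos
    have : Nat.card (Subgroup.center G) = 0 := by exact_mod_cast h
    omega
  · exact h

/-- A character of the principal block is trivial on the centre. -/
theorem helper13_block_triv (p : ℕ) [Fact p.Prime] (P : Sylow p G) (hP : Nat.card P = p)
    (x : G) (hx : x ∈ (P : Subgroup G)) (hx1 : x ≠ 1)
    (M : Ideal AlgInt) (hM : IsPModular p M)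
    (hK : ∀ k ∈ Subgroup.centralizer ((P : Subgroup G) : Set G), ¬ p ∣ orderOf k →
      k ∈ Subgroup.center G)
    (hZ : ∀ z ∈ Subgroup.center G, ¬ p ∣ orderOf z)
    (χ : IrrCharacter G) (hχ : χ ∈ principalBlock M G) :
    ∀ z ∈ Subgroup.center G, (χ : G → ℂ) z = (χ : G → ℂ) 1 := by
  intro z hz
  have hKZ := (card_centralizer p P hP hK hZ).2
  obtain ⟨hne, hconst⟩ := (principal_iff p M hM P hP x hx hx1 χ).1 hχ
  have h1 := hconst z ((hKZ z).2 hz).1 ((hKZ z).2 hz).2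
  rw [helper48_cm χ x z hz] at h1
  have h2 : (χ : G → ℂ) z / (χ : G → ℂ) 1 = 1 :=
    mul_right_cancel₀ hne (by rw [h1, one_mul])
  have h3 := Cfsg.Agent.Lib.helper81.irr_one_ne_zero χ
  rw [div_eq_one_iff_eq h3] at h2
  exact h2

open Classical in
/-- `c` if `q` holds, `0` otherwise. -/
noncomputable def helper13_ite (q : Prop) (c : ℂ) : ℂ := if q then c else 0

theorem helper13_ite_pos {q : Prop} (hq : q) (c : ℂ) : helper13_ite q c = c := by
  classical
  unfold helper13_ite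
  rw [if_pos hq]

theorem helper13_ite_neg {q : Prop} (hq : ¬ q) (c : ℂ) : helper13_ite q c = 0 := by
  classical
  unfold helper13_ite
  rw [if_neg hq]

/-- Column orthogonality restricted to the characters trivial on the centre. -/
theorem helper13_orth (p : ℕ) [Fact p.Prime] (P : Sylow p G) (hP : Nat.card P = p)
    (x : G) (hx : x ∈ (P : Subgroup G)) (hx1 : x ≠ 1)
    (hK : ∀ k ∈ Subgroup.centralizer ((P : Subgroup G) : Set G), ¬ p ∣ orderOf k →
      k ∈ Subgroup.center G)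
    (hZ : ∀ z ∈ Subgroup.center G, ¬ p ∣ orderOf z)
    (a : G) (ha : a ∈ (P : Subgroup G)) :
    ∑ χ : IrrCharacter G, Set.indicator
        {χ : IrrCharacter G | ∀ z ∈ Subgroup.center G, (χ : G → ℂ) z = (χ : G → ℂ) 1}
        (fun χ => (χ : G → ℂ) x * (χ : G → ℂ) a) χ
      = helper13_ite (IsConj x a⁻¹) (p : ℂ) := by
  classical
  unfold helper13_ite
  have hp : p.Prime := Fact.out
  obtain ⟨hKcard, hKZ⟩ := card_centralizer p P hP hK hZ
  obtain ⟨-, hxo⟩ := Cfsg.Agent.Lib.helper46.d1gs_eq_zpowers p (P : Subgroup G) hP x hx hx1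
  set cZ : ℂ := (Nat.card (Subgroup.center G) : ℂ) with hcZ
  have hcZ0 : cZ ≠ 0 := by
    have hpos : 0 < Nat.card (Subgroup.center G) := Nat.card_pos
    rw [hcZ]
    exact_mod_cast hpos.ne'
  set Zs : Set G := ((Subgroup.center G : Subgroup G) : Set G) with hZs
  have e1 : ∀ χ : IrrCharacter G, (χ : G → ℂ) x * ∑ z : G, Set.indicator Zs
        (fun z => conj ((χ : G → ℂ) (a⁻¹ * z))) z
      = cZ * Set.indicator
        {χ : IrrCharacter G | ∀ z ∈ Subgroup.center G, (χ : G → ℂ) z = (χ : G → ℂ) 1}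
        (fun χ => (χ : G → ℂ) x * (χ : G → ℂ) a) χ := by
    intro χ
    by_cases hs : ∀ z ∈ Subgroup.center G, (χ : G → ℂ) z = (χ : G → ℂ) 1
    · rw [helper48_central_sum_triv χ a⁻¹ hs, Set.indicator_of_mem (show χ ∈
        {χ : IrrCharacter G | ∀ z ∈ Subgroup.center G, (χ : G → ℂ) z = (χ : G → ℂ) 1} from hs),
        Cfsg.Agent.Lib.helper81.irr_inv, Complex.conj_conj]
      ring
    · rw [helper48_central_sum_ne χ a⁻¹ hs, Set.indicator_of_notMem (show χ ∉
        {χ : IrrCharacter G | ∀ z ∈ Subgroup.center G, (χ : G → ℂ) z = (χ : G → ℂ) 1} from hs)]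
      ring
  have e2 : ∑ χ : IrrCharacter G, (χ : G → ℂ) x * ∑ z : G, Set.indicator Zs
        (fun z => conj ((χ : G → ℂ) (a⁻¹ * z))) z
      = ∑ z : G, Set.indicator Zs
        (fun z => ∑ χ : IrrCharacter G, (χ : G → ℂ) x * conj ((χ : G → ℂ) (a⁻¹ * z))) z := by
    simp_rw [Finset.mul_sum]
    rw [Finset.sum_comm]
    refine Finset.sum_congr rfl (fun z _ => ?_)
    by_cases hz : z ∈ Zs
    · simp only [Set.indicator_of_mem hz]
    · simp only [Set.indicator_of_notMem hz]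
      simp
  have hxp : x ^ p = 1 := by rw [← hxo]; exact pow_orderOf_eq_one x
  have hap : a ^ p = 1 := by
    have h1 := orderOf_dvd_natCard (⟨a, ha⟩ : (P : Subgroup G))
    rw [hP, Subgroup.orderOf_mk] at h1
    exact orderOf_dvd_iff_pow_eq_one.1 h1
  have hCx : (Nat.card (Subgroup.centralizer ({x} : Set G)) : ℂ) = (p : ℂ) * cZ := by
    rw [e1_centralizer_eq p P hP x hx hx1, hKcard]
    push_cast
    rfl
  have e3 : ∀ z : G, z ∈ Zs →
      (∑ χ : IrrCharacter G, (χ : G → ℂ) x * conj ((χ : G → ℂ) (a⁻¹ * z)))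
        = if (z = 1 ∧ IsConj x a⁻¹) then (p : ℂ) * cZ else 0 := by
    intro z hz
    rw [Cfsg.Agent.Lib.helper81.irr_col_orth x (a⁻¹ * z), hCx]
    have hiff : IsConj x (a⁻¹ * z) ↔ (z = 1 ∧ IsConj x a⁻¹) := by
      constructor
      · intro hc
        have hz1 : z = 1 := by
          obtain ⟨g, hg⟩ := isConj_iff.1 hc
          have h1 : (a⁻¹ * z) ^ p = 1 := by
            rw [← hg, conj_pow, hxp, mul_one, mul_inv_cancel]
          have hcomm : Commute a⁻¹ z := Subgroup.mem_center_iff.mp hz a⁻¹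
          rw [hcomm.mul_pow, inv_pow, hap, inv_one, one_mul] at h1
          have h2 : orderOf z ∣ p := orderOf_dvd_of_pow_eq_one h1
          rcases (Nat.dvd_prime hp).1 h2 with h3 | h3
          · exact orderOf_eq_one_iff.1 h3
          · exact absurd (h3 ▸ dvd_refl _) (hZ z hz)
        exact ⟨hz1, by rwa [hz1, mul_one] at hc⟩
      · rintro ⟨rfl, hc⟩
        rwa [mul_one]
    simp only [hiff]
  have e4 : ∑ z : G, Set.indicator Zs
        (fun z => ∑ χ : IrrCharacter G, (χ : G → ℂ) x * conj ((χ : G → ℂ) (a⁻¹ * z))) z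
      = if IsConj x a⁻¹ then (p : ℂ) * cZ else 0 := by
    rw [Finset.sum_eq_single (1 : G)]
    · rw [Set.indicator_of_mem (show (1 : G) ∈ Zs from Subgroup.one_mem _),
        e3 1 (Subgroup.one_mem _)]
      simp
    · intro z _ hz1
      by_cases hz : z ∈ Zs
      · rw [Set.indicator_of_mem hz, e3 z hz, if_neg (fun h => hz1 h.1)]
      · rw [Set.indicator_of_notMem hz]
    · intro h
      exact absurd (Finset.mem_univ _) h
  have e5 : cZ * ∑ χ : IrrCharacter G, Set.indicator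
        {χ : IrrCharacter G | ∀ z ∈ Subgroup.center G, (χ : G → ℂ) z = (χ : G → ℂ) 1}
        (fun χ => (χ : G → ℂ) x * (χ : G → ℂ) a) χ
      = if IsConj x a⁻¹ then (p : ℂ) * cZ else 0 := by
    rw [Finset.mul_sum, ← Finset.sum_congr rfl (fun χ _ => e1 χ), e2, e4]
  split_ifs at e5 ⊢ with hc
  · exact mul_left_cancel₀ hcZ0 (by rw [e5]; ring)
  · exact (mul_eq_zero.1 e5).resolve_left hcZ0

omit [Fintype G] in
/-- Exactly one of `x⁻¹`, `(x ^ mp)⁻¹` is conjugate to `x`. -/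
theorem helper13_conj_dich (p : ℕ) [Fact p.Prime] (x : G) (hxo : orderOf x = p)
    (H : Subgroup (ZMod p)ˣ)
    (hH : ∀ r : (ZMod p)ˣ, r ∈ H ↔ ∃ n : G, n * x * n⁻¹ = x ^ ((r : ZMod p).val))
    (he : 2 * Nat.card H + 1 = p) (c : (ZMod p)ˣ) (hc : c ∉ H) (mp : ℕ)
    (hmc : (mp : ZMod p) = (c : ZMod p)) :
    (IsConj x x⁻¹ ↔ ¬ IsConj x (x ^ mp)⁻¹) := by
  have hp : p.Prime := Fact.out
  have hpow : ∀ (r : (ZMod p)ˣ) (k : ℕ), ((r : ZMod p) + (k : ZMod p) = 0) →
      x ^ ((r : ZMod p).val) = (x ^ k)⁻¹ := by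
    intro r k hrk
    rw [eq_inv_iff_mul_eq_one, ← pow_add, ← orderOf_dvd_iff_pow_eq_one, hxo,
      ← ZMod.natCast_eq_zero_iff]
    push_cast
    rw [ZMod.natCast_zmod_val]
    exact hrk
  have h1 : IsConj x x⁻¹ ↔ (-1 : (ZMod p)ˣ) ∈ H := by
    rw [hH, isConj_iff]
    have h := hpow (-1) 1 (by simp)
    rw [pow_one] at h
    rw [h]
  have h2 : IsConj x (x ^ mp)⁻¹ ↔ (-c : (ZMod p)ˣ) ∈ H := by
    rw [hH, isConj_iff, hpow (-c) mp (by rw [hmc]; simp)]
  have hidx : H.index = 2 := by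
    have hcard : Nat.card (ZMod p)ˣ = p - 1 := by
      rw [Nat.card_eq_fintype_card, ZMod.card_units_eq_totient, Nat.totient_prime hp]
    have h3 := H.index_mul_card
    rw [hcard] at h3
    have hpos : 0 < Nat.card H := Nat.card_pos
    have h4 : H.index * Nat.card H = 2 * Nat.card H := by omega
    exact Nat.eq_of_mul_eq_mul_right hpos h4
  have h3 : (-c : (ZMod p)ˣ) ∈ H ↔ ¬ ((-1 : (ZMod p)ˣ) ∈ H) := by
    have e : (-c : (ZMod p)ˣ) = (-1) * c := by simp
    rw [e, Subgroup.mul_mem_iff_of_index_two hidx]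
    constructor
    · intro h hm
      exact hc (h.1 hm)
    · intro h
      exact ⟨fun hm => absurd hm h, fun hm => absurd hm hc⟩
  rw [h1, h2, h3]
  exact not_not.symm

/-- L. -/
theorem S1_formula (p : ℕ) [Fact p.Prime] (P : Sylow p G) (hP : Nat.card P = p)
    (x : G) (hx : x ∈ (P : Subgroup G)) (hx1 : x ≠ 1) (H : Subgroup (ZMod p)ˣ)
    (hH : ∀ r : (ZMod p)ˣ, r ∈ H ↔ ∃ n : G, n * x * n⁻¹ = x ^ ((r : ZMod p).val))
    (M : Ideal AlgInt) (hM : IsPModular p M) (X Y : Set (IrrCharacter G))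
    (εX : IrrCharacter G → ℤ) (ε : ℤ) (hD : PBData p M P (Nat.card H) X Y εX ε)
    (he : 2 * Nat.card H + 1 = p)
    (hK : ∀ k ∈ Subgroup.centralizer ((P : Subgroup G) : Set G), ¬ p ∣ orderOf k →
      k ∈ Subgroup.center G)
    (hZ : ∀ z ∈ Subgroup.center G, ¬ p ∣ orderOf z)
    (c : (ZMod p)ˣ) (hc : c ∉ H) (mp : ℕ) (hmc : (mp : ZMod p) = (c : ZMod p))
    (h : G) (hh : ¬ p ∣ orderOf h) (υ : IrrCharacter G) (hυ : υ ∈ Y) (W : ℂ)
    (hW : ∑ᶠ ξ ∈ X, (ξ : G → ℂ) h / (ξ : G → ℂ) 1 + (υ : G → ℂ) h / (2 * (υ : G → ℂ) 1) = W)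
    (hWr : conj W = W) :
    ∑ χ : IrrCharacter G, Set.indicator
        {χ : IrrCharacter G | ∀ z ∈ Subgroup.center G, (χ : G → ℂ) z = (χ : G → ℂ) 1}
        (fun χ => (χ : G → ℂ) x * ((χ : G → ℂ) x + (χ : G → ℂ) (x ^ mp)) *
          conj ((χ : G → ℂ) h) / (χ : G → ℂ) 1) χ
      = 2 * W := by
  classical
  have hp : p.Prime := Fact.out
  obtain ⟨-, hxo⟩ := Cfsg.Agent.Lib.helper46.d1gs_eq_zpowers p (P : Subgroup G) hP x hx hx1
  have hreg1 : ¬ p ∣ orderOf (1 : G) := by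
    rw [orderOf_one]
    exact fun h => hp.one_lt.ne' (Nat.dvd_one.1 h)
  have hyP : x ^ mp ∈ (P : Subgroup G) := Subgroup.pow_mem _ hx mp
  have hy1 : x ^ mp ≠ 1 := by
    intro h1
    have h2 : p ∣ mp := by rw [← hxo]; exact orderOf_dvd_of_pow_eq_one h1
    have h3 : (mp : ZMod p) = 0 := (ZMod.natCast_eq_zero_iff mp p).2 h2
    rw [hmc] at h3
    exact c.ne_zero h3
  set T : Set (IrrCharacter G) :=
    {χ : IrrCharacter G | ∀ z ∈ Subgroup.center G, (χ : G → ℂ) z = (χ : G → ℂ) 1} with hT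
  have hXB : ∀ χ ∈ X, χ ∈ principalBlock M G := fun χ hχ => by
    rw [hD.union]; exact Or.inl hχ
  have hYB : ∀ χ ∈ Y, χ ∈ principalBlock M G := fun χ hχ => by
    rw [hD.union]; exact Or.inr hχ
  have hBT : ∀ χ ∈ principalBlock M G, χ ∈ T := fun χ hχ =>
    helper13_block_triv p P hP x hx hx1 M hM hK hZ χ hχ
  have hvan : ∀ χ ∈ T, χ ∉ principalBlock M G → (χ : G → ℂ) x = 0 := fun χ hχ hnb =>
    helper13_vanish p P hP x hx hx1 M hM hK hZ χ hχ hnb
  have hXY : ∀ χ ∈ X, χ ∉ Y := fun χ hχ hχ' => Set.disjoint_left.1 hD.disj hχ hχ'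
  have hvX : ∀ χ ∈ X, (χ : G → ℂ) x = (εX χ : ℂ) ∧ (χ : G → ℂ) (x ^ mp) = (εX χ : ℂ) := by
    intro χ hχ
    have h1 := hD.valX χ hχ x hx hx1 1 (Subgroup.one_mem _) hreg1
    have h2 := hD.valX χ hχ (x ^ mp) hyP hy1 1 (Subgroup.one_mem _) hreg1
    rw [mul_one] at h1 h2
    exact ⟨h1, h2⟩
  have hε2 : ∀ χ ∈ X, ((εX χ : ℂ)) * ((εX χ : ℂ) + (εX χ : ℂ)) = 2 := by
    intro χ hχ
    rcases hD.signX χ hχ with h | h <;> rw [h] <;> norm_num
  have hdecomp : ∀ (φ : IrrCharacter G → ℂ) (χ : IrrCharacter G),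
      Set.indicator T (fun χ => (χ : G → ℂ) x * ((χ : G → ℂ) x + (χ : G → ℂ) (x ^ mp)) * φ χ) χ
      = Set.indicator X (fun χ => 2 * φ χ) χ + Set.indicator Y
        (fun χ => (χ : G → ℂ) x * ((χ : G → ℂ) x + (χ : G → ℂ) (x ^ mp)) * φ χ) χ := by
    intro φ χ
    by_cases hX : χ ∈ X
    · rw [Set.indicator_of_mem (hBT χ (hXB χ hX)), Set.indicator_of_mem hX,
        Set.indicator_of_notMem (hXY χ hX), add_zero, (hvX χ hX).1, (hvX χ hX).2, hε2 χ hX]
    · by_cases hY : χ ∈ Y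
      · rw [Set.indicator_of_mem (hBT χ (hYB χ hY)), Set.indicator_of_notMem hX,
          Set.indicator_of_mem hY, zero_add]
      · rw [Set.indicator_of_notMem hX, Set.indicator_of_notMem hY, add_zero]
        by_cases hTχ : χ ∈ T
        · have hnb : χ ∉ principalBlock M G := by
            rw [hD.union]
            exact fun h => h.elim hX hY
          rw [Set.indicator_of_mem hTχ, hvan χ hTχ hnb]
          ring
        · rw [Set.indicator_of_notMem hTχ]
  have hsum : ∑ χ : IrrCharacter G, Set.indicator T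
      (fun χ => (χ : G → ℂ) x * ((χ : G → ℂ) x + (χ : G → ℂ) (x ^ mp)) * 1) χ = (p : ℂ) := by
    have h1 := helper13_orth p P hP x hx hx1 hK hZ x hx
    have h2 := helper13_orth p P hP x hx hx1 hK hZ (x ^ mp) hyP
    have hd := helper13_conj_dich p x hxo H hH he c hc mp hmc
    have e : ∀ χ : IrrCharacter G, Set.indicator T
        (fun χ => (χ : G → ℂ) x * ((χ : G → ℂ) x + (χ : G → ℂ) (x ^ mp)) * 1) χ
        = Set.indicator T (fun χ => (χ : G → ℂ) x * (χ : G → ℂ) x) χ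
          + Set.indicator T (fun χ => (χ : G → ℂ) x * (χ : G → ℂ) (x ^ mp)) χ := by
      intro χ
      by_cases hTχ : χ ∈ T
      · rw [Set.indicator_of_mem hTχ, Set.indicator_of_mem hTχ, Set.indicator_of_mem hTχ]
        ring
      · rw [Set.indicator_of_notMem hTχ, Set.indicator_of_notMem hTχ,
          Set.indicator_of_notMem hTχ, add_zero]
    rw [Finset.sum_congr rfl (fun χ _ => e χ), Finset.sum_add_distrib, h1, h2]
    by_cases hc1 : IsConj x x⁻¹
    · rw [helper13_ite_pos hc1, helper13_ite_neg (hd.1 hc1), add_zero]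
    · rw [helper13_ite_neg hc1, helper13_ite_pos (by by_contra h; exact hc1 (hd.2 h)), zero_add]
  have hcardX : ∑ χ : IrrCharacter G, Set.indicator X (fun _ => (2 : ℂ) * 1) χ
      = 2 * (Nat.card H : ℂ) := by
    rw [← hD.cardX]
    simp only [Set.indicator_apply]
    rw [Finset.sum_ite, Finset.sum_const_zero, add_zero, Finset.sum_const, nsmul_eq_mul,
      Nat.card_eq_fintype_card, Fintype.card_subtype]
    ring
  have hYsum : ∑ χ : IrrCharacter G, Set.indicator Y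
      (fun χ => (χ : G → ℂ) x * ((χ : G → ℂ) x + (χ : G → ℂ) (x ^ mp)) * 1) χ = 1 := by
    have h1 := hsum
    rw [Finset.sum_congr rfl (fun χ _ => hdecomp (fun _ => 1) χ), Finset.sum_add_distrib,
      hcardX] at h1
    have hpc : (p : ℂ) = 2 * (Nat.card H : ℂ) + 1 := by exact_mod_cast he.symm
    rw [hpc] at h1
    linear_combination h1
  have hυ1 : ∀ χ ∈ Y, (χ : G → ℂ) h = (υ : G → ℂ) h ∧ (χ : G → ℂ) 1 = (υ : G → ℂ) 1 := by
    intro χ hχ
    exact ⟨hD.regY χ hχ υ hυ h hh, hD.regY χ hχ υ hυ 1 hreg1⟩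
  have hfinal : ∀ χ : IrrCharacter G, Set.indicator T
      (fun χ => (χ : G → ℂ) x * ((χ : G → ℂ) x + (χ : G → ℂ) (x ^ mp)) *
          conj ((χ : G → ℂ) h) / (χ : G → ℂ) 1) χ
      = Set.indicator X (fun χ => 2 * (conj ((χ : G → ℂ) h) / (χ : G → ℂ) 1)) χ
        + Set.indicator Y
          (fun χ => (χ : G → ℂ) x * ((χ : G → ℂ) x + (χ : G → ℂ) (x ^ mp)) * 1) χ
          * (conj ((υ : G → ℂ) h) / (υ : G → ℂ) 1) := by
    intro χ
    have e0 : Set.indicator T
        (fun χ => (χ : G → ℂ) x * ((χ : G → ℂ) x + (χ : G → ℂ) (x ^ mp)) *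
          conj ((χ : G → ℂ) h) / (χ : G → ℂ) 1) χ
        = Set.indicator T
        (fun χ => (χ : G → ℂ) x * ((χ : G → ℂ) x + (χ : G → ℂ) (x ^ mp)) *
          (conj ((χ : G → ℂ) h) / (χ : G → ℂ) 1)) χ := by
      congr 1
      funext χ
      ring
    rw [e0, hdecomp (fun χ => conj ((χ : G → ℂ) h) / (χ : G → ℂ) 1) χ]
    congr 1
    by_cases hY : χ ∈ Y
    · rw [Set.indicator_of_mem hY, Set.indicator_of_mem hY, (hυ1 χ hY).1, (hυ1 χ hY).2]
      ring
    · rw [Set.indicator_of_notMem hY, Set.indicator_of_notMem hY, zero_mul]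
  rw [Finset.sum_congr rfl (fun χ _ => hfinal χ), Finset.sum_add_distrib, ← Finset.sum_mul,
    hYsum, one_mul]
  have hconj1 : ∀ χ : IrrCharacter G, conj ((χ : G → ℂ) 1) = (χ : G → ℂ) 1 := by
    intro χ
    rw [Cfsg.Agent.Lib.helper81.irr_one_eq_charDegree, Complex.conj_natCast]
  have hWc : conj W = ∑ χ : IrrCharacter G, Set.indicator X
      (fun χ => conj ((χ : G → ℂ) h) / (χ : G → ℂ) 1) χ
      + conj ((υ : G → ℂ) h) / (2 * (υ : G → ℂ) 1) := by
    have hc2 : conj ((υ : G → ℂ) h / (2 * (υ : G → ℂ) 1))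
        = conj ((υ : G → ℂ) h) / (2 * (υ : G → ℂ) 1) := by
      rw [map_div₀, map_mul, hconj1 υ, Complex.conj_ofNat]
    rw [← hW, finsum_mem_def, finsum_eq_sum_of_fintype, map_add, map_sum, hc2]
    congr 1
    refine Finset.sum_congr rfl (fun χ _ => ?_)
    by_cases hX : χ ∈ X
    · rw [Set.indicator_of_mem hX, Set.indicator_of_mem hX, map_div₀, hconj1 χ]
    · rw [Set.indicator_of_notMem hX, Set.indicator_of_notMem hX, map_zero]
  rw [← hWr, hWc, mul_add, Finset.mul_sum]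
  have hυ0 : (υ : G → ℂ) 1 ≠ 0 := Cfsg.Agent.Lib.helper81.irr_one_ne_zero υ
  congr 1
  · refine Finset.sum_congr rfl (fun χ _ => ?_)
    by_cases hX : χ ∈ X
    · rw [Set.indicator_of_mem hX, Set.indicator_of_mem hX]
    · rw [Set.indicator_of_notMem hX, Set.indicator_of_notMem hX, mul_zero]
  · field_simp

end Cfsg.Agent.Lib.helper2.BG
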