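import Mathlib
import Cfsg.Agent.Lib.helper2.BGDefs
import Cfsg.Agent.Lib.helper20.D1EFinal
import Cfsg.Agent.Lib.helper4.CharDecomp
import Cfsg.Agent.Lib.helper81.Kernel
import Cfsg.Agent.Lib.helper82.CharSums
import Cfsg.Agent.Lib.helper97.BGI
import Cfsg.Agent.Lib.helper48.BGJ
import Cfsg.Agent.Lib.helper48.BGBC

/-!
# S4504 piece N (`psi_bound`): `‖ψ h‖ ≤ 1` off the centre, from the positivity of the
class multiplication constants.
-/

set_option autoImplicit false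

open Cfsg Cfsg.Agent.Lib.helper20.D1E Cfsg.Agent.Lib.helper2.BF
open scoped ComplexConjugate

namespace Cfsg.Agent.Lib.helper2.BG

universe u

variable {G : Type*} [Group G] [Fintype G]

/-- The final arithmetic: `(r - 1)(r - d) ≥ 0` with `r < d` forces `r ≤ 1`. -/
theorem helper13_bound_arith (p d r c : ℝ) (hd : 2 * d + 1 = p) (hd2 : 2 ≤ d) (hc : 0 < c)
    (hrd : r < d)
    (hineq : c * (r * (p * r / d)) ≤
      r * (c * (2 * (1 + (r ^ 2 - 1) / (p + 1) + r ^ 2 / (p - 1))))) : r ≤ 1 := by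
  by_contra hcon
  have hr1 : 1 < r := lt_of_not_ge hcon
  have hr : 0 < r := by linarith
  have hd0 : 0 < d := by linarith
  have hd1 : 0 < d + 1 := by linarith
  have h1 : c * (r * (p * r / d)) = (c * r) * (p * r / d) := by ring
  have h2 : r * (c * (2 * (1 + (r ^ 2 - 1) / (p + 1) + r ^ 2 / (p - 1)))) =
      (c * r) * (2 * (1 + (r ^ 2 - 1) / (p + 1) + r ^ 2 / (p - 1))) := by ring
  rw [h1, h2] at hineq
  have h3 : p * r / d ≤ 2 * (1 + (r ^ 2 - 1) / (p + 1) + r ^ 2 / (p - 1)) :=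
    le_of_mul_le_mul_left hineq (mul_pos hc hr)
  have e1 : p + 1 = 2 * (d + 1) := by linarith
  have e2 : p - 1 = 2 * d := by linarith
  have e3 : p = 2 * d + 1 := by linarith
  rw [e1, e2, e3] at h3
  have key : 2 * (1 + (r ^ 2 - 1) / (2 * (d + 1)) + r ^ 2 / (2 * d)) - (2 * d + 1) * r / d =
      ((2 * d + 1) * ((r - 1) * (r - d))) / (d * (d + 1)) := by
    field_simp
    ring
  have h4 : 0 ≤ ((2 * d + 1) * ((r - 1) * (r - d))) / (d * (d + 1)) := by
    rw [← key]; linarith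
  have h5 : (2 * d + 1) * ((r - 1) * (r - d)) < 0 := by
    have : (r - 1) * (r - d) < 0 := mul_neg_of_pos_of_neg (by linarith) (by linarith)
    have h2d : 0 < 2 * d + 1 := by linarith
    exact mul_neg_of_pos_of_neg h2d this
  have h6 : ((2 * d + 1) * ((r - 1) * (r - d))) / (d * (d + 1)) < 0 :=
    div_neg_of_neg_of_pos h5 (mul_pos hd0 hd1)
  linarith

/-- `‖χ (h z)‖ = ‖χ h‖` for central `z`. -/
theorem helper13_norm_mul_central (χ : IrrCharacter G) (h z : G)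
    (hz : z ∈ Subgroup.center G) : ‖(χ : G → ℂ) (h * z)‖ = ‖(χ : G → ℂ) h‖ := by
  have h1 := helper48_cm_norm χ z hz
  rw [Complex.mul_conj'] at h1
  have h2 : ‖(χ : G → ℂ) z / (χ : G → ℂ) 1‖ ^ 2 = 1 := by exact_mod_cast h1
  have h3 : ‖(χ : G → ℂ) z / (χ : G → ℂ) 1‖ = 1 := by
    have h0 : 0 ≤ ‖(χ : G → ℂ) z / (χ : G → ℂ) 1‖ := norm_nonneg _
    nlinarith
  rw [helper48_cm χ h z hz, norm_mul, h3, one_mul]

/-- N. -/
theorem psi_bound (p : ℕ) [Fact p.Prime] (hp5 : 5 ≤ p) (ψ : IrrCharacter G)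
    (hfaith : ∀ g : G, (ψ : G → ℂ) g = (ψ : G → ℂ) 1 → g = 1)
    (hdeg : 2 * charDegree (ψ : G → ℂ) + 1 = p) (x : G) (mp : ℕ)
    (hgauss : ((ψ : G → ℂ) x - (ψ : G → ℂ) (x ^ mp)) *
      conj ((ψ : G → ℂ) x - (ψ : G → ℂ) (x ^ mp)) = (p : ℂ))
    (h : G) (hh : h ∉ Subgroup.center G)
    (hDl : ∑ χ : IrrCharacter G, Set.indicator
        {χ : IrrCharacter G | SameCentral (χ : G → ℂ) (ψ : G → ℂ)}
        (fun χ => (χ : G → ℂ) x * ((χ : G → ℂ) x - (χ : G → ℂ) (x ^ mp)) *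
          conj ((χ : G → ℂ) h) / (χ : G → ℂ) 1) χ
      = ((ψ : G → ℂ) x - (ψ : G → ℂ) (x ^ mp)) ^ 2 * conj ((ψ : G → ℂ) h) / (ψ : G → ℂ) 1)
    (hS1 : ∑ χ : IrrCharacter G, Set.indicator
        {χ : IrrCharacter G | ∀ z ∈ Subgroup.center G, (χ : G → ℂ) z = (χ : G → ℂ) 1}
        (fun χ => (χ : G → ℂ) x * ((χ : G → ℂ) x + (χ : G → ℂ) (x ^ mp)) *
          conj ((χ : G → ℂ) h) / (χ : G → ℂ) 1) χ
      = 2 * (1 + ((ψ : G → ℂ) h * conj ((ψ : G → ℂ) h) - 1) / ((p : ℂ) + 1)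
          + (ψ : G → ℂ) h * conj ((ψ : G → ℂ) h) / ((p : ℂ) - 1))) :
    ‖(ψ : G → ℂ) h‖ ≤ 1 := by
  classical
  set Zs : Set G := ((Subgroup.center G : Subgroup G) : Set G) with hZs
  set γ : ℂ := (ψ : G → ℂ) x with hγ
  set γ' : ℂ := (ψ : G → ℂ) (x ^ mp) with hγ'
  set cZ : ℂ := (Nat.card (Subgroup.center G) : ℂ) with hcZ
  -- the class multiplication constants
  obtain ⟨rA, hrA0, hrA⟩ : ∃ rA : G → ℝ, (∀ g, 0 ≤ rA g) ∧ ∀ g,
      ∑ χ : IrrCharacter G, (χ : G → ℂ) x * (χ : G → ℂ) x * conj ((χ : G → ℂ) g) /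
        (χ : G → ℂ) 1 = (rA g : ℂ) := by
    choose r hr0 hr using fun g => class_mult_nonneg x x g
    exact ⟨r, hr0, hr⟩
  obtain ⟨rB, hrB0, hrB⟩ : ∃ rB : G → ℝ, (∀ g, 0 ≤ rB g) ∧ ∀ g,
      ∑ χ : IrrCharacter G, (χ : G → ℂ) x * (χ : G → ℂ) (x ^ mp) * conj ((χ : G → ℂ) g) /
        (χ : G → ℂ) 1 = (rB g : ℂ) := by
    choose r hr0 hr using fun g => class_mult_nonneg x (x ^ mp) g
    exact ⟨r, hr0, hr⟩
  -- the twisted difference
  have hT1 : ∑ z : G, Set.indicator Zs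
      (fun z => (ψ : G → ℂ) (h * z) * ((rA (h * z) : ℂ) - (rB (h * z) : ℂ))) z
      = cZ * ((ψ : G → ℂ) h * ((γ - γ') ^ 2 * conj ((ψ : G → ℂ) h) / (ψ : G → ℂ) 1)) := by
    have e : ∀ z : G, (ψ : G → ℂ) (h * z) * ((rA (h * z) : ℂ) - (rB (h * z) : ℂ)) =
        ∑ χ : IrrCharacter G, ((χ : G → ℂ) x * ((χ : G → ℂ) x - (χ : G → ℂ) (x ^ mp)) /
          (χ : G → ℂ) 1) * ((ψ : G → ℂ) (h * z) * conj ((χ : G → ℂ) (h * z))) := by
      intro z
      rw [← hrA, ← hrB, ← Finset.sum_sub_distrib, Finset.mul_sum]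
      refine Finset.sum_congr rfl (fun χ _ => ?_)
      ring
    have e2 : ∑ z : G, Set.indicator Zs
        (fun z => (ψ : G → ℂ) (h * z) * ((rA (h * z) : ℂ) - (rB (h * z) : ℂ))) z
        = ∑ χ : IrrCharacter G, ((χ : G → ℂ) x * ((χ : G → ℂ) x - (χ : G → ℂ) (x ^ mp)) /
          (χ : G → ℂ) 1) * ∑ z : G, Set.indicator Zs
            (fun z => (ψ : G → ℂ) (h * z) * conj ((χ : G → ℂ) (h * z))) z := by
      simp_rw [Finset.mul_sum]
      rw [Finset.sum_comm]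
      refine Finset.sum_congr rfl (fun z _ => ?_)
      by_cases hz : z ∈ Zs
      · simp only [Set.indicator_of_mem hz]
        exact e z
      · simp only [Set.indicator_of_notMem hz]
        simp
    rw [e2]
    have e3 : ∀ χ : IrrCharacter G, ((χ : G → ℂ) x * ((χ : G → ℂ) x - (χ : G → ℂ) (x ^ mp)) /
          (χ : G → ℂ) 1) * ∑ z : G, Set.indicator Zs
            (fun z => (ψ : G → ℂ) (h * z) * conj ((χ : G → ℂ) (h * z))) z
        = (cZ * (ψ : G → ℂ) h) * Set.indicator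
          {χ : IrrCharacter G | SameCentral (χ : G → ℂ) (ψ : G → ℂ)}
          (fun χ => (χ : G → ℂ) x * ((χ : G → ℂ) x - (χ : G → ℂ) (x ^ mp)) *
            conj ((χ : G → ℂ) h) / (χ : G → ℂ) 1) χ := by
      intro χ
      by_cases hs : SameCentral (χ : G → ℂ) (ψ : G → ℂ)
      · rw [helper48_central_orth_same χ ψ h hs, Set.indicator_of_mem (show χ ∈ {χ : IrrCharacter G |
          SameCentral (χ : G → ℂ) (ψ : G → ℂ)} from hs)]
        ring
      · rw [helper48_central_orth_ne χ ψ h hs, Set.indicator_of_notMem (show χ ∉ {χ : IrrCharacter G |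
          SameCentral (χ : G → ℂ) (ψ : G → ℂ)} from hs)]
        ring
    rw [Finset.sum_congr rfl (fun χ _ => e3 χ), ← Finset.mul_sum, hDl]
    ring
  -- the sum
  have hT2 : ∑ z : G, Set.indicator Zs
      (fun z => ((rA (h * z) : ℂ) + (rB (h * z) : ℂ))) z
      = cZ * (2 * (1 + ((ψ : G → ℂ) h * conj ((ψ : G → ℂ) h) - 1) / ((p : ℂ) + 1)
          + (ψ : G → ℂ) h * conj ((ψ : G → ℂ) h) / ((p : ℂ) - 1))) := by
    have e : ∀ z : G, ((rA (h * z) : ℂ) + (rB (h * z) : ℂ)) =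
        ∑ χ : IrrCharacter G, ((χ : G → ℂ) x * ((χ : G → ℂ) x + (χ : G → ℂ) (x ^ mp)) /
          (χ : G → ℂ) 1) * conj ((χ : G → ℂ) (h * z)) := by
      intro z
      rw [← hrA, ← hrB, ← Finset.sum_add_distrib]
      refine Finset.sum_congr rfl (fun χ _ => ?_)
      ring
    have e2 : ∑ z : G, Set.indicator Zs
        (fun z => ((rA (h * z) : ℂ) + (rB (h * z) : ℂ))) z
        = ∑ χ : IrrCharacter G, ((χ : G → ℂ) x * ((χ : G → ℂ) x + (χ : G → ℂ) (x ^ mp)) /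
          (χ : G → ℂ) 1) * ∑ z : G, Set.indicator Zs
            (fun z => conj ((χ : G → ℂ) (h * z))) z := by
      simp_rw [Finset.mul_sum]
      rw [Finset.sum_comm]
      refine Finset.sum_congr rfl (fun z _ => ?_)
      by_cases hz : z ∈ Zs
      · simp only [Set.indicator_of_mem hz]
        exact e z
      · simp only [Set.indicator_of_notMem hz]
        simp
    rw [e2]
    have e3 : ∀ χ : IrrCharacter G, ((χ : G → ℂ) x * ((χ : G → ℂ) x + (χ : G → ℂ) (x ^ mp)) /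
          (χ : G → ℂ) 1) * ∑ z : G, Set.indicator Zs
            (fun z => conj ((χ : G → ℂ) (h * z))) z
        = cZ * Set.indicator
          {χ : IrrCharacter G | ∀ z ∈ Subgroup.center G, (χ : G → ℂ) z = (χ : G → ℂ) 1}
          (fun χ => (χ : G → ℂ) x * ((χ : G → ℂ) x + (χ : G → ℂ) (x ^ mp)) *
            conj ((χ : G → ℂ) h) / (χ : G → ℂ) 1) χ := by
      intro χ
      by_cases hs : ∀ z ∈ Subgroup.center G, (χ : G → ℂ) z = (χ : G → ℂ) 1
      · rw [helper48_central_sum_triv χ h hs, Set.indicator_of_mem (show χ ∈ {χ : IrrCharacter G |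
          ∀ z ∈ Subgroup.center G, (χ : G → ℂ) z = (χ : G → ℂ) 1} from hs)]
        ring
      · rw [helper48_central_sum_ne χ h hs, Set.indicator_of_notMem (show χ ∉ {χ : IrrCharacter G |
          ∀ z ∈ Subgroup.center G, (χ : G → ℂ) z = (χ : G → ℂ) 1} from hs)]
        ring
    rw [Finset.sum_congr rfl (fun χ _ => e3 χ), ← Finset.mul_sum, hS1]
  -- the norm inequality
  have hnorm : ‖∑ z : G, Set.indicator Zs
      (fun z => (ψ : G → ℂ) (h * z) * ((rA (h * z) : ℂ) - (rB (h * z) : ℂ))) z‖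
      ≤ ‖(ψ : G → ℂ) h‖ * ∑ z : G, Set.indicator Zs (fun z => rA (h * z) + rB (h * z)) z := by
    rw [Finset.mul_sum]
    refine (norm_sum_le _ _).trans (Finset.sum_le_sum (fun z _ => ?_))
    by_cases hz : z ∈ Zs
    · rw [Set.indicator_of_mem hz, Set.indicator_of_mem hz, norm_mul]
      rw [helper13_norm_mul_central ψ h z hz]
      refine mul_le_mul_of_nonneg_left ?_ (norm_nonneg _)
      rw [← Complex.ofReal_sub, Complex.norm_real, Real.norm_eq_abs]
      exact abs_le.2 ⟨by linarith [hrA0 (h * z), hrB0 (h * z)],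
        by linarith [hrA0 (h * z), hrB0 (h * z)]⟩
    · rw [Set.indicator_of_notMem hz, Set.indicator_of_notMem hz]
      simp
  -- real form
  set r : ℝ := ‖(ψ : G → ℂ) h‖ with hr
  set d : ℕ := charDegree (ψ : G → ℂ) with hd
  have hww : (ψ : G → ℂ) h * conj ((ψ : G → ℂ) h) = ((r ^ 2 : ℝ) : ℂ) := by
    rw [Complex.mul_conj']
    push_cast
    rfl
  have hT2r : ((∑ z : G, Set.indicator Zs (fun z => rA (h * z) + rB (h * z)) z : ℝ) : ℂ)
      = (((Nat.card (Subgroup.center G) : ℝ) *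
          (2 * (1 + (r ^ 2 - 1) / ((p : ℝ) + 1) + r ^ 2 / ((p : ℝ) - 1))) : ℝ) : ℂ) := by
    have e1 : ((∑ z : G, Set.indicator Zs (fun z => rA (h * z) + rB (h * z)) z : ℝ) : ℂ)
        = ∑ z : G, Set.indicator Zs
          (fun z => ((rA (h * z) : ℂ) + (rB (h * z) : ℂ))) z := by
      rw [Complex.ofReal_sum]
      refine Finset.sum_congr rfl (fun z _ => ?_)
      by_cases hz : z ∈ Zs
      · simp [Set.indicator_of_mem hz]
      · simp [Set.indicator_of_notMem hz]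
    rw [e1, hT2, hww]
    push_cast
    rfl
  have hT2r' : ∑ z : G, Set.indicator Zs (fun z => rA (h * z) + rB (h * z)) z
      = (Nat.card (Subgroup.center G) : ℝ) *
          (2 * (1 + (r ^ 2 - 1) / ((p : ℝ) + 1) + r ^ 2 / ((p : ℝ) - 1))) :=
    Complex.ofReal_injective hT2r
  have hgr : ‖γ - γ'‖ ^ 2 = (p : ℝ) := by
    have := hgauss
    rw [Complex.mul_conj'] at this
    exact_mod_cast this
  have hψ1 : (ψ : G → ℂ) 1 = (d : ℂ) := Cfsg.Agent.Lib.helper82.irr_one_eq ψ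
  have hT1n : ‖cZ * ((ψ : G → ℂ) h * ((γ - γ') ^ 2 * conj ((ψ : G → ℂ) h) / (ψ : G → ℂ) 1))‖
      = (Nat.card (Subgroup.center G) : ℝ) * (r * ((p : ℝ) * r / (d : ℝ))) := by
    rw [norm_mul, norm_mul, norm_div, norm_mul, norm_pow, hgr, hψ1, Complex.norm_conj,
      hcZ, Complex.norm_natCast, Complex.norm_natCast]
  rw [hT1, hT1n, hT2r'] at hnorm
  -- conclude
  have hdp : 2 * (d : ℝ) + 1 = (p : ℝ) := by exact_mod_cast hdeg
  have hd2 : (2 : ℝ) ≤ (d : ℝ) := by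
    have : 2 ≤ d := by omega
    exact_mod_cast this
  have hc : (0 : ℝ) < (Nat.card (Subgroup.center G) : ℝ) := by
    have : 0 < Nat.card (Subgroup.center G) := Nat.card_pos
    exact_mod_cast this
  have hrle : r ≤ (d : ℝ) := Cfsg.Agent.Lib.helper82.irr_norm_le ψ h
  have hrne : r ≠ (d : ℝ) := by
    intro heq
    apply hh
    refine helper48_norm_central (ψ : G → ℂ) (Cfsg.Agent.Lib.helper81.irr_isCharacter ψ) hfaith h ?_
    rw [hψ1, Complex.norm_natCast]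
    exact heq
  exact helper13_bound_arith (p : ℝ) (d : ℝ) r _ hdp hd2 hc
    (lt_of_le_of_ne hrle hrne) hnorm

end Cfsg.Agent.Lib.helper2.BG
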