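import Mathlib
import Cfsg.Prelude.Def_MonsterType

/-!
# S5412 split (owner helper93): pieces A (`bm_normal`) and T (`bm_quot_of`)

`bm_quot_of` is the statement `bm_quot` of `tools/S5412_Skel.lean.txt` with one more explicit
hypothesis `hod`: the statement of `bm_of_data` for the group `K ⧸ T`.
-/

set_option autoImplicit false
open Cfsg

namespace Cfsg.Agent.Lib.helper13

/-- PIECE A -/
theorem bm_normal {H : Type*} [Group H] (z' : H) (R' : Subgroup H)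
    (hRn : ∀ h : H, h * z' = z' * h → ∀ r ∈ R', h * r * h⁻¹ ∈ R') :
    (R'.subgroupOf (Subgroup.centralizer ({z'} : Set H))).Normal := by
  constructor
  intro n hn g
  rw [Subgroup.mem_subgroupOf] at hn ⊢
  have hg : (g : H) * z' = z' * (g : H) :=
    (Subgroup.mem_centralizer_iff.mp g.2 z' rfl).symm
  have h1 := hRn g hg n hn
  simpa using h1

/-- PIECE T, with the assembly `bm_of_data` for `K ⧸ T` as a hypothesis. -/
theorem bm_quot_of {K : Type*} [Group K] [Finite K] (T : Subgroup K) [T.Normal] (t z : K)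
    (hT : ∀ x : K, x ∈ T ↔ x = 1 ∨ x = t) (ht1 : t ≠ 1) (htc : ∀ x : K, x * t = t * x)
    (hzz : z * z = 1) (hz1 : z ≠ 1) (hzt : z ≠ t)
    (hnc : ∀ x : K, x * z * x⁻¹ ≠ z * t)
    (R : Subgroup K) (htR : t ∈ R) (hzR : z ∈ R)
    (hRC : ∀ r ∈ R, r * z = z * r)
    (hRn : ∀ h : K, h * z = z * h → ∀ r ∈ R, h * r * h⁻¹ ∈ R)
    (hcard : Nat.card R = 2 ^ 24)
    (hsq : ∀ r ∈ R, r * r = 1 ∨ r * r = z)
    (hcomm : ∀ r ∈ R, ∀ s ∈ R, r * s = s * r ∨ r * s = z * (s * r))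
    (hcent : ∀ x ∈ R, (∀ r ∈ R, r * x = x * r) → x = 1 ∨ x = z ∨ x = t ∨ x = z * t)
    (hnonab : ∃ x ∈ R, ∃ y ∈ R, x * y ≠ y * x)
    (ρ : ↥(Subgroup.centralizer ({z} : Set K)) →* ↥Spor.Co2) (hρs : Function.Surjective ρ)
    (hρk : ∀ h : ↥(Subgroup.centralizer ({z} : Set K)), ρ h = 1 ↔ (h : K) ∈ R)
    (hO2 : ∀ N : Subgroup ↥Spor.Co2, N.Normal → IsPGroup 2 N → N = ⊥)
    (Ψ : ↥leechPerpU → K) (hΨR : ∀ x, Ψ x ∈ R)
    (hΨadd : ∀ x y, ∃ c : K, (c = 1 ∨ c = z ∨ c = t ∨ c = z * t) ∧ Ψ (x + y) = c * (Ψ x * Ψ y))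
    (hΨsurj : ∀ r ∈ R, ∃ x, ∃ c : K, (c = 1 ∨ c = z ∨ c = t ∨ c = z * t) ∧ r = c * Ψ x)
    (hΨker : ∀ x : ↥leechPerpU, (Ψ x = 1 ∨ Ψ x = z ∨ Ψ x = t ∨ Ψ x = z * t) ↔
        ((∃ w : ↥leechLattice, (x : ↥leechLattice) = w + w) ∨
         ∃ w : ↥leechLattice, (x : ↥leechLattice) = Spor.leechU + (w + w)))
    (hΨeq : ∀ (h : ↥(Subgroup.centralizer ({z} : Set K))) (x y : ↥leechPerpU),
        (ρ h) • (x : ↥leechLattice) = (y : ↥leechLattice) →
        ∃ c : K, (c = 1 ∨ c = z ∨ c = t ∨ c = z * t) ∧ (h : K) * Ψ x * (h : K)⁻¹ = c * Ψ y)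
    (hCQ : ∀ h : K, h * z = z * h → (∀ r ∈ R, h * r * h⁻¹ * r⁻¹ ∈ T) → h ∈ R)
    (hnwc : ∃ g : K, g * z * g⁻¹ ∈ R ∧ g * z * g⁻¹ ≠ z)
    (hod : ∀ (z' : K ⧸ T) (R' : Subgroup (K ⧸ T)),
      orderOf z' = 2 →
      (∀ r ∈ R', r * z' = z' * r) →
      (∀ h : K ⧸ T, h * z' = z' * h → ∀ r ∈ R', h * r * h⁻¹ ∈ R') →
      Nat.card R' = 2 ^ 23 → z' ∈ R' →
      (∀ r ∈ R', r * r = 1 ∨ r * r = z') →
      (∀ r ∈ R', ∀ s ∈ R', r * s = s * r ∨ r * s = z' * (s * r)) →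
      (∀ x ∈ R', (∀ r ∈ R', r * x = x * r) → x = 1 ∨ x = z') →
      (∃ x ∈ R', ∃ y ∈ R', x * y ≠ y * x) →
      ∀ (ρ' : ↥(Subgroup.centralizer ({z'} : Set (K ⧸ T))) →* ↥Spor.Co2),
      Function.Surjective ρ' →
      (∀ h : ↥(Subgroup.centralizer ({z'} : Set (K ⧸ T))), ρ' h = 1 ↔ (h : K ⧸ T) ∈ R') →
      (∀ N : Subgroup ↥Spor.Co2, N.Normal → IsPGroup 2 N → N = ⊥) →
      ∀ (Ψ' : ↥leechPerpU → K ⧸ T), (∀ x, Ψ' x ∈ R') →
      (∀ x y, Ψ' (x + y) = Ψ' x * Ψ' y ∨ Ψ' (x + y) = z' * (Ψ' x * Ψ' y)) →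
      (∀ r ∈ R', ∃ x, r = Ψ' x ∨ r = z' * Ψ' x) →
      (∀ x : ↥leechPerpU, (Ψ' x = 1 ∨ Ψ' x = z') ↔
        ((∃ w : ↥leechLattice, (x : ↥leechLattice) = w + w) ∨
         ∃ w : ↥leechLattice, (x : ↥leechLattice) = Spor.leechU + (w + w))) →
      (∀ (h : ↥(Subgroup.centralizer ({z'} : Set (K ⧸ T)))) (x y : ↥leechPerpU),
        (ρ' h) • (x : ↥leechLattice) = (y : ↥leechLattice) →
        (h : K ⧸ T) * Ψ' x * (h : K ⧸ T)⁻¹ = Ψ' y ∨
          (h : K ⧸ T) * Ψ' x * (h : K ⧸ T)⁻¹ = z' * Ψ' y) →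
      (∀ h : K ⧸ T, h * z' = z' * h → (∀ r ∈ R', h * r = r * h) → h ∈ R') →
      (∃ g : K ⧸ T, g * z' * g⁻¹ ∈ R' ∧ g * z' * g⁻¹ ≠ z') →
      IsOfBabyMonsterType (K ⧸ T)) :
    IsOfBabyMonsterType (K ⧸ T) := by
  classical
  -- basic facts on `T`
  have htT : t ∈ T := (hT t).mpr (Or.inr rfl)
  have hzT : z ∉ T := by
    intro h
    rcases (hT z).mp h with h | h
    · exact hz1 h
    · exact hzt h
  have hTR : T ≤ R := by
    intro x hx
    rcases (hT x).mp hx with h | h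
    · rw [h]; exact R.one_mem
    · rw [h]; exact htR
  have hmk : ∀ a b : K, (QuotientGroup.mk a : K ⧸ T) = QuotientGroup.mk b ↔ b = a ∨ b = a * t := by
    intro a b
    rw [QuotientGroup.eq, hT]
    constructor
    · rintro (h | h)
      · left
        have : b = a * (a⁻¹ * b) := by group
        rw [this, h, mul_one]
      · right
        have : b = a * (a⁻¹ * b) := by group
        rw [this, h]
    · rintro (h | h)
      · left; rw [h]; group
      · right; rw [h]; group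
  have hmk1 : ∀ a : K, (QuotientGroup.mk a : K ⧸ T) = 1 ↔ a = 1 ∨ a = t := by
    intro a
    rw [QuotientGroup.eq_one_iff, hT]
  have hmkt : (QuotientGroup.mk t : K ⧸ T) = 1 := (hmk1 t).mpr (Or.inr rfl)
  have htt : t * t = 1 := by
    have h1 : t * t ∈ T := T.mul_mem htT htT
    rcases (hT _).mp h1 with h | h
    · exact h
    · exfalso
      apply ht1
      have : t = t⁻¹ * (t * t) := by group
      rw [this, h]; group
  -- commuting with `mk z` lifts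
  have hZ : ∀ h₀ : K, (QuotientGroup.mk h₀ : K ⧸ T) * QuotientGroup.mk z =
      QuotientGroup.mk z * QuotientGroup.mk h₀ → h₀ * z = z * h₀ := by
    intro h₀ h
    rw [← QuotientGroup.mk_mul, ← QuotientGroup.mk_mul, hmk] at h
    rcases h with h | h
    · exact h.symm
    · exfalso
      apply hnc h₀⁻¹
      have h2 : h₀⁻¹ * z * h₀⁻¹⁻¹ = h₀⁻¹ * (z * h₀) := by group
      rw [h2, h]; group
  -- the data in the quotient
  obtain ⟨z', hz'⟩ : ∃ z' : K ⧸ T, z' = QuotientGroup.mk z := ⟨_, rfl⟩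
  obtain ⟨R', hR'⟩ : ∃ R' : Subgroup (K ⧸ T), R' = R.map (QuotientGroup.mk' T) := ⟨_, rfl⟩
  have hmemR' : ∀ a : K, (QuotientGroup.mk a : K ⧸ T) ∈ R' ↔ a ∈ R := by
    intro a
    rw [hR']
    constructor
    · rintro ⟨r, hr, hra⟩
      have hra' : (QuotientGroup.mk r : K ⧸ T) = QuotientGroup.mk a := hra
      rcases (hmk r a).mp hra' with h | h
      · rw [h]; exact hr
      · rw [h]; exact R.mul_mem hr htR
    · intro ha
      exact ⟨a, ha, rfl⟩
  have hz'1 : z' ≠ 1 := by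
    rw [hz']
    intro h
    rcases (hmk1 z).mp h with h | h
    · exact hz1 h
    · exact hzt h
  have h1 : orderOf z' = 2 := by
    apply orderOf_eq_prime
    · rw [hz', pow_two, ← QuotientGroup.mk_mul, hzz]; rfl
    · exact hz'1
  have h2 : ∀ r ∈ R', r * z' = z' * r := by
    intro r hr
    obtain ⟨r₀, rfl⟩ := QuotientGroup.mk_surjective r
    rw [hz', ← QuotientGroup.mk_mul, ← QuotientGroup.mk_mul, hRC r₀ ((hmemR' r₀).mp hr)]
  have h3 : ∀ h : K ⧸ T, h * z' = z' * h → ∀ r ∈ R', h * r * h⁻¹ ∈ R' := by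
    intro h hh r hr
    obtain ⟨h₀, rfl⟩ := QuotientGroup.mk_surjective h
    obtain ⟨r₀, rfl⟩ := QuotientGroup.mk_surjective r
    rw [hz'] at hh
    have h4 := hRn h₀ (hZ h₀ hh) r₀ ((hmemR' r₀).mp hr)
    rw [← QuotientGroup.mk_mul, ← QuotientGroup.mk_inv, ← QuotientGroup.mk_mul]
    exact (hmemR' _).mpr h4
  have hTcard : Nat.card T = 2 := by
    have h4 : (T : Set K) = {1, t} := by
      ext x
      simp only [SetLike.mem_coe, Set.mem_insert_iff, Set.mem_singleton_iff]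
      exact hT x
    have h5 : Nat.card T = (T : Set K).ncard := Nat.card_coe_set_eq (T : Set K)
    rw [h5, h4, Set.ncard_pair (Ne.symm ht1)]
  have h4 : Nat.card R' = 2 ^ 23 := by
    obtain ⟨f, hf⟩ : ∃ f : R →* K ⧸ T, f = (QuotientGroup.mk' T).comp R.subtype := ⟨_, rfl⟩
    have hrange : f.range = R' := by
      rw [hf, MonoidHom.range_comp, Subgroup.range_subtype, hR']
    have hker : f.ker = T.subgroupOf R := by
      ext x
      rw [MonoidHom.mem_ker, Subgroup.mem_subgroupOf, hf]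
      simp only [MonoidHom.coe_comp, Function.comp_apply, Subgroup.coe_subtype,
        QuotientGroup.mk'_apply]
      exact QuotientGroup.eq_one_iff _
    have h5 := Subgroup.card_mul_index f.ker
    rw [Subgroup.index_ker, hrange, hker,
      Nat.card_congr (Subgroup.subgroupOfEquivOfLe hTR).toEquiv, hTcard, hcard] at h5
    omega
  have h5 : z' ∈ R' := by rw [hz']; exact (hmemR' z).mpr hzR
  have h6 : ∀ r ∈ R', r * r = 1 ∨ r * r = z' := by
    intro r hr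
    obtain ⟨r₀, rfl⟩ := QuotientGroup.mk_surjective r
    rcases hsq r₀ ((hmemR' r₀).mp hr) with h | h
    · left; rw [← QuotientGroup.mk_mul, h]; rfl
    · right; rw [← QuotientGroup.mk_mul, h, hz']
  have h7 : ∀ r ∈ R', ∀ s ∈ R', r * s = s * r ∨ r * s = z' * (s * r) := by
    intro r hr s hs
    obtain ⟨r₀, rfl⟩ := QuotientGroup.mk_surjective r
    obtain ⟨s₀, rfl⟩ := QuotientGroup.mk_surjective s
    rcases hcomm r₀ ((hmemR' r₀).mp hr) s₀ ((hmemR' s₀).mp hs) with h | h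
    · left; rw [← QuotientGroup.mk_mul, ← QuotientGroup.mk_mul, h]
    · right; rw [hz', ← QuotientGroup.mk_mul, ← QuotientGroup.mk_mul, ← QuotientGroup.mk_mul, h]
  -- commuting in the quotient lifts to commuting in `R`
  have hlift : ∀ a ∈ R, ∀ b ∈ R, (QuotientGroup.mk a : K ⧸ T) * QuotientGroup.mk b =
      QuotientGroup.mk b * QuotientGroup.mk a → a * b = b * a := by
    intro a ha b hb h
    rcases hcomm a ha b hb with h' | h'
    · exact h'
    · exfalso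
      apply hz'1
      have h8 : (QuotientGroup.mk a : K ⧸ T) * QuotientGroup.mk b =
          z' * (QuotientGroup.mk a * QuotientGroup.mk b) := by
        rw [hz']
        conv_rhs => rw [h]
        rw [← QuotientGroup.mk_mul, ← QuotientGroup.mk_mul, ← QuotientGroup.mk_mul, h']
      have h9 : z' * (QuotientGroup.mk a * QuotientGroup.mk b : K ⧸ T) =
          1 * (QuotientGroup.mk a * QuotientGroup.mk b) := by
        rw [one_mul]; exact h8.symm
      exact mul_right_cancel h9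
  have h8 : ∀ x ∈ R', (∀ r ∈ R', r * x = x * r) → x = 1 ∨ x = z' := by
    intro x hx hall
    obtain ⟨x₀, rfl⟩ := QuotientGroup.mk_surjective x
    have hx₀ := (hmemR' x₀).mp hx
    have h9 : ∀ r ∈ R, r * x₀ = x₀ * r := fun r hr =>
      hlift r hr x₀ hx₀ (hall (QuotientGroup.mk r) ((hmemR' r).mpr hr))
    rcases hcent x₀ hx₀ h9 with h | h | h | h
    · left; rw [h]; rfl
    · right; rw [h, hz']
    · left; rw [h]; exact hmkt
    · right; rw [h, QuotientGroup.mk_mul, hmkt, mul_one, hz']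
  have h9 : ∃ x ∈ R', ∃ y ∈ R', x * y ≠ y * x := by
    obtain ⟨x, hx, y, hy, hxy⟩ := hnonab
    exact ⟨QuotientGroup.mk x, (hmemR' x).mpr hx, QuotientGroup.mk y, (hmemR' y).mpr hy,
      fun h => hxy (hlift x hx y hy h)⟩
  -- the homomorphism `φ : C_K(z) → C_{K/T}(z')`
  have hφmem : ∀ h : ↥(Subgroup.centralizer ({z} : Set K)),
      ((QuotientGroup.mk' T).comp (Subgroup.subtype _)) h ∈
        Subgroup.centralizer ({z'} : Set (K ⧸ T)) := by
    intro h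
    rw [Subgroup.mem_centralizer_iff]
    intro y hy
    rw [Set.mem_singleton_iff] at hy
    rw [hy]
    have h10 := Subgroup.mem_centralizer_iff.mp h.2 z rfl
    show z' * QuotientGroup.mk (h : K) = QuotientGroup.mk (h : K) * z'
    rw [hz', ← QuotientGroup.mk_mul, ← QuotientGroup.mk_mul, h10]
  obtain ⟨φ, hφ⟩ : ∃ φ : ↥(Subgroup.centralizer ({z} : Set K)) →*
      ↥(Subgroup.centralizer ({z'} : Set (K ⧸ T))),
      ∀ h, ((φ h : ↥(Subgroup.centralizer ({z'} : Set (K ⧸ T)))) : K ⧸ T) =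
        QuotientGroup.mk (h : K) :=
    ⟨MonoidHom.codRestrict _ _ hφmem, fun h => rfl⟩
  have hφs : Function.Surjective φ := by
    rintro ⟨h', hh'⟩
    obtain ⟨h₀, rfl⟩ := QuotientGroup.mk_surjective h'
    have h10 := Subgroup.mem_centralizer_iff.mp hh' z' rfl
    rw [hz'] at h10
    have h11 : h₀ * z = z * h₀ := hZ h₀ h10.symm
    refine ⟨⟨h₀, ?_⟩, Subtype.ext (hφ _)⟩
    rw [Subgroup.mem_centralizer_iff]
    intro y hy
    rw [Set.mem_singleton_iff] at hy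
    rw [hy]
    exact h11.symm
  have hker : φ.ker ≤ ρ.ker := by
    intro h hh
    rw [MonoidHom.mem_ker] at hh ⊢
    have h10 : (QuotientGroup.mk (h : K) : K ⧸ T) = 1 := by
      rw [← hφ, hh]; rfl
    rw [hρk]
    exact hTR ((QuotientGroup.eq_one_iff _).mp h10)
  obtain ⟨ρ', hρ'⟩ : ∃ ρ' : ↥(Subgroup.centralizer ({z'} : Set (K ⧸ T))) →* ↥Spor.Co2,
      ∀ h, ρ' (φ h) = ρ h :=
    ⟨φ.liftOfRightInverse (Function.surjInv hφs) (Function.rightInverse_surjInv hφs) ⟨ρ, hker⟩,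
      fun h => MonoidHom.liftOfRightInverse_comp_apply φ _ _ ⟨ρ, hker⟩ h⟩
  have h10 : Function.Surjective ρ' := by
    intro g
    obtain ⟨h, rfl⟩ := hρs g
    exact ⟨φ h, hρ' h⟩
  have h11 : ∀ h : ↥(Subgroup.centralizer ({z'} : Set (K ⧸ T))), ρ' h = 1 ↔ (h : K ⧸ T) ∈ R' := by
    intro h'
    obtain ⟨h, rfl⟩ := hφs h'
    rw [hρ', hρk, hφ, hmemR']
  -- the map `Ψ'`
  have hcmk : ∀ c : K, (c = 1 ∨ c = z ∨ c = t ∨ c = z * t) →
      (QuotientGroup.mk c : K ⧸ T) = 1 ∨ (QuotientGroup.mk c : K ⧸ T) = z' := by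
    rintro c (h | h | h | h)
    · left; rw [h]; rfl
    · right; rw [h, hz']
    · left; rw [h]; exact hmkt
    · right; rw [h, QuotientGroup.mk_mul, hmkt, mul_one, hz']
  obtain ⟨Ψ', hΨ'⟩ : ∃ Ψ' : ↥leechPerpU → K ⧸ T, ∀ x, Ψ' x = QuotientGroup.mk (Ψ x) :=
    ⟨fun x => QuotientGroup.mk (Ψ x), fun x => rfl⟩
  have h12 : ∀ x, Ψ' x ∈ R' := fun x => by rw [hΨ']; exact (hmemR' _).mpr (hΨR x)
  have h13 : ∀ x y, Ψ' (x + y) = Ψ' x * Ψ' y ∨ Ψ' (x + y) = z' * (Ψ' x * Ψ' y) := by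
    intro x y
    obtain ⟨c, hc, h⟩ := hΨadd x y
    rw [hΨ', hΨ', hΨ', h, QuotientGroup.mk_mul, QuotientGroup.mk_mul]
    rcases hcmk c hc with h' | h'
    · left; rw [h', one_mul]
    · right; rw [h']
  have h14 : ∀ r ∈ R', ∃ x, r = Ψ' x ∨ r = z' * Ψ' x := by
    intro r hr
    obtain ⟨r₀, rfl⟩ := QuotientGroup.mk_surjective r
    obtain ⟨x, c, hc, h⟩ := hΨsurj r₀ ((hmemR' r₀).mp hr)
    refine ⟨x, ?_⟩
    rw [hΨ', h, QuotientGroup.mk_mul]
    rcases hcmk c hc with h' | h'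
    · left; rw [h', one_mul]
    · right; rw [h']
  have h15 : ∀ x : ↥leechPerpU, (Ψ' x = 1 ∨ Ψ' x = z') ↔
      ((∃ w : ↥leechLattice, (x : ↥leechLattice) = w + w) ∨
       ∃ w : ↥leechLattice, (x : ↥leechLattice) = Spor.leechU + (w + w)) := by
    intro x
    rw [← hΨker x, hΨ']
    have e : (QuotientGroup.mk (Ψ x) : K ⧸ T) = z' ↔ Ψ x = z ∨ Ψ x = z * t := by
      rw [hz']
      exact ⟨fun h => (hmk z (Ψ x)).mp h.symm, fun h => ((hmk z (Ψ x)).mpr h).symm⟩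
    rw [hmk1, e]
    tauto
  have h16 : ∀ (h : ↥(Subgroup.centralizer ({z'} : Set (K ⧸ T)))) (x y : ↥leechPerpU),
      (ρ' h) • (x : ↥leechLattice) = (y : ↥leechLattice) →
      (h : K ⧸ T) * Ψ' x * (h : K ⧸ T)⁻¹ = Ψ' y ∨
        (h : K ⧸ T) * Ψ' x * (h : K ⧸ T)⁻¹ = z' * Ψ' y := by
    intro h' x y hxy
    obtain ⟨h, rfl⟩ := hφs h'
    rw [hρ'] at hxy
    obtain ⟨c, hc, hh⟩ := hΨeq h x y hxy
    rw [hφ, hΨ', hΨ', ← QuotientGroup.mk_mul, ← QuotientGroup.mk_inv, ← QuotientGroup.mk_mul, hh,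
      QuotientGroup.mk_mul]
    rcases hcmk c hc with h' | h'
    · left; rw [h', one_mul]
    · right; rw [h']
  have h17 : ∀ h : K ⧸ T, h * z' = z' * h → (∀ r ∈ R', h * r = r * h) → h ∈ R' := by
    intro h hh hall
    obtain ⟨h₀, rfl⟩ := QuotientGroup.mk_surjective h
    rw [hz'] at hh
    apply (hmemR' h₀).mpr
    apply hCQ h₀ (hZ h₀ hh)
    intro r hr
    have h18 := hall (QuotientGroup.mk r) ((hmemR' r).mpr hr)
    rw [← QuotientGroup.eq_one_iff, QuotientGroup.mk_mul, QuotientGroup.mk_mul,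
      QuotientGroup.mk_mul, QuotientGroup.mk_inv, QuotientGroup.mk_inv, h18]
    group
  have h18 : ∃ g : K ⧸ T, g * z' * g⁻¹ ∈ R' ∧ g * z' * g⁻¹ ≠ z' := by
    obtain ⟨g, hg1, hg2⟩ := hnwc
    refine ⟨QuotientGroup.mk g, ?_, ?_⟩
    · rw [hz', ← QuotientGroup.mk_mul, ← QuotientGroup.mk_inv, ← QuotientGroup.mk_mul]
      exact (hmemR' _).mpr hg1
    · rw [hz', ← QuotientGroup.mk_mul, ← QuotientGroup.mk_inv, ← QuotientGroup.mk_mul]
      intro h
      rcases (hmk _ _).mp h.symm with h' | h'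
      · exact hg2 h'
      · exact hnc g h'
  exact hod z' R' h1 h2 h3 h4 h5 h6 h7 h8 h9 ρ' h10 h11 hO2 Ψ' h12 h13 h14 h15 h16 h17 h18

end Cfsg.Agent.Lib.helper13
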