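import Mathlib
import Cfsg.Prelude.Def_MonsterType
import Cfsg.Agent.Lib.helper92.ExtraSub
import Cfsg.Agent.Lib.helper92.Simple
import Cfsg.Agent.Lib.helper54.FStar
import Cfsg.Agent.Lib.helper13.BMT

/-!
# S5412 split (owner helper93): piece B (`bm_setting`)
-/

set_option autoImplicit false
open Cfsg

namespace Cfsg.Agent.Lib.helper13

/-- PIECE B -/
theorem bm_setting {H : Type*} [Group H] [Finite H] (z' : H) (R' : Subgroup H)
    (hz2 : orderOf z' = 2)
    (hRC : ∀ r ∈ R', r * z' = z' * r)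
    (hRn : ∀ h : H, h * z' = z' * h → ∀ r ∈ R', h * r * h⁻¹ ∈ R')
    (hcard : Nat.card R' = 2 ^ 23) (hzR : z' ∈ R')
    (hsq : ∀ r ∈ R', r * r = 1 ∨ r * r = z')
    (hcomm : ∀ r ∈ R', ∀ s ∈ R', r * s = s * r ∨ r * s = z' * (s * r))
    (hcent : ∀ x ∈ R', (∀ r ∈ R', r * x = x * r) → x = 1 ∨ x = z')
    (hnonab : ∃ x ∈ R', ∃ y ∈ R', x * y ≠ y * x)
    {L : Type*} [Group L] (ρ : ↥(Subgroup.centralizer ({z'} : Set H)) →* L)
    (hρs : Function.Surjective ρ)
    (hρk : ∀ h : ↥(Subgroup.centralizer ({z'} : Set H)), ρ h = 1 ↔ (h : H) ∈ R')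
    (hO2 : ∀ N : Subgroup L, N.Normal → IsPGroup 2 N → N = ⊥)
    (hCQ : ∀ h : H, h * z' = z' * h → (∀ r ∈ R', h * r = r * h) → h ∈ R')
    (hnwc : ∃ g : H, g * z' * g⁻¹ ∈ R' ∧ g * z' * g⁻¹ ≠ z') :
    IsExtraspecialCentralizerSetting z' (R'.subgroupOf (Subgroup.centralizer ({z'} : Set H))) 11 := by
  have h2 : Fact (Nat.Prime 2) := ⟨Nat.prime_two⟩
  have hzz : z' * z' = 1 := by
    have h1 := pow_orderOf_eq_one z'
    rw [hz2, pow_two] at h1
    exact h1
  have hz1 : z' ≠ 1 := by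
    intro h
    rw [h, orderOf_one] at hz2
    omega
  have hRle : R' ≤ Subgroup.centralizer ({z'} : Set H) := by
    intro r hr
    rw [Subgroup.mem_centralizer_iff]
    intro y hy
    rw [Set.mem_singleton_iff] at hy
    rw [hy]
    exact (hRC r hr).symm
  have hn : (R'.subgroupOf (Subgroup.centralizer ({z'} : Set H))).Normal := bm_normal z' R' hRn
  -- extraspecial
  have hex : IsExtraspecial 2 ↥R' := by
    apply Cfsg.Agent.Lib.helper92.isExtraspecial_of_data R' z' hzz hz1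
    · intro x hx y hy
      rw [Cfsg.Agent.Lib.helper92.mem_zpowers_invol hzz]
      rcases hcomm x hx y hy with h | h
      · left
        rw [h]; group
      · right
        rw [h]
        have h3 : z' * (y * x) * x⁻¹ * y⁻¹ = z' := by group
        exact h3
    · intro x hx
      rw [Cfsg.Agent.Lib.helper92.mem_zpowers_invol hzz]
      exact hsq x hx
    · intro x hx hall
      rw [Cfsg.Agent.Lib.helper92.mem_zpowers_invol hzz]
      exact hcent x hx hall
    · exact hRC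
    · exact hnonab
  have hexQ : IsExtraspecial 2 ↥(R'.subgroupOf (Subgroup.centralizer ({z'} : Set H))) :=
    Cfsg.Agent.Lib.helper92.isExtraspecial_of_mulEquiv (Subgroup.subgroupOfEquivOfLe hRle).symm hex
  have hcardQ : Nat.card ↥(R'.subgroupOf (Subgroup.centralizer ({z'} : Set H))) = 2 ^ 23 := by
    rw [Nat.card_congr (Subgroup.subgroupOfEquivOfLe hRle).toEquiv, hcard]
  have hQp : IsPGroup 2 ↥(R'.subgroupOf (Subgroup.centralizer ({z'} : Set H))) :=
    IsPGroup.of_card hcardQ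
  -- the 2-core of the centralizer
  have hcore : Cfsg.pCore 2 ↥(Subgroup.centralizer ({z'} : Set H)) =
      R'.subgroupOf (Subgroup.centralizer ({z'} : Set H)) := by
    apply le_antisymm
    · intro x hx
      have hNn : ((Cfsg.pCore 2 ↥(Subgroup.centralizer ({z'} : Set H))).map ρ).Normal :=
        Subgroup.Normal.map (Cfsg.Agent.Lib.helper53.pCore_normal 2 _) ρ hρs
      have hNp : IsPGroup 2 ↥((Cfsg.pCore 2 ↥(Subgroup.centralizer ({z'} : Set H))).map ρ) :=
        (Cfsg.Agent.Lib.helper54.isPGroup_pCore 2 _).map ρ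
      have hN := hO2 _ hNn hNp
      have h3 : ρ x ∈ (Cfsg.pCore 2 ↥(Subgroup.centralizer ({z'} : Set H))).map ρ := ⟨x, hx, rfl⟩
      rw [hN, Subgroup.mem_bot] at h3
      rw [Subgroup.mem_subgroupOf]
      exact (hρk x).mp h3
    · exact Cfsg.Agent.Lib.helper54.le_pCore hn hQp
  have hF : generalizedFittingSubgroup ↥(Subgroup.centralizer ({z'} : Set H)) =
      R'.subgroupOf (Subgroup.centralizer ({z'} : Set H)) := by
    rw [← hcore]
    rw [Cfsg.Agent.Lib.helper54.generalizedFittingSubgroup_eq_pCore_iff _ 2, hcore]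
    intro x hx
    rw [Subgroup.mem_subgroupOf]
    apply hCQ (x : H) ((Subgroup.mem_centralizer_iff.mp x.2 z' rfl).symm)
    intro r hr
    have h3 := Subgroup.mem_centralizer_iff.mp hx ⟨r, hRle hr⟩ (Subgroup.mem_subgroupOf.mpr hr)
    have h4 := congrArg (Subtype.val) h3
    simp only [Subgroup.coe_mul] at h4
    exact h4.symm
  refine ⟨hz2, hF, hexQ, ?_, ?_⟩
  · rw [hcardQ]
  · obtain ⟨g, hg1, hg2⟩ := hnwc
    exact ⟨g, ⟨hRle hg1, Subgroup.mem_subgroupOf.mpr hg1⟩, hg2⟩

end Cfsg.Agent.Lib.helper13
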