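import Mathlib
import Cfsg.Prelude.Def_MonsterType

/-!
# S5412 split (owner helper93): piece C (`bm_iso`)
-/

set_option autoImplicit false
open Cfsg

namespace Cfsg.Agent.Lib.helper13

/-- PIECE C -/
theorem bm_iso {H : Type*} [Group H] [Finite H] (z' : H) (R' : Subgroup H)
    (hRC : ∀ r ∈ R', r * z' = z' * r) (hzR : z' ∈ R')
    (hcent : ∀ x ∈ R', (∀ r ∈ R', r * x = x * r) → x = 1 ∨ x = z')
    [hn : (R'.subgroupOf (Subgroup.centralizer ({z'} : Set H))).Normal]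
    (ρ : ↥(Subgroup.centralizer ({z'} : Set H)) →* ↥Spor.Co2)
    (hρs : Function.Surjective ρ)
    (hρk : ∀ h : ↥(Subgroup.centralizer ({z'} : Set H)), ρ h = 1 ↔ (h : H) ∈ R')
    (Ψ : ↥leechPerpU → H) (hΨR : ∀ x, Ψ x ∈ R')
    (hΨadd : ∀ x y, Ψ (x + y) = Ψ x * Ψ y ∨ Ψ (x + y) = z' * (Ψ x * Ψ y))
    (hΨsurj : ∀ r ∈ R', ∃ x, r = Ψ x ∨ r = z' * Ψ x)
    (hΨker : ∀ x : ↥leechPerpU, (Ψ x = 1 ∨ Ψ x = z') ↔
        ((∃ w : ↥leechLattice, (x : ↥leechLattice) = w + w) ∨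
         ∃ w : ↥leechLattice, (x : ↥leechLattice) = Spor.leechU + (w + w)))
    (hΨeq : ∀ (h : ↥(Subgroup.centralizer ({z'} : Set H))) (x y : ↥leechPerpU),
        (ρ h) • (x : ↥leechLattice) = (y : ↥leechLattice) →
        (h : H) * Ψ x * (h : H)⁻¹ = Ψ y ∨ (h : H) * Ψ x * (h : H)⁻¹ = z' * Ψ y) :
    ∃ (e' : ↥(Subgroup.centralizer ({z'} : Set H)) ⧸
          R'.subgroupOf (Subgroup.centralizer ({z'} : Set H)) ≃* ↥Spor.Co2)
      (ψ' : ↥leechPerpU → ↥(R'.subgroupOf (Subgroup.centralizer ({z'} : Set H))) ⧸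
          Subgroup.center ↥(R'.subgroupOf (Subgroup.centralizer ({z'} : Set H)))),
      IsLeechPerpModTwoIso (R'.subgroupOf (Subgroup.centralizer ({z'} : Set H))) e' ψ' := by
  classical
  have hRle : R' ≤ Subgroup.centralizer ({z'} : Set H) := by
    intro r hr
    rw [Subgroup.mem_centralizer_iff]
    intro y hy
    rw [Set.mem_singleton_iff] at hy
    rw [hy]
    exact (hRC r hr).symm
  -- the centre of `R'` as a subgroup of `H`
  obtain ⟨Z, hZ⟩ : ∃ Z : Subgroup H, Z = R' ⊓ Subgroup.centralizer (R' : Set H) := ⟨_, rfl⟩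
  have hZmem : ∀ c : H, c ∈ Z ↔ c ∈ R' ∧ ∀ r ∈ R', r * c = c * r := by
    intro c
    rw [hZ, Subgroup.mem_inf, Subgroup.mem_centralizer_iff]
    rfl
  have hZz : z' ∈ Z := (hZmem z').mpr ⟨hzR, fun r hr => hRC r hr⟩
  have hZ1 : ∀ c ∈ Z, c = 1 ∨ c = z' := fun c hc =>
    hcent c ((hZmem c).mp hc).1 ((hZmem c).mp hc).2
  -- the value map `Q' → H`
  obtain ⟨v, hv⟩ : ∃ v : ↥(R'.subgroupOf (Subgroup.centralizer ({z'} : Set H))) →* H,
      ∀ c, v c = ((c : ↥(Subgroup.centralizer ({z'} : Set H))) : H) :=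
    ⟨(Subgroup.subtype _).comp (Subgroup.subtype _), fun c => rfl⟩
  have hvR : ∀ c, v c ∈ R' := fun c => by rw [hv]; exact Subgroup.mem_subgroupOf.mp c.2
  have hvinj : Function.Injective v := by
    intro a b hab
    rw [hv, hv] at hab
    exact Subtype.ext (Subtype.ext hab)
  -- the centre of `Q'`
  have hcen : ∀ c : ↥(R'.subgroupOf (Subgroup.centralizer ({z'} : Set H))),
      c ∈ Subgroup.center ↥(R'.subgroupOf (Subgroup.centralizer ({z'} : Set H))) ↔ v c ∈ Z := by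
    intro c
    rw [Subgroup.mem_center_iff, hZmem]
    constructor
    · intro h
      refine ⟨hvR c, fun r hr => ?_⟩
      have h1 := h ⟨⟨r, hRle hr⟩, Subgroup.mem_subgroupOf.mpr hr⟩
      have h2 := congrArg v h1
      rw [map_mul, map_mul] at h2
      have h3 : v ⟨⟨r, hRle hr⟩, Subgroup.mem_subgroupOf.mpr hr⟩ = r := by rw [hv]
      rw [h3] at h2
      exact h2
    · rintro ⟨-, h⟩ g
      apply hvinj
      rw [map_mul, map_mul]
      exact h (v g) (hvR g)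
  -- the isomorphism `e'`
  have hQker : R'.subgroupOf (Subgroup.centralizer ({z'} : Set H)) = ρ.ker := by
    ext h
    rw [Subgroup.mem_subgroupOf, MonoidHom.mem_ker, hρk]
  obtain ⟨e', he'⟩ : ∃ e' : ↥(Subgroup.centralizer ({z'} : Set H)) ⧸
      R'.subgroupOf (Subgroup.centralizer ({z'} : Set H)) ≃* ↥Spor.Co2,
      ∀ h : ↥(Subgroup.centralizer ({z'} : Set H)), e' (QuotientGroup.mk h) = ρ h :=
    ⟨(QuotientGroup.quotientMulEquivOfEq hQker).trans
      (QuotientGroup.quotientKerEquivOfSurjective ρ hρs), fun h => rfl⟩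
  -- the lift `q` of `Ψ`
  obtain ⟨q, hq⟩ : ∃ q : ↥leechPerpU → ↥(R'.subgroupOf (Subgroup.centralizer ({z'} : Set H))),
      ∀ x, v (q x) = Ψ x :=
    ⟨fun x => ⟨⟨Ψ x, hRle (hΨR x)⟩, Subgroup.mem_subgroupOf.mpr (hΨR x)⟩, fun x => by rw [hv]⟩
  have hconj : ∀ a ∈ R', a⁻¹ * (z' * a) = z' := by
    intro a ha
    rw [← hRC a ha]; group
  refine ⟨e', fun x => QuotientGroup.mk (q x), ?_, ?_, ?_, ?_⟩
  · -- additivity
    intro x y
    show (QuotientGroup.mk (q (x + y)) : _ ⧸ _) = QuotientGroup.mk (q x) * QuotientGroup.mk (q y)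
    rw [← QuotientGroup.mk_mul, QuotientGroup.eq, hcen, map_mul, map_inv, map_mul, hq, hq, hq]
    rcases hΨadd x y with h | h
    · rw [h, inv_mul_cancel]; exact Z.one_mem
    · rw [h]
      have h2 : (z' * (Ψ x * Ψ y))⁻¹ * (Ψ x * Ψ y) = ((Ψ x * Ψ y)⁻¹ * (z' * (Ψ x * Ψ y)))⁻¹ := by
        group
      rw [h2, hconj _ (R'.mul_mem (hΨR x) (hΨR y))]
      exact Z.inv_mem hZz
  · -- surjectivity
    intro b
    obtain ⟨q₀, rfl⟩ := QuotientGroup.mk_surjective b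
    obtain ⟨x, hx⟩ := hΨsurj _ (hvR q₀)
    refine ⟨x, ?_⟩
    show (QuotientGroup.mk (q x) : _ ⧸ _) = QuotientGroup.mk q₀
    rw [QuotientGroup.eq, hcen, map_mul, map_inv, hq]
    rcases hx with h | h
    · rw [h, inv_mul_cancel]; exact Z.one_mem
    · rw [h, hconj _ (hΨR x)]; exact hZz
  · -- kernel
    intro x
    show (QuotientGroup.mk (q x) : _ ⧸ _) = 1 ↔ _
    rw [QuotientGroup.eq_one_iff, hcen, hq, ← hΨker x]
    constructor
    · exact hZ1 _
    · rintro (h | h)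
      · rw [h]; exact Z.one_mem
      · rw [h]; exact hZz
  · -- equivariance
    intro h g hg x y hxy q₀ hq₀
    have hg' : ρ h = g := by rw [← hg, he']
    rw [← hg'] at hxy
    have h1 := hΨeq h x y hxy
    have hq₀' : (QuotientGroup.mk (q x) : _ ⧸ _) = QuotientGroup.mk q₀ := hq₀
    rw [QuotientGroup.eq, hcen, map_mul, map_inv, hq] at hq₀'
    obtain ⟨c, hc⟩ : ∃ c : H, c = (Ψ x)⁻¹ * v q₀ := ⟨_, rfl⟩
    rw [← hc] at hq₀'
    have hq₀c : v q₀ = Ψ x * c := by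
      rw [hc]; group
    have hhz : (h : H) * z' * (h : H)⁻¹ = z' := by
      have h3 := Subgroup.mem_centralizer_iff.mp h.2 z' rfl
      rw [← h3]; group
    have hcc : (h : H) * c * (h : H)⁻¹ = c := by
      rcases hZ1 c hq₀' with h3 | h3
      · rw [h3]; group
      · rw [h3]; exact hhz
    show (QuotientGroup.mk (q y) : _ ⧸ _) = QuotientGroup.mk _
    rw [QuotientGroup.eq, hcen, map_mul, map_inv, hq]
    have h3 : v ⟨h * q₀ * h⁻¹, (inferInstance :
        (R'.subgroupOf (Subgroup.centralizer ({z'} : Set H))).Normal).conj_mem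
          (q₀ : ↥(Subgroup.centralizer ({z'} : Set H))) q₀.2 h⟩ =
        (h : H) * v q₀ * (h : H)⁻¹ := by
      rw [hv, hv]
      rfl
    rw [h3, hq₀c]
    have h4 : (Ψ y)⁻¹ * ((h : H) * (Ψ x * c) * (h : H)⁻¹) =
        ((Ψ y)⁻¹ * ((h : H) * Ψ x * (h : H)⁻¹)) * ((h : H) * c * (h : H)⁻¹) := by group
    rw [h4, hcc]
    apply Z.mul_mem _ hq₀'
    rcases h1 with h5 | h5
    · rw [h5, inv_mul_cancel]; exact Z.one_mem
    · rw [h5, hconj _ (hΨR y)]; exact hZz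

end Cfsg.Agent.Lib.helper13
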