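import Mathlib
import Cfsg.Prelude.Def_MonsterType
import Cfsg.Agent.Lib.helper13.BMT
import Cfsg.Agent.Lib.helper13.BMB
import Cfsg.Agent.Lib.helper13.BMC

/-!
# S5412 split (owner helper93): the assembly `bm_of_data` and the exact piece T `bm_quot`
(statements verbatim from `tools/S5412_Skel.lean.txt`).
-/

set_option autoImplicit false
open Cfsg

namespace Cfsg.Agent.Lib.helper13

/-- assembly of A, B, C -/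
theorem bm_of_data {H : Type*} [Group H] [Finite H] (z' : H) (R' : Subgroup H)
    (hz2 : orderOf z' = 2)
    (hRC : ∀ r ∈ R', r * z' = z' * r)
    (hRn : ∀ h : H, h * z' = z' * h → ∀ r ∈ R', h * r * h⁻¹ ∈ R')
    (hcard : Nat.card R' = 2 ^ 23) (hzR : z' ∈ R')
    (hsq : ∀ r ∈ R', r * r = 1 ∨ r * r = z')
    (hcomm : ∀ r ∈ R', ∀ s ∈ R', r * s = s * r ∨ r * s = z' * (s * r))
    (hcent : ∀ x ∈ R', (∀ r ∈ R', r * x = x * r) → x = 1 ∨ x = z')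
    (hnonab : ∃ x ∈ R', ∃ y ∈ R', x * y ≠ y * x)
    (ρ : ↥(Subgroup.centralizer ({z'} : Set H)) →* ↥Spor.Co2)
    (hρs : Function.Surjective ρ)
    (hρk : ∀ h : ↥(Subgroup.centralizer ({z'} : Set H)), ρ h = 1 ↔ (h : H) ∈ R')
    (hO2 : ∀ N : Subgroup ↥Spor.Co2, N.Normal → IsPGroup 2 N → N = ⊥)
    (Ψ : ↥leechPerpU → H) (hΨR : ∀ x, Ψ x ∈ R')
    (hΨadd : ∀ x y, Ψ (x + y) = Ψ x * Ψ y ∨ Ψ (x + y) = z' * (Ψ x * Ψ y))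
    (hΨsurj : ∀ r ∈ R', ∃ x, r = Ψ x ∨ r = z' * Ψ x)
    (hΨker : ∀ x : ↥leechPerpU, (Ψ x = 1 ∨ Ψ x = z') ↔
        ((∃ w : ↥leechLattice, (x : ↥leechLattice) = w + w) ∨
         ∃ w : ↥leechLattice, (x : ↥leechLattice) = Spor.leechU + (w + w)))
    (hΨeq : ∀ (h : ↥(Subgroup.centralizer ({z'} : Set H))) (x y : ↥leechPerpU),
        (ρ h) • (x : ↥leechLattice) = (y : ↥leechLattice) →
        (h : H) * Ψ x * (h : H)⁻¹ = Ψ y ∨ (h : H) * Ψ x * (h : H)⁻¹ = z' * Ψ y)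
    (hCQ : ∀ h : H, h * z' = z' * h → (∀ r ∈ R', h * r = r * h) → h ∈ R')
    (hnwc : ∃ g : H, g * z' * g⁻¹ ∈ R' ∧ g * z' * g⁻¹ ≠ z') :
    IsOfBabyMonsterType H := by
  have hn := bm_normal z' R' hRn
  exact ⟨z', R'.subgroupOf (Subgroup.centralizer ({z'} : Set H)), hn,
    bm_setting z' R' hz2 hRC hRn hcard hzR hsq hcomm hcent hnonab ρ hρs hρk hO2 hCQ hnwc,
    bm_iso z' R' hRC hzR hcent ρ hρs hρk Ψ hΨR hΨadd hΨsurj hΨker hΨeq⟩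

/-- PIECE T -/
theorem bm_quot {K : Type*} [Group K] [Finite K] (T : Subgroup K) [T.Normal] (t z : K)
    (hT : ∀ x : K, x ∈ T ↔ x = 1 ∨ x = t) (ht1 : t ≠ 1) (htc : ∀ x : K, x * t = t * x)
    (hzz : z * z = 1) (hz1 : z ≠ 1) (hzt : z ≠ t)
    (hnc : ∀ x : K, x * z * x⁻¹ ≠ z * t)
    (R : Subgroup K) (htR : t ∈ R) (hzR : z ∈ R)
    (hRC : ∀ r ∈ R, r * z = z * r)
    (hRn : ∀ h : K, h * z = z * h → ∀ r ∈ R, h * r * h⁻¹ ∈ R)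
    (hcard : Nat.card R = 2 ^ 24)
    (hsq : ∀ r ∈ R, r * r = 1 ∨ r * r = z)
    (hcomm : ∀ r ∈ R, ∀ s ∈ R, r * s = s * r ∨ r * s = z * (s * r))
    (hcent : ∀ x ∈ R, (∀ r ∈ R, r * x = x * r) → x = 1 ∨ x = z ∨ x = t ∨ x = z * t)
    (hnonab : ∃ x ∈ R, ∃ y ∈ R, x * y ≠ y * x)
    (ρ : ↥(Subgroup.centralizer ({z} : Set K)) →* ↥Spor.Co2) (hρs : Function.Surjective ρ)
    (hρk : ∀ h : ↥(Subgroup.centralizer ({z} : Set K)), ρ h = 1 ↔ (h : K) ∈ R)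
    (hO2 : ∀ N : Subgroup ↥Spor.Co2, N.Normal → IsPGroup 2 N → N = ⊥)
    (Ψ : ↥leechPerpU → K) (hΨR : ∀ x, Ψ x ∈ R)
    (hΨadd : ∀ x y, ∃ c : K, (c = 1 ∨ c = z ∨ c = t ∨ c = z * t) ∧ Ψ (x + y) = c * (Ψ x * Ψ y))
    (hΨsurj : ∀ r ∈ R, ∃ x, ∃ c : K, (c = 1 ∨ c = z ∨ c = t ∨ c = z * t) ∧ r = c * Ψ x)
    (hΨker : ∀ x : ↥leechPerpU, (Ψ x = 1 ∨ Ψ x = z ∨ Ψ x = t ∨ Ψ x = z * t) ↔
        ((∃ w : ↥leechLattice, (x : ↥leechLattice) = w + w) ∨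
         ∃ w : ↥leechLattice, (x : ↥leechLattice) = Spor.leechU + (w + w)))
    (hΨeq : ∀ (h : ↥(Subgroup.centralizer ({z} : Set K))) (x y : ↥leechPerpU),
        (ρ h) • (x : ↥leechLattice) = (y : ↥leechLattice) →
        ∃ c : K, (c = 1 ∨ c = z ∨ c = t ∨ c = z * t) ∧ (h : K) * Ψ x * (h : K)⁻¹ = c * Ψ y)
    (hCQ : ∀ h : K, h * z = z * h → (∀ r ∈ R, h * r * h⁻¹ * r⁻¹ ∈ T) → h ∈ R)
    (hnwc : ∃ g : K, g * z * g⁻¹ ∈ R ∧ g * z * g⁻¹ ≠ z) :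
    IsOfBabyMonsterType (K ⧸ T) :=
  bm_quot_of T t z hT ht1 htc hzz hz1 hzt hnc R htR hzR hRC hRn hcard hsq hcomm hcent hnonab ρ hρs
    hρk hO2 Ψ hΨR hΨadd hΨsurj hΨker hΨeq hCQ hnwc
    (fun z' R' a1 a2 a3 a4 a5 a6 a7 a8 a9 ρ' b1 b2 b3 Ψ' c1 c2 c3 c4 c5 c6 c7 =>
      bm_of_data z' R' a1 a2 a3 a4 a5 a6 a7 a8 a9 ρ' b1 b2 b3 Ψ' c1 c2 c3 c4 c5 c6 c7)

end Cfsg.Agent.Lib.helper13
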