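import Mathlib
import Cfsg.Prelude.Def_Local
import Cfsg.Agent.Lib.helper38.HallHigman
import Cfsg.Agent.Lib.helper40.Cores
import Cfsg.Agent.Lib.helper13.Count

/-!
The dual of Hall–Higman Lemma 1.2.3: in a finite `p`-soluble group `G` with `O_p(G) = 1`,
`C_G(O_{p'}(G)) ≤ O_{p'}(G)`.
-/

set_option autoImplicit false

namespace Cfsg.Agent.Lib.helper13

open Subgroup Cfsg.Agent.Lib.helper40 Cfsg.Agent.Lib.helper38

/-- The inductive step of the dual Hall–Higman lemma. -/
theorem dualHH_step {G : Type*} [Group G] [Finite G] {p : ℕ} [hp : Fact p.Prime]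
    (hcore : Cfsg.pCore p G = ⊥) (C A B : Subgroup G) [C.Normal] [A.Normal] [B.Normal]
    (hAB : A ≤ B) (hC : C ≤ centralizer (Cfsg.pPrimeCore p G : Set G))
    (hA : C ⊓ A ≤ Cfsg.pPrimeCore p G)
    (hidx : (∃ m : ℕ, A.relIndex B = p ^ m) ∨ (A.relIndex B).Coprime p) :
    C ⊓ B ≤ Cfsg.pPrimeCore p G := by
  have hdvd : (C ⊓ A).relIndex (C ⊓ B) ∣ A.relIndex B := relIndex_inf_dvd_relIndex C A B hAB
  have hle : C ⊓ A ≤ C ⊓ B := inf_le_inf_left C hAB
  have hL0 : (Nat.card ↥(C ⊓ A)).Coprime p :=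
    Nat.Coprime.coprime_dvd_left (Subgroup.card_dvd_of_le hA) (pPrimeCore_card_coprime p G)
  have hLn : (C ⊓ B).Normal := inferInstance
  have hcardmul : Nat.card ↥(C ⊓ B) = Nat.card ↥(C ⊓ A) * (C ⊓ A).relIndex (C ⊓ B) := by
    have := Subgroup.relIndex_mul_relIndex (⊥ : Subgroup G) (C ⊓ A) (C ⊓ B) bot_le hle
    rw [Subgroup.relIndex_bot_left, Subgroup.relIndex_bot_left] at this
    exact this.symm
  rcases hidx with ⟨m, hm⟩ | hcop
  · -- `p`-power index
    rw [hm] at hdvd
    obtain ⟨j, -, hj⟩ := (Nat.dvd_prime_pow hp.out).mp hdvd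
    rw [hj] at hcardmul
    obtain ⟨P⟩ : Nonempty (Sylow p ↥(C ⊓ B)) := inferInstance
    have hpd : ¬ p ∣ Nat.card ↥(C ⊓ A) := by
      intro h
      have := Nat.Coprime.eq_one_of_dvd hL0.symm h
      exact (Nat.Prime.one_lt hp.out).ne' this
    have hPcard : Nat.card (P : Subgroup ↥(C ⊓ B)) = p ^ j := by
      rw [Sylow.card_eq_multiplicity, hcardmul,
        Nat.factorization_mul (Nat.card_pos.ne') (pow_ne_zero j hp.out.pos.ne'),
        Finsupp.add_apply, Nat.factorization_eq_zero_of_not_dvd hpd, zero_add,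
        Nat.factorization_pow, Finsupp.smul_apply, Nat.Prime.factorization_self hp.out,
        smul_eq_mul, mul_one]
    have hP'card : Nat.card ((P : Subgroup ↥(C ⊓ B)).map (C ⊓ B).subtype) = p ^ j := by
      rw [Subgroup.card_map_of_injective (Subgroup.subtype_injective _)]
      exact hPcard
    have hP'p : IsPGroup p ((P : Subgroup ↥(C ⊓ B)).map (C ⊓ B).subtype) := P.2.map _
    have hP'le : (P : Subgroup ↥(C ⊓ B)).map (C ⊓ B).subtype ≤ C ⊓ B := Subgroup.map_subtype_le _
    have hcomm : ∀ z ∈ C ⊓ A, ∀ l ∈ C ⊓ B, z * l = l * z := by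
      intro z hz l hl
      exact Subgroup.mem_centralizer_iff.mp (hC (Subgroup.mem_inf.mp hl).1) z (hA hz)
    have hsup : (C ⊓ A) ⊔ (P : Subgroup ↥(C ⊓ B)).map (C ⊓ B).subtype = C ⊓ B := by
      apply Subgroup.eq_of_le_of_card_ge (sup_le hle hP'le)
      have h1 := card_sup_mul_card_inf (C ⊓ A) ((P : Subgroup ↥(C ⊓ B)).map (C ⊓ B).subtype)
        (by
          intro z hz
          apply Subgroup.centralizer_le_normalizer
          rw [Subgroup.mem_centralizer_iff]
          intro a ha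
          exact (hcomm z hz a (hP'le ha)).symm)
      have h2 : (C ⊓ A) ⊓ (P : Subgroup ↥(C ⊓ B)).map (C ⊓ B).subtype = ⊥ := by
        apply (Subgroup.disjoint_of_coprime_natCard ?_).eq_bot
        rw [hP'card]
        exact Nat.Coprime.pow_right j hL0
      rw [h2, Subgroup.card_bot, mul_one, hP'card] at h1
      rw [h1, hcardmul]
    have hmem : ∀ u ∈ C ⊓ B, ∀ k : ℕ, u ^ p ^ k = 1 →
        u ∈ (P : Subgroup ↥(C ⊓ B)).map (C ⊓ B).subtype := by
      intro u hu k hk
      rw [← hsup] at hu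
      obtain ⟨z, hz, a, ha, rfl⟩ := exists_mul_of_mem_sup_of_commute
        (fun z hz a ha => hcomm z hz a (hP'le ha)) hu
      have hza : Commute z a := hcomm z hz a (hP'le ha)
      have ha1 : a ^ p ^ j = 1 := by
        have h1 : (⟨a, ha⟩ : ↥((P : Subgroup ↥(C ⊓ B)).map (C ⊓ B).subtype)) ^
            Nat.card ↥((P : Subgroup ↥(C ⊓ B)).map (C ⊓ B).subtype) = 1 := pow_card_eq_one'
        rw [hP'card] at h1
        have h2 := congrArg Subtype.val h1
        simpa using h2
      have hz1 : z ^ p ^ (k + j) = 1 := by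
        have h1 : (z * a) ^ p ^ (k + j) = 1 := by
          rw [pow_add, pow_mul, hk, one_pow]
        rw [hza.mul_pow] at h1
        have h2 : a ^ p ^ (k + j) = 1 := by
          rw [pow_add, mul_comm, pow_mul, ha1, one_pow]
        rw [h2, mul_one] at h1
        exact h1
      have hzo : (orderOf z).Coprime p :=
        Nat.Coprime.coprime_dvd_left (Subgroup.orderOf_dvd_natCard _ hz) hL0
      have hz0 : z = 1 := eq_one_of_pow_eq_one_of_coprime hz1 hzo
      rw [hz0, one_mul]
      exact ha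
    have hP'n : ((P : Subgroup ↥(C ⊓ B)).map (C ⊓ B).subtype).Normal := by
      constructor
      intro a ha g
      have ha' : a ^ p ^ j = 1 := by
        have h1 : (⟨a, ha⟩ : ↥((P : Subgroup ↥(C ⊓ B)).map (C ⊓ B).subtype)) ^
            Nat.card ↥((P : Subgroup ↥(C ⊓ B)).map (C ⊓ B).subtype) = 1 := pow_card_eq_one'
        rw [hP'card] at h1
        have h2 := congrArg Subtype.val h1
        simpa using h2
      apply hmem _ (hLn.conj_mem a (hP'le ha) g) j
      rw [conj_pow, ha']
      group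
    have hbot := le_pCore _ hP'n hP'p
    rw [hcore, le_bot_iff] at hbot
    rw [hbot, Subgroup.card_bot] at hP'card
    rw [← hP'card, mul_one] at hcardmul
    have : C ⊓ A = C ⊓ B := Subgroup.eq_of_le_of_card_ge hle hcardmul.le
    rw [← this]
    exact hA
  · -- coprime index: `C ⊓ B` is a normal `p'`-subgroup
    apply le_pPrimeCore _ hLn
    rw [hcardmul]
    exact Nat.Coprime.mul_left hL0 (Nat.Coprime.coprime_dvd_left hdvd hcop)

/-- **Dual Hall–Higman lemma.** In a finite `p`-soluble group `G` with `O_p(G) = 1`,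
`C_G(O_{p'}(G)) ≤ O_{p'}(G)`. -/
theorem centralizer_pPrimeCore_le_of_isPSolvable {G : Type*} [Group G] [Finite G] {p : ℕ}
    [Fact p.Prime] (hS : Cfsg.IsPSolvable p G) (hcore : Cfsg.pCore p G = ⊥) :
    centralizer (Cfsg.pPrimeCore p G : Set G) ≤ Cfsg.pPrimeCore p G := by
  obtain ⟨n, H, h0, hlast, hmono, hnorm, hstep⟩ := hS
  have hPn : (Cfsg.pPrimeCore p G).Normal := pPrimeCore_normal' p G
  have key : ∀ i : Fin (n + 1),
      centralizer (Cfsg.pPrimeCore p G : Set G) ⊓ H i ≤ Cfsg.pPrimeCore p G := by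
    intro i
    induction i using Fin.induction with
    | zero => rw [h0]; simp
    | succ i ih =>
      have := hnorm i.castSucc
      have := hnorm i.succ
      exact dualHH_step hcore _ _ _ (hmono (Fin.castSucc_le_succ i)) le_rfl ih (hstep i)
  have := key (Fin.last n)
  rwa [hlast, inf_top_eq] at this

end Cfsg.Agent.Lib.helper13
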