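import Mathlib
import Cfsg.Prelude.Def_PLocal
import Cfsg.Agent.Lib.helper13.Thompson
import Cfsg.Agent.Lib.helper13.Count
import Cfsg.Agent.Lib.helper13.DualHH
import Cfsg.Agent.Lib.helper27.Radical
import Cfsg.Agent.Lib.helper38.HallHigman2
import Cfsg.Agent.Lib.helper40.Cores

/-!
The faithful internal model of the action of `G` on a normal subgroup `V`:
the semidirect product `V ⋊ (G / C_G(V))`, in which `V` and the image of `G` are subgroups,
the image of `G` acting faithfully on `V`.
-/

set_option autoImplicit false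

namespace Cfsg.Agent.Lib.helper13

open Cfsg

section FaithModel

variable {G : Type*} [Group G] (V : Subgroup G) [V.Normal]

/-- The action of `G / C_G(V)` on `V`. -/
def fmPhi : G ⧸ Subgroup.centralizer (V : Set G) →* MulAut ↥V :=
  QuotientGroup.lift (Subgroup.centralizer (V : Set G)) (MulAut.conjNormal (H := V)) (by
    intro c hc
    rw [MonoidHom.mem_ker]
    ext v
    rw [MulAut.conjNormal_apply, MulAut.one_apply]
    have := Subgroup.mem_centralizer_iff.mp hc (v : G) v.2
    rw [← this]; group)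

/-- The model group `V ⋊ (G / C_G(V))`. -/
abbrev FM : Type _ := ↥V ⋊[fmPhi V] (G ⧸ Subgroup.centralizer (V : Set G))

theorem fm_finite [Finite G] : Finite (FM V) :=
  Finite.of_equiv _ SemidirectProduct.equivProd.symm

/-- The map `G → V ⋊ (G / C_G(V))`. -/
def fmPi : G →* FM V :=
  (SemidirectProduct.inr).comp (QuotientGroup.mk' (Subgroup.centralizer (V : Set G)))

/-- The copy of `V` in the model. -/
def fmV : Subgroup (FM V) := (SemidirectProduct.inl : ↥V →* FM V).range

theorem fmPi_mul_inl (g : G) (v : V) :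
    fmPi V g * SemidirectProduct.inl v * (fmPi V g)⁻¹ =
      SemidirectProduct.inl (MulAut.conjNormal g v) := by
  have h := SemidirectProduct.inl_aut (φ := fmPhi V)
    (QuotientGroup.mk g : G ⧸ Subgroup.centralizer (V : Set G)) v
  rw [map_inv] at h
  exact h.symm

theorem fmPi_ker : (fmPi V).ker = Subgroup.centralizer (V : Set G) := by
  ext g
  rw [MonoidHom.mem_ker]
  constructor
  · intro h
    have h1 : (SemidirectProduct.inr (QuotientGroup.mk g : G ⧸ Subgroup.centralizer (V : Set G)) :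
        FM V) = SemidirectProduct.inr 1 := by rw [map_one]; exact h
    have h2 := SemidirectProduct.inr_injective h1
    exact (QuotientGroup.eq_one_iff g).mp h2
  · intro h
    have h2 : (QuotientGroup.mk g : G ⧸ Subgroup.centralizer (V : Set G)) = 1 :=
      (QuotientGroup.eq_one_iff g).mpr h
    show (SemidirectProduct.inr (QuotientGroup.mk g : G ⧸ Subgroup.centralizer (V : Set G)) :
        FM V) = 1
    rw [h2, map_one]

theorem fmV_normal : (fmV V).Normal := by
  unfold fmV
  rw [SemidirectProduct.range_inl_eq_ker_rightHom]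
  exact MonoidHom.normal_ker _

theorem fmV_elemAb {p : ℕ} (hV : IsElementaryAbelian p V) : IsElementaryAbelian p (fmV V) := by
  rw [isElementaryAbelian_iff] at hV ⊢
  constructor
  · rintro _ ⟨a, rfl⟩ _ ⟨b, rfl⟩
    rw [← map_mul, ← map_mul]
    congr 1
    exact Subtype.ext (hV.1 a a.2 b b.2)
  · rintro _ ⟨a, rfl⟩
    rw [← map_pow]
    have : a ^ p = 1 := Subtype.ext (by simpa using hV.2 a a.2)
    rw [this, map_one]

theorem card_fmV : Nat.card (fmV V) = Nat.card V :=
  Nat.card_congr
    (MonoidHom.ofInjective (f := (SemidirectProduct.inl : ↥V →* FM V))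
      SemidirectProduct.inl_injective).toEquiv.symm

theorem card_fmV_inf_centralizer (B : Subgroup G) :
    Nat.card ↥(fmV V ⊓ Subgroup.centralizer ((B.map (fmPi V) : Subgroup (FM V)) : Set (FM V))) =
      Nat.card ↥(V ⊓ Subgroup.centralizer (B : Set G)) := by
  have h : fmV V ⊓ Subgroup.centralizer ((B.map (fmPi V) : Subgroup (FM V)) : Set (FM V)) =
      ((V ⊓ Subgroup.centralizer (B : Set G)).subgroupOf V).map SemidirectProduct.inl := by
    ext x
    constructor
    · rintro ⟨⟨v, rfl⟩, hx⟩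
      refine ⟨v, ?_, rfl⟩
      rw [SetLike.mem_coe, Subgroup.mem_subgroupOf]
      refine Subgroup.mem_inf.mpr ⟨v.2, ?_⟩
      rw [Subgroup.mem_centralizer_iff]
      intro b hb
      have h1 := Subgroup.mem_centralizer_iff.mp hx (fmPi V b) (Subgroup.mem_map_of_mem _ hb)
      have h2 := fmPi_mul_inl V b v
      rw [h1, mul_inv_cancel_right] at h2
      have h4 := congrArg Subtype.val (SemidirectProduct.inl_injective h2)
      rw [MulAut.conjNormal_apply] at h4
      calc b * (v : G) = (b * (v : G) * b⁻¹) * b := by group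
        _ = (v : G) * b := by rw [← h4]
    · rintro ⟨v, hv, rfl⟩
      rw [SetLike.mem_coe, Subgroup.mem_subgroupOf] at hv
      obtain ⟨-, hvC⟩ := Subgroup.mem_inf.mp hv
      refine Subgroup.mem_inf.mpr ⟨⟨v, rfl⟩, ?_⟩
      rw [Subgroup.mem_centralizer_iff]
      rintro _ ⟨b, hb, rfl⟩
      have h2 := fmPi_mul_inl V b v
      have h3 : (MulAut.conjNormal b v : V) = v := by
        apply Subtype.ext
        rw [MulAut.conjNormal_apply]
        have := Subgroup.mem_centralizer_iff.mp hvC b hb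
        rw [this]; group
      rw [h3] at h2
      calc fmPi V b * SemidirectProduct.inl v
          = (fmPi V b * SemidirectProduct.inl v * (fmPi V b)⁻¹) * fmPi V b := by group
        _ = SemidirectProduct.inl v * fmPi V b := by rw [h2]
  rw [h, Subgroup.card_map_of_injective SemidirectProduct.inl_injective,
    card_subgroupOf_of_le inf_le_left]

theorem card_map_fmPi (A : Subgroup G) :
    Nat.card (A.map (fmPi V)) * Nat.card ↥(A ⊓ Subgroup.centralizer (V : Set G)) =
      Nat.card A := by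
  have h1 := Subgroup.relIndex_ker A (fmPi V)
  rw [fmPi_ker] at h1
  rw [← h1, inf_comm]
  exact relIndex_mul_card_inf _ _

theorem isBestOffenderOn_map [Finite G] {p : ℕ} {A : Subgroup G}
    (hA : IsBestOffenderOn p V A) : IsBestOffenderOn p (fmV V) (A.map (fmPi V)) := by
  obtain ⟨h1, h2, h3⟩ := hA
  refine ⟨?_, ?_, ?_⟩
  · intro B' hB'
    have hBA : A ⊓ B'.comap (fmPi V) ≤ A := inf_le_left
    have hBmap : (A ⊓ B'.comap (fmPi V)).map (fmPi V) = B' := by
      apply le_antisymm
      · rintro _ ⟨b, hb, rfl⟩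
        exact (Subgroup.mem_inf.mp hb).2
      · intro x hx
        obtain ⟨a, ha, rfl⟩ := hB' hx
        exact ⟨a, Subgroup.mem_inf.mpr ⟨ha, hx⟩, rfl⟩
    have hBC : (A ⊓ B'.comap (fmPi V)) ⊓ Subgroup.centralizer (V : Set G) =
        A ⊓ Subgroup.centralizer (V : Set G) := by
      apply le_antisymm (inf_le_inf_right _ hBA)
      intro x hx
      obtain ⟨hxA, hxC⟩ := Subgroup.mem_inf.mp hx
      refine Subgroup.mem_inf.mpr ⟨Subgroup.mem_inf.mpr ⟨hxA, ?_⟩, hxC⟩
      rw [Subgroup.mem_comap]
      have : fmPi V x = 1 := by rw [← MonoidHom.mem_ker, fmPi_ker]; exact hxC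
      rw [this]; exact B'.one_mem
    have c1 := card_map_fmPi V (A ⊓ B'.comap (fmPi V))
    have c2 := card_map_fmPi V A
    rw [hBmap, hBC] at c1
    have c3 := h1 _ hBA
    rw [← card_fmV_inf_centralizer V (A ⊓ B'.comap (fmPi V)), ← card_fmV_inf_centralizer V A,
      hBmap, ← c1, ← c2] at c3
    have hc : 0 < Nat.card ↥(A ⊓ Subgroup.centralizer (V : Set G)) := Nat.card_pos
    refine Nat.le_of_mul_le_mul_left ?_ hc
    calc Nat.card ↥(A ⊓ Subgroup.centralizer (V : Set G)) * (Nat.card B' *
          Nat.card ↥(fmV V ⊓ Subgroup.centralizer ((B' : Subgroup (FM V)) : Set (FM V))))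
        = Nat.card B' * Nat.card ↥(A ⊓ Subgroup.centralizer (V : Set G)) *
          Nat.card ↥(fmV V ⊓ Subgroup.centralizer ((B' : Subgroup (FM V)) : Set (FM V))) := by
          ring
      _ ≤ _ := c3
      _ = _ := by ring
  · rw [← Subgroup.map_commutator]
    have : (⁅A, A⁆ : Subgroup G).map (fmPi V) = ⊥ := by
      rw [eq_bot_iff]
      rintro _ ⟨x, hx, rfl⟩
      rw [Subgroup.mem_bot, ← MonoidHom.mem_ker, fmPi_ker]
      exact h2 hx
    rw [this]
    exact bot_le
  · rintro _ ⟨a, ha, rfl⟩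
    rw [← map_pow]
    have : fmPi V (a ^ p) = 1 := by rw [← MonoidHom.mem_ker, fmPi_ker]; exact h3 a ha
    rw [this]; exact Subgroup.one_mem _

theorem fm_hHV (J : Subgroup G) :
    J.map (fmPi V) ≤ Subgroup.normalizer ((fmV V : Subgroup (FM V)) : Set (FM V)) := by
  have := fmV_normal V
  intro x _
  rw [Subgroup.mem_normalizer_iff]
  intro h
  exact ⟨fun hh => this.conj_mem h hh x, fun hh => by
    have := this.conj_mem _ hh x⁻¹
    have e : x⁻¹ * (x * h * x⁻¹) * x⁻¹⁻¹ = h := by group
    rwa [e] at this⟩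

theorem fm_faithful (J : Subgroup G) :
    J.map (fmPi V) ⊓ Subgroup.centralizer ((fmV V : Subgroup (FM V)) : Set (FM V)) = ⊥ := by
  rw [eq_bot_iff]
  rintro _ ⟨⟨g, -, rfl⟩, hx⟩
  rw [Subgroup.mem_bot, ← MonoidHom.mem_ker, fmPi_ker, Subgroup.mem_centralizer_iff]
  intro v hv
  have h1 := Subgroup.mem_centralizer_iff.mp hx (SemidirectProduct.inl ⟨v, hv⟩) ⟨_, rfl⟩
  have h2 := fmPi_mul_inl V g ⟨v, hv⟩
  rw [← h1, mul_inv_cancel_right] at h2
  have h4 := congrArg Subtype.val (SemidirectProduct.inl_injective h2)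
  rw [MulAut.conjNormal_apply] at h4
  simp only at h4
  calc v * g = (g * v * g⁻¹) * g := by rw [← h4]
    _ = g * v := by group

theorem fm_isPSolvable {p : ℕ} [Fact p.Prime] (hsep : IsPSolvable p G) (J : Subgroup G) :
    IsPSolvable p ↥(J.map (fmPi V)) :=
  Cfsg.Agent.Lib.helper38.isPSolvable_of_surjective ((fmPi V).subgroupMap J)
    (MonoidHom.subgroupMap_surjective _ _) (Cfsg.Agent.Lib.helper38.isPSolvable_subgroup J hsep)

theorem fm_pCore_eq_bot [Finite G] {p : ℕ} [Fact p.Prime]
    (hO : Cfsg.pCore p (G ⧸ Subgroup.centralizer (V : Set G)) = ⊥) (J : Subgroup G) [J.Normal] :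
    Cfsg.pCore p ↥(J.map (fmPi V)) = ⊥ := by
  have hfin := fm_finite V
  have hR'p : IsPGroup p ((Cfsg.pCore p ↥(J.map (fmPi V))).map (J.map (fmPi V)).subtype) :=
    Cfsg.Agent.Lib.helper27.map_pCore_isPGroup p (J.map (fmPi V))
  have hR'H : (Cfsg.pCore p ↥(J.map (fmPi V))).map (J.map (fmPi V)).subtype ≤ J.map (fmPi V) :=
    Subgroup.map_subtype_le _
  have hRbp : IsPGroup p
      (((Cfsg.pCore p ↥(J.map (fmPi V))).map (J.map (fmPi V)).subtype).comap
        (SemidirectProduct.inr : G ⧸ Subgroup.centralizer (V : Set G) →* FM V)) :=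
    hR'p.comap_of_injective _ SemidirectProduct.inr_injective
  have hRbn : (((Cfsg.pCore p ↥(J.map (fmPi V))).map (J.map (fmPi V)).subtype).comap
        (SemidirectProduct.inr : G ⧸ Subgroup.centralizer (V : Set G) →* FM V)).Normal := by
    constructor
    intro x hx q
    rw [Subgroup.mem_comap] at hx ⊢
    rw [map_mul, map_mul, map_inv]
    have hq : (SemidirectProduct.inr q : FM V) ∈ Subgroup.normalizer
        ((((Cfsg.pCore p ↥(J.map (fmPi V))).map (J.map (fmPi V)).subtype) : Subgroup (FM V)) :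
          Set (FM V)) := by
      apply Cfsg.Agent.Lib.helper27.normalizer_le_normalizer_map_subtype_of_characteristic
        (J.map (fmPi V)) (Cfsg.pCore p ↥(J.map (fmPi V)))
      induction q using QuotientGroup.induction_on with
      | H g =>
        apply Subgroup.le_normalizer_map (fmPi V)
        refine ⟨g, ?_, rfl⟩
        rw [SetLike.mem_coe, Subgroup.mem_normalizer_iff]
        intro h
        exact ⟨fun hh => Subgroup.Normal.conj_mem inferInstance h hh g, fun hh => by
          have := Subgroup.Normal.conj_mem (inferInstance : J.Normal) _ hh g⁻¹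
          have e : g⁻¹ * (g * h * g⁻¹) * g⁻¹⁻¹ = h := by group
          rwa [e] at this⟩
    exact (Subgroup.mem_normalizer_iff.mp hq _).mp hx
  have hRb := Cfsg.Agent.Lib.helper40.le_pCore _ hRbn hRbp
  rw [hO, le_bot_iff] at hRb
  have hR'bot : (Cfsg.pCore p ↥(J.map (fmPi V))).map (J.map (fmPi V)).subtype = ⊥ := by
    rw [eq_bot_iff]
    intro x hx
    obtain ⟨g, -, rfl⟩ := hR'H hx
    have h1 : (QuotientGroup.mk g : G ⧸ Subgroup.centralizer (V : Set G)) ∈
        ((Cfsg.pCore p ↥(J.map (fmPi V))).map (J.map (fmPi V)).subtype).comap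
          (SemidirectProduct.inr : G ⧸ Subgroup.centralizer (V : Set G) →* FM V) := hx
    rw [hRb, Subgroup.mem_bot] at h1
    rw [Subgroup.mem_bot]
    show (SemidirectProduct.inr (QuotientGroup.mk g : G ⧸ Subgroup.centralizer (V : Set G)) :
        FM V) = 1
    rw [h1, map_one]
  exact (Subgroup.map_eq_bot_iff_of_injective _ (Subgroup.subtype_injective _)).mp hR'bot

theorem fm_hS1 [Finite G] {p : ℕ} [Fact p.Prime] (hsep : IsPSolvable p G)
    (hO : Cfsg.pCore p (G ⧸ Subgroup.centralizer (V : Set G)) = ⊥) (J : Subgroup G) [J.Normal] :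
    Subgroup.centralizer (Cfsg.pPrimeCore p ↥(J.map (fmPi V)) : Set ↥(J.map (fmPi V))) ≤
      Cfsg.pPrimeCore p ↥(J.map (fmPi V)) := by
  have hfin := fm_finite V
  exact centralizer_pPrimeCore_le_of_isPSolvable (fm_isPSolvable V hsep J)
    (fm_pCore_eq_bot V hO J)

theorem fm_hS3 [Finite G] {p : ℕ} (𝒜 : Set (Subgroup G))
    (h𝒜 : ∀ A ∈ 𝒜, IsBestOffenderOn p V A) :
    (sSup 𝒜).map (fmPi V) =
      ⨆ A : {A : Subgroup (FM V) // A ≤ (sSup 𝒜).map (fmPi V) ∧
        IsBestOffenderOn p (fmV V) A}, (A : Subgroup (FM V)) := by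
  apply le_antisymm
  · rw [Subgroup.map_le_iff_le_comap]
    apply sSup_le
    intro A hA
    rw [← Subgroup.map_le_iff_le_comap]
    exact le_iSup_of_le (⟨A.map (fmPi V), Subgroup.map_mono (le_sSup hA),
      isBestOffenderOn_map V (h𝒜 A hA)⟩ : {A : Subgroup (FM V) // A ≤ (sSup 𝒜).map (fmPi V) ∧
        IsBestOffenderOn p (fmV V) A}) le_rfl
  · exact iSup_le fun A => A.2.1

end FaithModel

end Cfsg.Agent.Lib.helper13
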