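import Mathlib
import Cfsg.Prelude.Def_Classical
import Cfsg.Prelude.Def_GeometricClasses

/-!
S5977 block B, piece GOODAM (core, by helper13): from a matrix `A ∈ GL_i(F)` with `A ^ r = 1` and a
polynomial `f` with `f(A) = 0`, `f(1) ≠ 0`, `f` invertible at the inverse transpose of `A`, an isometry
of the minus form with `x ^ r = 1` whose `f`-kernel has dimension `i`.
-/

set_option autoImplicit false

namespace Cfsg.Agent.Lib.helper96.FE

open Polynomial

section h13blocks

variable {F : Type*} [Field F]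

/-- extension of a vector by zero on the second summand -/
def h13_extL (α β : Type*) : (α → F) →ₗ[F] (α ⊕ β → F) where
  toFun v := Sum.elim v 0
  map_add' := by
    intro v w
    ext (a | b) <;> simp
  map_smul' := by
    intro c v
    ext (a | b) <;> simp

theorem h13_extL_injective (α β : Type*) : Function.Injective (h13_extL (F := F) α β) := by
  intro v w h
  ext a
  have := congrFun h (Sum.inl a)
  simpa [h13_extL] using this

theorem h13_ker_fromBlocks {α β : Type*} [Fintype α] [Fintype β] [DecidableEq α] [DecidableEq β]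
    (Y : Matrix α α F) (Z : Matrix β β F) (hZ : ∀ v, Z.mulVec v = 0 → v = 0) :
    LinearMap.ker (Matrix.toLin' (Matrix.fromBlocks Y 0 0 Z)) =
      (LinearMap.ker (Matrix.toLin' Y)).map (h13_extL α β) := by
  ext w
  simp only [LinearMap.mem_ker, Matrix.toLin'_apply, Submodule.mem_map]
  constructor
  · intro hw
    rw [Matrix.fromBlocks_mulVec] at hw
    have h1 : Y.mulVec (w ∘ Sum.inl) = 0 := by
      ext a
      have := congrFun hw (Sum.inl a)
      simpa using this
    have h2 : Z.mulVec (w ∘ Sum.inr) = 0 := by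
      ext b
      have := congrFun hw (Sum.inr b)
      simpa using this
    have h3 := hZ _ h2
    refine ⟨w ∘ Sum.inl, h1, ?_⟩
    ext (a | b)
    · simp [h13_extL]
    · have := congrFun h3 b
      simpa [h13_extL] using this.symm
  · rintro ⟨v, hv, rfl⟩
    rw [Matrix.fromBlocks_mulVec]
    ext (a | b)
    · have := congrFun hv a
      simpa [h13_extL] using this
    · simp [h13_extL]

theorem h13_finrank_ker_fromBlocks {α β : Type*} [Fintype α] [Fintype β] [DecidableEq α]
    [DecidableEq β] (Y : Matrix α α F) (Z : Matrix β β F) (hZ : ∀ v, Z.mulVec v = 0 → v = 0) :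
    Module.finrank F (LinearMap.ker (Matrix.toLin' (Matrix.fromBlocks Y 0 0 Z))) =
      Module.finrank F (LinearMap.ker (Matrix.toLin' Y)) := by
  rw [h13_ker_fromBlocks Y Z hZ]
  exact (Submodule.equivMapOfInjective _ (h13_extL_injective α β) _).finrank_eq.symm

theorem h13_inj_fromBlocks {α β : Type*} [Fintype α] [Fintype β] [DecidableEq α] [DecidableEq β]
    (Y : Matrix α α F) (Z : Matrix β β F) (hY : ∀ v, Y.mulVec v = 0 → v = 0)
    (hZ : ∀ v, Z.mulVec v = 0 → v = 0) :
    ∀ v, (Matrix.fromBlocks Y 0 0 Z).mulVec v = 0 → v = 0 := by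
  intro w hw
  rw [Matrix.fromBlocks_mulVec] at hw
  have h1 : Y.mulVec (w ∘ Sum.inl) = 0 := by
    ext a
    have := congrFun hw (Sum.inl a)
    simpa using this
  have h2 : Z.mulVec (w ∘ Sum.inr) = 0 := by
    ext b
    have := congrFun hw (Sum.inr b)
    simpa using this
  have h3 := hY _ h1
  have h4 := hZ _ h2
  ext (a | b)
  · exact congrFun h3 a
  · exact congrFun h4 b

theorem h13_inj_smul_one {α : Type*} [Fintype α] [DecidableEq α] (c : F) (hc : c ≠ 0) :
    ∀ v, (c • (1 : Matrix α α F)).mulVec v = 0 → v = 0 := by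
  intro v hv
  rw [Matrix.smul_mulVec, Matrix.one_mulVec] at hv
  rcases smul_eq_zero.mp hv with h | h
  · exact absurd h hc
  · exact h

theorem h13_inj_of_isUnit {α : Type*} [Fintype α] [DecidableEq α] (P : Matrix α α F)
    (hP : IsUnit P) : ∀ v, P.mulVec v = 0 → v = 0 := by
  obtain ⟨u, rfl⟩ := hP
  intro v hv
  have h1 : (↑u⁻¹ : Matrix α α F).mulVec ((↑u : Matrix α α F).mulVec v) = v := by
    rw [Matrix.mulVec_mulVec, ← Units.val_mul, inv_mul_cancel, Units.val_one, Matrix.one_mulVec]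
  rw [← h1, hv, Matrix.mulVec_zero]

theorem h13_aeval_fromBlocks {α β : Type*} [Fintype α] [Fintype β] [DecidableEq α] [DecidableEq β]
    (M : Matrix α α F) (N : Matrix β β F) (f : F[X]) :
    aeval (Matrix.fromBlocks M 0 0 N) f = Matrix.fromBlocks (aeval M f) 0 0 (aeval N f) := by
  induction f using Polynomial.induction_on' with
  | add p q hp hq =>
    rw [map_add, map_add, map_add, hp, hq, Matrix.fromBlocks_add]
    simp
  | monomial k c =>
    rw [aeval_monomial, aeval_monomial, aeval_monomial, Matrix.fromBlocks_diagonal_pow]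
    simp [Algebra.algebraMap_eq_smul_one, Matrix.fromBlocks_smul]

theorem h13_aeval_one_matrix {α : Type*} [Fintype α] [DecidableEq α] (f : F[X]) :
    aeval (1 : Matrix α α F) f = (f.eval 1) • (1 : Matrix α α F) := by
  induction f using Polynomial.induction_on' with
  | add p q hp hq => rw [map_add, hp, hq, eval_add, add_smul]
  | monomial k c =>
    rw [aeval_monomial, one_pow, mul_one, eval_monomial, one_pow, mul_one,
      Algebra.algebraMap_eq_smul_one]

theorem h13_finrank_ker_reindex {ι ι' : Type*} [Fintype ι] [Fintype ι'] [DecidableEq ι]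
    [DecidableEq ι'] (E : ι' ≃ ι) (Y : Matrix ι' ι' F) :
    Module.finrank F (LinearMap.ker (Matrix.toLin' (Matrix.reindex E E Y))) =
      Module.finrank F (LinearMap.ker (Matrix.toLin' Y)) := by
  have h1 := LinearMap.finrank_range_add_finrank_ker (Matrix.toLin' (Matrix.reindex E E Y))
  have h2 := LinearMap.finrank_range_add_finrank_ker (Matrix.toLin' Y)
  have h3 : Module.finrank F (LinearMap.range (Matrix.toLin' (Matrix.reindex E E Y))) =
      Module.finrank F (LinearMap.range (Matrix.toLin' Y)) := by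
    rw [Matrix.toLin'_apply', Matrix.toLin'_apply']
    exact Matrix.rank_reindex E E Y
  rw [Module.finrank_fintype_fun_eq_card] at h1 h2
  have h4 : Fintype.card ι = Fintype.card ι' := (Fintype.card_congr E).symm
  omega

theorem h13_iso_blocks {J : Type*} [Fintype J] [DecidableEq J] (M M' : Matrix J J F)
    (h : M.transpose * M' = 1) (v₁ v₂ : J → F) :
    ∑ j, (M.mulVec v₁) j * (M'.mulVec v₂) j = ∑ j, v₁ j * v₂ j := by
  have h1 : dotProduct (M.mulVec v₁) (M'.mulVec v₂) = dotProduct v₁ v₂ := by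
    rw [Matrix.dotProduct_mulVec, ← Matrix.vecMul_transpose, Matrix.vecMul_vecMul, h,
      Matrix.vecMul_one]
  exact h1

end h13blocks

theorem h13_good_a_minus_core {F : Type*} [Field F] (m : ℕ) (a b : F) (r i : ℕ) (hr : r ≠ 0)
    (hi : Odd i) (hid : i ≤ m) (A : GL (Fin i) F) (hA : A ^ r = 1) (f : F[X])
    (hf0 : aeval A.val f = 0) (hf1 : f.eval 1 ≠ 0)
    (hfu : IsUnit (aeval ((A⁻¹).val.transpose) f)) :
    ∃ x : GL ((Fin m ⊕ Fin m) ⊕ Fin 2) F,
      x ∈ Cfsg.isometryGroup F (Cfsg.quadFormMinus m F a b) ∧ x ^ r = 1 ∧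
      ∃ f : F[X], Odd (Module.finrank F (LinearMap.ker
        (aeval (Matrix.toLin' (x : Matrix ((Fin m ⊕ Fin m) ⊕ Fin 2) ((Fin m ⊕ Fin m) ⊕ Fin 2) F)) f))) := by
  classical
  -- index bookkeeping
  let e : Fin i ⊕ Fin (m - i) ≃ Fin m := finSumFinEquiv.trans (finCongr (by omega))
  let E : ((Fin i ⊕ Fin (m - i)) ⊕ (Fin i ⊕ Fin (m - i))) ⊕ Fin 2 ≃ (Fin m ⊕ Fin m) ⊕ Fin 2 :=
    (e.sumCongr e).sumCongr (Equiv.refl _)
  set A' : Matrix (Fin i) (Fin i) F := (A⁻¹).val.transpose with hA'
  have hAA' : A.val.transpose * A' = 1 := by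
    rw [hA', ← Matrix.transpose_mul, Units.inv_mul, Matrix.transpose_one]
  have hAr : A.val ^ r = 1 := by
    rw [← Units.val_pow_eq_pow_val, hA, Units.val_one]
  have hA'r : A' ^ r = 1 := by
    rw [hA', ← Matrix.transpose_pow, ← Units.val_pow_eq_pow_val, inv_pow, hA, inv_one,
      Units.val_one, Matrix.transpose_one]
  let M : Matrix (Fin i ⊕ Fin (m - i)) (Fin i ⊕ Fin (m - i)) F := Matrix.fromBlocks A.val 0 0 1
  let M' : Matrix (Fin i ⊕ Fin (m - i)) (Fin i ⊕ Fin (m - i)) F := Matrix.fromBlocks A' 0 0 1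
  have hMM' : M.transpose * M' = 1 := by
    simp only [M, M', Matrix.fromBlocks_transpose, Matrix.fromBlocks_multiply]
    simp [hAA', Matrix.fromBlocks_one]
  let X' : Matrix (((Fin i ⊕ Fin (m - i)) ⊕ (Fin i ⊕ Fin (m - i))) ⊕ Fin 2)
      (((Fin i ⊕ Fin (m - i)) ⊕ (Fin i ⊕ Fin (m - i))) ⊕ Fin 2) F :=
    Matrix.fromBlocks (Matrix.fromBlocks M 0 0 M') 0 0 1
  have hX'r : X' ^ r = 1 := by
    simp only [X', M, M', Matrix.fromBlocks_diagonal_pow, hAr, hA'r, one_pow, Matrix.fromBlocks_one]
  let Xm : Matrix ((Fin m ⊕ Fin m) ⊕ Fin 2) ((Fin m ⊕ Fin m) ⊕ Fin 2) F :=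
    Matrix.reindexAlgEquiv F F E X'
  have hXr : Xm ^ r = 1 := by
    simp only [Xm]
    rw [← map_pow, hX'r, map_one]
  have hXu : IsUnit Xm := IsUnit.of_pow_eq_one hXr hr
  refine ⟨hXu.unit, ?_, ?_, f, ?_⟩
  · -- isometry
    intro u v
    show Cfsg.quadFormMinus m F a b (Xm.mulVec u) = Cfsg.quadFormMinus m F a b u
    have hXu' : Xm.mulVec u = (X'.mulVec (u ∘ E)) ∘ E.symm := by
      simp only [Xm, Matrix.coe_reindexAlgEquiv, Matrix.reindex_apply]
      rw [Matrix.submatrix_mulVec_equiv]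
      rfl
    have hQ : ∀ w : ((Fin i ⊕ Fin (m - i)) ⊕ (Fin i ⊕ Fin (m - i))) ⊕ Fin 2 → F,
        Cfsg.quadFormMinus m F a b (w ∘ E.symm) =
          (∑ j, w (.inl (.inl j)) * w (.inl (.inr j))) +
            (w (.inr 0) ^ 2 + a * w (.inr 0) * w (.inr 1) + b * w (.inr 1) ^ 2) := by
      intro w
      unfold Cfsg.quadFormMinus
      congr 1
      rw [← Equiv.sum_comp e]
      apply Finset.sum_congr rfl
      intro j _
      simp [E]
    have hu : u = (u ∘ E) ∘ E.symm := by
      ext k
      simp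
    rw [hXu', hQ]
    conv_rhs => rw [hu, hQ]
    have hc1 : ∀ j, (X'.mulVec (u ∘ E)) (.inl (.inl j)) =
        (M.mulVec (fun j => (u ∘ E) (.inl (.inl j)))) j := by
      intro j
      simp only [X', Matrix.fromBlocks_mulVec]
      simp [Function.comp_def]
    have hc2 : ∀ j, (X'.mulVec (u ∘ E)) (.inl (.inr j)) =
        (M'.mulVec (fun j => (u ∘ E) (.inl (.inr j)))) j := by
      intro j
      simp only [X', Matrix.fromBlocks_mulVec]
      simp [Function.comp_def]
    have hc3 : ∀ t, (X'.mulVec (u ∘ E)) (.inr t) = (u ∘ E) (.inr t) := by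
      intro t
      simp only [X', Matrix.fromBlocks_mulVec]
      simp [Function.comp_def]
    rw [hc3 0, hc3 1]
    congr 1
    rw [Finset.sum_congr rfl (fun j _ => by rw [hc1 j, hc2 j])]
    exact h13_iso_blocks M M' hMM' _ _
  · -- order
    apply Units.ext
    rw [Units.val_pow_eq_pow_val, IsUnit.unit_spec, hXr, Units.val_one]
  · -- kernel
    rw [IsUnit.unit_spec]
    have hc : f.eval 1 ≠ 0 := hf1
    have h1 : aeval (Matrix.toLin' Xm) f = Matrix.toLin' (aeval Xm f) :=
      Polynomial.aeval_algHom_apply (Matrix.toLinAlgEquiv' : Matrix _ _ F ≃ₐ[F] _) Xm f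
    have h2 : aeval Xm f = Matrix.reindex E E (aeval X' f) := by
      simp only [Xm]
      rw [Polynomial.aeval_algHom_apply, Matrix.coe_reindexAlgEquiv]
    have h3 : aeval X' f =
        Matrix.fromBlocks
          (Matrix.fromBlocks
            (Matrix.fromBlocks (0 : Matrix (Fin i) (Fin i) F) 0 0
              ((f.eval 1) • (1 : Matrix (Fin (m - i)) (Fin (m - i)) F))) 0 0
            (Matrix.fromBlocks (aeval A' f) 0 0
              ((f.eval 1) • (1 : Matrix (Fin (m - i)) (Fin (m - i)) F)))) 0 0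
          ((f.eval 1) • (1 : Matrix (Fin 2) (Fin 2) F)) := by
      simp only [X', M, M', h13_aeval_fromBlocks, h13_aeval_one_matrix, hf0]
    rw [h1, h2, h13_finrank_ker_reindex, h3,
      h13_finrank_ker_fromBlocks _ _ (h13_inj_smul_one _ hc),
      h13_finrank_ker_fromBlocks _ _
        (h13_inj_fromBlocks _ _ (h13_inj_of_isUnit _ hfu) (h13_inj_smul_one _ hc)),
      h13_finrank_ker_fromBlocks _ _ (h13_inj_smul_one _ hc)]
    have h4 : LinearMap.ker (Matrix.toLin' (0 : Matrix (Fin i) (Fin i) F)) = ⊤ := by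
      rw [map_zero, LinearMap.ker_zero]
    rw [h4, finrank_top, Module.finrank_fintype_fun_eq_card, Fintype.card_fin]
    exact hi

end Cfsg.Agent.Lib.helper96.FE
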