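import Mathlib
import Cfsg.Prelude.Def_Classical
import Cfsg.Prelude.Def_GeometricClasses
import Cfsg.Agent.Lib.helper13.FeGOODAMcore

/-!
S5977 block B, piece GOODAP (core, racing copy by helper13): the plus-type analogue of
`h13_good_a_minus_core`.
-/

set_option autoImplicit false

namespace Cfsg.Agent.Lib.helper96.FE

open Polynomial

theorem h13_good_a_plus_core {F : Type*} [Field F] (d : ℕ) (r i : ℕ) (hr : r ≠ 0)
    (hi : Odd i) (hid : i ≤ d) (A : GL (Fin i) F) (hA : A ^ r = 1) (f : F[X])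
    (hf0 : aeval A.val f = 0) (hf1 : f.eval 1 ≠ 0)
    (hfu : IsUnit (aeval ((A⁻¹).val.transpose) f)) :
    ∃ x : GL (Fin d ⊕ Fin d) F, x ∈ Cfsg.isometryGroup F (Cfsg.quadFormPlus d F) ∧ x ^ r = 1 ∧
      ∃ f : F[X], Odd (Module.finrank F (LinearMap.ker
        (aeval (Matrix.toLin' (x : Matrix (Fin d ⊕ Fin d) (Fin d ⊕ Fin d) F)) f))) := by
  classical
  let e : Fin i ⊕ Fin (d - i) ≃ Fin d := finSumFinEquiv.trans (finCongr (by omega))
  let E : (Fin i ⊕ Fin (d - i)) ⊕ (Fin i ⊕ Fin (d - i)) ≃ Fin d ⊕ Fin d := e.sumCongr e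
  set A' : Matrix (Fin i) (Fin i) F := (A⁻¹).val.transpose with hA'
  have hAA' : A.val.transpose * A' = 1 := by
    rw [hA', ← Matrix.transpose_mul, Units.inv_mul, Matrix.transpose_one]
  have hAr : A.val ^ r = 1 := by
    rw [← Units.val_pow_eq_pow_val, hA, Units.val_one]
  have hA'r : A' ^ r = 1 := by
    rw [hA', ← Matrix.transpose_pow, ← Units.val_pow_eq_pow_val, inv_pow, hA, inv_one,
      Units.val_one, Matrix.transpose_one]
  let M : Matrix (Fin i ⊕ Fin (d - i)) (Fin i ⊕ Fin (d - i)) F := Matrix.fromBlocks A.val 0 0 1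
  let M' : Matrix (Fin i ⊕ Fin (d - i)) (Fin i ⊕ Fin (d - i)) F := Matrix.fromBlocks A' 0 0 1
  have hMM' : M.transpose * M' = 1 := by
    simp only [M, M', Matrix.fromBlocks_transpose, Matrix.fromBlocks_multiply]
    simp [hAA', Matrix.fromBlocks_one]
  let X' : Matrix ((Fin i ⊕ Fin (d - i)) ⊕ (Fin i ⊕ Fin (d - i)))
      ((Fin i ⊕ Fin (d - i)) ⊕ (Fin i ⊕ Fin (d - i))) F :=
    Matrix.fromBlocks M 0 0 M'
  have hX'r : X' ^ r = 1 := by
    simp only [X', M, M', Matrix.fromBlocks_diagonal_pow, hAr, hA'r, one_pow, Matrix.fromBlocks_one]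
  let Xm : Matrix (Fin d ⊕ Fin d) (Fin d ⊕ Fin d) F :=
    Matrix.reindexAlgEquiv F F E X'
  have hXr : Xm ^ r = 1 := by
    simp only [Xm]
    rw [← map_pow, hX'r, map_one]
  have hXu : IsUnit Xm := IsUnit.of_pow_eq_one hXr hr
  refine ⟨hXu.unit, ?_, ?_, f, ?_⟩
  · intro u v
    show Cfsg.quadFormPlus d F (Xm.mulVec u) = Cfsg.quadFormPlus d F u
    have hXu' : Xm.mulVec u = (X'.mulVec (u ∘ E)) ∘ E.symm := by
      simp only [Xm, Matrix.coe_reindexAlgEquiv, Matrix.reindex_apply]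
      rw [Matrix.submatrix_mulVec_equiv]
      rfl
    have hQ : ∀ w : (Fin i ⊕ Fin (d - i)) ⊕ (Fin i ⊕ Fin (d - i)) → F,
        Cfsg.quadFormPlus d F (w ∘ E.symm) = ∑ j, w (.inl j) * w (.inr j) := by
      intro w
      unfold Cfsg.quadFormPlus
      rw [← Equiv.sum_comp e]
      apply Finset.sum_congr rfl
      intro j _
      simp [E]
    have hu : u = (u ∘ E) ∘ E.symm := by
      ext k
      simp
    rw [hXu', hQ]
    conv_rhs => rw [hu, hQ]
    have hc1 : ∀ j, (X'.mulVec (u ∘ E)) (.inl j) =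
        (M.mulVec (fun j => (u ∘ E) (.inl j))) j := by
      intro j
      simp only [X', Matrix.fromBlocks_mulVec]
      simp [Function.comp_def]
    have hc2 : ∀ j, (X'.mulVec (u ∘ E)) (.inr j) =
        (M'.mulVec (fun j => (u ∘ E) (.inr j))) j := by
      intro j
      simp only [X', Matrix.fromBlocks_mulVec]
      simp [Function.comp_def]
    rw [Finset.sum_congr rfl (fun j _ => by rw [hc1 j, hc2 j])]
    exact h13_iso_blocks M M' hMM' _ _
  · apply Units.ext
    rw [Units.val_pow_eq_pow_val, IsUnit.unit_spec, hXr, Units.val_one]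
  · rw [IsUnit.unit_spec]
    have hc : f.eval 1 ≠ 0 := hf1
    have h1 : aeval (Matrix.toLin' Xm) f = Matrix.toLin' (aeval Xm f) :=
      Polynomial.aeval_algHom_apply (Matrix.toLinAlgEquiv' : Matrix _ _ F ≃ₐ[F] _) Xm f
    have h2 : aeval Xm f = Matrix.reindex E E (aeval X' f) := by
      simp only [Xm]
      rw [Polynomial.aeval_algHom_apply, Matrix.coe_reindexAlgEquiv]
    have h3 : aeval X' f =
        Matrix.fromBlocks
          (Matrix.fromBlocks (0 : Matrix (Fin i) (Fin i) F) 0 0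
            ((f.eval 1) • (1 : Matrix (Fin (d - i)) (Fin (d - i)) F))) 0 0
          (Matrix.fromBlocks (aeval A' f) 0 0
            ((f.eval 1) • (1 : Matrix (Fin (d - i)) (Fin (d - i)) F))) := by
      simp only [X', M, M', h13_aeval_fromBlocks, h13_aeval_one_matrix, hf0]
    rw [h1, h2, h13_finrank_ker_reindex, h3,
      h13_finrank_ker_fromBlocks _ _
        (h13_inj_fromBlocks _ _ (h13_inj_of_isUnit _ hfu) (h13_inj_smul_one _ hc)),
      h13_finrank_ker_fromBlocks _ _ (h13_inj_smul_one _ hc)]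
    have h4 : LinearMap.ker (Matrix.toLin' (0 : Matrix (Fin i) (Fin i) F)) = ⊤ := by
      rw [map_zero, LinearMap.ker_zero]
    rw [h4, finrank_top, Module.finrank_fintype_fun_eq_card, Fintype.card_fin]
    exact hi

end Cfsg.Agent.Lib.helper96.FE
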