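import Mathlib
import Cfsg.Prelude.Def_Classical
import Cfsg.Prelude.Def_GeometricClasses
import Cfsg.Agent.Lib.helper13.FeGOODAPcore
import Cfsg.Agent.Lib.helper61.FeAGL
import Cfsg.Agent.Lib.helper61.FeAKER

/-!
S5977 block B, piece GOODAP (racing copy by helper13): case (a), plus type.
-/

set_option autoImplicit false

namespace Cfsg.Agent.Lib.helper96.FE

open Polynomial

/-- GOODAP (L; uses AGL, AKER): case (a), plus type. -/
theorem h13_fe_good_a_plus {F : Type*} [Field F] [Fintype F] (d : ℕ) (r : ℕ) [Fact r.Prime]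
    (hr2 : r ≠ 2) (hrF : (r : F) ≠ 0)
    (hi : Odd (orderOf ((Fintype.card F : ℕ) : ZMod r)))
    (hid : orderOf ((Fintype.card F : ℕ) : ZMod r) ≤ d) :
    ∃ x : GL (Fin d ⊕ Fin d) F, x ∈ Cfsg.isometryGroup F (Cfsg.quadFormPlus d F) ∧ x ^ r = 1 ∧
      ∃ f : F[X], Odd (Module.finrank F (LinearMap.ker
        (aeval (Matrix.toLin' (x : Matrix (Fin d ⊕ Fin d) (Fin d ⊕ Fin d) F)) f))) := by
  obtain ⟨A, hA⟩ := fe_gl_elt (F := F) r hrF
  obtain ⟨f, hf0, hf1, hfu⟩ := fe_gl_poly r hr2 hrF hi A hA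
  have hAr : A ^ r = 1 := by
    have h := pow_orderOf_eq_one A
    rwa [hA] at h
  exact h13_good_a_plus_core d r _ (Fact.out : r.Prime).ne_zero hi hid A
    hAr f hf0 hf1 hfu

end Cfsg.Agent.Lib.helper96.FE
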