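import Mathlib

set_option autoImplicit false

namespace Cfsg.Agent.Lib.helper13

open MulAction

/-- If a finite group `K` acts on a finite set `X` with a global fixed point, and every nonidentity
element fixes at most one point, then `|X| ≡ 1 mod |K|`. -/
theorem card_modEq_one_of_fixed_point (K X : Type*) [Group K] [MulAction K X] [Finite K] [Finite X]
    (x₀ : X) (hx₀ : ∀ k : K, k • x₀ = x₀)
    (huniq : ∀ k : K, k ≠ 1 → ∀ x y : X, k • x = x → k • y = y → x = y) :
    Nat.card X ≡ 1 [MOD Nat.card K] := by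
  classical
  have := Fintype.ofFinite K
  have := Fintype.ofFinite X
  have hB := MulAction.sum_card_fixedBy_eq_card_orbits_mul_card_group K X
  have h1 : Fintype.card (fixedBy X (1 : K)) = Fintype.card X := by
    apply Fintype.card_congr
    exact ⟨fun x => x.1, fun x => ⟨x, by simp⟩, fun x => rfl, fun x => rfl⟩
  have h2 : ∀ k ∈ (Finset.univ : Finset K).erase 1, Fintype.card (fixedBy X k) = 1 := by
    intro k hk
    have hk1 : k ≠ 1 := Finset.ne_of_mem_erase hk
    rw [Fintype.card_eq_one_iff]
    exact ⟨⟨x₀, hx₀ k⟩, fun ⟨y, hy⟩ => Subtype.ext (huniq k hk1 y x₀ hy (hx₀ k))⟩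
  rw [← Finset.add_sum_erase _ _ (Finset.mem_univ (1 : K)), h1, Finset.sum_congr rfl h2,
    Finset.sum_const, Finset.card_erase_of_mem (Finset.mem_univ _), Finset.card_univ, smul_eq_mul,
    mul_one] at hB
  rw [Nat.card_eq_fintype_card, Nat.card_eq_fintype_card]
  have hKpos : 0 < Fintype.card K := Fintype.card_pos
  have hXpos : 0 < Fintype.card X := Fintype.card_pos_iff.mpr ⟨x₀⟩
  set t := Fintype.card (Quotient (MulAction.orbitRel K X)) with ht
  have ht1 : 1 ≤ t := by
    rcases Nat.eq_zero_or_pos t with h0 | h0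
    · rw [h0, zero_mul] at hB; omega
    · exact h0
  obtain ⟨s, hs⟩ : ∃ s, t = s + 1 := ⟨t - 1, by omega⟩
  rw [hs, add_mul, one_mul] at hB
  refine ((Nat.modEq_iff_dvd' hXpos).mpr ⟨s, ?_⟩).symm
  rw [mul_comm]
  omega

/-- If a finite group `K` acts on a finite nonempty set `X` such that every nonidentity element
fixes at most one point and `|X| ≡ 1 mod |K|`, then `K` has a global fixed point. -/
theorem exists_fixed_point_of_card_modEq_one (K X : Type*) [Group K] [MulAction K X] [Finite K]
    [Finite X] [Nonempty X]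
    (huniq : ∀ k : K, k ≠ 1 → ∀ x y : X, k • x = x → k • y = y → x = y)
    (hmod : Nat.card X ≡ 1 [MOD Nat.card K]) : ∃ x : X, ∀ k : K, k • x = x := by
  classical
  have := Fintype.ofFinite K
  have := Fintype.ofFinite X
  rw [Nat.card_eq_fintype_card, Nat.card_eq_fintype_card] at hmod
  have hKpos : 0 < Fintype.card K := Fintype.card_pos
  have hXpos : 0 < Fintype.card X := Fintype.card_pos
  by_cases hK1 : Fintype.card K = 1
  · obtain ⟨x⟩ := ‹Nonempty X›
    refine ⟨x, fun k => ?_⟩
    have : k = 1 := (Fintype.card_le_one_iff.mp (le_of_eq hK1)) k 1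
    rw [this, one_smul]
  have hK2 : 2 ≤ Fintype.card K := by omega
  have hB := MulAction.sum_card_fixedBy_eq_card_orbits_mul_card_group K X
  have h1 : Fintype.card (fixedBy X (1 : K)) = Fintype.card X := by
    apply Fintype.card_congr
    exact ⟨fun x => x.1, fun x => ⟨x, by simp⟩, fun x => rfl, fun x => rfl⟩
  have h2 : ∀ k ∈ (Finset.univ : Finset K).erase 1, Fintype.card (fixedBy X k) ≤ 1 := by
    intro k hk
    have hk1 : k ≠ 1 := Finset.ne_of_mem_erase hk
    rw [Fintype.card_le_one_iff]
    rintro ⟨x, hx⟩ ⟨y, hy⟩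
    exact Subtype.ext (huniq k hk1 x y hx hy)
  have hP : ∑ k ∈ (Finset.univ : Finset K).erase 1, Fintype.card (fixedBy X k)
      ≤ Fintype.card K - 1 := by
    calc ∑ k ∈ (Finset.univ : Finset K).erase 1, Fintype.card (fixedBy X k)
        ≤ ((Finset.univ : Finset K).erase 1).card • 1 := Finset.sum_le_card_nsmul _ _ _ h2
      _ = Fintype.card K - 1 := by
        rw [Finset.card_erase_of_mem (Finset.mem_univ _), Finset.card_univ, smul_eq_mul, mul_one]
  rw [← Finset.add_sum_erase _ _ (Finset.mem_univ (1 : K)), h1] at hB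
  set P := ∑ k ∈ (Finset.univ : Finset K).erase 1, Fintype.card (fixedBy X k) with hPdef
  set t := Fintype.card (Quotient (MulAction.orbitRel K X)) with ht
  set cK := Fintype.card K with hcK
  set n := Fintype.card X with hn
  -- P = cK - 1
  have hdvd : cK ∣ 1 + P := by
    have h3 : cK ∣ n + P := ⟨t, by rw [hB, mul_comm]⟩
    have h4 : cK ∣ n - 1 := (Nat.modEq_iff_dvd' hXpos).mp hmod.symm
    have h5 : n + P = (n - 1) + (1 + P) := by omega
    rw [h5] at h3
    exact (Nat.dvd_add_right h4).mp h3
  have hPeq : 1 + P = cK := by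
    have := Nat.le_of_dvd (by omega) hdvd
    omega
  -- class formula
  have hC : n = ∑ ω : Quotient (orbitRel K X), (stabilizer K ω.out).index := by
    rw [hn, Fintype.card_congr (MulAction.selfEquivSigmaOrbitsQuotientStabilizer K X),
      Fintype.card_sigma]
    apply Finset.sum_congr rfl
    intro ω _
    rw [Subgroup.index, Nat.card_eq_fintype_card]
  have hidx_dvd : ∀ ω : Quotient (orbitRel K X), (stabilizer K ω.out).index ∣ cK := by
    intro ω
    have := Subgroup.index_dvd_card (stabilizer K ω.out)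
    rwa [Nat.card_eq_fintype_card] at this
  have hidx_pos : ∀ ω : Quotient (orbitRel K X), 0 < (stabilizer K ω.out).index := by
    intro ω
    exact Nat.pos_of_ne_zero Subgroup.index_ne_zero_of_finite
  have hidx_le : ∀ ω : Quotient (orbitRel K X), (stabilizer K ω.out).index ≤ cK :=
    fun ω => Nat.le_of_dvd hKpos (hidx_dvd ω)
  set g : Quotient (orbitRel K X) → ℕ := fun ω => cK - (stabilizer K ω.out).index with hg
  have hsum : ∑ ω : Quotient (orbitRel K X), g ω + n = t * cK := by
    rw [hC, ← Finset.sum_add_distrib]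
    have : ∀ ω ∈ (Finset.univ : Finset (Quotient (orbitRel K X))),
        g ω + (stabilizer K ω.out).index = cK := by
      intro ω _
      have := hidx_le ω
      simp only [hg]
      omega
    rw [Finset.sum_congr rfl this, Finset.sum_const, Finset.card_univ, smul_eq_mul]
  have hsum' : ∑ ω : Quotient (orbitRel K X), g ω = cK - 1 := by omega
  have hkey : ∀ ω : Quotient (orbitRel K X), 0 < g ω → cK ≤ 2 * g ω := by
    intro ω hpos
    obtain ⟨c, hc⟩ := hidx_dvd ω
    have hlt : (stabilizer K ω.out).index < cK := by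
      simp only [hg] at hpos; omega
    have hc2 : 2 ≤ c := by
      by_contra hc2
      have hc01 : c = 0 ∨ c = 1 := by omega
      rcases hc01 with h0 | h0
      · rw [h0, mul_zero] at hc; omega
      · rw [h0, mul_one] at hc; omega
    have h6 : (stabilizer K ω.out).index * 2 ≤ cK := by
      calc (stabilizer K ω.out).index * 2 ≤ (stabilizer K ω.out).index * c :=
            Nat.mul_le_mul_left _ hc2
        _ = cK := hc.symm
    simp only [hg]
    omega
  obtain ⟨ω₀, hω₀⟩ : ∃ ω₀, 0 < g ω₀ := by
    by_contra hcon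
    push Not at hcon
    have : ∑ ω : Quotient (orbitRel K X), g ω = 0 :=
      Finset.sum_eq_zero (fun ω _ => Nat.le_zero.mp (hcon ω))
    omega
  have hzero : ∀ ω : Quotient (orbitRel K X), ω ≠ ω₀ → g ω = 0 := by
    intro ω hne
    by_contra hpos
    have hpos' : 0 < g ω := Nat.pos_of_ne_zero hpos
    have h7 := hkey ω hpos'
    have h8 := hkey ω₀ hω₀
    have h9 : g ω₀ + g ω ≤ ∑ ω : Quotient (orbitRel K X), g ω := by
      rw [← Finset.sum_pair (f := g) hne.symm]
      exact Finset.sum_le_sum_of_subset (Finset.subset_univ _)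
    omega
  have hsingle : ∑ ω : Quotient (orbitRel K X), g ω = g ω₀ :=
    Finset.sum_eq_single ω₀ (fun b _ hb => hzero b hb) (fun h => absurd (Finset.mem_univ _) h)
  have hidx1 : (stabilizer K ω₀.out).index = 1 := by
    have h10 : g ω₀ = cK - 1 := by omega
    have := hidx_pos ω₀
    have := hidx_le ω₀
    simp only [hg] at h10
    omega
  have htop := Subgroup.index_eq_one.mp hidx1
  refine ⟨ω₀.out, fun k => ?_⟩
  have : k ∈ stabilizer K ω₀.out := by rw [htop]; trivial
  exact this

end Cfsg.Agent.Lib.helper13
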