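import Mathlib

/-!
S1906 split (helper38), PIECE IX (helper13): a homomorphism to the units of a field taking the
value `-1 ≠ 1` yields a subgroup of index 2.
-/

set_option autoImplicit false

namespace Cfsg.Agent.Lib.helper13.G3

/-- PIECE IX. A homomorphism to the units of a field taking the value `-1 ≠ 1` yields a subgroup
of index 2. -/
theorem index_two_of_hom {G : Type*} [Group G] [Finite G] {F : Type*} [Field F]
    (h2 : (2 : F) ≠ 0) (V : G →* Fˣ) (z : G) (hV : V z = -1) :
    ∃ H : Subgroup G, H.index = 2 := by
  classical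
  have hfin : Finite V.range := Finite.of_surjective V.rangeRestrict V.rangeRestrict_surjective
  let sq : V.range →* Fˣ := (powMonoidHom 2 : Fˣ →* Fˣ).comp V.range.subtype
  have hsq : ∀ c : V.range, sq c = (c : Fˣ) ^ 2 := fun c => rfl
  refine ⟨sq.range.comap V, ?_⟩
  rw [Subgroup.index_comap]
  have hle : sq.range ≤ V.range := by
    rintro _ ⟨c, rfl⟩
    rw [hsq]
    exact V.range.pow_mem c.2 2
  have hneg : (-1 : Fˣ) ≠ 1 := by
    intro h
    have h' : ((-1 : Fˣ) : F) = ((1 : Fˣ) : F) := congrArg Units.val h
    rw [Units.val_neg, Units.val_one] at h'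
    apply h2
    have : (2 : F) = 1 - (-1) := by ring
    rw [this, h', sub_self]
  have hm1 : (-1 : Fˣ) ∈ V.range := ⟨z, hV⟩
  have hker : Nat.card sq.ker = 2 := by
    rw [Nat.card_eq_two_iff]
    have hk1 : (⟨-1, hm1⟩ : V.range) ∈ sq.ker := by
      rw [MonoidHom.mem_ker, hsq]
      simp
    refine ⟨1, ⟨⟨-1, hm1⟩, hk1⟩, ?_, ?_⟩
    · intro h
      have h' := congrArg (fun c : sq.ker => ((c : V.range) : Fˣ)) h
      simp only [OneMemClass.coe_one] at h'
      exact hneg h'.symm
    · ext c
      simp only [Set.mem_insert_iff, Set.mem_singleton_iff, Set.mem_univ, iff_true]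
      have hc := c.2
      rw [MonoidHom.mem_ker, hsq] at hc
      have hc' : (((c : V.range) : Fˣ) : F) ^ 2 = 1 := by
        rw [← Units.val_pow_eq_pow_val, hc, Units.val_one]
      rcases sq_eq_one_iff.1 hc' with h | h
      · left
        apply Subtype.ext
        apply Subtype.ext
        apply Units.ext
        simpa using h
      · right
        apply Subtype.ext
        apply Subtype.ext
        apply Units.ext
        simpa using h
  have h1 : Nat.card sq.ker * Nat.card sq.range = Nat.card V.range := by
    rw [← Subgroup.index_ker]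
    exact Subgroup.card_mul_index _
  have h3 : Nat.card sq.range * sq.range.relIndex V.range = Nat.card V.range := by
    have := Subgroup.relIndex_mul_relIndex ⊥ sq.range V.range bot_le hle
    rwa [Subgroup.relIndex_bot_left, Subgroup.relIndex_bot_left] at this
  have hfin2 : Finite sq.range := Finite.of_surjective sq.rangeRestrict sq.rangeRestrict_surjective
  have hpos : 0 < Nat.card sq.range := Nat.card_pos
  rw [hker] at h1
  have h4 : Nat.card sq.range * sq.range.relIndex V.range = Nat.card sq.range * 2 := by
    rw [h3, ← h1, mul_comm]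
  exact Nat.eq_of_mul_eq_mul_left hpos h4

end Cfsg.Agent.Lib.helper13.G3

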