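import Mathlib
import Cfsg.Agent.Lib.helper37.Transfer

/-!
S1906 split (helper38), PIECE TR (helper13): transfer of a linear character at a central
involution of a Sylow 2-subgroup.
-/

set_option autoImplicit false

namespace Cfsg.Agent.Lib.helper13.G3

open Subgroup MulAction

/-- A product of elements each equal to `1` or `-1`-like: abstract parity lemma.  `σ` is an
involution of a finite set, `f` takes values in a commutative group with `f x * f (σ x) = 1`
everywhere, `e` is an element with `e * e = 1`, and `f x = e` exactly on a set `P` of fixed points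
of `σ` of odd cardinality, while `f x = 1` on the other fixed points.  Then `∏ f = e`. -/
theorem tr_prod_eq {Ω A : Type*} [Fintype Ω] [DecidableEq Ω] [CommGroup A]
    (σ : Ω → Ω) (hσ : ∀ x, σ (σ x) = x) (f : Ω → A) (e : A) (he : e * e = 1)
    (P : Ω → Prop) [DecidablePred P]
    (hpair : ∀ x, f x * f (σ x) = 1)
    (hP : ∀ x, P x → σ x = x ∧ f x = e)
    (hnP : ∀ x, σ x = x → ¬ P x → f x = 1)
    (hodd : Odd (Finset.univ.filter P).card) : ∏ x, f x = e := by
  rw [← Finset.prod_filter_mul_prod_filter_not Finset.univ P f]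
  have h1 : ∏ x ∈ Finset.univ.filter P, f x = e := by
    have h : ∏ x ∈ Finset.univ.filter P, f x = ∏ _x ∈ Finset.univ.filter P, e :=
      Finset.prod_congr rfl (fun x hx => (hP x (Finset.mem_filter.1 hx).2).2)
    rw [h, Finset.prod_const]
    obtain ⟨k, hk⟩ := hodd
    rw [hk, pow_succ, pow_mul, pow_two, he, one_pow, one_mul]
  have h2 : ∏ x ∈ Finset.univ.filter (fun x => ¬ P x), f x = 1 := by
    apply Finset.prod_involution (fun x _ => σ x)
    · intro a _
      exact hpair a
    · intro a ha hne hfix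
      simp only [Finset.mem_filter, Finset.mem_univ, true_and] at ha
      exact hne (hnP a hfix ha)
    · intro a ha
      simp only [Finset.mem_filter, Finset.mem_univ, true_and] at ha ⊢
      intro hPσ
      have := (hP _ hPσ).1
      rw [hσ] at this
      rw [← this] at hPσ
      exact ha hPσ
    · intro a _
      exact hσ a
  rw [h1, h2, mul_one]

/-- For a `p`-group acting on a finite set, an invariant subset containing all the fixed points
has the cardinality of the whole set modulo `p`. -/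
theorem tr_card_invariant_modEq {p : ℕ} [Fact p.Prime] {G : Type*} [Group G] (hG : IsPGroup p G)
    {Y : Type*} [MulAction G Y] [Finite Y] (P : Y → Prop)
    (hinv : ∀ (g : G) (y : Y), P y → P (g • y))
    (hfix : ∀ y : Y, (∀ g : G, g • y = y) → P y) :
    Nat.card {y : Y // P y} ≡ Nat.card Y [MOD p] := by
  let M : SubMulAction G Y := ⟨{y | P y}, fun g y hy => hinv g y hy⟩
  have h1 : Nat.card M ≡ Nat.card (MulAction.fixedPoints G M) [MOD p] :=
    hG.card_modEq_card_fixedPoints M
  have h2 := hG.card_modEq_card_fixedPoints Y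
  have e : Nat.card (MulAction.fixedPoints G M) = Nat.card (MulAction.fixedPoints G Y) :=
    Nat.card_congr
      { toFun := fun m => ⟨(m.1 : Y), fun g => congrArg Subtype.val (m.2 g)⟩
        invFun := fun y => ⟨⟨y.1, hfix y.1 y.2⟩, fun g => Subtype.ext (y.2 g)⟩
        left_inv := fun m => rfl
        right_inv := fun y => rfl }
  rw [e] at h1
  exact h1.trans h2.symm

/-- PIECE TR. Transfer of a linear character at a central involution of a Sylow 2-subgroup. -/
theorem transfer_neg_one {G : Type*} [Group G] [Finite G] (X : Sylow 2 G) {F : Type*} [Field F]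
    (φ : ↥(X : Subgroup G) →* Fˣ) (z : G) (hzX : z ∈ (X : Subgroup G)) (hz2 : z * z = 1)
    (hzc : ∀ x ∈ (X : Subgroup G), x * z = z * x)
    (hN : ∀ n : G, (∀ x ∈ (X : Subgroup G), n⁻¹ * x * n ∈ (X : Subgroup G)) →
      ∀ h : n⁻¹ * z * n ∈ (X : Subgroup G), φ ⟨n⁻¹ * z * n, h⟩ = -1) :
    ∃ V : G →* Fˣ, V z = -1 := by
  classical
  have hFT : Fintype (G ⧸ (X : Subgroup G)) := Fintype.ofFinite _
  refine ⟨MonoidHom.transfer φ, ?_⟩
  have hzinv : z⁻¹ = z := inv_eq_of_mul_eq_one_left hz2
  -- the section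
  let r : G ⧸ (X : Subgroup G) → G := fun q => q.out
  have hr : ∀ q, ((r q : G) : G ⧸ (X : Subgroup G)) = q := fun q => QuotientGroup.out_eq' q
  rw [Cfsg.Agent.Lib.helper37.transfer_eq_prod_section φ r hr z]
  -- the elements of `X`
  let t : G ⧸ (X : Subgroup G) → ↥(X : Subgroup G) := fun q =>
    ⟨(r q)⁻¹ * (z * r (z⁻¹ • q)), Cfsg.Agent.Lib.helper37.section_mem r hr z q⟩
  have ht : ∀ q, ((t q : ↥(X : Subgroup G)) : G) = (r q)⁻¹ * (z * r (z⁻¹ • q)) := fun q => rfl
  let σ : G ⧸ (X : Subgroup G) → G ⧸ (X : Subgroup G) := fun q => z⁻¹ • q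
  have hσ : ∀ q, σ (σ q) = q := by
    intro q
    show z⁻¹ • z⁻¹ • q = q
    rw [smul_smul, hzinv, hz2, one_smul]
  have hpair : ∀ q, φ (t q) * φ (t (σ q)) = 1 := by
    intro q
    rw [← map_mul]
    have : t q * t (σ q) = 1 := by
      apply Subtype.ext
      rw [Subgroup.coe_mul, ht, ht, Subgroup.coe_one]
      have h1 : z⁻¹ • σ q = q := hσ q
      rw [h1]
      show (r q)⁻¹ * (z * r (σ q)) * ((r (σ q))⁻¹ * (z * r q)) = 1
      calc (r q)⁻¹ * (z * r (σ q)) * ((r (σ q))⁻¹ * (z * r q))
          = (r q)⁻¹ * (z * z) * r q := by group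
        _ = 1 := by rw [hz2]; group
    rw [this, map_one]
  -- the set `Ω`
  let P : G ⧸ (X : Subgroup G) → Prop := fun q => σ q = q ∧ φ (t q) = -1
  have hsq : ∀ q, σ q = q → φ (t q) = 1 ∨ φ (t q) = -1 := by
    intro q hq
    have h := hpair q
    rw [hq] at h
    have h' : ((φ (t q) : Fˣ) : F) * ((φ (t q) : Fˣ) : F) = 1 := by
      rw [← Units.val_mul, h, Units.val_one]
    rcases mul_self_eq_one_iff.1 h' with h1 | h1
    · left
      exact Units.ext (by simpa using h1)
    · right
      exact Units.ext (by simpa using h1)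
  -- invariance of `Ω` under `X`
  have hinv : ∀ (x : ↥(X : Subgroup G)) (q : G ⧸ (X : Subgroup G)), P q → P (x • q) := by
    intro x q hq
    obtain ⟨hq1, hq2⟩ := hq
    have hxz : (x : G) * z⁻¹ = z⁻¹ * (x : G) := by
      rw [hzinv]
      exact hzc x x.2
    have hfix : σ (x • q) = x • q := by
      show z⁻¹ • ((x : G) • q) = (x : G) • q
      rw [smul_smul, ← hxz, ← smul_smul]
      have : z⁻¹ • q = q := hq1
      rw [this]
    refine ⟨hfix, ?_⟩
    -- `r (x • q) = x * r q * h` with `h ∈ X`
    have hmem : ((x : G) * r q)⁻¹ * r (x • q) ∈ (X : Subgroup G) := by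
      rw [← QuotientGroup.eq, hr]
      show (x : G) • ((r q : G) : G ⧸ (X : Subgroup G)) = x • q
      rw [hr]
      rfl
    let h : ↥(X : Subgroup G) := ⟨((x : G) * r q)⁻¹ * r (x • q), hmem⟩
    have hrx : r (x • q) = (x : G) * r q * (h : G) := by
      show r (x • q) = (x : G) * r q * (((x : G) * r q)⁻¹ * r (x • q))
      group
    have hteq : t (x • q) = h⁻¹ * t q * h := by
      apply Subtype.ext
      rw [Subgroup.coe_mul, Subgroup.coe_mul, Subgroup.coe_inv, ht, ht]
      have h1 : z⁻¹ • (x • q) = x • q := hfix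
      have h2 : z⁻¹ • q = q := hq1
      rw [h1, h2, hrx]
      have hxz' : (x : G)⁻¹ * z * (x : G) = z := by
        rw [mul_assoc, ← hzc x x.2, inv_mul_cancel_left]
      calc ((x : G) * r q * (h : G))⁻¹ * (z * ((x : G) * r q * (h : G)))
          = (h : G)⁻¹ * ((r q)⁻¹ * (((x : G)⁻¹ * z * (x : G)) * r q)) * (h : G) := by group
        _ = (h : G)⁻¹ * ((r q)⁻¹ * (z * r q)) * (h : G) := by rw [hxz']
    rw [hteq, map_mul, map_mul, map_inv, mul_comm, mul_inv_cancel_left, hq2]
  -- `Ω` contains the fixed points of `X`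
  have hfixP : ∀ q : G ⧸ (X : Subgroup G), (∀ x : ↥(X : Subgroup G), x • q = q) → P q := by
    intro q hq
    have h1 : σ q = q := by
      have := hq ⟨z⁻¹, (X : Subgroup G).inv_mem hzX⟩
      exact this
    refine ⟨h1, ?_⟩
    have hn : ∀ x ∈ (X : Subgroup G), (r q)⁻¹ * x * r q ∈ (X : Subgroup G) := by
      intro x hx
      have h2 := hq ⟨x, hx⟩
      rw [mul_assoc, ← QuotientGroup.eq, hr]
      have h4 : (((x * r q : G)) : G ⧸ (X : Subgroup G)) =
          x • ((r q : G) : G ⧸ (X : Subgroup G)) := rfl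
      rw [h4, hr]
      exact h2.symm
    have h3 := hN (r q) hn (hn z hzX)
    rw [← h3]
    congr 1
    apply Subtype.ext
    show (r q)⁻¹ * (z * r (z⁻¹ • q)) = (r q)⁻¹ * z * r q
    have h2 : z⁻¹ • q = q := h1
    rw [h2, mul_assoc]
  -- parity
  have hp2 : Fact (Nat.Prime 2) := ⟨Nat.prime_two⟩
  have hmod := tr_card_invariant_modEq (p := 2) X.isPGroup' P hinv hfixP
  have hodd : Odd (Finset.univ.filter P).card := by
    have hc : Nat.card {q : G ⧸ (X : Subgroup G) // P q} = (Finset.univ.filter P).card := by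
      rw [Nat.card_eq_fintype_card, Fintype.card_subtype]
    rw [hc] at hmod
    have hidx : ¬ 2 ∣ Nat.card (G ⧸ (X : Subgroup G)) := by
      have := X.not_dvd_index
      rwa [Subgroup.index] at this
    rw [← Nat.not_even_iff_odd, even_iff_two_dvd]
    intro hdvd
    apply hidx
    exact (Nat.ModEq.dvd_iff hmod (dvd_refl 2)).1 hdvd
  have hneg : (-1 : Fˣ) * (-1) = 1 := by simp
  exact tr_prod_eq σ hσ (fun q => φ (t q)) (-1) hneg P hpair (fun q hq => hq)
    (fun q hq hnq => (hsq q hq).resolve_right (fun h => hnq ⟨hq, h⟩)) hodd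

end Cfsg.Agent.Lib.helper13.G3

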