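import Mathlib
import Cfsg.Agent.Lib.helper3.GfDefs
import Cfsg.Agent.Lib.helper73.GfIRRDIM

/-! S4395, piece IRRMATCH (racing copy): two irreducible `(p, q)`-modules are isomorphic up to
replacing the generator by a power prime to `q`. -/

set_option autoImplicit false

namespace Cfsg.Agent.Lib.helper3.Gf

open Polynomial

/-- An irreducible module is a quotient field of `(ZMod p)[X]`, with `T` acting as `X`
(version with a given `ZMod p`-module structure). -/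
theorem h13_irr_model_aux (p : ℕ) [Fact p.Prime] {V : Type*} [AddCommGroup V]
    [Module (ZMod p) V] (T : V ≃+ V) (hne : ∃ v : V, T v ≠ v)
    (hirr : ∀ W : AddSubgroup V, (∀ w ∈ W, T w ∈ W) → W = ⊥ ∨ W = ⊤) :
    ∃ (I : Ideal (ZMod p)[X]) (_ : I.IsMaximal) (e : V ≃+ (ZMod p)[X] ⧸ I),
      ∀ v, e (T v) = Ideal.Quotient.mk I X * e v := by
  classical
  obtain ⟨φ, hφ⟩ : ∃ φ : V →ₗ[ZMod p] V, ∀ v, φ v = T v :=
    ⟨T.toAddMonoidHom.toZModLinearMap p, fun v => rfl⟩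
  have hnt : Nontrivial V := by
    obtain ⟨v, hv⟩ := hne
    exact ⟨⟨T v, v, hv⟩⟩
  have hX : ∀ w : V, Module.AEval'.of φ (T w) = (X : (ZMod p)[X]) • Module.AEval'.of φ w := by
    intro w
    rw [Module.AEval'.X_smul_of φ w, hφ]
  have hnt' : Nontrivial (Module.AEval' φ) := hnt
  have hso : IsSimpleOrder (Submodule (ZMod p)[X] (Module.AEval' φ)) := by
    refine ⟨?_⟩
    intro S
    have hW := hirr (S.toAddSubgroup.comap (Module.AEval'.of φ).toAddMonoidHom) (by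
      intro w hw
      show Module.AEval'.of φ (T w) ∈ S
      rw [hX]
      exact S.smul_mem _ hw)
    rcases hW with hW | hW
    · left
      rw [eq_bot_iff]
      intro m hm
      have h2 : (Module.AEval'.of φ).symm m ∈
          S.toAddSubgroup.comap (Module.AEval'.of φ).toAddMonoidHom := by
        show Module.AEval'.of φ ((Module.AEval'.of φ).symm m) ∈ S
        rw [LinearEquiv.apply_symm_apply]; exact hm
      rw [hW, AddSubgroup.mem_bot] at h2
      have h3 : m = 0 := by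
        have h4 := congrArg (Module.AEval'.of φ) h2
        rwa [LinearEquiv.apply_symm_apply, map_zero] at h4
      rw [h3]; exact Submodule.zero_mem _
    · right
      rw [eq_top_iff]
      intro m _
      have h2 : (Module.AEval'.of φ).symm m ∈
          S.toAddSubgroup.comap (Module.AEval'.of φ).toAddMonoidHom := by
        rw [hW]; trivial
      have h3 : Module.AEval'.of φ ((Module.AEval'.of φ).symm m) ∈ S := h2
      rwa [LinearEquiv.apply_symm_apply] at h3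
  have hsimple : IsSimpleModule (ZMod p)[X] (Module.AEval' φ) := IsSimpleModule.mk
  obtain ⟨I, hI, ⟨e⟩⟩ := (isSimpleModule_iff_quot_maximal).mp hsimple
  refine ⟨I, hI, ((Module.AEval'.of φ).toAddEquiv).trans e.toAddEquiv, ?_⟩
  intro v
  show e (Module.AEval'.of φ (T v)) = Ideal.Quotient.mk I X * e (Module.AEval'.of φ v)
  rw [hX, map_smul]
  obtain ⟨r, hr⟩ := Ideal.Quotient.mk_surjective (e (Module.AEval'.of φ v))
  rw [← hr]
  rfl

/-- An irreducible module is a quotient field of `(ZMod p)[X]`, with `T` acting as `X`. -/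
theorem h13_irr_model (p q : ℕ) [Fact p.Prime] {V : Type*} [AddCommGroup V]
    (T : V ≃+ V) (h : Irr p q T) :
    ∃ (I : Ideal (ZMod p)[X]) (_ : I.IsMaximal) (e : V ≃+ (ZMod p)[X] ⧸ I),
      ∀ v, e (T v) = Ideal.Quotient.mk I X * e v :=
  @h13_irr_model_aux p _ V _ (AddCommGroup.zmodModule h.exp) T h.ne h.irr

/-- PIECE IRRMATCH (racing copy). -/
theorem h13_irr_match (p q : ℕ) [Fact p.Prime] [Fact q.Prime] (hpq : p ≠ q) {V₁ V₂ : Type*}
    [AddCommGroup V₁] [Finite V₁] [AddCommGroup V₂] [Finite V₂]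
    (T₁ : V₁ ≃+ V₁) (T₂ : V₂ ≃+ V₂) (h₁ : Irr p q T₁) (h₂ : Irr p q T₂) :
    ∃ (m : ℕ) (ψ : V₁ ≃+ V₂), ¬ q ∣ m ∧ ∀ v : V₁, ψ (T₁ v) = (⇑T₂)^[m] (ψ v) := by
  classical
  obtain ⟨I₁, hI₁, e₁, he₁⟩ := h13_irr_model p q T₁ h₁
  obtain ⟨I₂, hI₂, e₂, he₂⟩ := h13_irr_model p q T₂ h₂
  let _ : Field ((ZMod p)[X] ⧸ I₁) := Ideal.Quotient.field I₁
  let _ : Field ((ZMod p)[X] ⧸ I₂) := Ideal.Quotient.field I₂
  have hfin₁ : Finite ((ZMod p)[X] ⧸ I₁) := Finite.of_equiv V₁ e₁.toEquiv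
  have hfin₂ : Finite ((ZMod p)[X] ⧸ I₂) := Finite.of_equiv V₂ e₂.toEquiv
  let _ : Fintype ((ZMod p)[X] ⧸ I₁) := Fintype.ofFinite _
  let _ : Fintype ((ZMod p)[X] ⧸ I₂) := Fintype.ofFinite _
  have hcard : Fintype.card ((ZMod p)[X] ⧸ I₁) = Fintype.card ((ZMod p)[X] ⧸ I₂) := by
    rw [← Nat.card_eq_fintype_card, ← Nat.card_eq_fintype_card, ← Nat.card_congr e₁.toEquiv,
      ← Nat.card_congr e₂.toEquiv, h73_irr_card p q hpq T₁ h₁, h73_irr_card p q hpq T₂ h₂]
  obtain ⟨ι⟩ : Nonempty (((ZMod p)[X] ⧸ I₁) ≃+* ((ZMod p)[X] ⧸ I₂)) :=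
    ⟨FiniteField.ringEquivOfCardEq hcard⟩
  have hit₁ : ∀ (k : ℕ) (v : V₁), e₁ ((⇑T₁)^[k] v) = (Ideal.Quotient.mk I₁ X) ^ k * e₁ v := by
    intro k
    induction k with
    | zero => intro v; simp
    | succ k ih =>
      intro v
      rw [Function.iterate_succ_apply', he₁, ih, pow_succ']; ring
  have hit₂ : ∀ (k : ℕ) (v : V₂), e₂ ((⇑T₂)^[k] v) = (Ideal.Quotient.mk I₂ X) ^ k * e₂ v := by
    intro k
    induction k with
    | zero => intro v; simp
    | succ k ih =>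
      intro v
      rw [Function.iterate_succ_apply', he₂, ih, pow_succ']; ring
  have hx₁q : (Ideal.Quotient.mk I₁ X) ^ q = 1 := by
    obtain ⟨v, hv⟩ := e₁.surjective 1
    have h3 := hit₁ q v
    rw [h₁.pow, hv, mul_one] at h3
    exact h3.symm
  have hx₂q : (Ideal.Quotient.mk I₂ X) ^ q = 1 := by
    obtain ⟨v, hv⟩ := e₂.surjective 1
    have h3 := hit₂ q v
    rw [h₂.pow, hv, mul_one] at h3
    exact h3.symm
  have hx₁1 : Ideal.Quotient.mk I₁ X ≠ 1 := by
    intro h1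
    obtain ⟨v, hv⟩ := h₁.ne
    apply hv
    apply e₁.injective
    rw [he₁, h1, one_mul]
  have hx₂1 : Ideal.Quotient.mk I₂ X ≠ 1 := by
    intro h1
    obtain ⟨v, hv⟩ := h₂.ne
    apply hv
    apply e₂.injective
    rw [he₂, h1, one_mul]
  have hord₂ : orderOf (Ideal.Quotient.mk I₂ X) = q := orderOf_eq_prime hx₂q hx₂1
  have hprim : IsPrimitiveRoot (Ideal.Quotient.mk I₂ X) q := by
    have h4 := IsPrimitiveRoot.orderOf (Ideal.Quotient.mk I₂ X)
    rwa [hord₂] at h4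
  have hNZ : NeZero q := ⟨(Fact.out : q.Prime).ne_zero⟩
  have hιq : (ι (Ideal.Quotient.mk I₁ X)) ^ q = 1 := by rw [← map_pow, hx₁q, map_one]
  obtain ⟨m, hmq, hm⟩ := hprim.eq_pow_of_pow_eq_one hιq
  refine ⟨m, e₁.trans (ι.toAddEquiv.trans e₂.symm), ?_, ?_⟩
  · intro hdvd
    have hm0 : m = 0 := Nat.eq_zero_of_dvd_of_lt hdvd hmq
    rw [hm0, pow_zero] at hm
    apply hx₁1
    apply ι.injective
    rw [← hm, map_one]
  · intro v
    show e₂.symm (ι (e₁ (T₁ v))) = (⇑T₂)^[m] (e₂.symm (ι (e₁ v)))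
    apply e₂.injective
    rw [AddEquiv.apply_symm_apply, hit₂, AddEquiv.apply_symm_apply, he₁, map_mul, hm]

end Cfsg.Agent.Lib.helper3.Gf
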