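import Mathlib
import Cfsg.Agent.Lib.helper86.IvDefs

/-! S3928, piece QH (racing copy): the hypotheses pass to `G ⧸ N`. -/

set_option autoImplicit false

namespace Cfsg.Agent.Lib.helper86.IV

/-- PIECE QH (racing copy). -/
theorem helper13_iv_quot_hyp {G : Type*} [Group G] (α : MulAut G) (h : IvHyp α) (N : Subgroup G) [N.Normal]
    (hN : ∀ n ∈ N, α n ∈ N) : IvHyp (ivQ α h.invol N hN) := by
  constructor
  · intro y
    induction y using QuotientGroup.induction_on with
    | H g => rw [ivQ_mk, ivQ_mk, h.invol]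
  · rw [eq_top_iff]
    have hmap : (Subgroup.closure (Set.range (fun c : G => c * (α c)⁻¹))).map
        (QuotientGroup.mk' N) = ⊤ := by
      rw [h.gen]; exact Subgroup.map_top_of_surjective _ (QuotientGroup.mk'_surjective N)
    rw [← hmap, MonoidHom.map_closure, Subgroup.closure_le]
    rintro _ ⟨_, ⟨c, rfl⟩, rfl⟩
    apply Subgroup.subset_closure
    refine ⟨QuotientGroup.mk c, ?_⟩
    show (QuotientGroup.mk c : G ⧸ N) * (ivQ α h.invol N hN (QuotientGroup.mk c))⁻¹ = _
    rw [ivQ_mk]; rfl

end Cfsg.Agent.Lib.helper86.IV
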