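import Mathlib
import Cfsg.Agent.Lib.helper86.IvDefs

/-! S3928, piece SMALL (racing copy): a nontrivial element of small order in `N`. -/

set_option autoImplicit false

namespace Cfsg.Agent.Lib.helper86.IV

/-- own copy of ORD: an element of `ivI α` has order at most `|ivI α|`. -/
theorem helper13_iv_order_le {G : Type*} [Group G] [Finite G] (α : MulAut G) (x : G)
    (hx : x ∈ ivI α) : orderOf x ≤ Nat.card (ivI α) := by
  classical
  have hmem : ∀ i : ℕ, x ^ i ∈ ivI α := by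
    intro i
    refine ⟨Odd.of_dvd_nat hx.1 (orderOf_pow_dvd i), ?_⟩
    rw [map_pow, hx.2, inv_pow]
  have hinj : Function.Injective (fun i : Fin (orderOf x) => (⟨x ^ (i : ℕ), hmem i⟩ : ivI α)) := by
    intro i j hij
    have h1 : x ^ (i : ℕ) = x ^ (j : ℕ) := congrArg Subtype.val hij
    exact Fin.ext (pow_injOn_Iio_orderOf (Set.mem_Iio.mpr i.2) (Set.mem_Iio.mpr j.2) h1)
  have h := Nat.card_le_card_of_injective _ hinj
  rwa [Nat.card_fin] at h

/-- PIECE SMALL (racing copy). -/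
theorem helper13_iv_small_elt {G : Type*} [Group G] [Finite G] (α : MulAut G) (h2 : ∀ g, α (α g) = g)
    (N : Subgroup G) (hN : ∀ n ∈ N, α n ∈ N)
    (hne : ∃ x ∈ ivI α, ∃ x' ∈ ivI α, x ≠ x' ∧ x⁻¹ * x' ∈ N) :
    ∃ v ∈ N, v ≠ 1 ∧ orderOf v ≤ Nat.card (ivI α) + 1 := by
  classical
  by_cases h1 : ∃ y ∈ N, y ∈ ivI α ∧ y ≠ 1
  · obtain ⟨y, hyN, hyI, hy1⟩ := h1
    exact ⟨y, hyN, hy1, (helper13_iv_order_le α y hyI).trans (Nat.le_succ _)⟩
  have h1' : ∀ y ∈ N, y ∈ ivI α → y = 1 := by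
    intro y hyN hyI
    by_contra hy1
    exact h1 ⟨y, hyN, hyI, hy1⟩
  have hone : (1 : G) ∈ ivI α := ⟨by rw [orderOf_one]; exact odd_one, by rw [map_one, inv_one]⟩
  have hpos : 1 ≤ Nat.card (ivI α) := by
    have hne' : Nonempty (ivI α) := ⟨⟨1, hone⟩⟩
    exact Nat.card_pos
  by_cases hev : 2 ∣ Nat.card N
  · have hfact : Fact (Nat.Prime 2) := ⟨Nat.prime_two⟩
    obtain ⟨v, hv⟩ := exists_prime_orderOf_dvd_card' 2 hev
    refine ⟨(v : G), v.2, ?_, ?_⟩
    · intro hv1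
      have hv1' : v = 1 := Subtype.ext hv1
      rw [hv1', orderOf_one] at hv
      exact absurd hv (by norm_num)
    · rw [Subgroup.orderOf_coe, hv]; omega
  exfalso
  have hoddN : ∀ n ∈ N, Odd (orderOf n) := by
    intro n hn
    have hd : orderOf n ∣ Nat.card N := by
      have h3 := orderOf_dvd_natCard (⟨n, hn⟩ : N)
      rwa [Subgroup.orderOf_mk] at h3
    rcases Nat.even_or_odd (orderOf n) with he | ho
    · exact absurd (dvd_trans (even_iff_two_dvd.mp he) hd) hev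
    · exact ho
  have hfix : ∀ n ∈ N, α n = n := by
    intro n hn
    have hk : n * (α n)⁻¹ ∈ N := N.mul_mem hn (N.inv_mem (hN n hn))
    have hkI : n * (α n)⁻¹ ∈ ivI α := by
      refine ⟨hoddN _ hk, ?_⟩
      rw [map_mul, map_inv, h2, mul_inv_rev, inv_inv]
    have hk1 := h1' _ hk hkI
    have h3 : n = α n := by
      have h4 := congrArg (fun t => t * α n) hk1
      simpa using h4
    exact h3.symm
  obtain ⟨x, hx, x', hx', hxx', hn⟩ := hne
  have hαn := hfix _ hn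
  have hconj : x⁻¹ * (x⁻¹ * x') * (x⁻¹)⁻¹ = (x⁻¹ * x')⁻¹ := by
    have h3 : α x' = x'⁻¹ := hx'.2
    have h4 : x' = x * (x⁻¹ * x') := by group
    rw [h4, map_mul, hαn, hx.2] at h3
    rw [h3]; group
  have key : ∀ k : ℕ, x⁻¹ ^ k * (x⁻¹ * x') * (x⁻¹ ^ k)⁻¹ = (x⁻¹ * x') ^ ((-1 : ℤ) ^ k) := by
    intro k
    induction k with
    | zero => simp
    | succ k ih =>
      have e1 : x⁻¹ ^ (k + 1) * (x⁻¹ * x') * (x⁻¹ ^ (k + 1))⁻¹ =
          x⁻¹ * (x⁻¹ ^ k * (x⁻¹ * x') * (x⁻¹ ^ k)⁻¹) * (x⁻¹)⁻¹ := by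
        rw [pow_succ']; group
      rw [e1, ih, ← conj_zpow, hconj, inv_zpow', pow_succ]
      congr 1; ring
  have hodd : Odd (orderOf x⁻¹) := by rw [orderOf_inv]; exact hx.1
  have h5 := key (orderOf x⁻¹)
  rw [pow_orderOf_eq_one, one_mul, inv_one, mul_one, hodd.neg_one_pow, zpow_neg_one] at h5
  have h6 : (x⁻¹ * x') ^ 2 = 1 := by
    rw [pow_two]
    nth_rewrite 1 [h5]
    exact inv_mul_cancel _
  have h7 : orderOf (x⁻¹ * x') ∣ 2 := orderOf_dvd_of_pow_eq_one h6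
  have h8 : Odd (orderOf (x⁻¹ * x')) := hoddN _ hn
  have h9 : orderOf (x⁻¹ * x') = 1 := by
    rcases (Nat.dvd_prime Nat.prime_two).1 h7 with h | h
    · exact h
    · rw [h] at h8; exact absurd h8 (by decide)
  have h10 : x⁻¹ * x' = 1 := orderOf_eq_one_iff.mp h9
  exact hxx' (inv_mul_eq_one.mp h10)

end Cfsg.Agent.Lib.helper86.IV
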