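import Mathlib
import Cfsg.Agent.Lib.helper13.Count

set_option autoImplicit false

namespace Cfsg.Agent.Lib.helper13

variable {G : Type*} [Group G]

/-- For `S` a Sylow `p`-subgroup and `D` normal, `S ∩ D` has index prime to `p` in `D`. -/
theorem not_dvd_relIndex_sylow_inf_normal [Finite G] {p : ℕ} [Fact p.Prime] (S : Sylow p G)
    (D : Subgroup G) [D.Normal] : ¬ p ∣ ((S : Subgroup G) ⊓ D).relIndex D := by
  have h1 := card_sup_mul_card_inf (S : Subgroup G) D
    (by rw [Subgroup.normalizer_eq_top]; exact le_top)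
  have h2 := relIndex_mul_card_of_le (inf_le_right : (S : Subgroup G) ⊓ D ≤ D)
  have h3 := relIndex_mul_card_of_le (le_sup_left : (S : Subgroup G) ≤ (S : Subgroup G) ⊔ D)
  have hS : 0 < Nat.card (S : Subgroup G) := Nat.card_pos
  have hSD : 0 < Nat.card ((S : Subgroup G) ⊓ D : Subgroup G) := Nat.card_pos
  have h4 : ((S : Subgroup G) ⊓ D).relIndex D = (S : Subgroup G).relIndex ((S : Subgroup G) ⊔ D) := by
    have : ((S : Subgroup G) ⊓ D).relIndex D * (Nat.card (S : Subgroup G) *
        Nat.card ((S : Subgroup G) ⊓ D : Subgroup G)) =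
        (S : Subgroup G).relIndex ((S : Subgroup G) ⊔ D) * (Nat.card (S : Subgroup G) *
        Nat.card ((S : Subgroup G) ⊓ D : Subgroup G)) := by
      calc ((S : Subgroup G) ⊓ D).relIndex D * (Nat.card (S : Subgroup G) *
          Nat.card ((S : Subgroup G) ⊓ D : Subgroup G))
          = Nat.card (S : Subgroup G) * (((S : Subgroup G) ⊓ D).relIndex D *
            Nat.card ((S : Subgroup G) ⊓ D : Subgroup G)) := by ring
        _ = Nat.card (S : Subgroup G) * Nat.card D := by rw [h2]
        _ = Nat.card ((S : Subgroup G) ⊔ D : Subgroup G) *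
            Nat.card ((S : Subgroup G) ⊓ D : Subgroup G) := h1.symm
        _ = (S : Subgroup G).relIndex ((S : Subgroup G) ⊔ D) * (Nat.card (S : Subgroup G) *
            Nat.card ((S : Subgroup G) ⊓ D : Subgroup G)) := by rw [← h3]; ring
    exact Nat.eq_of_mul_eq_mul_right (Nat.mul_pos hS hSD) this
  rw [h4]
  intro hdvd
  apply S.not_dvd_index
  exact hdvd.trans (Subgroup.relIndex_dvd_index_of_le le_sup_left)

/-- If `C ≤ D` with `|D : C|` a power of `p`, `D` normal and `S` Sylow, then `D = C (S ∩ D)`. -/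
theorem le_sup_sylow_inf_of_relIndex_pow [Finite G] {p : ℕ} [Fact p.Prime] (S : Sylow p G)
    (C D : Subgroup G) [D.Normal] (hidx : ∃ k : ℕ, C.relIndex D = p ^ k) :
    D ≤ C ⊔ ((S : Subgroup G) ⊓ D) := by
  obtain ⟨n, hCrel⟩ := hidx
  have hnd := not_dvd_relIndex_sylow_inf_normal S D
  have hT1 : (C ⊔ ((S : Subgroup G) ⊓ D)).relIndex D ∣ C.relIndex D :=
    Subgroup.relIndex_dvd_of_le_left D le_sup_left
  have hT2 : (C ⊔ ((S : Subgroup G) ⊓ D)).relIndex D ∣ ((S : Subgroup G) ⊓ D).relIndex D :=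
    Subgroup.relIndex_dvd_of_le_left D le_sup_right
  have hT : (C ⊔ ((S : Subgroup G) ⊓ D)).relIndex D = 1 := by
    rw [hCrel] at hT1
    obtain ⟨j, _, hj⟩ := (Nat.dvd_prime_pow (Fact.out : p.Prime)).mp hT1
    rcases Nat.eq_zero_or_pos j with h0 | hpos
    · rw [hj, h0, pow_zero]
    · exfalso
      apply hnd
      have : p ∣ (C ⊔ ((S : Subgroup G) ⊓ D)).relIndex D := by
        rw [hj]; exact dvd_pow_self p (by omega)
      exact this.trans hT2
  exact Subgroup.relIndex_eq_one.mp hT

/-- Core lemma: if `V` is generated by subgroups `W S ≤ C_V(S)` for `S` ranging over the Sylow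
`p`-subgroups, then no normal subgroup `D > C_G(V)` has `p`-power index over `C_G(V)`. -/
theorem eq_centralizer_of_relIndex_pow [Finite G] {p : ℕ} [Fact p.Prime] (V : Subgroup G)
    (W : Sylow p G → Subgroup G)
    (hW : ∀ S : Sylow p G, W S ≤ Subgroup.centralizer ((S : Subgroup G) : Set G))
    (hgen : V = ⨆ S : Sylow p G, W S)
    (D : Subgroup G) [D.Normal] (hCD : Subgroup.centralizer (V : Set G) ≤ D)
    (hidx : ∃ k : ℕ, (Subgroup.centralizer (V : Set G)).relIndex D = p ^ k) :
    D = Subgroup.centralizer (V : Set G) := by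
  refine le_antisymm ?_ hCD
  rw [Subgroup.le_centralizer_iff]
  rw [hgen, iSup_le_iff]
  intro S
  have hWV : W S ≤ V := by rw [hgen]; exact le_iSup W S
  have h1 := le_sup_sylow_inf_of_relIndex_pow S (Subgroup.centralizer (V : Set G)) D hidx
  rw [← Subgroup.le_centralizer_iff]
  refine h1.trans (sup_le ?_ ?_)
  · exact Subgroup.centralizer_le hWV
  · rw [Subgroup.le_centralizer_iff]
    exact (hW S).trans (Subgroup.centralizer_le inf_le_left)

end Cfsg.Agent.Lib.helper13
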