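import Mathlib
import Cfsg.Prelude.Def_Transfer
import Cfsg.Agent.S0592

set_option autoImplicit false

namespace Cfsg.Agent.Lib.helper13

open scoped commutatorElement

section dual

variable {G : Type*} [Group G] (V : Subgroup G)

/-- Conjugation by an element of the normalizer, as an endomorphism of `V`. -/
def cjHom (g : Subgroup.normalizer (V : Set G)) : V →* V where
  toFun v := ⟨(g : G) * v * (g : G)⁻¹, (Subgroup.mem_normalizer_iff.mp g.2 v).mp v.2⟩
  map_one' := by
    apply Subtype.ext
    simp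
  map_mul' := by
    intro x y
    apply Subtype.ext
    simp

theorem cjHom_coe (g : Subgroup.normalizer (V : Set G)) (v : V) :
    ((cjHom V g v : V) : G) = (g : G) * v * (g : G)⁻¹ := rfl

theorem cjHom_mul (g h : Subgroup.normalizer (V : Set G)) (v : V) :
    cjHom V (g * h) v = cjHom V g (cjHom V h v) := by
  apply Subtype.ext
  simp only [cjHom_coe, Subgroup.coe_mul]
  group

theorem cjHom_one (v : V) : cjHom V 1 v = v := by
  apply Subtype.ext
  simp [cjHom_coe]

variable (K : Type*) [Field K]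

/-- The contragredient action of `N_G(V)` on `Hom(V, K)`: `(g f)(v) = f(g⁻¹ v g)`. -/
def dualRep :
    Subgroup.normalizer (V : Set G) →* ((Additive V →+ K) ≃ₗ[K] (Additive V →+ K)) where
  toFun g :=
    { toFun := fun f => f.comp (MonoidHom.toAdditive (cjHom V g⁻¹))
      invFun := fun f => f.comp (MonoidHom.toAdditive (cjHom V g))
      map_add' := fun f₁ f₂ => AddMonoidHom.add_comp f₁ f₂ _
      map_smul' := by
        intro c f
        rfl
      left_inv := by
        intro f
        apply AddMonoidHom.ext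
        intro v
        show f (Additive.ofMul (cjHom V g⁻¹ (cjHom V g v.toMul))) = f v
        rw [← cjHom_mul, inv_mul_cancel, cjHom_one]
        rfl
      right_inv := by
        intro f
        apply AddMonoidHom.ext
        intro v
        show f (Additive.ofMul (cjHom V g (cjHom V g⁻¹ v.toMul))) = f v
        rw [← cjHom_mul, mul_inv_cancel, cjHom_one]
        rfl }
  map_one' := by
    apply LinearEquiv.ext
    intro f
    apply AddMonoidHom.ext
    intro v
    show f (Additive.ofMul (cjHom V (1 : Subgroup.normalizer (V : Set G))⁻¹ v.toMul)) = f v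
    rw [inv_one, cjHom_one]
    rfl
  map_mul' := by
    intro g h
    apply LinearEquiv.ext
    intro f
    apply AddMonoidHom.ext
    intro v
    show f (Additive.ofMul (cjHom V (g * h)⁻¹ v.toMul)) =
      f (Additive.ofMul (cjHom V h⁻¹ (cjHom V g⁻¹ v.toMul)))
    rw [mul_inv_rev, cjHom_mul]

theorem dualRep_apply (g : Subgroup.normalizer (V : Set G))
    (f : Additive V →+ K) (v : Additive V) :
    dualRep V K g f v = f (Additive.ofMul (cjHom V g⁻¹ v.toMul)) := rfl

/-- Group-level quadratic identity: if `c = u v u⁻¹ v⁻¹` commutes with `u` and with `v`,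
then `u² v u⁻² · v = (u v u⁻¹)²`. -/
theorem quad_identity (u v : G) (hcu : Commute (u * v * u⁻¹ * v⁻¹) u)
    (hcv : Commute (u * v * u⁻¹ * v⁻¹) v) :
    u * (u * v * u⁻¹) * u⁻¹ * v = (u * v * u⁻¹) * (u * v * u⁻¹) := by
  have h1 : u * v * u⁻¹ = (u * v * u⁻¹ * v⁻¹) * v := by group
  generalize u * v * u⁻¹ * v⁻¹ = c at hcu hcv h1
  rw [h1]
  have h2 : u * (c * v) * u⁻¹ = c * (c * v) := by
    calc u * (c * v) * u⁻¹ = (u * c) * (u⁻¹ * u) * v * u⁻¹ := by group
      _ = (c * u) * (u⁻¹ * u) * v * u⁻¹ := by rw [hcu.eq]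
      _ = c * (u * v * u⁻¹) := by group
      _ = c * (c * v) := by rw [h1]
  rw [h2]
  calc c * (c * v) * v = c * (c * v * v) := by group
    _ = c * ((v * c) * v) := by rw [hcv.eq]
    _ = c * v * (c * v) := by group

/-- A quadratically acting element of the normalizer acts quadratically on `Hom(V, K)`. -/
theorem dualRep_quadratic [IsMulCommutative V] (g : Subgroup.normalizer (V : Set G))
    (hg : ⁅⁅V, Subgroup.zpowers (g : G)⁆, Subgroup.zpowers (g : G)⁆ = ⊥)
    (f : Additive V →+ K) :
    dualRep V K g (dualRep V K g f - f) = dualRep V K g f - f := by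
  have key : ∀ v : V, cjHom V g⁻¹ (cjHom V g⁻¹ v) * v = cjHom V g⁻¹ v * cjHom V g⁻¹ v := by
    intro v
    apply Subtype.ext
    simp only [Subgroup.coe_mul, cjHom_coe, Subgroup.coe_inv]
    have hc : ((g : G)⁻¹ * v * ((g : G)⁻¹)⁻¹ * (v : G)⁻¹)⁻¹ ∈ ⁅V, Subgroup.zpowers (g : G)⁆ := by
      have h1 : ((g : G)⁻¹ * v * ((g : G)⁻¹)⁻¹ * (v : G)⁻¹)⁻¹ = ⁅(v : G), (g : G)⁻¹⁆ := by
        rw [commutatorElement_def]; group
      rw [h1]
      exact Subgroup.commutator_mem_commutator v.2
        (Subgroup.inv_mem _ (Subgroup.mem_zpowers (g : G)))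
    have hcV : (g : G)⁻¹ * v * ((g : G)⁻¹)⁻¹ * (v : G)⁻¹ ∈ V := by
      refine V.mul_mem ?_ (V.inv_mem v.2)
      exact (cjHom V g⁻¹ v).2
    have hcg : Commute ((g : G)⁻¹ * v * ((g : G)⁻¹)⁻¹ * (v : G)⁻¹) (g : G)⁻¹ := by
      have h2 : ⁅((g : G)⁻¹ * v * ((g : G)⁻¹)⁻¹ * (v : G)⁻¹)⁻¹, (g : G)⁆ ∈
          ⁅⁅V, Subgroup.zpowers (g : G)⁆, Subgroup.zpowers (g : G)⁆ :=
        Subgroup.commutator_mem_commutator hc (Subgroup.mem_zpowers (g : G))
      rw [hg, Subgroup.mem_bot, commutatorElement_eq_one_iff_commute] at h2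
      have h3 := (h2.inv_left).inv_right
      rwa [inv_inv] at h3
    have hcv : Commute ((g : G)⁻¹ * v * ((g : G)⁻¹)⁻¹ * (v : G)⁻¹) (v : G) :=
      congrArg Subtype.val (mul_comm' (⟨_, hcV⟩ : V) v)
    exact quad_identity _ _ hcg hcv
  apply AddMonoidHom.ext
  intro v
  show f (Additive.ofMul (cjHom V g⁻¹ (cjHom V g⁻¹ v.toMul))) - f (Additive.ofMul (cjHom V g⁻¹ v.toMul))
    = f (Additive.ofMul (cjHom V g⁻¹ v.toMul)) - f v
  have h1 := congrArg (fun x : V => f (Additive.ofMul x)) (key v.toMul)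
  simp only [ofMul_mul, map_add] at h1
  have h2 : f (Additive.ofMul (Additive.toMul v)) = f v := rfl
  rw [h2] at h1
  rw [sub_eq_sub_iff_add_eq_add]
  exact h1

/-- Additive characters with values in a field of characteristic `p` separate the points of an
elementary abelian `p`-group. -/
theorem exists_hom_ne_zero {p : ℕ} [Fact p.Prime] [CharP K p] (hV : Cfsg.IsElementaryAbelian p V)
    (v : V) (hv : v ≠ 1) : ∃ f : Additive V →+ K, f (Additive.ofMul v) ≠ 0 := by
  have hVc : IsMulCommutative V := hV.1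
  let cg : CommGroup V := { (inferInstance : Group V) with mul_comm := fun a b => mul_comm' a b }
  have hmod : Module (ZMod p) (Additive V) := AddCommGroup.zmodModule (n := p) (by
    intro x
    apply congrArg Additive.ofMul
    apply Subtype.ext
    have := hV.2 x.toMul x.toMul.2
    simpa using this)
  have hne : Additive.ofMul v ≠ (0 : Additive V) := fun h => hv (congrArg Additive.toMul h)
  have h1 := (Module.forall_dual_apply_eq_zero_iff (ZMod p) (Additive.ofMul v)).not.mpr hne
  push Not at h1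
  obtain ⟨φ, hφ⟩ := h1
  refine ⟨{ toFun := fun x => ZMod.castHom (dvd_refl p) K (φ x)
            map_zero' := by rw [map_zero, map_zero]
            map_add' := by
              intro x y
              have h2 : φ (x + y) = φ x + φ y := map_add φ x y
              rw [h2, map_add] }, ?_⟩
  show ZMod.castHom (dvd_refl p) K (φ (Additive.ofMul v)) ≠ 0
  rw [Ne, map_eq_zero_iff _ (RingHom.injective _)]
  exact hφ

/-- The contragredient action on `Hom(V, K)` is faithful modulo `C_G(V)`. -/
theorem mem_centralizer_of_dualRep_eq_one {p : ℕ} [Fact p.Prime] [CharP K p]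
    (hV : Cfsg.IsElementaryAbelian p V) (g : Subgroup.normalizer (V : Set G))
    (hg : dualRep V K g = 1) : (g : G) ∈ Subgroup.centralizer (V : Set G) := by
  rw [Subgroup.mem_centralizer_iff]
  intro v hv
  by_contra hne
  have h1 : cjHom V g⁻¹ ⟨v, hv⟩ * (⟨v, hv⟩ : V)⁻¹ ≠ 1 := by
    intro h
    apply hne
    have h2 := congrArg Subtype.val h
    simp only [Subgroup.coe_mul, cjHom_coe, Subgroup.coe_inv, Subgroup.coe_one] at h2
    calc v * (g : G) = (g : G) * ((g : G)⁻¹ * v * ((g : G)⁻¹)⁻¹ * v⁻¹) * v := by group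
      _ = (g : G) * v := by rw [h2, mul_one]
  obtain ⟨f, hf⟩ := exists_hom_ne_zero V K hV _ h1
  apply hf
  have h3 := congrArg (fun F : (Additive V →+ K) ≃ₗ[K] (Additive V →+ K) =>
    F f (Additive.ofMul ⟨v, hv⟩)) hg
  have h4 : f (Additive.ofMul (cjHom V g⁻¹ ⟨v, hv⟩)) = f (Additive.ofMul ⟨v, hv⟩) := h3
  rw [ofMul_mul, map_add, h4, ofMul_inv, map_neg, add_neg_cancel]

end dual

section bridge

variable {G : Type*} [Group G] [Finite G] {p : ℕ} [Fact p.Prime]

/-- The representation of `H ≤ N_G(V)` on `Hom(V, K)`. -/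
noncomputable def dualRepOn (V H : Subgroup G) (hHV : H ≤ Subgroup.normalizer (V : Set G))
    (K : Type*) [Field K] : H →* ((Additive V →+ K) ≃ₗ[K] (Additive V →+ K)) :=
  (dualRep V K).comp (Subgroup.inclusion hHV)

omit [Finite G] in
theorem eq_one_of_dualRepOn_eq_one (V H : Subgroup G) (hV : Cfsg.IsElementaryAbelian p V)
    (hHV : H ≤ Subgroup.normalizer (V : Set G))
    (hf : H ⊓ Subgroup.centralizer (V : Set G) = ⊥) (K : Type*) [Field K] [CharP K p] (x : H)
    (hx : dualRepOn V H hHV K x = 1) : x = 1 := by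
  have h1 : ((Subgroup.inclusion hHV x : Subgroup.normalizer (V : Set G)) : G) ∈
      Subgroup.centralizer (V : Set G) :=
    mem_centralizer_of_dualRep_eq_one V K hV _ hx
  have h2 : (x : G) ∈ H ⊓ Subgroup.centralizer (V : Set G) := ⟨x.2, h1⟩
  rw [hf, Subgroup.mem_bot] at h2
  exact Subtype.ext h2

omit [Finite G] [Fact p.Prime] in
theorem dualRepOn_quadratic (V H : Subgroup G) (hV : Cfsg.IsElementaryAbelian p V)
    (hHV : H ≤ Subgroup.normalizer (V : Set G)) (K : Type*) [Field K] (a : H)
    (ha : ⁅⁅V, Subgroup.zpowers (a : G)⁆, Subgroup.zpowers (a : G)⁆ = ⊥) (f : Additive V →+ K) :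
    dualRepOn V H hHV K a (dualRepOn V H hHV K a f - f) = dualRepOn V H hHV K a f - f := by
  have hVc : IsMulCommutative V := hV.1
  exact dualRep_quadratic V K (Subgroup.inclusion hHV a) ha f

/-- A quadratically acting element of a faithful group on an elementary abelian `p`-group has
order dividing `p`. -/
theorem pow_eq_one_of_quadratic (V H : Subgroup G) (hV : Cfsg.IsElementaryAbelian p V)
    (hHV : H ≤ Subgroup.normalizer (V : Set G))
    (hf : H ⊓ Subgroup.centralizer (V : Set G) = ⊥) (a : G) (haH : a ∈ H)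
    (ha : ⁅⁅V, Subgroup.zpowers a⁆, Subgroup.zpowers a⁆ = ⊥) : a ^ p = 1 := by
  have h1 : dualRepOn V H hHV (ZMod p) (⟨a, haH⟩ ^ p) = 1 := by
    rw [map_pow]
    apply LinearEquiv.ext
    intro f
    exact Cfsg.Agent.S0592.pow_char_apply_of_fixed (p := p) _ f
      (dualRepOn_quadratic V H hV hHV (ZMod p) ⟨a, haH⟩ ha f)
  have h2 := eq_one_of_dualRepOn_eq_one V H hV hHV hf (ZMod p) _ h1
  exact congrArg Subtype.val h2

/-- Bridge: a faithful group on an elementary abelian `p`-group generated by two quadratically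
acting elements and not a `p`-group maps to `SL₂` of a finite field of characteristic `p` with
image not a `p`-group. -/
theorem exists_hom_SL2_of_quadratic_pair (V H : Subgroup G) (hV : Cfsg.IsElementaryAbelian p V)
    (hHV : H ≤ Subgroup.normalizer (V : Set G))
    (hf : H ⊓ Subgroup.centralizer (V : Set G) = ⊥) (a b : G) (hab : H = Subgroup.closure {a, b})
    (ha : ⁅⁅V, Subgroup.zpowers a⁆, Subgroup.zpowers a⁆ = ⊥)
    (hb : ⁅⁅V, Subgroup.zpowers b⁆, Subgroup.zpowers b⁆ = ⊥) (hnp : ¬ IsPGroup p H) :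
    ∃ (K : Type) (_ : Field K) (_ : Fintype K) (_ : CharP K p)
      (φ : H →* Matrix.SpecialLinearGroup (Fin 2) K), ¬ IsPGroup p φ.range := by
  have hp : p.Prime := Fact.out
  have haH : a ∈ H := by rw [hab]; exact Subgroup.subset_closure (by simp)
  have hbH : b ∈ H := by rw [hab]; exact Subgroup.subset_closure (by simp)
  have hgen : Subgroup.closure {(⟨a, haH⟩ : H), ⟨b, hbH⟩} = (⊤ : Subgroup H) := by
    apply Subgroup.map_injective H.subtype_injective
    rw [MonoidHom.map_closure, ← MonoidHom.range_eq_map, Subgroup.range_subtype, Set.image_pair]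
    exact hab.symm
  -- the field
  have hn0 : orderOf ((⟨a, haH⟩ : H) * ⟨b, hbH⟩) ≠ 0 := (orderOf_pos _).ne'
  generalize hn : orderOf ((⟨a, haH⟩ : H) * ⟨b, hbH⟩) = n at hn0
  have hk : (n / p ^ n.factorization p).Coprime p := (Nat.coprime_ordCompl hp hn0).symm
  have hk0 : 0 < n / p ^ n.factorization p := Nat.ordCompl_pos p hn0
  have hm : (n / p ^ n.factorization p).totient ≠ 0 := (Nat.totient_pos.mpr hk0).ne'
  have hdvd : n / p ^ n.factorization p ∣ p ^ (n / p ^ n.factorization p).totient - 1 := by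
    have h1 := Nat.ModEq.pow_totient hk.symm
    exact (Nat.modEq_iff_dvd' (Nat.one_le_pow _ _ hp.pos)).mp h1.symm
  generalize (n / p ^ n.factorization p).totient = m at hm hdvd
  let _ : Fintype (GaloisField p m) := Fintype.ofFinite _
  have hcard : Fintype.card (GaloisField p m) = p ^ m := by
    rw [← Nat.card_eq_fintype_card, GaloisField.card p m hm]
  refine ⟨GaloisField p m, inferInstance, inferInstance, inferInstance, ?_⟩
  have hfin : Finite (Additive V →+ GaloisField p m) :=
    Finite.of_injective (fun f : Additive V →+ GaloisField p m => (f : Additive V → GaloisField p m))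
      DFunLike.coe_injective
  have hfd : FiniteDimensional (GaloisField p m) (Additive V →+ GaloisField p m) :=
    Module.Finite.of_finite
  refine Cfsg.Agent.S0592.aux (p := p) (⟨a, haH⟩ : H) ⟨b, hbH⟩ hgen _
    (Additive V →+ GaloisField p m) rfl (dualRepOn V H hHV (GaloisField p m))
    (dualRepOn_quadratic V H hV hHV _ ⟨a, haH⟩ ha) (dualRepOn_quadratic V H hV hHV _ ⟨b, hbH⟩ hb)
    ?_ ⟨n.factorization p, ?_⟩
  · intro h
    apply hnp
    intro g
    obtain ⟨i, hi⟩ := h g
    exact ⟨i, eq_one_of_dualRepOn_eq_one V H hV hHV hf _ _ hi⟩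
  · have h1 : ((⟨a, haH⟩ : H) * ⟨b, hbH⟩) ^
        (p ^ n.factorization p * (Fintype.card (GaloisField p m) - 1)) = 1 := by
      rw [← orderOf_dvd_iff_pow_eq_one, hn, hcard]
      calc n = p ^ n.factorization p * (n / p ^ n.factorization p) :=
            (Nat.ordProj_mul_ordCompl_eq_self n p).symm
        _ ∣ p ^ n.factorization p * (p ^ m - 1) := Nat.mul_dvd_mul_left _ hdvd
    rw [h1, map_one]

end bridge

end Cfsg.Agent.Lib.helper13
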