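import Mathlib

set_option autoImplicit false

namespace Cfsg.Agent.Lib.helper13

/-- A subgroup generated by elements of order dividing `p` which is not a `p`-group has more than
one Sylow `p`-subgroup. -/
theorem one_lt_card_sylow_of_closure {L : Type*} [Group L] [Finite L] {p : ℕ} [Fact p.Prime]
    (R : Subgroup L) (S : Set L) (hS : R = Subgroup.closure S) (hSp : ∀ s ∈ S, s ^ p = 1)
    (hnp : ¬ IsPGroup p R) : 1 < Nat.card (Sylow p R) := by
  by_contra hle
  push Not at hle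
  have hsub : Subsingleton (Sylow p R) := Finite.card_le_one_iff_subsingleton.mp hle
  apply hnp
  obtain ⟨P⟩ : Nonempty (Sylow p R) := inferInstance
  have h1 : Subgroup.closure S ≤ (P : Subgroup R).map R.subtype := by
    rw [Subgroup.closure_le]
    intro s hs
    have hsR : s ∈ R := by
      have h2 : s ∈ Subgroup.closure S := Subgroup.subset_closure hs
      exact (le_of_eq hS.symm) h2
    have hpg : IsPGroup p (Subgroup.zpowers (⟨s, hsR⟩ : R)) := by
      rintro ⟨g, hg⟩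
      obtain ⟨j, rfl⟩ := Subgroup.mem_zpowers_iff.mp hg
      refine ⟨1, ?_⟩
      apply Subtype.ext
      apply Subtype.ext
      simp only [pow_one, Subgroup.coe_pow, Subgroup.coe_zpow, Subgroup.coe_one]
      rw [← zpow_natCast, ← zpow_mul, mul_comm, zpow_mul, zpow_natCast, hSp s hs, one_zpow]
    obtain ⟨Q, hQ⟩ := hpg.exists_le_sylow
    have hQP : Q = P := Subsingleton.elim _ _
    rw [hQP] at hQ
    exact ⟨⟨s, hsR⟩, hQ (Subgroup.mem_zpowers _), rfl⟩
  have h2 : R ≤ (P : Subgroup R).map R.subtype := le_of_eq_of_le hS h1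
  intro r
  obtain ⟨y, hy, hyr⟩ := h2 r.2
  have hyr' : y = r := Subtype.ext hyr
  rw [hyr'] at hy
  obtain ⟨k, hk⟩ := P.2 ⟨r, hy⟩
  exact ⟨k, congrArg Subtype.val hk⟩

/-- If a Sylow `p`-subgroup of `H` is commutative, then every `p`-subgroup of a homomorphic image
of `H` is commutative. -/
theorem comm_of_isPGroup_le_range {H L : Type*} [Group H] [Finite H] [Group L] {p : ℕ}
    [Fact p.Prime] (ψ : H →* L) (T : Sylow p H)
    (hT : ∀ s ∈ (T : Subgroup H), ∀ t ∈ (T : Subgroup H), s * t = t * s)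
    (Q : Subgroup L) (hQ : IsPGroup p Q) (hQr : Q ≤ ψ.range) :
    ∀ x ∈ Q, ∀ y ∈ Q, x * y = y * x := by
  obtain ⟨S₀⟩ : Nonempty (Sylow p (Q.comap ψ)) := inferInstance
  have hsurj : Function.Surjective (ψ.subgroupComap Q) := by
    rintro ⟨x, hx⟩
    obtain ⟨h, rfl⟩ := hQr hx
    exact ⟨⟨h, hx⟩, rfl⟩
  have htop : ((Sylow.mapSurjective hsurj S₀ : Sylow p Q) : Subgroup Q) = ⊤ :=
    ((Sylow.mapSurjective hsurj S₀).3 (hQ.to_subgroup ⊤) le_top).symm
  rw [Sylow.coe_mapSurjective] at htop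
  have hlift : ∀ x ∈ Q, ∃ s : Q.comap ψ, s ∈ (S₀ : Subgroup (Q.comap ψ)) ∧ ψ (s : H) = x := by
    intro x hx
    have h1 : (⟨x, hx⟩ : Q) ∈ (S₀ : Subgroup (Q.comap ψ)).map (ψ.subgroupComap Q) := by
      rw [htop]; trivial
    obtain ⟨s, hs, hsx⟩ := h1
    exact ⟨s, hs, congrArg Subtype.val hsx⟩
  have hSp : IsPGroup p ((S₀ : Subgroup (Q.comap ψ)).map (Q.comap ψ).subtype) := S₀.2.map _
  obtain ⟨T', hT'⟩ := hSp.exists_le_sylow
  obtain ⟨g, hg⟩ := MulAction.exists_smul_eq H T T'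
  have hconj : ∀ s : Q.comap ψ, s ∈ (S₀ : Subgroup (Q.comap ψ)) → g⁻¹ * (s : H) * g ∈ (T : Subgroup H) := by
    intro s hs
    have h1 : (s : H) ∈ (T' : Subgroup H) := hT' ⟨s, hs, rfl⟩
    rw [← hg, Sylow.coe_subgroup_smul, Subgroup.mem_pointwise_smul_iff_inv_smul_mem] at h1
    simpa using h1
  intro x hx y hy
  obtain ⟨s, hs, rfl⟩ := hlift x hx
  obtain ⟨t, ht, rfl⟩ := hlift y hy
  have h1 := hT _ (hconj s hs) _ (hconj t ht)
  have h2 : (s : H) * (t : H) = (t : H) * (s : H) := by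
    calc (s : H) * (t : H) = g * ((g⁻¹ * (s : H) * g) * (g⁻¹ * (t : H) * g)) * g⁻¹ := by group
      _ = g * ((g⁻¹ * (t : H) * g) * (g⁻¹ * (s : H) * g)) * g⁻¹ := by rw [h1]
      _ = (t : H) * (s : H) := by group
  rw [← map_mul, ← map_mul, h2]

/-- If `y x y⁻¹` and `y⁻¹ x y` are powers of `x`, then `y` normalizes `⟨x⟩`. -/
theorem mem_normalizer_zpowers_of_conj {L : Type*} [Group L] (x y : L) (k m : ℕ)
    (h1 : y * x * y⁻¹ = x ^ k) (h2 : y⁻¹ * x * y = x ^ m) :
    y ∈ Subgroup.normalizer (Subgroup.zpowers x : Set L) := by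
  rw [Subgroup.mem_normalizer_iff]
  intro h
  constructor
  · intro hh
    obtain ⟨j, rfl⟩ := Subgroup.mem_zpowers_iff.mp hh
    rw [← conj_zpow, h1]
    exact Subgroup.zpow_mem _ (Subgroup.pow_mem _ (Subgroup.mem_zpowers x) k) j
  · intro hh
    obtain ⟨j, hj⟩ := Subgroup.mem_zpowers_iff.mp hh
    have h3 : h = y⁻¹ * (x ^ j) * y⁻¹⁻¹ := by rw [hj]; group
    rw [h3, ← conj_zpow, inv_inv, h2]
    exact Subgroup.zpow_mem _ (Subgroup.pow_mem _ (Subgroup.mem_zpowers x) m) j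

/-- `SL₂(p)`, `p` odd, contains a non-commutative `2`-subgroup (a quaternion group). -/
theorem exists_noncomm_two_subgroup_SL2 (p : ℕ) [Fact p.Prime] (hp : p ≠ 2) :
    ∃ Q : Subgroup (Matrix.SpecialLinearGroup (Fin 2) (ZMod p)), IsPGroup 2 Q ∧
      ∃ x ∈ Q, ∃ y ∈ Q, x * y ≠ y * x := by
  have hpp : p.Prime := Fact.out
  obtain ⟨α, β, hαβ⟩ := ZMod.sq_add_sq p (-1)
  have h2 : (2 : ZMod p) ≠ 0 := by
    intro h
    have h3 : ((2 : ℕ) : ZMod p) = 0 := by exact_mod_cast h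
    rw [ZMod.natCast_eq_zero_iff] at h3
    have h4 := Nat.le_of_dvd (by norm_num) h3
    have h5 := hpp.two_le
    omega
  let x : Matrix.SpecialLinearGroup (Fin 2) (ZMod p) :=
    ⟨!![0, 1; -1, 0], by rw [Matrix.det_fin_two_of]; ring⟩
  let y : Matrix.SpecialLinearGroup (Fin 2) (ZMod p) :=
    ⟨!![α, β; β, -α], by rw [Matrix.det_fin_two_of]; linear_combination (-1 : ZMod p) * hαβ⟩
  have hx4 : x ^ 4 = 1 := by
    apply Subtype.ext
    show ((x : Matrix (Fin 2) (Fin 2) (ZMod p))) ^ 4 = 1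
    have hx2 : (x : Matrix (Fin 2) (Fin 2) (ZMod p)) * x = -1 := by
      ext i j
      fin_cases i <;> fin_cases j <;> simp [x, Matrix.mul_apply, Fin.sum_univ_two]
    calc (x : Matrix (Fin 2) (Fin 2) (ZMod p)) ^ 4
        = ((x : Matrix (Fin 2) (Fin 2) (ZMod p)) * x) * ((x : Matrix (Fin 2) (Fin 2) (ZMod p)) * x) := by
          noncomm_ring
      _ = 1 := by rw [hx2]; simp
  have hy4 : y ^ 4 = 1 := by
    apply Subtype.ext
    show ((y : Matrix (Fin 2) (Fin 2) (ZMod p))) ^ 4 = 1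
    have hy2 : (y : Matrix (Fin 2) (Fin 2) (ZMod p)) * y = -1 := by
      ext i j
      fin_cases i <;> fin_cases j <;> simp [y, Matrix.mul_apply, Fin.sum_univ_two]
      all_goals first | ring1 | linear_combination hαβ
    calc (y : Matrix (Fin 2) (Fin 2) (ZMod p)) ^ 4
        = ((y : Matrix (Fin 2) (Fin 2) (ZMod p)) * y) * ((y : Matrix (Fin 2) (Fin 2) (ZMod p)) * y) := by
          noncomm_ring
      _ = 1 := by rw [hy2]; simp
  have hyx : y * x = x ^ 3 * y := by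
    apply Subtype.ext
    show (y : Matrix (Fin 2) (Fin 2) (ZMod p)) * x = (x : Matrix (Fin 2) (Fin 2) (ZMod p)) ^ 3 * y
    have hx2 : (x : Matrix (Fin 2) (Fin 2) (ZMod p)) * x = -1 := by
      ext i j
      fin_cases i <;> fin_cases j <;> simp [x, Matrix.mul_apply, Fin.sum_univ_two]
    have hx3 : (x : Matrix (Fin 2) (Fin 2) (ZMod p)) ^ 3 = -x := by
      calc (x : Matrix (Fin 2) (Fin 2) (ZMod p)) ^ 3
          = ((x : Matrix (Fin 2) (Fin 2) (ZMod p)) * x) * x := by noncomm_ring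
        _ = -x := by rw [hx2]; simp
    rw [hx3]
    ext i j
    fin_cases i <;> fin_cases j <;> simp [x, y, Matrix.mul_apply, Fin.sum_univ_two]
  have hne : x * y ≠ y * x := by
    intro h
    have hm : (x : Matrix (Fin 2) (Fin 2) (ZMod p)) * y = (y : Matrix (Fin 2) (Fin 2) (ZMod p)) * x := by
      rw [← Matrix.SpecialLinearGroup.coe_mul, ← Matrix.SpecialLinearGroup.coe_mul, h]
    have h00 := congrFun (congrFun hm 0) 0
    have h01 := congrFun (congrFun hm 0) 1
    simp [x, y, Matrix.mul_apply, Fin.sum_univ_two] at h00 h01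
    have hβ : β = 0 := by
      have h3 : (2 : ZMod p) * β = 0 := by linear_combination h00
      rcases mul_eq_zero.mp h3 with h4 | h4
      · exact absurd h4 h2
      · exact h4
    have hα : α = 0 := by
      have h3 : (2 : ZMod p) * α = 0 := by linear_combination (-1 : ZMod p) * h01
      rcases mul_eq_zero.mp h3 with h4 | h4
      · exact absurd h4 h2
      · exact h4
    rw [hα, hβ] at hαβ
    have h5 : (1 : ZMod p) = 0 := by linear_combination hαβ
    exact one_ne_zero h5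
  have hpgx : IsPGroup 2 (Subgroup.zpowers x) := by
    rintro ⟨g, hg⟩
    obtain ⟨j, rfl⟩ := Subgroup.mem_zpowers_iff.mp hg
    refine ⟨2, ?_⟩
    apply Subtype.ext
    show (x ^ j) ^ (2 ^ 2) = 1
    rw [← zpow_natCast, ← zpow_mul, mul_comm, zpow_mul]
    have h3 : x ^ (((2 ^ 2 : ℕ) : ℤ)) = 1 := by
      rw [zpow_natCast]; exact hx4
    rw [h3, one_zpow]
  have hpgy : IsPGroup 2 (Subgroup.zpowers y) := by
    rintro ⟨g, hg⟩
    obtain ⟨j, rfl⟩ := Subgroup.mem_zpowers_iff.mp hg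
    refine ⟨2, ?_⟩
    apply Subtype.ext
    show (y ^ j) ^ (2 ^ 2) = 1
    rw [← zpow_natCast, ← zpow_mul, mul_comm, zpow_mul]
    have h3 : y ^ (((2 ^ 2 : ℕ) : ℤ)) = 1 := by
      rw [zpow_natCast]; exact hy4
    rw [h3, one_zpow]
  have hc1 : y * x * y⁻¹ = x ^ 3 := by
    rw [hyx]; group
  have hc2 : y⁻¹ * x * y = x ^ 3 := by
    have h3 : y * x ^ 3 * y⁻¹ = x := by
      rw [← conj_pow, hc1, ← pow_mul]
      calc x ^ (3 * 3) = x ^ 4 * x ^ 4 * x := by group
        _ = x := by rw [hx4]; group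
    calc y⁻¹ * x * y = y⁻¹ * (y * x ^ 3 * y⁻¹) * y := by rw [h3]
      _ = x ^ 3 := by group
  have hnorm : Subgroup.zpowers y ≤ Subgroup.normalizer (Subgroup.zpowers x : Set _) := by
    rw [Subgroup.zpowers_le]
    exact mem_normalizer_zpowers_of_conj x y 3 3 hc1 hc2
  refine ⟨Subgroup.zpowers y ⊔ Subgroup.zpowers x, hpgy.to_sup_of_normal_right' hpgx hnorm,
    x, Subgroup.mem_sup_right (Subgroup.mem_zpowers x), y,
    Subgroup.mem_sup_left (Subgroup.mem_zpowers y), hne⟩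

end Cfsg.Agent.Lib.helper13
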