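import Mathlib
import Cfsg.Agent.Lib.helper13.QuadLin
import Cfsg.Agent.Lib.helper13.SylowTwo
import Cfsg.Agent.Lib.helper43.SL2Data
import Cfsg.Agent.S0274

/-!
helper13: `SL₂(p)` sections of groups generated by two quadratic elements (KS 9.1-type results):
* `exists_copy_SL2_of_quadratic_pair`: linear bridge + Dickson (S0274);
* `exists_section_of_le_range`: a subgroup of the range of a hom from a subgroup is a section;
* `eq_three_of_forall_comm_pow`, `eq_three_of_isPSolvable_SL2`: `SL₂(p)` with `p'`-commutators or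
  `p`-solvable forces `p = 3`.
-/

set_option autoImplicit false
open Cfsg

namespace Cfsg.Agent.Lib.helper13

open Cfsg.Agent.Lib.helper43
open scoped commutatorElement

theorem mem_of_pow_mem_of_coprime {G : Type*} [Group G] (N : Subgroup G) (x : G) (m n : ℕ)
    (hmn : m.Coprime n) (hm : x ^ m ∈ N) (hn : x ^ n ∈ N) : x ∈ N := by
  have h1 : x ^ ((Nat.gcd m n : ℕ) : ℤ) ∈ N := by
    rw [Nat.gcd_eq_gcd_ab, zpow_add, zpow_mul, zpow_mul, zpow_natCast, zpow_natCast]
    exact N.mul_mem (N.zpow_mem hm _) (N.zpow_mem hn _)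
  have h2 : Nat.gcd m n = 1 := hmn
  rw [h2] at h1
  simpa using h1

theorem uSL_pow {F : Type*} [Field F] (b : F) (n : ℕ) : (uSL b) ^ n = uSL (n * b) := by
  induction n with
  | zero => simp [uSL_zero]
  | succ n ih =>
    rw [pow_succ, ih, uSL_mul]
    congr 1
    push_cast
    ring

theorem dSL_mul' {F : Type*} [Field F] (a b : Fˣ) : dSL a * dSL b = dSL (a * b) := by
  apply sl2_ext <;> simp [dSL_val, Matrix.mul_apply, Fin.sum_univ_two, mul_comm]

theorem dSL_one' {F : Type*} [Field F] : dSL (1 : Fˣ) = 1 := by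
  apply sl2_ext <;> simp [dSL_val]

theorem dSL_pow' {F : Type*} [Field F] (a : Fˣ) (n : ℕ) : (dSL a) ^ n = dSL (a ^ n) := by
  induction n with
  | zero => simp [dSL_one']
  | succ n ih => rw [pow_succ, ih, dSL_mul', pow_succ]

theorem comm_dSL_uSL {F : Type*} [Field F] (a : Fˣ) (b : F) :
    ⁅dSL a, uSL b⁆ = uSL ((a : F) * (a : F) * b - b) := by
  rw [commutatorElement_def, dSL_conj, uSL_inv, uSL_mul, sub_eq_add_neg]

theorem eq_top_of_uSL_one_mem (p : ℕ) [Fact p.Prime]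
    (N : Subgroup (Matrix.SpecialLinearGroup (Fin 2) (ZMod p))) (hN : N.Normal)
    (h : uSL (1 : ZMod p) ∈ N) : N = ⊤ := by
  have : NeZero p := ⟨(Fact.out : p.Prime).ne_zero⟩
  apply eq_top_of_USL_le N hN
  intro b
  have h1 : uSL b = (uSL (1 : ZMod p)) ^ b.val := by
    rw [uSL_pow, mul_one, ZMod.natCast_zmod_val]
  rw [h1]
  exact N.pow_mem h _

theorem isUnit_two_zmod (p : ℕ) [Fact p.Prime] (hp : p ≠ 2) : IsUnit (2 : ZMod p) := by
  have hpp := (Fact.out : p.Prime)
  rw [isUnit_iff_ne_zero]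
  intro h
  have h1 : ((2 : ℕ) : ZMod p) = 0 := by exact_mod_cast h
  rw [ZMod.natCast_eq_zero_iff] at h1
  exact hp ((Nat.prime_dvd_prime_iff_eq hpp Nat.prime_two).mp h1)

theorem three_zmod_eq_zero_iff (p : ℕ) [Fact p.Prime] : (3 : ZMod p) = 0 ↔ p = 3 := by
  have hpp := (Fact.out : p.Prime)
  constructor
  · intro h
    have h1 : ((3 : ℕ) : ZMod p) = 0 := by exact_mod_cast h
    rw [ZMod.natCast_eq_zero_iff] at h1
    exact (Nat.prime_dvd_prime_iff_eq hpp Nat.prime_three).mp h1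
  · intro h
    have h1 : ((3 : ℕ) : ZMod p) = 0 := by
      rw [ZMod.natCast_eq_zero_iff, h]
    exact_mod_cast h1

theorem uSL_pow_char (p : ℕ) [Fact p.Prime] (b : ZMod p) : uSL b ^ p = 1 := by
  rw [uSL_pow, ZMod.natCast_self, zero_mul, uSL_zero]

/-- If all commutators of `SL₂(p)` (`p` odd) have order prime to `p`, then `p = 3`. -/
theorem eq_three_of_forall_comm_pow (p : ℕ) [Fact p.Prime] (hp : p ≠ 2) (n : ℕ) (hn : n.Coprime p)
    (h : ∀ x y : Matrix.SpecialLinearGroup (Fin 2) (ZMod p), ⁅x, y⁆ ^ n = 1) : p = 3 := by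
  obtain ⟨a, ha⟩ := isUnit_two_zmod p hp
  have h1 := h (dSL a) (uSL 1)
  rw [comm_dSL_uSL, ha] at h1
  have h3 := uSL_pow_char p ((2 : ZMod p) * 2 * 1 - 1)
  have h4 : uSL ((2 : ZMod p) * 2 * 1 - 1) ∈ (⊥ : Subgroup _) :=
    mem_of_pow_mem_of_coprime ⊥ _ n p hn (Subgroup.mem_bot.mpr h1) (Subgroup.mem_bot.mpr h3)
  rw [Subgroup.mem_bot, ← uSL_zero] at h4
  have h5 : (2 : ZMod p) * 2 * 1 - 1 = 0 := uSL_injective h4
  rw [← three_zmod_eq_zero_iff]
  linear_combination h5

/-- `SL₂(p)` is not `p`-solvable for a prime `p ≥ 5`. -/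
theorem eq_three_of_isPSolvable_SL2 (p : ℕ) [Fact p.Prime] (hp : p ≠ 2)
    (h : Cfsg.IsPSolvable p (Matrix.SpecialLinearGroup (Fin 2) (ZMod p))) : p = 3 := by
  have hpp := (Fact.out : p.Prime)
  have : NeZero p := ⟨hpp.ne_zero⟩
  by_contra hp3
  obtain ⟨n, Hs, h0, hn, -, hnorm, hfac⟩ := h
  have key : ∀ N : Subgroup (Matrix.SpecialLinearGroup (Fin 2) (ZMod p)), N.Normal →
      ((∃ m : ℕ, N.index = p ^ m) ∨ N.index.Coprime p) → N = ⊤ := by
    intro N hN hcase
    apply eq_top_of_uSL_one_mem p N hN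
    rcases hcase with ⟨m, hm⟩ | hcop
    · obtain ⟨a, ha⟩ := isUnit_two_zmod p hp
      have hd1 : dSL a ^ (p - 1) = 1 := by
        rw [dSL_pow', ZMod.units_pow_card_sub_one_eq_one, dSL_one']
      have hd2 : dSL a ^ (p ^ m) ∈ N := by
        rw [← hm]
        exact Subgroup.pow_index_mem N _
      have hcop : (p ^ m).Coprime (p - 1) := by
        apply Nat.Coprime.pow_left
        rw [Nat.Prime.coprime_iff_not_dvd hpp]
        intro hdvd
        have := Nat.le_of_dvd (by have := hpp.two_le; omega) hdvd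
        have := hpp.two_le
        omega
      have hdN : dSL a ∈ N :=
        mem_of_pow_mem_of_coprime N _ (p ^ m) (p - 1) hcop hd2 (hd1 ▸ N.one_mem)
      have hc : ⁅dSL a, uSL (1 : ZMod p)⁆ ∈ N := by
        have h1 := hN.conj_mem _ (N.inv_mem hdN) (uSL (1 : ZMod p))
        have h2 := N.mul_mem hdN h1
        have h3 : ⁅dSL a, uSL (1 : ZMod p)⁆ =
            dSL a * (uSL (1 : ZMod p) * (dSL a)⁻¹ * (uSL (1 : ZMod p))⁻¹) := by
          rw [commutatorElement_def]; group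
        rw [h3]; exact h2
      rw [comm_dSL_uSL, ha] at hc
      have h3 : (2 : ZMod p) * 2 * 1 - 1 = 3 := by norm_num
      have h3ne : (3 : ZMod p) ≠ 0 := fun h => hp3 ((three_zmod_eq_zero_iff p).mp h)
      have h4 : uSL (1 : ZMod p) = uSL ((2 : ZMod p) * 2 * 1 - 1) ^ ((3 : ZMod p)⁻¹).val := by
        rw [uSL_pow, ZMod.natCast_zmod_val, h3, inv_mul_cancel₀ h3ne]
      rw [h4]
      exact N.pow_mem hc _
    · exact mem_of_pow_mem_of_coprime N _ N.index p hcop (Subgroup.pow_index_mem N _)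
        ((uSL_pow_char p 1).symm ▸ N.one_mem)
  have hall : ∀ i, Hs i = ⊤ := by
    intro i
    induction i using Fin.reverseInduction with
    | last => exact hn
    | cast i ih =>
      apply key _ (hnorm _)
      have h1 := hfac i
      rw [ih, Subgroup.relIndex_top_right] at h1
      exact h1
  have h1 := hall 0
  rw [h0] at h1
  have h2 : uSL (1 : ZMod p) ∈ (⊥ : Subgroup (Matrix.SpecialLinearGroup (Fin 2) (ZMod p))) := by
    rw [h1]; exact Subgroup.mem_top _
  exact uSL_one_ne_one (Subgroup.mem_bot.mp h2)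

/-- A subgroup `K₀` of the range of a homomorphism `φ` defined on a subgroup `H₁` of `G` is a
section `K / (L ∩ K)` of `G` with `K ≤ H₁`. -/
theorem exists_section_of_le_range {G : Type*} [Group G] {M : Type*} [Group M] (H₁ : Subgroup G)
    (φ : ↥H₁ →* M) (K₀ : Subgroup M) (hK₀ : K₀ ≤ φ.range) :
    ∃ (K L : Subgroup G) (_ : (L.subgroupOf K).Normal), K ≤ H₁ ∧
      Nonempty ((K ⧸ L.subgroupOf K) ≃* K₀) := by
  classical
  have hKH : (K₀.comap φ).map H₁.subtype ≤ H₁ := Subgroup.map_subtype_le _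
  let e₁ : ↥(K₀.comap φ) ≃* ↥((K₀.comap φ).map H₁.subtype) :=
    (K₀.comap φ).equivMapOfInjective H₁.subtype H₁.subtype_injective
  let ψ : ↥((K₀.comap φ).map H₁.subtype) →* ↥K₀ := (φ.subgroupComap K₀).comp e₁.symm.toMonoidHom
  have hψ : ∀ k', ψ (e₁ k') = φ.subgroupComap K₀ k' := by
    intro k'
    show (φ.subgroupComap K₀) (e₁.symm (e₁ k')) = _
    rw [e₁.symm_apply_apply]
  have hsurj : Function.Surjective ψ := by
    intro y
    obtain ⟨h, hh⟩ := hK₀ y.2
    have hmem : h ∈ K₀.comap φ := by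
      show φ h ∈ K₀
      rw [hh]; exact y.2
    refine ⟨e₁ ⟨h, hmem⟩, ?_⟩
    rw [hψ]
    exact Subtype.ext hh
  have hker : ψ.ker = (φ.ker.map H₁.subtype).subgroupOf ((K₀.comap φ).map H₁.subtype) := by
    ext k
    rw [MonoidHom.mem_ker, Subgroup.mem_subgroupOf]
    obtain ⟨k', rfl⟩ := e₁.surjective k
    rw [hψ]
    have h2 : ((e₁ k' : ↥((K₀.comap φ).map H₁.subtype)) : G) = ((k' : ↥H₁) : G) := rfl
    rw [h2]
    constructor
    · intro h
      refine ⟨k'.1, ?_, rfl⟩
      have h3 := congrArg Subtype.val h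
      exact h3
    · rintro ⟨z, hz, hzk⟩
      have h3 : z = k'.1 := H₁.subtype_injective hzk
      rw [h3] at hz
      exact Subtype.ext hz
  have hL : ((φ.ker.map H₁.subtype).subgroupOf ((K₀.comap φ).map H₁.subtype)).Normal :=
    hker ▸ ψ.normal_ker
  refine ⟨(K₀.comap φ).map H₁.subtype, φ.ker.map H₁.subtype, hL, hKH, ⟨?_⟩⟩
  exact (QuotientGroup.quotientMulEquivOfEq hker.symm).trans
    (QuotientGroup.quotientKerEquivOfSurjective ψ hsurj)

/-- Linear bridge plus Dickson: a faithful group on an elementary abelian `p`-group (`p` odd)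
generated by two quadratic elements that is not a `p`-group maps to some `SL₂(K)` with a copy
of `SL₂(p)` in the image. -/
theorem exists_copy_SL2_of_quadratic_pair {G : Type*} [Group G] [Finite G] {p : ℕ} [Fact p.Prime]
    (hp : p ≠ 2) (V H : Subgroup G) (hV : Cfsg.IsElementaryAbelian p V)
    (hHV : H ≤ Subgroup.normalizer (V : Set G)) (hf : H ⊓ Subgroup.centralizer (V : Set G) = ⊥)
    (a b : G) (hab : H = Subgroup.closure {a, b})
    (ha : ⁅⁅V, Subgroup.zpowers a⁆, Subgroup.zpowers a⁆ = ⊥)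
    (hb : ⁅⁅V, Subgroup.zpowers b⁆, Subgroup.zpowers b⁆ = ⊥) (hnp : ¬ IsPGroup p H) :
    ∃ (K : Type) (_ : Field K) (φ : ↥H →* Matrix.SpecialLinearGroup (Fin 2) K)
      (K₀ : Subgroup (Matrix.SpecialLinearGroup (Fin 2) K)), K₀ ≤ φ.range ∧
        Nonempty (K₀ ≃* Matrix.SpecialLinearGroup (Fin 2) (ZMod p)) := by
  have haH : a ∈ H := by rw [hab]; exact Subgroup.subset_closure (by simp)
  have hbH : b ∈ H := by rw [hab]; exact Subgroup.subset_closure (by simp)
  have hgen : Subgroup.closure {(⟨a, haH⟩ : H), ⟨b, hbH⟩} = (⊤ : Subgroup H) := by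
    apply Subgroup.map_injective H.subtype_injective
    rw [MonoidHom.map_closure, ← MonoidHom.range_eq_map, Subgroup.range_subtype, Set.image_pair]
    exact hab.symm
  obtain ⟨K, _, _, _, φ, hφ⟩ := exists_hom_SL2_of_quadratic_pair V H hV hHV hf a b hab ha hb hnp
  have hR : φ.range = Subgroup.closure {φ ⟨a, haH⟩, φ ⟨b, hbH⟩} := by
    rw [MonoidHom.range_eq_map, ← hgen, MonoidHom.map_closure, Set.image_pair]
  have hSp : ∀ s ∈ ({φ ⟨a, haH⟩, φ ⟨b, hbH⟩} : Set (Matrix.SpecialLinearGroup (Fin 2) K)),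
      s ^ p = 1 := by
    rintro s (rfl | rfl)
    · rw [← map_pow]
      have h1 : (⟨a, haH⟩ : H) ^ p = 1 :=
        Subtype.ext (pow_eq_one_of_quadratic V H hV hHV hf a haH ha)
      rw [h1, map_one]
    · rw [← map_pow]
      have h1 : (⟨b, hbH⟩ : H) ^ p = 1 :=
        Subtype.ext (pow_eq_one_of_quadratic V H hV hHV hf b hbH hb)
      rw [h1, map_one]
  have hsyl : 1 < Nat.card (Sylow p φ.range) :=
    one_lt_card_sylow_of_closure φ.range _ hR hSp hφ
  obtain ⟨K₀, hK₀R, he⟩ := Cfsg.Agent.S0274.result p hp φ.range hsyl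
  exact ⟨K, inferInstance, φ, K₀, hK₀R, he⟩

end Cfsg.Agent.Lib.helper13
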