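import Mathlib
import Cfsg.Prelude.Def_JComponents
import Cfsg.Agent.Lib.helper13.FaithModel
import Cfsg.Agent.Lib.helper13.Thompson2
import Cfsg.Agent.Lib.helper13.ThompsonQuot
import Cfsg.Agent.Lib.helper40.Cores
import Cfsg.Agent.Lib.helper51.PCoreOf
import Cfsg.Agent.Lib.helper53.CharP
import Cfsg.Agent.Lib.helper29.PSolv
import Cfsg.Agent.Lib.helper12.Fin
import Cfsg.Agent.Lib.helper55.Basic
import Cfsg.Agent.S0601
import Cfsg.Agent.S0606
import Cfsg.Agent.S0617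
import Cfsg.Agent.S0618

/-!
Structure of the overgroups `L ∈ jOvergroups T` (solvable, of characteristic 2, with
`C_L(Ω₁(Z(T))) ≤ N_L(T)`), used for the `J(T)`-components of Kurzweil–Stellmacher 12.2.
-/

set_option autoImplicit false

namespace Cfsg.Agent.Lib.helper13

open Cfsg

theorem card_SL2_two : Nat.card (Matrix.SpecialLinearGroup (Fin 2) (ZMod 2)) = 6 := by
  rw [Nat.card_eq_fintype_card]
  rfl

/-- A group of order 6 has `O_3` of index 2. -/
theorem index_pCore_three_of_card_six {Y : Type*} [Group Y] [Finite Y] (h : Nat.card Y = 6) :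
    (Cfsg.pCore 3 Y).index = 2 := by
  have h3 : Fact (Nat.Prime 3) := ⟨by norm_num⟩
  obtain ⟨S⟩ : Nonempty (Sylow 3 Y) := inferInstance
  have hS : Nat.card S = 3 := by
    rw [Sylow.card_eq_multiplicity, h]
    have : (6 : ℕ).factorization 3 = 1 := by
      have h6 : (6 : ℕ) = 2 * 3 := by norm_num
      rw [h6, Nat.factorization_mul (by norm_num) (by norm_num)]
      simp [Nat.Prime.factorization_self (by norm_num : Nat.Prime 3),
        Nat.factorization_eq_zero_of_not_dvd (by norm_num : ¬ 3 ∣ 2)]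
    rw [this, pow_one]
  have hSi : (S : Subgroup Y).index = 2 := by
    have := (S : Subgroup Y).card_mul_index
    rw [hS, h] at this
    omega
  have hSn : (S : Subgroup Y).Normal := Subgroup.normal_of_index_eq_two hSi
  have hle : (S : Subgroup Y) ≤ Cfsg.pCore 3 Y :=
    Cfsg.Agent.Lib.helper40.le_pCore _ hSn S.isPGroup'
  have hO : IsPGroup 3 (Cfsg.pCore 3 Y) := Cfsg.Agent.Lib.helper40.pCore_isPGroup 3 Y
  obtain ⟨k, hk⟩ := IsPGroup.iff_card.mp hO
  have hdvd : Nat.card (Cfsg.pCore 3 Y) ∣ 6 := by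
    rw [← h]; exact Subgroup.card_subgroup_dvd_card _
  have hge : 3 ≤ Nat.card (Cfsg.pCore 3 Y) := by
    have := Subgroup.card_le_of_le hle
    rw [hS] at this
    exact this
  have hcard : Nat.card (Cfsg.pCore 3 Y) = 3 := by
    have hle6 : Nat.card (Cfsg.pCore 3 Y) ≤ 6 := Nat.le_of_dvd (by norm_num) hdvd
    rw [hk] at hdvd hge hle6 ⊢
    match k, hdvd, hge, hle6 with
    | 0, _, hge, _ => norm_num at hge
    | 1, _, _, _ => norm_num
    | (k + 2), _, _, hle6 =>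
      have : 3 ^ 2 ≤ 3 ^ (k + 2) := Nat.pow_le_pow_right (by norm_num) (by omega)
      omega
  have := (Cfsg.pCore 3 Y).card_mul_index
  rw [hcard, h] at this
  omega

theorem mem_of_sq_mem_of_odd {X : Type*} [Group X] {H : Subgroup X} {x : X} (h2 : x ^ 2 ∈ H)
    (hodd : Odd (orderOf x)) : x ∈ H := by
  obtain ⟨m, hm⟩ := hodd
  have : x = (x ^ 2) ^ (m + 1) := by
    rw [← pow_mul]
    have e : 2 * (m + 1) = orderOf x + 1 := by omega
    rw [e, pow_succ, pow_orderOf_eq_one, one_mul]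
  rw [this]
  exact H.pow_mem h2 _

open scoped commutatorElement in
/-- A finite group generated by normal subgroups of order 6 that pairwise intersect trivially:
squares lie in `O_3`, and `O_3` is abelian of exponent 3. -/
theorem pCore_three_of_generated {X : Type*} [Group X] [Finite X] {ι : Type*} (E : ι → Subgroup X)
    (hn : ∀ i, (E i).Normal) (hc : ∀ i, Nat.card (E i) = 6) (hsup : ⨆ i, E i = ⊤)
    (hdis : ∀ i j, i ≠ j → E i ⊓ E j = ⊥) :
    (∀ x : X, x ^ 2 ∈ Cfsg.pCore 3 X) ∧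
    (∀ x ∈ Cfsg.pCore 3 X, ∀ y ∈ Cfsg.pCore 3 X, x * y = y * x) ∧
    (∀ x ∈ Cfsg.pCore 3 X, x ^ 3 = 1) := by
  have h3 : Fact (Nat.Prime 3) := ⟨by norm_num⟩
  have hPn : ∀ i, (Cfsg.pCoreOf 3 (E i)).Normal := by
    intro i
    have h1 := Cfsg.Agent.Lib.helper51.normalizer_le_normalizer_pCoreOf (p := 3) (E i)
    rw [Subgroup.normalizer_eq_top_iff.mpr (hn i), top_le_iff] at h1
    exact Subgroup.normalizer_eq_top_iff.mp h1
  have hP3 : ∀ i, IsPGroup 3 (Cfsg.pCoreOf 3 (E i)) := fun i =>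
    Cfsg.Agent.Lib.helper51.isPGroup_pCoreOf (E i)
  have hPE : ∀ i, Cfsg.pCoreOf 3 (E i) ≤ E i := fun i => Subgroup.map_subtype_le _
  have hidx : ∀ i, (Cfsg.pCore 3 ↥(E i)).index = 2 := fun i =>
    index_pCore_three_of_card_six (hc i)
  have hmemP : ∀ i (e : X) (he : e ∈ E i), e ∈ Cfsg.pCoreOf 3 (E i) ↔
      (⟨e, he⟩ : ↥(E i)) ∈ Cfsg.pCore 3 ↥(E i) := by
    intro i e he
    constructor
    · rintro ⟨y, hy, hye⟩
      have : y = ⟨e, he⟩ := Subtype.ext hye
      rw [← this]; exact hy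
    · intro h
      exact ⟨⟨e, he⟩, h, rfl⟩
  have hPcard : ∀ i, Nat.card (Cfsg.pCoreOf 3 (E i)) = 3 := by
    intro i
    have h1 : Nat.card (Cfsg.pCoreOf 3 (E i)) = Nat.card (Cfsg.pCore 3 ↥(E i)) :=
      Subgroup.card_map_of_injective (Subgroup.subtype_injective _)
    have h2 := (Cfsg.pCore 3 ↥(E i)).card_mul_index
    rw [hidx i, hc i] at h2
    omega
  -- squares and commutators of elements of `E i`
  have hsq : ∀ i, ∀ e ∈ E i, e ^ 2 ∈ Cfsg.pCoreOf 3 (E i) := by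
    intro i e he
    have h1 := Subgroup.sq_mem_of_index_two (hidx i) (⟨e, he⟩ : ↥(E i))
    have h2 : e ^ 2 ∈ E i := (E i).pow_mem he 2
    rw [hmemP i (e ^ 2) h2]
    exact h1
  have hcm : ∀ i, ∀ e ∈ E i, ∀ g : X, e * g * e⁻¹ * g⁻¹ ∈ Cfsg.pCoreOf 3 (E i) := by
    intro i e he g
    have hg : g * e⁻¹ * g⁻¹ ∈ E i := (hn i).conj_mem _ ((E i).inv_mem he) g
    have h1 := Subgroup.mul_mem_iff_of_index_two (hidx i)
      (a := (⟨e, he⟩ : ↥(E i))) (b := ⟨g * e⁻¹ * g⁻¹, hg⟩)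
    have h2 : e * (g * e⁻¹ * g⁻¹) ∈ E i := (E i).mul_mem he hg
    have e1 : e * g * e⁻¹ * g⁻¹ = e * (g * e⁻¹ * g⁻¹) := by group
    rw [e1, hmemP i _ h2]
    have e2 : (⟨e * (g * e⁻¹ * g⁻¹), h2⟩ : ↥(E i)) = ⟨e, he⟩ * ⟨g * e⁻¹ * g⁻¹, hg⟩ := rfl
    rw [e2, h1, ← hmemP i e he, ← hmemP i _ hg]
    constructor
    · intro h
      exact (hPn i).conj_mem _ (Subgroup.inv_mem _ h) g
    · intro h
      have := (hPn i).conj_mem _ h g⁻¹
      have e3 : g⁻¹ * (g * e⁻¹ * g⁻¹) * g⁻¹⁻¹ = e⁻¹ := by group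
      rw [e3] at this
      exact (Subgroup.inv_mem_iff _).mp this
  -- the join of the `O_3(E i)`
  obtain ⟨O', hO'⟩ : ∃ O' : Subgroup X, O' = ⨆ i, Cfsg.pCoreOf 3 (E i) := ⟨_, rfl⟩
  have hO'n : O'.Normal := by
    rw [hO']
    exact sSup_normal _ (by rintro _ ⟨i, rfl⟩; exact hPn i)
  have hPO' : ∀ i, Cfsg.pCoreOf 3 (E i) ≤ O' := fun i => by
    rw [hO']; exact le_iSup (fun i => Cfsg.pCoreOf 3 (E i)) i
  have hO'le : O' ≤ Cfsg.pCore 3 X := by
    rw [hO']
    exact iSup_le fun i => Cfsg.Agent.Lib.helper40.le_pCore _ (hPn i) (hP3 i)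
  -- all squares lie in `O'`
  have hsqO : ∀ x : X, x ^ 2 ∈ O' := by
    let M₂ : Subgroup (X ⧸ O') :=
      { carrier := {q | q ∈ Subgroup.center (X ⧸ O') ∧ q ^ 2 = 1}
        mul_mem' := by
          rintro a b ⟨ha, ha2⟩ ⟨hb, hb2⟩
          refine ⟨Subgroup.mul_mem _ ha hb, ?_⟩
          have hcomm : Commute a b := (Subgroup.mem_center_iff.mp hb a)
          rw [hcomm.mul_pow, ha2, hb2, one_mul]
        one_mem' := ⟨Subgroup.one_mem _, one_pow 2⟩
        inv_mem' := by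
          rintro a ⟨ha, ha2⟩
          exact ⟨Subgroup.inv_mem _ ha, by rw [inv_pow, ha2, inv_one]⟩ }
    have hEM : ∀ i, E i ≤ M₂.comap (QuotientGroup.mk' O') := by
      intro i e he
      rw [Subgroup.mem_comap]
      refine ⟨?_, ?_⟩
      · rw [Subgroup.mem_center_iff]
        intro q
        induction q using QuotientGroup.induction_on with
        | H g =>
          show (QuotientGroup.mk g : X ⧸ O') * QuotientGroup.mk e = QuotientGroup.mk e * QuotientGroup.mk g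
          rw [← QuotientGroup.mk_mul, ← QuotientGroup.mk_mul, QuotientGroup.eq]
          have := hPO' i (hcm i e⁻¹ ((E i).inv_mem he) g⁻¹)
          have e1 : (g * e)⁻¹ * (e * g) = e⁻¹ * g⁻¹ * e⁻¹⁻¹ * g⁻¹⁻¹ := by group
          rw [e1]; exact this
      · show (QuotientGroup.mk e : X ⧸ O') ^ 2 = 1
        rw [← QuotientGroup.mk_pow, QuotientGroup.eq_one_iff]
        exact hPO' i (hsq i e he)
    have htop : (⊤ : Subgroup X) ≤ M₂.comap (QuotientGroup.mk' O') := by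
      rw [← hsup]; exact iSup_le hEM
    intro x
    have h1 := htop (Subgroup.mem_top x)
    rw [Subgroup.mem_comap] at h1
    have h2 : (QuotientGroup.mk x : X ⧸ O') ^ 2 = 1 := h1.2
    rw [← QuotientGroup.mk_pow, QuotientGroup.eq_one_iff] at h2
    exact h2
  have hO3 : IsPGroup 3 (Cfsg.pCore 3 X) := Cfsg.Agent.Lib.helper40.pCore_isPGroup 3 X
  have hOeq : Cfsg.pCore 3 X = O' := by
    apply le_antisymm _ hO'le
    intro x hx
    apply mem_of_sq_mem_of_odd (hsqO x)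
    obtain ⟨k, hk⟩ := hO3 ⟨x, hx⟩
    have hk' : x ^ 3 ^ k = 1 := by
      have := congrArg Subtype.val hk
      simpa using this
    have hdvd := orderOf_dvd_of_pow_eq_one hk'
    obtain ⟨j, -, hj⟩ := (Nat.dvd_prime_pow Nat.prime_three).mp hdvd
    rw [hj]
    exact Odd.pow (by decide)
  refine ⟨fun x => hO'le (hsqO x), ?_⟩
  rw [hOeq]
  -- `O'` is generated by pairwise commuting elements of order dividing 3
  have hgen : O' = Subgroup.closure (⋃ i, (Cfsg.pCoreOf 3 (E i) : Set X)) := by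
    rw [hO', Subgroup.iSup_eq_closure]
  have hcyc : ∀ i, ∀ x ∈ Cfsg.pCoreOf 3 (E i), ∀ y ∈ Cfsg.pCoreOf 3 (E i), x * y = y * x := by
    intro i x hx y hy
    have hprime : Fact (Nat.card (Cfsg.pCoreOf 3 (E i))).Prime := by
      rw [hPcard i]; exact ⟨Nat.prime_three⟩
    have hcycl : IsCyclic (Cfsg.pCoreOf 3 (E i)) := isCyclic_of_prime_card (hPcard i)
    have hmc : IsMulCommutative (Cfsg.pCoreOf 3 (E i)) := hcycl.isMulCommutative
    exact comm_of_mem_of_isMulCommutative (Cfsg.pCoreOf 3 (E i)) hx hy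
  have hpair : ∀ x ∈ (⋃ i, (Cfsg.pCoreOf 3 (E i) : Set X)),
      ∀ y ∈ (⋃ i, (Cfsg.pCoreOf 3 (E i) : Set X)), x * y = y * x := by
    intro x hx y hy
    obtain ⟨i, hxi⟩ := Set.mem_iUnion.mp hx
    obtain ⟨j, hyj⟩ := Set.mem_iUnion.mp hy
    by_cases hij : i = j
    · subst hij
      exact hcyc i x hxi y hyj
    · have h1 : x * y * x⁻¹ * y⁻¹ ∈ E i ⊓ E j := by
        refine ⟨?_, ?_⟩
        · have e1 : x * y * x⁻¹ * y⁻¹ = x * (y * x⁻¹ * y⁻¹) := by group
          rw [e1]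
          exact (E i).mul_mem (hPE i hxi) ((hn i).conj_mem _ ((E i).inv_mem (hPE i hxi)) y)
        · exact (E j).mul_mem ((hn j).conj_mem _ (hPE j hyj) x) ((E j).inv_mem (hPE j hyj))
      rw [hdis i j hij, Subgroup.mem_bot] at h1
      calc x * y = (x * y * x⁻¹ * y⁻¹) * (y * x) := by group
        _ = y * x := by rw [h1, one_mul]
  have hcomm : ∀ x ∈ O', ∀ y ∈ O', x * y = y * x := by
    have h1 : O' ≤ Subgroup.centralizer (⋃ i, (Cfsg.pCoreOf 3 (E i) : Set X)) := by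
      rw [hgen, Subgroup.closure_le]
      intro x hx
      rw [SetLike.mem_coe, Subgroup.mem_centralizer_iff]
      intro y hy
      exact hpair y hy x hx
    have h2 : O' ≤ Subgroup.centralizer (O' : Set X) := by
      conv_lhs => rw [hgen]
      rw [Subgroup.closure_le]
      intro x hx
      rw [SetLike.mem_coe, Subgroup.mem_centralizer_iff]
      intro y hy
      exact (Subgroup.mem_centralizer_iff.mp (h1 hy) x hx).symm
    intro x hx y hy
    exact (Subgroup.mem_centralizer_iff.mp (h2 hy) x hx)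
  refine ⟨hcomm, ?_⟩
  intro x hx
  have hx' := hx
  rw [hgen] at hx
  refine Subgroup.closure_induction (p := fun x _ => x ^ 3 = 1) ?_ ?_ ?_ ?_ hx
  · intro y hy
    obtain ⟨i, hyi⟩ := Set.mem_iUnion.mp hy
    have := pow_card_eq_one' (G := Cfsg.pCoreOf 3 (E i)) (x := ⟨y, hyi⟩)
    rw [hPcard i] at this
    exact congrArg Subtype.val this
  · exact one_pow 3
  · intro a b ha hb ha3 hb3
    rw [← hgen] at ha hb
    have hc : Commute a b := hcomm a ha b hb
    rw [hc.mul_pow, ha3, hb3, one_mul]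
  · intro a _ ha3
    rw [inv_pow, ha3, inv_one]

/-- The conclusion of the structure theorem for groups generated by best offenders (`p = 2`),
repackaged: squares lie in `O_3`, which is abelian of exponent 3. -/
theorem pCore_three_of_family {F : Type*} [Group F] [Finite F] (H₁ : Subgroup F)
    (Q : Subgroup F → Prop)
    (hE : ∀ E : {E : Subgroup F // Q E}, H₁ ≤ Subgroup.normalizer ((E : Subgroup F) : Set F) ∧
      Nonempty (↥(E : Subgroup F) ≃* Matrix.SpecialLinearGroup (Fin 2) (ZMod 2)))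
    (hind : iSupIndep (fun E : {E : Subgroup F // Q E} => (E : Subgroup F)))
    (hsup : (⨆ E : {E : Subgroup F // Q E}, (E : Subgroup F)) = H₁) :
    (∀ x : ↥H₁, x ^ 2 ∈ Cfsg.pCore 3 ↥H₁) ∧
    (∀ x ∈ Cfsg.pCore 3 ↥H₁, ∀ y ∈ Cfsg.pCore 3 ↥H₁, x * y = y * x) ∧
    (∀ x ∈ Cfsg.pCore 3 ↥H₁, x ^ 3 = 1) := by
  have hEle : ∀ E : {E : Subgroup F // Q E}, (E : Subgroup F) ≤ H₁ := by
    intro E
    rw [← hsup]
    exact le_iSup (fun E : {E : Subgroup F // Q E} => (E : Subgroup F)) E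
  apply pCore_three_of_generated
    (fun E : {E : Subgroup F // Q E} => (E : Subgroup F).subgroupOf H₁)
  · intro E
    exact Subgroup.normal_subgroupOf_of_le_normalizer (hE E).1
  · intro E
    obtain ⟨e⟩ := (hE E).2
    rw [card_subgroupOf_of_le (hEle E), Nat.card_congr e.toEquiv, card_SL2_two]
  · apply Subgroup.map_injective H₁.subtype_injective
    rw [Subgroup.map_iSup]
    have : ∀ E : {E : Subgroup F // Q E},
        ((E : Subgroup F).subgroupOf H₁).map H₁.subtype = (E : Subgroup F) :=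
      fun E => Subgroup.map_subgroupOf_eq_of_le (hEle E)
    simp only [this]
    rw [hsup, ← MonoidHom.range_eq_map, Subgroup.range_subtype]
  · intro E E' hne
    have hd : Disjoint (E : Subgroup F) (E' : Subgroup F) := hind.pairwiseDisjoint hne
    rw [eq_bot_iff]
    intro x hx
    rw [Subgroup.mem_bot]
    apply Subtype.ext
    have h1 : (x : F) ∈ (E : Subgroup F) ⊓ (E' : Subgroup F) :=
      ⟨Subgroup.mem_subgroupOf.mp hx.1, Subgroup.mem_subgroupOf.mp hx.2⟩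
    rw [hd.eq_bot, Subgroup.mem_bot] at h1
    exact h1

open scoped commutatorElement in
/-- Core structure of a solvable group `Λ` of characteristic 2 in which `C(Ω₁(Z(P)))` normalizes
the Sylow 2-subgroup `P`: with `V = ⟨Ω₁(Z(S)) | S⟩` and `C = C_Λ(V)`, we have `[P, C] ≤ O_2(Λ)`,
and there is a normal subgroup `N ≥ C` with `N / C` abelian of exponent 3 containing all
odd-order elements of `J(Λ)`. -/
theorem overgroup_core {Λ : Type*} [Group Λ] [Finite Λ] (hsolv : Group.IsSolvable Λ)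
    (hc : Subgroup.centralizer (Cfsg.pCore 2 Λ : Set Λ) ≤ Cfsg.pCore 2 Λ) (P : Sylow 2 Λ)
    (hstar : Subgroup.centralizer (Cfsg.omegaOne 2 ((P : Subgroup Λ) ⊓
      Subgroup.centralizer ((P : Subgroup Λ) : Set Λ)) : Set Λ) ≤
        Subgroup.normalizer ((P : Subgroup Λ) : Set Λ)) :
    ∃ V N : Subgroup Λ, V.Normal ∧ Cfsg.IsElementaryAbelian 2 V ∧
      Cfsg.omegaOne 2 ((P : Subgroup Λ) ⊓ Subgroup.centralizer ((P : Subgroup Λ) : Set Λ)) ≤ V ∧
      Cfsg.pCore 2 Λ ≤ Subgroup.centralizer (V : Set Λ) ∧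
      ⁅(P : Subgroup Λ), Subgroup.centralizer (V : Set Λ)⁆ ≤ Cfsg.pCore 2 Λ ∧
      Subgroup.centralizer (V : Set Λ) ≤ N ∧ N.Normal ∧
      (∀ x ∈ N, ∀ y ∈ N, ⁅x, y⁆ ∈ Subgroup.centralizer (V : Set Λ)) ∧
      (∀ x ∈ N, x ^ 3 ∈ Subgroup.centralizer (V : Set Λ)) ∧
      (∀ x ∈ Cfsg.thompsonSubgroup 2 Λ, Odd (orderOf x) → x ∈ N) ∧
      (∀ X : Subgroup Λ, X ≤ N → (X ⊔ Subgroup.centralizer (V : Set Λ)).IsSubnormal) := by
  have hp2 : Fact (Nat.Prime 2) := ⟨Nat.prime_two⟩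
  have h3 : Fact (Nat.Prime 3) := ⟨Nat.prime_three⟩
  obtain ⟨hWn, hWel, hWD⟩ := Cfsg.Agent.S0601.result (p := 2) hc
  have hPW : Cfsg.omegaOne 2 ((P : Subgroup Λ) ⊓ Subgroup.centralizer ((P : Subgroup Λ) : Set Λ)) ≤
      ⨆ S : Sylow 2 Λ, Cfsg.omegaOne 2 ((S : Subgroup Λ) ⊓
        Subgroup.centralizer ((S : Subgroup Λ) : Set Λ)) :=
    le_iSup (fun S : Sylow 2 Λ => Cfsg.omegaOne 2 ((S : Subgroup Λ) ⊓
        Subgroup.centralizer ((S : Subgroup Λ) : Set Λ))) P
  have hRW : (⨆ S : Sylow 2 Λ, Cfsg.omegaOne 2 ((S : Subgroup Λ) ⊓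
        Subgroup.centralizer ((S : Subgroup Λ) : Set Λ))) ≤
      Subgroup.centralizer (Cfsg.pCore 2 Λ : Set Λ) := by
    apply iSup_le
    intro S
    unfold Cfsg.omegaOne
    rw [Subgroup.closure_le]
    rintro x ⟨hx, -⟩
    exact Subgroup.centralizer_le (Cfsg.Agent.Lib.helper55.pCore_le_sylow S) hx.2
  generalize hW : (⨆ S : Sylow 2 Λ, Cfsg.omegaOne 2 ((S : Subgroup Λ) ⊓
    Subgroup.centralizer ((S : Subgroup Λ) : Set Λ))) = W at *
  have hCn : (Subgroup.centralizer (W : Set Λ)).Normal := by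
    rw [← fmPi_ker W]; exact MonoidHom.normal_ker _
  have hRn : (Cfsg.pCore 2 Λ).Normal := Cfsg.Agent.Lib.helper40.pCore_normal' 2 Λ
  have hRC : Cfsg.pCore 2 Λ ≤ Subgroup.centralizer (W : Set Λ) :=
    Subgroup.le_centralizer_iff.mp hRW
  have hCP : Subgroup.centralizer (W : Set Λ) ≤ Subgroup.normalizer ((P : Subgroup Λ) : Set Λ) :=
    (Subgroup.centralizer_le hPW).trans hstar
  -- `[P, C] ≤ O_2(Λ)`
  have hPC : ⁅(P : Subgroup Λ), Subgroup.centralizer (W : Set Λ)⁆ ≤ Cfsg.pCore 2 Λ := by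
    have h1 : ⁅(P : Subgroup Λ), Subgroup.centralizer (W : Set Λ)⁆ ≤
        (P : Subgroup Λ) ⊓ Subgroup.centralizer (W : Set Λ) := by
      rw [Subgroup.commutator_le]
      intro x hx c hc'
      refine ⟨?_, ?_⟩
      · have h := (Subgroup.mem_normalizer_iff.mp (hCP hc') x⁻¹).mp (Subgroup.inv_mem _ hx)
        have e : ⁅x, c⁆ = x * (c * x⁻¹ * c⁻¹) := by
          simp only [commutatorElement_def]; group
        rw [e]
        exact Subgroup.mul_mem _ hx h
      · have e : ⁅x, c⁆ = (x * c * x⁻¹) * c⁻¹ := by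
          simp only [commutatorElement_def]
        rw [e]
        exact Subgroup.mul_mem _ (hCn.conj_mem c hc' x) (Subgroup.inv_mem _ hc')
    have h2 : (P : Subgroup Λ) ⊓ Subgroup.centralizer (W : Set Λ) ≤
        Cfsg.pCoreOf 2 (Subgroup.centralizer (W : Set Λ)) := by
      apply Cfsg.Agent.Lib.helper51.le_pCoreOf inf_le_right
      · intro c hc'
        rw [Subgroup.mem_normalizer_iff]
        intro x
        have hn := Subgroup.mem_normalizer_iff.mp (hCP hc') x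
        constructor
        · rintro ⟨h1, h2⟩
          exact ⟨hn.mp h1, hCn.conj_mem x h2 c⟩
        · rintro ⟨h1, h2⟩
          refine ⟨hn.mpr h1, ?_⟩
          have := hCn.conj_mem _ h2 c⁻¹
          have e : c⁻¹ * (c * x * c⁻¹) * c⁻¹⁻¹ = x := by group
          rwa [e] at this
      · exact P.isPGroup'.to_le inf_le_left
    have h3' : Cfsg.pCoreOf 2 (Subgroup.centralizer (W : Set Λ)) ≤ Cfsg.pCore 2 Λ := by
      have hn1 := Cfsg.Agent.Lib.helper51.normalizer_le_normalizer_pCoreOf (p := 2)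
        (Subgroup.centralizer (W : Set Λ))
      rw [Subgroup.normalizer_eq_top_iff.mpr hCn, top_le_iff] at hn1
      exact Cfsg.Agent.Lib.helper40.le_pCore _ (Subgroup.normalizer_eq_top_iff.mp hn1)
        (Cfsg.Agent.Lib.helper51.isPGroup_pCoreOf _)
    exact h1.trans (h2.trans h3')
  -- the faithful model
  have hsep : Cfsg.IsPSolvable 2 Λ := Cfsg.Agent.Lib.helper29.isPSolvable_of_isSolvable 2 hsolv
  have hOq : Cfsg.pCore 2 (Λ ⧸ Subgroup.centralizer (W : Set Λ)) = ⊥ :=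
    Cfsg.Agent.S0618.pCore_quotient_eq_bot _ hWD
  have hfin := fm_finite W
  have hJn : (Cfsg.thompsonSubgroup 2 Λ).Normal := by
    have := thompsonSubgroup_characteristic 2 Λ
    infer_instance
  have hbo : ∀ B ∈ Cfsg.maxElementaryAbelianSubgroups 2 Λ, Cfsg.IsBestOffenderOn 2 W B :=
    fun B hB => Cfsg.Agent.S0606.result W hWel B hB
  have hV' := fmV_elemAb W hWel
  have hHV := fm_hHV W (Cfsg.thompsonSubgroup 2 Λ)
  have hf := fm_faithful W (Cfsg.thompsonSubgroup 2 Λ)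
  have hS1 := fm_hS1 W hsep hOq (Cfsg.thompsonSubgroup 2 Λ)
  have hS3 := fm_hS3 W (Cfsg.maxElementaryAbelianSubgroups 2 Λ) hbo
  have hker : ∀ x : Λ, fmPi W x = 1 ↔ x ∈ Subgroup.centralizer (W : Set Λ) := by
    intro x
    rw [← MonoidHom.mem_ker, fmPi_ker]
  have hmapdef : (Cfsg.thompsonSubgroup 2 Λ).map (fmPi W) =
      (sSup (Cfsg.maxElementaryAbelianSubgroups 2 Λ)).map (fmPi W) := rfl
  generalize hH₁ : (Cfsg.thompsonSubgroup 2 Λ).map (fmPi W) = H₁ at *
  have key : (∀ x : ↥H₁, x ^ 2 ∈ Cfsg.pCore 3 ↥H₁) ∧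
      (∀ x ∈ Cfsg.pCore 3 ↥H₁, ∀ y ∈ Cfsg.pCore 3 ↥H₁, x * y = y * x) ∧
      (∀ x ∈ Cfsg.pCore 3 ↥H₁, x ^ 3 = 1) := by
    by_cases hH1 : H₁ = ⊥
    · have hsub : ∀ x : ↥H₁, x = 1 := by
        intro x
        apply Subtype.ext
        have hx : (x : FM W) ∈ H₁ := x.2
        have hle : H₁ ≤ ⊥ := hH1.le
        exact Subgroup.mem_bot.mp (hle hx)
      refine ⟨fun x => ?_, fun x _ y _ => ?_, fun x _ => ?_⟩
      · rw [hsub x, one_pow]; exact Subgroup.one_mem _
      · rw [hsub x, hsub y]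
      · rw [hsub x, one_pow]
    · obtain ⟨-, hE, hind, hsupE, -, -⟩ :=
        Cfsg.Agent.S0617.result (fmV W) H₁ hV' hHV hf hS1 (hmapdef ▸ hS3) hH1
      exact pCore_three_of_family H₁ _ (fun E => ⟨(hE E).1, (hE E).2.1⟩) hind hsupE
  obtain ⟨ksq, kcomm, kcube⟩ := key
  have hJH : ∀ x ∈ Cfsg.thompsonSubgroup 2 Λ, fmPi W x ∈ H₁ := by
    intro x hx
    rw [← hH₁]
    exact Subgroup.mem_map_of_mem _ hx
  have hrange : ∀ g : Λ, fmPi W g ∈ Subgroup.normalizer ((Cfsg.pCoreOf 3 H₁ : Subgroup (FM W)) :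
      Set (FM W)) := by
    intro g
    apply Cfsg.Agent.Lib.helper51.normalizer_le_normalizer_pCoreOf (p := 3) H₁
    rw [← hH₁]
    apply Subgroup.le_normalizer_map (fmPi W)
    refine ⟨g, ?_, rfl⟩
    rw [Subgroup.normalizer_eq_top_iff.mpr hJn]
    exact Subgroup.mem_top g
  have hDmem : ∀ y : FM W, y ∈ Cfsg.pCoreOf 3 H₁ ↔ ∃ hy : y ∈ H₁, (⟨y, hy⟩ : ↥H₁) ∈ Cfsg.pCore 3 ↥H₁ := by
    intro y
    constructor
    · rintro ⟨z, hz, rfl⟩
      exact ⟨z.2, hz⟩
    · rintro ⟨hy, h⟩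
      exact ⟨⟨y, hy⟩, h, rfl⟩
  refine ⟨W, (Cfsg.pCoreOf 3 H₁).comap (fmPi W), hWn, hWel, hPW, hRC, hPC, ?_, ?_, ?_, ?_, ?_, ?_⟩
  · intro c hc'
    rw [Subgroup.mem_comap, (hker c).mpr hc']
    exact Subgroup.one_mem _
  · constructor
    intro n hn g
    rw [Subgroup.mem_comap] at hn ⊢
    rw [map_mul, map_mul, map_inv]
    exact (Subgroup.mem_normalizer_iff.mp (hrange g) _).mp hn
  · intro x hx y hy
    rw [Subgroup.mem_comap, hDmem] at hx hy
    obtain ⟨hx1, hx2⟩ := hx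
    obtain ⟨hy1, hy2⟩ := hy
    rw [← hker, map_commutatorElement, commutatorElement_def]
    have := congrArg Subtype.val (kcomm _ hx2 _ hy2)
    simp only [Subgroup.coe_mul] at this
    rw [this]; group
  · intro x hx
    rw [Subgroup.mem_comap, hDmem] at hx
    obtain ⟨hx1, hx2⟩ := hx
    rw [← hker, map_pow]
    have := congrArg Subtype.val (kcube _ hx2)
    simpa using this
  · intro x hx hodd
    rw [Subgroup.mem_comap, hDmem]
    refine ⟨hJH x hx, ?_⟩
    apply mem_of_sq_mem_of_odd (ksq _)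
    have hdvd : orderOf (⟨fmPi W x, hJH x hx⟩ : ↥H₁) ∣ orderOf x := by
      rw [← Subgroup.orderOf_coe]
      exact orderOf_map_dvd _ x
    exact Odd.of_dvd_nat hodd hdvd
  · intro X hX
    have hDnil : Group.IsNilpotent ↥(Cfsg.pCoreOf 3 H₁) :=
      (Cfsg.Agent.Lib.helper51.isPGroup_pCoreOf (p := 3) H₁).isNilpotent
    have hY := Cfsg.Agent.Lib.helper12.isSubnormal_of_isNilpotent
      ((X.map (fmPi W)).subgroupOf (Cfsg.pCoreOf 3 H₁))
    have hcomap := hY.comap ((fmPi W).subgroupComap (Cfsg.pCoreOf 3 H₁))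
    have heq : ((X.map (fmPi W)).subgroupOf (Cfsg.pCoreOf 3 H₁)).comap
        ((fmPi W).subgroupComap (Cfsg.pCoreOf 3 H₁)) =
        (X ⊔ Subgroup.centralizer (W : Set Λ)).subgroupOf ((Cfsg.pCoreOf 3 H₁).comap (fmPi W)) := by
      have hmem : ∀ m : Λ, fmPi W m ∈ X.map (fmPi W) ↔
          m ∈ X ⊔ Subgroup.centralizer (W : Set Λ) := by
        intro m
        rw [← Subgroup.mem_comap, Subgroup.comap_map_eq, fmPi_ker]
      ext n
      rw [Subgroup.mem_comap, Subgroup.mem_subgroupOf, Subgroup.mem_subgroupOf]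
      exact hmem n
    rw [heq] at hcomap
    have hNn : ((Cfsg.pCoreOf 3 H₁).comap (fmPi W)).Normal := by
      constructor
      intro n hn g
      rw [Subgroup.mem_comap] at hn ⊢
      rw [map_mul, map_mul, map_inv]
      exact (Subgroup.mem_normalizer_iff.mp (hrange g) _).mp hn
    refine Subgroup.IsSubnormal.trans (sup_le hX ?_) hcomap hNn.isSubnormal
    intro c hc'
    rw [Subgroup.mem_comap, (hker c).mpr hc']
    exact Subgroup.one_mem _

section Transfer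

universe u

variable {G : Type u} [Group G]

theorem map_subtype_centralizer (L : Subgroup G) (B : Subgroup ↥L) :
    (Subgroup.centralizer (B : Set ↥L)).map L.subtype =
      L ⊓ Subgroup.centralizer ((B.map L.subtype : Subgroup G) : Set G) := by
  ext x
  constructor
  · rintro ⟨c, hc, rfl⟩
    refine ⟨c.2, Subgroup.mem_centralizer_iff.mpr ?_⟩
    rintro _ ⟨b, hb, rfl⟩
    have := Subgroup.mem_centralizer_iff.mp hc b hb
    exact congrArg Subtype.val this
  · rintro ⟨hxL, hx⟩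
    refine ⟨⟨x, hxL⟩, Subgroup.mem_centralizer_iff.mpr ?_, rfl⟩
    intro b hb
    apply Subtype.ext
    exact Subgroup.mem_centralizer_iff.mp hx (b : G) ⟨b, hb, rfl⟩

theorem le_normalizer_map_subtype (L : Subgroup G) (B : Subgroup ↥L) (hB : B.Normal) :
    L ≤ Subgroup.normalizer ((B.map L.subtype : Subgroup G) : Set G) := by
  have h := Subgroup.le_normalizer_map (H := B) L.subtype
  rw [Subgroup.normalizer_eq_top_iff.mpr hB, ← MonoidHom.range_eq_map, Subgroup.range_subtype] at h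
  exact h

theorem exists_sylow_of_isSylowTwoIn [Finite G] {T L : Subgroup G} (h : IsSylowTwoIn T L) :
    ∃ P : Sylow 2 ↥L, (P : Subgroup ↥L) = T.subgroupOf L := by
  obtain ⟨hTL, hT2, hodd⟩ := h
  have hp2 : Fact (Nat.Prime 2) := ⟨Nat.prime_two⟩
  have hTp : IsPGroup 2 (T.subgroupOf L) :=
    hT2.comap_of_injective L.subtype L.subtype_injective
  obtain ⟨P, hP⟩ := hTp.exists_le_sylow
  refine ⟨P, ?_⟩
  apply le_antisymm _ hP
  rw [← Subgroup.relIndex_eq_one]
  have h1 : (T.subgroupOf L).relIndex P ∣ (T.subgroupOf L).index :=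
    Dvd.intro _ (Subgroup.relIndex_mul_index hP)
  have h2 : (T.subgroupOf L).index = T.relIndex L := rfl
  have h3 : (T.subgroupOf L).relIndex P ∣ Nat.card P :=
    Dvd.intro _ (relIndex_mul_card_of_le hP)
  obtain ⟨k, hk⟩ := IsPGroup.iff_card.mp P.isPGroup'
  rw [hk] at h3
  obtain ⟨j, -, hj⟩ := (Nat.dvd_prime_pow Nat.prime_two).mp h3
  rw [h2] at h1
  have hodd' : Odd ((T.subgroupOf L).relIndex P) := Odd.of_dvd_nat hodd h1
  rw [hj] at hodd' ⊢
  cases j with
  | zero => rfl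
  | succ j =>
    exfalso
    rw [pow_succ] at hodd'
    exact (Nat.not_even_iff_odd.mpr hodd') (even_two.mul_left _)

/-- A Sylow 2-subgroup `T` of `L` is the intersection of `L` with any 2-subgroup containing it. -/
theorem eq_inf_of_isSylowTwoIn [Finite G] {T L S : Subgroup G} (h : IsSylowTwoIn T L)
    (hS : IsPGroup 2 S) (hTS : T ≤ S) : S ⊓ L = T := by
  obtain ⟨hTL, hT2, hodd⟩ := h
  apply le_antisymm _ (le_inf hTS hTL)
  rw [← Subgroup.relIndex_eq_one]
  have h1 : T.relIndex (S ⊓ L) ∣ T.relIndex L :=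
    Dvd.intro _ (Subgroup.relIndex_mul_relIndex T (S ⊓ L) L (le_inf hTS hTL) inf_le_right)
  have h3 : T.relIndex (S ⊓ L) ∣ Nat.card (S ⊓ L : Subgroup G) :=
    Dvd.intro _ (relIndex_mul_card_of_le (le_inf hTS hTL))
  have hSL : IsPGroup 2 (S ⊓ L : Subgroup G) := hS.to_le inf_le_left
  obtain ⟨k, hk⟩ := IsPGroup.iff_card.mp hSL
  rw [hk] at h3
  obtain ⟨j, -, hj⟩ := (Nat.dvd_prime_pow Nat.prime_two).mp h3
  have hodd' : Odd (T.relIndex (S ⊓ L)) := Odd.of_dvd_nat hodd h1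
  rw [hj] at hodd' ⊢
  cases j with
  | zero => rfl
  | succ j =>
    exfalso
    rw [pow_succ] at hodd'
    exact (Nat.not_even_iff_odd.mpr hodd') (even_two.mul_left _)

/-- The key consequence of the hypothesis on centralizers of `Ω₁(Z(S))`: in an overgroup `L` of
characteristic 2 with Sylow 2-subgroup `T`, the centralizer of `Ω₁(Z(T))` in `L` normalizes `T`. -/
theorem inf_centralizer_omegaCenterOf_le_normalizer [Finite G]
    (hZ : ∀ S : Sylow 2 G, Subgroup.centralizer (Cfsg.omegaCenterOf (S : Subgroup G) : Set G) ≤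
      Subgroup.normalizer ((S : Subgroup G) : Set G))
    {T L : Subgroup G} (hT : IsSylowTwoIn T L)
    (hchar : Subgroup.centralizer (Cfsg.pCoreOf 2 L : Set G) ≤ Cfsg.pCoreOf 2 L) :
    L ⊓ Subgroup.centralizer (Cfsg.omegaCenterOf T : Set G) ≤
      Subgroup.normalizer (T : Set G) := by
  have hp2 : Fact (Nat.Prime 2) := ⟨Nat.prime_two⟩
  obtain ⟨P, hP⟩ := exists_sylow_of_isSylowTwoIn hT
  obtain ⟨S₀, hS₀⟩ := hT.2.1.exists_le_sylow
  have hRT : Cfsg.pCoreOf 2 L ≤ T := by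
    have h1 : Cfsg.pCore 2 ↥L ≤ T.subgroupOf L := by
      rw [← hP]; exact Cfsg.Agent.Lib.helper55.pCore_le_sylow P
    rintro _ ⟨r, hr, rfl⟩
    exact Subgroup.mem_subgroupOf.mp (h1 hr)
  have hOm : Cfsg.omegaCenterOf (S₀ : Subgroup G) ≤ Cfsg.omegaCenterOf T := by
    unfold Cfsg.omegaCenterOf Cfsg.omegaOne
    apply Subgroup.closure_mono
    rintro x ⟨⟨hx1, hx2⟩, hx3⟩
    have hxR : x ∈ Cfsg.pCoreOf 2 L :=
      hchar (Subgroup.centralizer_le (hRT.trans hS₀) hx2)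
    exact ⟨⟨hRT hxR, Subgroup.centralizer_le hS₀ hx2⟩, hx3⟩
  have hTeq : (S₀ : Subgroup G) ⊓ L = T := eq_inf_of_isSylowTwoIn hT S₀.isPGroup' hS₀
  rintro g ⟨hgL, hgc⟩
  have hgS : g ∈ Subgroup.normalizer ((S₀ : Subgroup G) : Set G) :=
    hZ S₀ (Subgroup.centralizer_le hOm hgc)
  rw [Subgroup.mem_normalizer_iff] at hgS ⊢
  intro h
  rw [← hTeq]
  constructor
  · rintro ⟨h1, h2⟩
    exact ⟨(hgS h).mp h1, L.mul_mem (L.mul_mem hgL h2) (L.inv_mem hgL)⟩
  · rintro ⟨h1, h2⟩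
    refine ⟨(hgS h).mpr h1, ?_⟩
    have := L.mul_mem (L.mul_mem (L.inv_mem hgL) h2) hgL
    have e : g⁻¹ * (g * h * g⁻¹) * g = h := by group
    rwa [e] at this

open scoped commutatorElement in
/-- Structure of an overgroup `L` of characteristic 2 (solvable, with Sylow 2-subgroup `T`) in a
group where `C_G(Ω₁(Z(S))) ≤ N_G(S)` for the Sylow 2-subgroups `S`: there are `V ≤ N` normalized by
`L`, with `V` elementary abelian containing `Ω₁(Z(T))`, `C = C_L(V)` satisfying `[T, C] ≤ O_2(L)`,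
`N / C` abelian of exponent 3, and `N` contains every subgroup `X = [X, J(T)]` of `L` generated by
elements of odd order. -/
theorem overgroup_structure [Finite G]
    (hZ : ∀ S : Sylow 2 G, Subgroup.centralizer (Cfsg.omegaCenterOf (S : Subgroup G) : Set G) ≤
      Subgroup.normalizer ((S : Subgroup G) : Set G))
    {T L : Subgroup G} (hT : IsSylowTwoIn T L) (hsolv : Group.IsSolvable ↥L)
    (hchar : Subgroup.centralizer (Cfsg.pCoreOf 2 L : Set G) ≤ Cfsg.pCoreOf 2 L) :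
    ∃ V N : Subgroup G,
      V ≤ L ∧ L ≤ Subgroup.normalizer (V : Set G) ∧ Cfsg.IsElementaryAbelian 2 V ∧
      Cfsg.omegaCenterOf T ≤ V ∧
      Cfsg.pCoreOf 2 L ≤ Subgroup.centralizer (V : Set G) ∧
      ⁅T, L ⊓ Subgroup.centralizer (V : Set G)⁆ ≤ Cfsg.pCoreOf 2 L ∧
      L ⊓ Subgroup.centralizer (V : Set G) ≤ N ∧ N ≤ L ∧ L ≤ Subgroup.normalizer (N : Set G) ∧
      (∀ x ∈ N, ∀ y ∈ N, ⁅x, y⁆ ∈ Subgroup.centralizer (V : Set G)) ∧
      (∀ x ∈ N, x ^ 3 ∈ Subgroup.centralizer (V : Set G)) ∧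
      (∀ X : Subgroup G, X ≤ L → ⁅X, Cfsg.thompsonSubgroupOf 2 T⁆ = X →
        Subgroup.closure {x : G | x ∈ X ∧ Odd (orderOf x)} = X → X ≤ N) ∧
      (∀ X : Subgroup G, X ≤ N →
        ((X ⊔ (L ⊓ Subgroup.centralizer (V : Set G))).subgroupOf L).IsSubnormal) := by
  have hp2 : Fact (Nat.Prime 2) := ⟨Nat.prime_two⟩
  obtain ⟨P, hP⟩ := exists_sylow_of_isSylowTwoIn hT
  have hTL : T ≤ L := hT.1
  have hPmap : (P : Subgroup ↥L).map L.subtype = T := by
    rw [hP]; exact Subgroup.map_subgroupOf_eq_of_le hTL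
  have hPmem : ∀ q : ↥L, q ∈ (P : Subgroup ↥L) ↔ (q : G) ∈ T := by
    intro q
    rw [hP, Subgroup.mem_subgroupOf]
  have hcΛ : Subgroup.centralizer (Cfsg.pCore 2 ↥L : Set ↥L) ≤ Cfsg.pCore 2 ↥L :=
    Cfsg.Agent.Lib.helper53.charP_subtype_of_ambient (inf_le_right.trans hchar)
  have hstarG := inf_centralizer_omegaCenterOf_le_normalizer hZ hT hchar
  have hOmMap : ∀ x : G, x ∈ T ⊓ Subgroup.centralizer (T : Set G) → x ^ 2 = 1 →
      ∃ x' : ↥L, (x' : G) = x ∧ x' ∈ Cfsg.omegaOne 2 ((P : Subgroup ↥L) ⊓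
        Subgroup.centralizer ((P : Subgroup ↥L) : Set ↥L)) := by
    rintro x ⟨hx1, hx2⟩ hx3
    refine ⟨⟨x, hTL hx1⟩, rfl, Subgroup.subset_closure ⟨⟨?_, ?_⟩, ?_⟩⟩
    · exact (hPmem _).mpr hx1
    · apply Subgroup.mem_centralizer_iff.mpr
      intro q hq
      apply Subtype.ext
      exact Subgroup.mem_centralizer_iff.mp hx2 q ((hPmem q).mp hq)
    · apply Subtype.ext
      simpa using hx3
  have hstar : Subgroup.centralizer (Cfsg.omegaOne 2 ((P : Subgroup ↥L) ⊓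
      Subgroup.centralizer ((P : Subgroup ↥L) : Set ↥L)) : Set ↥L) ≤
        Subgroup.normalizer ((P : Subgroup ↥L) : Set ↥L) := by
    intro y hy
    have hyG : (y : G) ∈ L ⊓ Subgroup.centralizer (Cfsg.omegaCenterOf T : Set G) := by
      refine ⟨y.2, ?_⟩
      have hle : Cfsg.omegaCenterOf T ≤ Subgroup.centralizer ({(y : G)} : Set G) := by
        unfold Cfsg.omegaCenterOf Cfsg.omegaOne
        rw [Subgroup.closure_le]
        rintro x ⟨hx12, hx3⟩
        obtain ⟨x', hx'x, hx'⟩ := hOmMap x hx12 hx3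
        have h1 := Subgroup.mem_centralizer_iff.mp hy x' hx'
        apply Subgroup.mem_centralizer_iff.mpr
        intro z hz
        rw [Set.mem_singleton_iff] at hz
        rw [hz, ← hx'x]
        exact (congrArg Subtype.val h1).symm
      apply Subgroup.mem_centralizer_iff.mpr
      intro z hz
      exact (Subgroup.mem_centralizer_iff.mp (hle hz) (y : G) rfl).symm
    have hyN := hstarG hyG
    rw [Subgroup.mem_normalizer_iff] at hyN ⊢
    intro h
    rw [hPmem, hPmem]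
    exact hyN h
  obtain ⟨V', N', hVn, hVel, hOmV, hRC, hPC, hCN, hNn, hcomm, hcube, hodd, hsub⟩ :=
    overgroup_core hsolv hcΛ P hstar
  have hCmap := map_subtype_centralizer L V'
  refine ⟨V'.map L.subtype, N'.map L.subtype, Subgroup.map_subtype_le _,
    le_normalizer_map_subtype L V' hVn, elemAb_map _ hVel, ?_, ?_, ?_, ?_,
    Subgroup.map_subtype_le _, le_normalizer_map_subtype L N' hNn, ?_, ?_, ?_, ?_⟩
  · unfold Cfsg.omegaCenterOf Cfsg.omegaOne
    rw [Subgroup.closure_le]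
    rintro x ⟨hx12, hx3⟩
    obtain ⟨x', hx'x, hx'⟩ := hOmMap x hx12 hx3
    exact ⟨x', hOmV hx', hx'x⟩
  · have : Cfsg.pCoreOf 2 L ≤
        L ⊓ Subgroup.centralizer ((V'.map L.subtype : Subgroup G) : Set G) := by
      rw [← hCmap]; exact Subgroup.map_mono hRC
    exact this.trans inf_le_right
  · rw [← hCmap, ← hPmap, ← Subgroup.map_commutator]
    exact Subgroup.map_mono hPC
  · rw [← hCmap]; exact Subgroup.map_mono hCN
  · rintro _ ⟨x, hx, rfl⟩ _ ⟨y, hy, rfl⟩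
    have h1 : L.subtype ⁅x, y⁆ ∈ (Subgroup.centralizer (V' : Set ↥L)).map L.subtype :=
      Subgroup.mem_map_of_mem _ (hcomm x hx y hy)
    rw [hCmap, map_commutatorElement] at h1
    exact h1.2
  · rintro _ ⟨x, hx, rfl⟩
    have h1 : L.subtype (x ^ 3) ∈ (Subgroup.centralizer (V' : Set ↥L)).map L.subtype :=
      Subgroup.mem_map_of_mem _ (hcube x hx)
    rw [hCmap, map_pow] at h1
    exact h1.2
  · intro X hXL hXJ hXgen
    have hJle : Cfsg.thompsonSubgroupOf 2 T ≤ (Cfsg.thompsonSubgroup 2 ↥L).map L.subtype := by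
      rw [← hPmap, thompsonSubgroupOf_map_of_injOn L.subtype (P : Subgroup ↥L)
        (L.subtype_injective.injOn)]
      apply Subgroup.map_mono
      rw [thompsonSubgroup_eq_iSup_sylow]
      exact le_iSup (fun S : Sylow 2 ↥L => Cfsg.thompsonSubgroupOf 2 (S : Subgroup ↥L)) P
    have hJLn : L ≤ Subgroup.normalizer
        (((Cfsg.thompsonSubgroup 2 ↥L).map L.subtype : Subgroup G) : Set G) :=
      le_normalizer_map_subtype L _ (by
        have := thompsonSubgroup_characteristic 2 ↥L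
        infer_instance)
    have hXJL : X ≤ (Cfsg.thompsonSubgroup 2 ↥L).map L.subtype := by
      rw [← hXJ, Subgroup.commutator_le]
      intro x hx j hj
      have h1 := (Subgroup.mem_normalizer_iff.mp (hJLn (hXL hx)) j).mp (hJle hj)
      have e : ⁅x, j⁆ = (x * j * x⁻¹) * j⁻¹ := by simp only [commutatorElement_def]
      rw [e]
      exact Subgroup.mul_mem _ h1 (Subgroup.inv_mem _ (hJle hj))
    rw [← hXgen, Subgroup.closure_le]
    rintro x ⟨hxX, hxodd⟩
    obtain ⟨x', hx'J, rfl⟩ := hXJL hxX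
    refine ⟨x', hodd x' hx'J ?_, rfl⟩
    have : orderOf (L.subtype x') = orderOf x' :=
      orderOf_injective L.subtype L.subtype_injective x'
    rw [← this]; exact hxodd
  · intro X hXN
    have hX' : X.subgroupOf L ≤ N' := by
      intro x hx
      obtain ⟨n, hn, hnx⟩ := hXN (Subgroup.mem_subgroupOf.mp hx)
      have : n = x := Subtype.ext hnx
      rw [← this]; exact hn
    have h1 := hsub (X.subgroupOf L) hX'
    have hXL : X ≤ L := hXN.trans (Subgroup.map_subtype_le _)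
    have heq : (X ⊔ (L ⊓ Subgroup.centralizer
        ((V'.map L.subtype : Subgroup G) : Set G))).subgroupOf L =
        X.subgroupOf L ⊔ Subgroup.centralizer (V' : Set ↥L) := by
      apply Subgroup.map_injective L.subtype_injective
      rw [Subgroup.map_subgroupOf_eq_of_le (sup_le hXL inf_le_left), Subgroup.map_sup,
        Subgroup.map_subgroupOf_eq_of_le hXL, hCmap]
    rw [heq]; exact h1

open scoped commutatorElement in
/-- The three subgroups lemma modulo a subgroup `N` normalized by the three subgroups. -/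
theorem three_subgroups_mod {H₁ H₂ H₃ N : Subgroup G}
    (hN₁ : H₁ ≤ Subgroup.normalizer (N : Set G)) (hN₂ : H₂ ≤ Subgroup.normalizer (N : Set G))
    (hN₃ : H₃ ≤ Subgroup.normalizer (N : Set G))
    (h1 : ⁅⁅H₂, H₃⁆, H₁⁆ ≤ N) (h2 : ⁅⁅H₃, H₁⁆, H₂⁆ ≤ N) : ⁅⁅H₁, H₂⁆, H₃⁆ ≤ N := by
  have hconj : ∀ g ∈ Subgroup.normalizer (N : Set G), ∀ n ∈ N, g * n * g⁻¹ ∈ N :=
    fun g hg n hn => (Subgroup.mem_normalizer_iff.mp hg n).mp hn
  have key : ∀ x ∈ H₁, ∀ y ∈ H₂, ∀ z ∈ H₃, ⁅z, ⁅x, y⁆⁆ ∈ N := by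
    intro x hx y hy z hz
    have e : ⁅z, ⁅x, y⁆⁆ = ((x * z) * ⁅y, ⁅z⁻¹, x⁻¹⁆⁆⁻¹ * (x * z)⁻¹) *
        ((x * y) * ⁅x⁻¹, ⁅y⁻¹, z⁆⁆⁻¹ * (x * y)⁻¹) := by
      simp only [commutatorElement_def]; group
    rw [e]
    have a1 : ⁅y, ⁅z⁻¹, x⁻¹⁆⁆⁻¹ ∈ N := by
      rw [commutatorElement_inv]
      exact h2 (Subgroup.commutator_mem_commutator
        (Subgroup.commutator_mem_commutator (H₃.inv_mem hz) (H₁.inv_mem hx)) hy)
    have a2 : ⁅x⁻¹, ⁅y⁻¹, z⁆⁆⁻¹ ∈ N := by
      rw [commutatorElement_inv]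
      exact h1 (Subgroup.commutator_mem_commutator
        (Subgroup.commutator_mem_commutator (H₂.inv_mem hy) hz) (H₁.inv_mem hx))
    exact N.mul_mem (hconj _ (Subgroup.mul_mem _ (hN₁ hx) (hN₃ hz)) _ a1)
      (hconj _ (Subgroup.mul_mem _ (hN₁ hx) (hN₂ hy)) _ a2)
  let M : Subgroup G :=
    { carrier := {w | w ∈ Subgroup.normalizer (N : Set G) ∧ ∀ z ∈ H₃, ⁅w, z⁆ ∈ N}
      mul_mem' := by
        rintro a b ⟨ha, ha'⟩ ⟨hb, hb'⟩
        refine ⟨Subgroup.mul_mem _ ha hb, fun z hz => ?_⟩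
        have e : ⁅a * b, z⁆ = (a * ⁅b, z⁆ * a⁻¹) * ⁅a, z⁆ := by
          simp only [commutatorElement_def]; group
        rw [e]
        exact N.mul_mem (hconj a ha _ (hb' z hz)) (ha' z hz)
      one_mem' := ⟨Subgroup.one_mem _, fun z _ => by
        have e : ⁅(1 : G), z⁆ = 1 := by simp only [commutatorElement_def]; group
        rw [e]; exact N.one_mem⟩
      inv_mem' := by
        rintro a ⟨ha, ha'⟩
        refine ⟨Subgroup.inv_mem _ ha, fun z hz => ?_⟩
        have e : ⁅a⁻¹, z⁆ = a⁻¹ * ⁅a, z⁆⁻¹ * a⁻¹⁻¹ := by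
          simp only [commutatorElement_def]; group
        rw [e]
        exact hconj _ (Subgroup.inv_mem _ ha) _ (N.inv_mem (ha' z hz)) }
  have hM : ⁅H₁, H₂⁆ ≤ M := by
    rw [Subgroup.commutator_le]
    intro x hx y hy
    refine ⟨?_, fun z hz => ?_⟩
    · rw [commutatorElement_def]
      exact Subgroup.mul_mem _ (Subgroup.mul_mem _ (Subgroup.mul_mem _ (hN₁ hx) (hN₂ hy))
        (Subgroup.inv_mem _ (hN₁ hx))) (Subgroup.inv_mem _ (hN₂ hy))
    · have := N.inv_mem (key x hx y hy z hz)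
      rwa [commutatorElement_inv] at this
  rw [Subgroup.commutator_le]
  intro w hw z hz
  exact (hM hw).2 z hz

theorem pCoreOf_le_of_isSylowTwoIn [Finite G] {T L : Subgroup G} (hT : IsSylowTwoIn T L) :
    Cfsg.pCoreOf 2 L ≤ T := by
  obtain ⟨P, hP⟩ := exists_sylow_of_isSylowTwoIn hT
  have h1 : Cfsg.pCore 2 ↥L ≤ T.subgroupOf L := by
    rw [← hP]; exact Cfsg.Agent.Lib.helper55.pCore_le_sylow P
  rintro _ ⟨r, hr, rfl⟩
  exact Subgroup.mem_subgroupOf.mp (h1 hr)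

theorem le_normalizer_sup {A B C : Subgroup G} (hB : A ≤ Subgroup.normalizer (B : Set G))
    (hC : A ≤ Subgroup.normalizer (C : Set G)) :
    A ≤ Subgroup.normalizer ((B ⊔ C : Subgroup G) : Set G) := by
  intro a ha
  rw [Subgroup.mem_normalizer_iff_map_conj_eq, Subgroup.map_sup,
    Subgroup.mem_normalizer_iff_map_conj_eq.mp (hB ha),
    Subgroup.mem_normalizer_iff_map_conj_eq.mp (hC ha)]

/-- A nontrivial 2-subgroup with a self-centralizing `O_2`-overgroup has nontrivial `O_2`. -/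
theorem pCoreOf_ne_bot_of_centralizer_le {T L : Subgroup G} (hT1 : T ≠ ⊥)
    (hchar : Subgroup.centralizer (Cfsg.pCoreOf 2 L : Set G) ≤ Cfsg.pCoreOf 2 L) :
    Cfsg.pCoreOf 2 L ≠ ⊥ := by
  intro h
  rw [h] at hchar
  apply hT1
  rw [eq_bot_iff]
  intro t _
  apply hchar
  apply Subgroup.mem_centralizer_iff.mpr
  intro x hx
  rw [SetLike.mem_coe, Subgroup.mem_bot] at hx
  rw [hx, one_mul, mul_one]

/-- Members of `jOvergroups T` are solvable when all 2-locals are. -/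
theorem isSolvable_of_mem_jOvergroups [Finite G]
    (hN : ∀ N : Subgroup G, Cfsg.IsTwoLocal N → Group.IsSolvable ↥N)
    {T L : Subgroup G} (hT1 : T ≠ ⊥)
    (hchar : Subgroup.centralizer (Cfsg.pCoreOf 2 L : Set G) ≤ Cfsg.pCoreOf 2 L) :
    Group.IsSolvable ↥L := by
  have hp2 : Fact (Nat.Prime 2) := ⟨Nat.prime_two⟩
  have hLR : L ≤ Subgroup.normalizer (Cfsg.pCoreOf 2 L : Set G) :=
    Cfsg.Agent.Lib.helper51.le_normalizer_pCoreOf 2 L
  have hsolvN := hN _ ⟨Cfsg.pCoreOf 2 L, Cfsg.Agent.Lib.helper51.isPGroup_pCoreOf L,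
    pCoreOf_ne_bot_of_centralizer_le hT1 hchar, rfl⟩
  exact solvable_of_solvable_injective (Subgroup.inclusion_injective hLR)

end Transfer

end Cfsg.Agent.Lib.helper13
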