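import Mathlib
import Cfsg.Prelude.Def_JComponents
import Cfsg.Agent.Lib.helper13.JOver
import Cfsg.Agent.Lib.helper51.Amalgam
import Cfsg.Agent.Lib.helper51.PCoreOf
import Cfsg.Agent.Lib.helper1.Coprime
import Cfsg.Agent.Lib.helper13.NilAct
import Cfsg.Agent.Lib.helper13.SylowIn
import Cfsg.Agent.Lib.helper13.SL2Section

/-!
Internal structure of a `J(T)`-component `K` (Kurzweil–Stellmacher 12.2): `K = ⟨d⟩ O_2(K)` with
`d` inducing a fixed-point-free automorphism of order 3 on the four-group `W_K`.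
-/

set_option autoImplicit false

namespace Cfsg.Agent.Lib.helper13

open Cfsg
open scoped commutatorElement

section Order3

variable {G : Type*} [Group G]

theorem commutator_commutator_formula (b k : G) :
    ⁅⁅b, k⁆, k⁆ = b * (k * b * k⁻¹)⁻¹ * (k * (k * b * k⁻¹) * k⁻¹) * (k * b * k⁻¹)⁻¹ := by
  simp only [commutatorElement_def]; group

/-- For an automorphism of order 3 of an elementary abelian 2-group: `[v, k] = [[v^k, k], k]`. -/
theorem commutator_eq_commutator_commutator {V : Subgroup G} {k : G}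
    (hVc : ∀ a ∈ V, ∀ b ∈ V, a * b = b * a) (hV2 : ∀ a ∈ V, a * a = 1)
    (hkV : ∀ a ∈ V, k * a * k⁻¹ ∈ V)
    (hk3 : ∀ a ∈ V, k * (k * (k * a * k⁻¹) * k⁻¹) * k⁻¹ = a)
    {v : G} (hv : v ∈ V) : ⁅v, k⁆ = ⁅⁅k * v * k⁻¹, k⁆, k⁆ := by
  have hb : k * v * k⁻¹ ∈ V := hkV v hv
  have hc : k * (k * v * k⁻¹) * k⁻¹ ∈ V := hkV _ hb
  rw [commutator_commutator_formula, hk3 v hv]
  have e1 : ⁅v, k⁆ = v * (k * v * k⁻¹)⁻¹ := by simp only [commutatorElement_def]; group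
  rw [e1]
  obtain ⟨b, hbdef⟩ : ∃ b, b = k * v * k⁻¹ := ⟨_, rfl⟩
  rw [← hbdef] at hb hc ⊢
  obtain ⟨c, hcdef⟩ : ∃ c, c = k * b * k⁻¹ := ⟨_, rfl⟩
  rw [← hcdef] at hc ⊢
  have hbi : b⁻¹ = b := inv_eq_of_mul_eq_one_left (hV2 b hb)
  have hci : c⁻¹ = c := inv_eq_of_mul_eq_one_left (hV2 c hc)
  rw [hbi, hci]
  calc v * b = b * v := hVc v hv b hb
    _ = b * v * (c * c) := by rw [hV2 c hc, mul_one]
    _ = b * (v * c) * c := by group
    _ = b * (c * v) * c := by rw [hVc v hv c hc]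
    _ = b * c * v * c := by group

/-- The norm map of an automorphism of order 3 kills the commutators. -/
theorem norm_eq_one_of_mem_commutator {U K Q : Subgroup G} {d : G}
    (hUc : ∀ a ∈ U, ∀ b ∈ U, a * b = b * a) (hU2 : ∀ a ∈ U, a * a = 1)
    (hdU : ∀ a ∈ U, d * a * d⁻¹ ∈ U)
    (hd3 : ∀ a ∈ U, d * (d * (d * a * d⁻¹) * d⁻¹) * d⁻¹ = a)
    (hQU : ∀ q ∈ Q, ∀ a ∈ U, q * a = a * q)
    (hK : ∀ k ∈ K, ∃ n : ℕ, ∃ q ∈ Q, k = d ^ n * q) :
    ∀ w ∈ ⁅U, K⁆, w ∈ U ∧ w * (d * w * d⁻¹) * (d * (d * w * d⁻¹) * d⁻¹) = 1 := by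
  have hmul : ∀ a b : G, (a ∈ U ∧ a * (d * a * d⁻¹) * (d * (d * a * d⁻¹) * d⁻¹) = 1) →
      (b ∈ U ∧ b * (d * b * d⁻¹) * (d * (d * b * d⁻¹) * d⁻¹) = 1) →
      (a * b ∈ U ∧ (a * b) * (d * (a * b) * d⁻¹) * (d * (d * (a * b) * d⁻¹) * d⁻¹) = 1) := by
    rintro a b ⟨ha, ha'⟩ ⟨hb, hb'⟩
    refine ⟨U.mul_mem ha hb, ?_⟩
    have ha1 := hdU a ha
    have ha2 := hdU _ ha1
    have hb1 := hdU b hb
    have hb2 := hdU _ hb1
    have c1 : Commute b (d * a * d⁻¹) := hUc b hb _ ha1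
    have c2 : Commute (b * (d * b * d⁻¹)) (d * (d * a * d⁻¹) * d⁻¹) :=
      hUc _ (U.mul_mem hb hb1) _ ha2
    calc (a * b) * (d * (a * b) * d⁻¹) * (d * (d * (a * b) * d⁻¹) * d⁻¹)
        = (a * b) * ((d * a * d⁻¹) * (d * b * d⁻¹)) *
            ((d * (d * a * d⁻¹) * d⁻¹) * (d * (d * b * d⁻¹) * d⁻¹)) := by group
      _ = (a * (d * a * d⁻¹)) * (b * (d * b * d⁻¹)) *
            ((d * (d * a * d⁻¹) * d⁻¹) * (d * (d * b * d⁻¹) * d⁻¹)) := by
          rw [c1.mul_mul_mul_comm]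
      _ = (a * (d * a * d⁻¹) * (d * (d * a * d⁻¹) * d⁻¹)) *
            (b * (d * b * d⁻¹) * (d * (d * b * d⁻¹) * d⁻¹)) := by
          rw [c2.mul_mul_mul_comm]
      _ = 1 := by rw [ha', hb', one_mul]
  have hconj : ∀ a : G, (a ∈ U ∧ a * (d * a * d⁻¹) * (d * (d * a * d⁻¹) * d⁻¹) = 1) →
      (d * a * d⁻¹ ∈ U ∧ (d * a * d⁻¹) * (d * (d * a * d⁻¹) * d⁻¹) *
        (d * (d * (d * a * d⁻¹) * d⁻¹) * d⁻¹) = 1) := by
    rintro a ⟨ha, ha'⟩
    refine ⟨hdU a ha, ?_⟩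
    calc (d * a * d⁻¹) * (d * (d * a * d⁻¹) * d⁻¹) * (d * (d * (d * a * d⁻¹) * d⁻¹) * d⁻¹)
        = d * (a * (d * a * d⁻¹) * (d * (d * a * d⁻¹) * d⁻¹)) * d⁻¹ := by group
      _ = 1 := by rw [ha']; group
  have hone : (1 : G) ∈ U ∧ (1 : G) * (d * 1 * d⁻¹) * (d * (d * 1 * d⁻¹) * d⁻¹) = 1 :=
    ⟨U.one_mem, by group⟩
  have hbase : ∀ u ∈ U, ⁅u, d⁆ ∈ U ∧
      ⁅u, d⁆ * (d * ⁅u, d⁆ * d⁻¹) * (d * (d * ⁅u, d⁆ * d⁻¹) * d⁻¹) = 1 := by
    intro u hu
    have e : ⁅u, d⁆ = u * (d * u⁻¹ * d⁻¹) := by simp only [commutatorElement_def]; group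
    refine ⟨?_, ?_⟩
    · rw [e]; exact U.mul_mem hu (hdU _ (U.inv_mem hu))
    · have m1 : ⁅u, d⁆ = u * (d * u * d⁻¹)⁻¹ := by simp only [commutatorElement_def]; group
      have m2 : d * ⁅u, d⁆ * d⁻¹ = (d * u * d⁻¹) * (d * (d * u * d⁻¹) * d⁻¹)⁻¹ := by
        simp only [commutatorElement_def]; group
      have m3 : d * (d * ⁅u, d⁆ * d⁻¹) * d⁻¹ =
          (d * (d * u * d⁻¹) * d⁻¹) * (d * (d * (d * u * d⁻¹) * d⁻¹) * d⁻¹)⁻¹ := by
        rw [m2]; group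
      rw [m3, m2, m1, hd3 u hu]
      generalize d * u * d⁻¹ = b
      generalize d * b * d⁻¹ = c
      group
  have hpow : ∀ n : ℕ, ∀ u ∈ U, ⁅u, d ^ n⁆ ∈ U ∧
      ⁅u, d ^ n⁆ * (d * ⁅u, d ^ n⁆ * d⁻¹) * (d * (d * ⁅u, d ^ n⁆ * d⁻¹) * d⁻¹) = 1 := by
    intro n
    induction n with
    | zero =>
      intro u _
      have e : ⁅u, d ^ 0⁆ = 1 := by simp only [commutatorElement_def]; group
      rw [e]; exact hone
    | succ n ih =>
      intro u hu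
      have e : ⁅u, d ^ (n + 1)⁆ = ⁅u, d⁆ * (d * ⁅u, d ^ n⁆ * d⁻¹) := by
        simp only [commutatorElement_def, pow_succ']; group
      rw [e]
      exact hmul _ _ (hbase u hu) (hconj _ (ih u hu))
  intro w hw
  rw [Subgroup.commutator_def] at hw
  refine Subgroup.closure_induction
    (p := fun w _ => w ∈ U ∧ w * (d * w * d⁻¹) * (d * (d * w * d⁻¹) * d⁻¹) = 1)
    ?_ hone ?_ ?_ hw
  · rintro _ ⟨u, hu, k, hk, rfl⟩
    obtain ⟨n, q, hq, rfl⟩ := hK k hk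
    have hqu : q * u⁻¹ * q⁻¹ = u⁻¹ := by
      rw [hQU q hq _ (U.inv_mem hu)]; group
    have e : ⁅u, d ^ n * q⁆ = ⁅u, d ^ n⁆ := by
      calc ⁅u, d ^ n * q⁆ = u * d ^ n * (q * u⁻¹ * q⁻¹) * (d ^ n)⁻¹ := by
            simp only [commutatorElement_def]; group
        _ = ⁅u, d ^ n⁆ := by rw [hqu]; simp only [commutatorElement_def]
    rw [e]
    exact hpow n u hu
  · intro a b _ _ ha hb
    exact hmul a b ha hb
  · intro a _ ha
    have : a⁻¹ = a := inv_eq_of_mul_eq_one_left (hU2 a ha.1)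
    rw [this]; exact ha

/-- A fixed-point-free automorphism of order 3 of a four-group permutes the involutions
transitively. -/
theorem four_group_enum {W : Subgroup G} (φ : G ≃* G) (hcard : Nat.card W = 4)
    (hW2 : ∀ w ∈ W, w * w = 1) (hφW : ∀ w ∈ W, φ w ∈ W)
    (hφ3 : ∀ w ∈ W, φ (φ (φ w)) = w)
    (hnorm : ∀ w ∈ W, w * φ w * φ (φ w) = 1)
    {z : G} (hz : z ∈ W) (hz1 : z ≠ 1) :
    ∀ y ∈ W, y = 1 ∨ y = z ∨ y = φ z ∨ y = φ (φ z) := by
  have hfpf : ∀ w ∈ W, φ w = w → w = 1 := by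
    intro w hw hfix
    have h := hnorm w hw
    rw [hfix, hfix, hW2 w hw, one_mul] at h
    exact h
  have h1 : φ z ≠ 1 := fun h => hz1 (by rw [← map_one φ] at h; exact φ.injective h)
  have h2 : φ (φ z) ≠ 1 := fun h => h1 (by rw [← map_one φ] at h; exact φ.injective h)
  have h3 : φ z ≠ z := fun h => hz1 (hfpf z hz h)
  have h4 : φ (φ z) ≠ φ z := fun h => h3 (φ.injective h)
  have h5 : φ (φ z) ≠ z := fun h => h3 (by have := hφ3 z hz; rw [h] at this; exact this)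
  have hfin : Finite ↥W := Nat.finite_of_card_ne_zero (by rw [hcard]; norm_num)
  have hs : ({1, z, φ z, φ (φ z)} : Set G) ⊆ (W : Set G) := by
    intro x hx
    simp only [Set.mem_insert_iff, Set.mem_singleton_iff] at hx
    rcases hx with rfl | rfl | rfl | rfl
    · exact W.one_mem
    · exact hz
    · exact hφW _ hz
    · exact hφW _ (hφW _ hz)
  have hcard_s : ({1, z, φ z, φ (φ z)} : Set G).ncard = 4 := by
    rw [Set.ncard_insert_of_notMem, Set.ncard_insert_of_notMem, Set.ncard_pair]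
    · exact fun h => h4 h.symm
    · simp only [Set.mem_insert_iff, Set.mem_singleton_iff, not_or]
      exact ⟨fun h => h3 h.symm, fun h => h5 h.symm⟩
    · simp only [Set.mem_insert_iff, Set.mem_singleton_iff, not_or]
      exact ⟨fun h => hz1 h.symm, fun h => h1 h.symm, fun h => h2 h.symm⟩
  have hW_ncard : (W : Set G).ncard = 4 := by
    rw [← hcard]; exact (Nat.card_coe_set_eq (W : Set G)).symm
  have heq := Set.eq_of_subset_of_ncard_le hs (by rw [hcard_s, hW_ncard]) (Set.toFinite _)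
  intro y hy
  have : y ∈ ({1, z, φ z, φ (φ z)} : Set G) := by rw [heq]; exact hy
  simpa using this

/-- `ψ` preserves the kernel of the norm of `φ` when they commute on `V`. -/
theorem normKer_invariant {V W : Subgroup G} (φ ψ : G ≃* G)
    (hψV : ∀ v ∈ V, ψ v ∈ V) (hφV : ∀ v ∈ V, φ v ∈ V)
    (hcomm : ∀ v ∈ V, φ (ψ v) = ψ (φ v))
    (hW : ∀ v ∈ V, v ∈ W ↔ v * φ v * φ (φ v) = 1) (hWV : W ≤ V) :
    ∀ w ∈ W, ψ w ∈ W := by
  intro w hw
  have hwV := hWV hw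
  rw [hW _ (hψV w hwV), hcomm w hwV, hcomm _ (hφV w hwV), ← map_mul, ← map_mul,
    (hW w hwV).mp hw, map_one]

/-- A multiplicative map acting quadratically on an elementary abelian 2-group squares to the
identity. -/
theorem sq_eq_id_of_quadratic {V W : Subgroup G} (χ : G → G)
    (hmul : ∀ a b : G, χ (a * b) = χ a * χ b)
    (hVc : ∀ a ∈ V, ∀ b ∈ V, a * b = b * a) (hV2 : ∀ a ∈ V, a * a = 1)
    (hχV : ∀ v ∈ V, χ v ∈ V)
    (hχW : ∀ w ∈ W, χ w = w) (hχ : ∀ v ∈ V, v * χ v ∈ W) : ∀ v ∈ V, χ (χ v) = v := by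
  intro v hv
  have h1 := hχW _ (hχ v hv)
  rw [hmul] at h1
  have hχv := hχV v hv
  calc χ (χ v) = (χ v * χ v) * χ (χ v) := by rw [hV2 _ hχv, one_mul]
    _ = χ v * (χ v * χ (χ v)) := by group
    _ = χ v * (v * χ v) := by rw [h1]
    _ = χ v * (χ v * v) := by rw [hVc v hv _ hχv]
    _ = (χ v * χ v) * v := by group
    _ = v := by rw [hV2 _ hχv, one_mul]

/-- Two commuting automorphisms of order 3 of an elementary abelian 2-group `V` whose norm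
kernels are four-groups sharing a nontrivial element: `ψ φ` or `ψ φ²` is an involution on `V`. -/
theorem order_three_pair {V W W₂ : Subgroup G} (φ ψ : G ≃* G)
    (hVc : ∀ a ∈ V, ∀ b ∈ V, a * b = b * a) (hV2 : ∀ a ∈ V, a * a = 1)
    (hφV : ∀ v ∈ V, φ v ∈ V) (hψV : ∀ v ∈ V, ψ v ∈ V)
    (hφ3 : ∀ v ∈ V, φ (φ (φ v)) = v) (hψ3 : ∀ v ∈ V, ψ (ψ (ψ v)) = v)
    (hcomm : ∀ v ∈ V, φ (ψ v) = ψ (φ v))
    (hW : ∀ v ∈ V, v ∈ W ↔ v * φ v * φ (φ v) = 1)
    (hW₂ : ∀ v ∈ V, v ∈ W₂ ↔ v * ψ v * ψ (ψ v) = 1)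
    (hWV : W ≤ V)
    {z : G} (hz1 : z ≠ 1) (hzW : z ∈ W) (hzW₂ : z ∈ W₂)
    (hE : ∀ y ∈ W, y = 1 ∨ y = z ∨ y = φ z ∨ y = φ (φ z))
    (hE₂ : ∀ y ∈ W₂, y = 1 ∨ y = z ∨ y = ψ z ∨ y = ψ (ψ z)) :
    (∀ v ∈ V, ψ (φ (ψ (φ v))) = v) ∨ (∀ v ∈ V, ψ (φ (φ (ψ (φ (φ v))))) = v) := by
  have hψW : ∀ w ∈ W, ψ w ∈ W := normKer_invariant φ ψ hψV hφV hcomm hW hWV
  have hφW : ∀ w ∈ W, φ w ∈ W := normKer_invariant φ φ hφV hφV (fun _ _ => rfl) hW hWV
  have hW₂W : W₂ ≤ W := by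
    intro y hy
    rcases hE₂ y hy with rfl | rfl | rfl | rfl
    · exact W.one_mem
    · exact hzW
    · exact hψW _ hzW
    · exact hψW _ (hψW _ hzW)
  have hzV := hWV hzW
  have hψz1 : ψ z ≠ 1 := fun h => hz1 (by rw [← map_one ψ] at h; exact ψ.injective h)
  have hψz : ψ z ≠ z := by
    intro h
    have h1 := (hW₂ z hzV).mp hzW₂
    rw [h, h, hV2 z hzV, one_mul] at h1
    exact hz1 h1
  have hcφ : ∀ u ∈ V, u * φ u ∈ W := by
    intro u hu
    have hu1 := hφV u hu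
    have hu2 := hφV _ hu1
    rw [hW _ (V.mul_mem hu hu1)]
    simp only [map_mul]
    rw [hφ3 u hu]
    calc u * φ u * (φ u * φ (φ u)) * (φ (φ u) * u)
        = u * (φ u * φ u) * (φ (φ u) * φ (φ u)) * u := by group
      _ = 1 := by rw [hV2 _ hu1, hV2 _ hu2, mul_one, mul_one, hV2 u hu]
  have hcψ : ∀ u ∈ V, u * ψ u ∈ W := by
    intro u hu
    apply hW₂W
    have hu1 := hψV u hu
    have hu2 := hψV _ hu1
    rw [hW₂ _ (V.mul_mem hu hu1)]
    simp only [map_mul]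
    rw [hψ3 u hu]
    calc u * ψ u * (ψ u * ψ (ψ u)) * (ψ (ψ u) * u)
        = u * (ψ u * ψ u) * (ψ (ψ u) * ψ (ψ u)) * u := by group
      _ = 1 := by rw [hV2 _ hu1, hV2 _ hu2, mul_one, mul_one, hV2 u hu]
  rcases hE (ψ z) (hψW z hzW) with h | h | h | h
  · exact absurd h hψz1
  · exact absurd h hψz
  · right
    have hψφ : ∀ y ∈ W, ψ y = φ y := by
      intro y hy
      rcases hE y hy with rfl | rfl | rfl | rfl
      · rw [map_one, map_one]
      · exact h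
      · rw [← hcomm z hzV, h]
      · rw [← hcomm _ (hφV z hzV), ← hcomm z hzV, h]
    refine sq_eq_id_of_quadratic (W := W) (fun v => ψ (φ (φ v)))
      (fun a b => by simp only [map_mul]) hVc hV2
      (fun v hv => hψV _ (hφV _ (hφV v hv))) ?_ ?_
    · intro w hw
      show ψ (φ (φ w)) = w
      rw [hψφ _ (hφW _ (hφW w hw)), hφ3 w (hWV hw)]
    · intro v hv
      show v * ψ (φ (φ v)) ∈ W
      have hv1 := hφV v hv
      have hv2 := hφV _ hv1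
      have e : v * ψ (φ (φ v)) = (v * φ v) * (φ v * φ (φ v)) * (φ (φ v) * ψ (φ (φ v))) := by
        calc v * ψ (φ (φ v))
            = v * (φ v * φ v) * (φ (φ v) * φ (φ v)) * ψ (φ (φ v)) := by
              rw [hV2 _ hv1, hV2 _ hv2, mul_one, mul_one]
          _ = _ := by group
      rw [e]
      exact W.mul_mem (W.mul_mem (hcφ v hv) (hcφ _ hv1)) (hcψ _ hv2)
  · left
    have hψφ : ∀ y ∈ W, ψ y = φ (φ y) := by
      intro y hy
      rcases hE y hy with rfl | rfl | rfl | rfl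
      · rw [map_one, map_one, map_one]
      · exact h
      · rw [← hcomm z hzV, h]
      · rw [← hcomm _ (hφV z hzV), ← hcomm z hzV, h]
    refine sq_eq_id_of_quadratic (W := W) (fun v => ψ (φ v))
      (fun a b => by simp only [map_mul]) hVc hV2
      (fun v hv => hψV _ (hφV v hv)) ?_ ?_
    · intro w hw
      show ψ (φ w) = w
      rw [hψφ _ (hφW w hw), hφ3 w (hWV hw)]
    · intro v hv
      show v * ψ (φ v) ∈ W
      have hv1 := hφV v hv
      have e : v * ψ (φ v) = (v * φ v) * (φ v * ψ (φ v)) := by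
        calc v * ψ (φ v) = v * (φ v * φ v) * ψ (φ v) := by rw [hV2 _ hv1, mul_one]
          _ = _ := by group
      rw [e]
      exact W.mul_mem (hcφ v hv) (hcψ _ hv1)

end Order3

section JComp

variable {G : Type*} [Group G]

theorem omegaCenterOf_le (X : Subgroup G) :
    omegaCenterOf X ≤ X ⊓ Subgroup.centralizer (X : Set G) :=
  Cfsg.Agent.Lib.helper51.omegaOne_le 2 _

theorem omegaCenterOf_comm {X : Subgroup G} {a b : G} (ha : a ∈ omegaCenterOf X)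
    (hb : b ∈ omegaCenterOf X) : a * b = b * a :=
  (Subgroup.mem_centralizer_iff.mp (omegaCenterOf_le X ha).2 b (omegaCenterOf_le X hb).1).symm

theorem mul_self_of_mem_omegaCenterOf {X : Subgroup G} {a : G} (ha : a ∈ omegaCenterOf X) :
    a * a = 1 := by
  have ha' := ha
  unfold omegaCenterOf omegaOne at ha'
  refine Subgroup.closure_induction (p := fun a _ => a * a = 1) ?_ ?_ ?_ ?_ ha'
  · rintro x ⟨_, hx⟩
    rw [← pow_two]; exact hx
  · exact one_mul 1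
  · intro x y hx hy hx2 hy2
    have hc : x * y = y * x := omegaCenterOf_comm (X := X) hx hy
    calc x * y * (x * y) = x * (y * x) * y := by group
      _ = x * (x * y) * y := by rw [hc]
      _ = (x * x) * (y * y) := by group
      _ = 1 := by rw [hx2, hy2, one_mul]
  · intro x _ hx2
    calc x⁻¹ * x⁻¹ = (x * x)⁻¹ := by group
      _ = 1 := by rw [hx2, inv_one]

theorem conj_mem_omegaCenterOf {X : Subgroup G} {g : G}
    (hg : g ∈ Subgroup.normalizer (X : Set G)) {a : G} (ha : a ∈ omegaCenterOf X) :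
    g * a * g⁻¹ ∈ omegaCenterOf X := by
  unfold omegaCenterOf omegaOne at ha ⊢
  refine Subgroup.closure_induction (p := fun a _ => g * a * g⁻¹ ∈
    Subgroup.closure {x : G | x ∈ X ⊓ Subgroup.centralizer (X : Set G) ∧ x ^ 2 = 1})
    ?_ ?_ ?_ ?_ ha
  · rintro x ⟨⟨hx1, hx2⟩, hx3⟩
    apply Subgroup.subset_closure
    refine ⟨⟨(Subgroup.mem_normalizer_iff.mp hg x).mp hx1, ?_⟩, ?_⟩
    · apply Subgroup.mem_centralizer_iff.mpr
      intro q hq
      have hq' : g⁻¹ * q * g ∈ X := (Subgroup.mem_normalizer_iff''.mp hg q).mp hq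
      have h1 := Subgroup.mem_centralizer_iff.mp hx2 _ hq'
      calc q * (g * x * g⁻¹) = g * ((g⁻¹ * q * g) * x) * g⁻¹ := by group
        _ = g * (x * (g⁻¹ * q * g)) * g⁻¹ := by rw [h1]
        _ = g * x * g⁻¹ * q := by group
    · rw [conj_pow, hx3]; group
  · have e : g * 1 * g⁻¹ = 1 := by group
    rw [e]; exact Subgroup.one_mem _
  · intro a b _ _ ha hb
    have e : g * (a * b) * g⁻¹ = (g * a * g⁻¹) * (g * b * g⁻¹) := by group
    rw [e]; exact Subgroup.mul_mem _ ha hb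
  · intro a _ ha
    have e : g * a⁻¹ * g⁻¹ = (g * a * g⁻¹)⁻¹ := by group
    rw [e]; exact Subgroup.inv_mem _ ha

theorem pCoreOf_subgroupOf_normal (K : Subgroup G) : ((pCoreOf 2 K).subgroupOf K).Normal :=
  (Subgroup.normal_subgroupOf_iff_le_normalizer (Cfsg.Agent.Lib.helper51.pCoreOf_le 2 K)).mpr
    (Cfsg.Agent.Lib.helper51.le_normalizer_pCoreOf 2 K)

theorem pow_three_mem_pCoreOf {K : Subgroup G} (hidx : (pCoreOf 2 K).relIndex K = 3) {k : G}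
    (hk : k ∈ K) : k ^ 3 ∈ pCoreOf 2 K := by
  have hn := pCoreOf_subgroupOf_normal K
  have h := Subgroup.pow_index_mem ((pCoreOf 2 K).subgroupOf K) (⟨k, hk⟩ : ↥K)
  have hi : ((pCoreOf 2 K).subgroupOf K).index = 3 := hidx
  rw [hi] at h
  simpa using Subgroup.mem_subgroupOf.mp h

theorem exists_not_mem_pCoreOf {K : Subgroup G} (hidx : (pCoreOf 2 K).relIndex K = 3) :
    ∃ d ∈ K, d ∉ pCoreOf 2 K := by
  by_contra hcon
  push Not at hcon
  have h1 : (pCoreOf 2 K).relIndex K = 1 := Subgroup.relIndex_eq_one.mpr hcon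
  rw [hidx] at h1
  norm_num at h1

theorem exists_pow_mul_of_not_mem_pCoreOf {K : Subgroup G}
    (hidx : (pCoreOf 2 K).relIndex K = 3) {d : G} (hd : d ∈ K) (hdQ : d ∉ pCoreOf 2 K) {k : G}
    (hk : k ∈ K) : ∃ n : ℕ, ∃ q ∈ pCoreOf 2 K, k = d ^ n * q := by
  have hn := pCoreOf_subgroupOf_normal K
  have hcard : Nat.card (↥K ⧸ (pCoreOf 2 K).subgroupOf K) = 3 := by
    rw [← Subgroup.index_eq_card]; exact hidx
  have hp3 : Fact (Nat.Prime 3) := ⟨Nat.prime_three⟩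
  have hd1 : ((⟨d, hd⟩ : ↥K) : ↥K ⧸ (pCoreOf 2 K).subgroupOf K) ≠ 1 := by
    rw [Ne, QuotientGroup.eq_one_iff]
    exact fun h => hdQ (Subgroup.mem_subgroupOf.mp h)
  have hmem := mem_powers_of_prime_card hcard hd1
    (g' := ((⟨k, hk⟩ : ↥K) : ↥K ⧸ (pCoreOf 2 K).subgroupOf K))
  obtain ⟨n, hn'⟩ := (Submonoid.mem_powers_iff _ _).mp hmem
  rw [← QuotientGroup.mk_pow, QuotientGroup.eq] at hn'
  refine ⟨n, (d ^ n)⁻¹ * k, by simpa using Subgroup.mem_subgroupOf.mp hn', by group⟩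

/-- Internal structure of a `J(T)`-component `K` relative to an element `d ∈ K ∖ O_2(K)`:
`K = ⟨d⟩ O_2(K)`, `W_K ≤ Ω₁(Z(O_2(K)))` is normalized by `K`, centralized by `O_2(K)`, and the
norm map of `d` is trivial on `W_K`. -/
theorem jComponent_facts {T K : Subgroup G} (hK : IsJComponent T K) {d : G} (hd : d ∈ K)
    (hdQ : d ∉ pCoreOf 2 K) :
    (∀ k ∈ K, ∃ n : ℕ, ∃ q ∈ pCoreOf 2 K, k = d ^ n * q) ∧
    (∀ w ∈ wOf K, w ∈ omegaCenterOf (pCoreOf 2 K)) ∧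
    (∀ k ∈ K, ∀ w ∈ wOf K, k * w * k⁻¹ ∈ wOf K) ∧
    (∀ q ∈ pCoreOf 2 K, ∀ w ∈ wOf K, q * w = w * q) ∧
    (∀ w ∈ wOf K, d * (d * (d * w * d⁻¹) * d⁻¹) * d⁻¹ = w) ∧
    (∀ w ∈ wOf K, w * (d * w * d⁻¹) * (d * (d * w * d⁻¹) * d⁻¹) = 1) := by
  obtain ⟨-, -, hidx, -, -, -⟩ := hK
  have hdec : ∀ k ∈ K, ∃ n : ℕ, ∃ q ∈ pCoreOf 2 K, k = d ^ n * q :=
    fun k hk => exists_pow_mul_of_not_mem_pCoreOf hidx hd hdQ hk
  have hKQ : K ≤ Subgroup.normalizer (pCoreOf 2 K : Set G) :=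
    Cfsg.Agent.Lib.helper51.le_normalizer_pCoreOf 2 K
  have hQU : ∀ q ∈ pCoreOf 2 K, ∀ a ∈ omegaCenterOf (pCoreOf 2 K), q * a = a * q :=
    fun q hq a ha => Subgroup.mem_centralizer_iff.mp (omegaCenterOf_le _ ha).2 q hq
  have hKU : ∀ k ∈ K, ∀ a ∈ omegaCenterOf (pCoreOf 2 K),
      k * a * k⁻¹ ∈ omegaCenterOf (pCoreOf 2 K) :=
    fun k hk a ha => conj_mem_omegaCenterOf (hKQ hk) ha
  have hd3 : ∀ a ∈ omegaCenterOf (pCoreOf 2 K), d * (d * (d * a * d⁻¹) * d⁻¹) * d⁻¹ = a := by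
    intro a ha
    calc d * (d * (d * a * d⁻¹) * d⁻¹) * d⁻¹ = d ^ 3 * a * (d ^ 3)⁻¹ := by
          simp only [pow_succ, pow_zero, one_mul, mul_inv_rev, mul_assoc]
      _ = a := by rw [hQU _ (pow_three_mem_pCoreOf hidx hd) a ha]; group
  have hnorm := norm_eq_one_of_mem_commutator (U := omegaCenterOf (pCoreOf 2 K)) (K := K)
    (Q := pCoreOf 2 K) (d := d) (fun a ha b hb => omegaCenterOf_comm ha hb)
    (fun a ha => mul_self_of_mem_omegaCenterOf ha) (hKU d hd) hd3 hQU hdec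
  have hWU : ∀ w ∈ wOf K, w ∈ omegaCenterOf (pCoreOf 2 K) := fun w hw => (hnorm w hw).1
  have hKnU : K ≤ Subgroup.normalizer (omegaCenterOf (pCoreOf 2 K) : Set G) :=
    Subgroup.le_normalizer_iff.mpr hKU
  have hKW : K ≤ Subgroup.normalizer (wOf K : Set G) :=
    Cfsg.Agent.Lib.helper1.right_le_normalizer_commutator hKnU
  refine ⟨hdec, hWU, ?_, ?_, ?_, ?_⟩
  · exact fun k hk w hw => Subgroup.le_normalizer_iff.mp hKW k hk w hw
  · exact fun q hq w hw => hQU q hq w (hWU w hw)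
  · exact fun w hw => hd3 w (hWU w hw)
  · exact fun w hw => (hnorm w hw).2

theorem conj_conj_conj_eq_of_pow_three_mem_centralizer {V : Subgroup G} {k a : G}
    (hk : k ^ 3 ∈ Subgroup.centralizer (V : Set G)) (ha : a ∈ V) :
    k * (k * (k * a * k⁻¹) * k⁻¹) * k⁻¹ = a := by
  have h := Subgroup.mem_centralizer_iff.mp hk a ha
  calc k * (k * (k * a * k⁻¹) * k⁻¹) * k⁻¹ = k ^ 3 * a * (k ^ 3)⁻¹ := by
        simp only [pow_succ, pow_zero, one_mul, mul_inv_rev, mul_assoc]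
    _ = a := by rw [← h]; group

/-- Elements of odd order of `K R`, with `R` a 2-group normalizing `K`, lie in `K`. -/
theorem mem_of_odd_of_mem_sup {K R : Subgroup G}
    (hRK : R ≤ Subgroup.normalizer (K : Set G)) (hR : IsPGroup 2 R) {y : G} (hy : y ∈ K ⊔ R)
    (hodd : Odd (orderOf y)) : y ∈ K := by
  have hconj : ∀ j ∈ R, ∀ k ∈ K, j * k * j⁻¹ ∈ K := Subgroup.le_normalizer_iff.mp hRK
  have hX : ∀ y ∈ K ⊔ R, ∃ k ∈ K, ∃ j ∈ R, y = k * j := by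
    intro y hy
    rw [Subgroup.sup_eq_closure] at hy
    refine Subgroup.closure_induction (p := fun y _ => ∃ k ∈ K, ∃ j ∈ R, y = k * j)
      ?_ ?_ ?_ ?_ hy
    · rintro z (hz | hz)
      · exact ⟨z, hz, 1, one_mem _, by simp⟩
      · exact ⟨1, one_mem _, z, hz, by simp⟩
    · exact ⟨1, one_mem _, 1, one_mem _, by simp⟩
    · rintro _ _ _ _ ⟨k₁, hk₁, j₁, hj₁, rfl⟩ ⟨k₂, hk₂, j₂, hj₂, rfl⟩
      exact ⟨k₁ * (j₁ * k₂ * j₁⁻¹), K.mul_mem hk₁ (hconj j₁ hj₁ k₂ hk₂), j₁ * j₂,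
        R.mul_mem hj₁ hj₂, by group⟩
    · rintro _ _ ⟨k, hk, j, hj, rfl⟩
      exact ⟨j⁻¹ * k⁻¹ * j⁻¹⁻¹, hconj j⁻¹ (R.inv_mem hj) k⁻¹ (K.inv_mem hk), j⁻¹, R.inv_mem hj,
        by group⟩
  obtain ⟨k, hk, j, hj, rfl⟩ := hX y hy
  have hpow : ∀ m : ℕ, ∃ k' ∈ K, (k * j) ^ m = k' * j ^ m := by
    intro m
    induction m with
    | zero => exact ⟨1, one_mem _, by simp⟩
    | succ m ih =>
      obtain ⟨k', hk', h⟩ := ih
      refine ⟨k' * (j ^ m * k * (j ^ m)⁻¹),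
        K.mul_mem hk' (hconj _ (R.pow_mem hj m) k hk), ?_⟩
      rw [pow_succ, h, pow_succ]; group
  obtain ⟨k', hk', h⟩ := hpow (orderOf (k * j))
  rw [pow_orderOf_eq_one] at h
  have hjm : j ^ orderOf (k * j) ∈ K := by
    have : j ^ orderOf (k * j) = k'⁻¹ := eq_inv_of_mul_eq_one_right h.symm
    rw [this]; exact K.inv_mem hk'
  obtain ⟨a, ha⟩ := hR ⟨j, hj⟩
  have hj2 : j ^ 2 ^ a = 1 := by
    have := congrArg Subtype.val ha
    simpa using this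
  have hcop : Nat.Coprime (orderOf (k * j)) (2 ^ a) :=
    Nat.Coprime.pow_right a hodd.coprime_two_right
  have hjK : j ∈ K :=
    mem_of_pow_mem_of_coprime K j _ _ hcop hjm (by rw [hj2]; exact one_mem _)
  exact K.mul_mem hk hjK

/-- `[A B, J] ≤ N` when `[A, J], [B, J] ≤ N` and `A`, `B` normalize `N`. -/
theorem commutator_sup_le {A B J N : Subgroup G}
    (hA : A ≤ Subgroup.normalizer (N : Set G)) (hB : B ≤ Subgroup.normalizer (N : Set G))
    (hAJ : ⁅A, J⁆ ≤ N) (hBJ : ⁅B, J⁆ ≤ N) : ⁅A ⊔ B, J⁆ ≤ N := by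
  have hconj : ∀ g ∈ Subgroup.normalizer (N : Set G), ∀ n ∈ N, g * n * g⁻¹ ∈ N :=
    fun g hg n hn => (Subgroup.mem_normalizer_iff.mp hg n).mp hn
  let M : Subgroup G :=
    { carrier := {w | w ∈ Subgroup.normalizer (N : Set G) ∧ ∀ z ∈ J, ⁅w, z⁆ ∈ N}
      mul_mem' := by
        rintro a b ⟨ha, ha'⟩ ⟨hb, hb'⟩
        refine ⟨Subgroup.mul_mem _ ha hb, fun z hz => ?_⟩
        have e : ⁅a * b, z⁆ = (a * ⁅b, z⁆ * a⁻¹) * ⁅a, z⁆ := by
          simp only [commutatorElement_def]; group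
        rw [e]
        exact N.mul_mem (hconj a ha _ (hb' z hz)) (ha' z hz)
      one_mem' := ⟨Subgroup.one_mem _, fun z _ => by
        have e : ⁅(1 : G), z⁆ = 1 := by simp only [commutatorElement_def]; group
        rw [e]; exact N.one_mem⟩
      inv_mem' := by
        rintro a ⟨ha, ha'⟩
        refine ⟨Subgroup.inv_mem _ ha, fun z hz => ?_⟩
        have e : ⁅a⁻¹, z⁆ = a⁻¹ * ⁅a, z⁆⁻¹ * a⁻¹⁻¹ := by
          simp only [commutatorElement_def]; group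
        rw [e]
        exact hconj _ (Subgroup.inv_mem _ ha) _ (N.inv_mem (ha' z hz)) }
  have hAM : A ≤ M := fun a ha =>
    ⟨hA ha, fun z hz => hAJ (Subgroup.commutator_mem_commutator ha hz)⟩
  have hBM : B ≤ M := fun b hb =>
    ⟨hB hb, fun z hz => hBJ (Subgroup.commutator_mem_commutator hb hz)⟩
  rw [Subgroup.commutator_le]
  intro w hw z hz
  exact ((sup_le hAM hBM) hw).2 z hz

/-- Facts on a subgroup `K = [K, J(T)]` of the overgroup `L`, relative to `C = C_L(V)` with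
`[T, C] ≤ O_2(L)` and `O_2(L)` normalizing `K`. -/
theorem component_sup_core_facts [Finite G] {T L K V : Subgroup G} (hTL : T ≤ L) (hKL : K ≤ L)
    (hLV : L ≤ Subgroup.normalizer (V : Set G))
    (hTC : ⁅T, L ⊓ Subgroup.centralizer (V : Set G)⁆ ≤ Cfsg.pCoreOf 2 L)
    (hKJ : ⁅K, Cfsg.thompsonSubgroupOf 2 T⁆ = K) :
    ⁅K, L ⊓ Subgroup.centralizer (V : Set G)⁆ ≤ Cfsg.pCoreOf 2 L ∧
    K ≤ Subgroup.normalizer ((K ⊔ Cfsg.pCoreOf 2 L : Subgroup G) : Set G) ∧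
    L ⊓ Subgroup.centralizer (V : Set G) ≤
      Subgroup.normalizer ((K ⊔ Cfsg.pCoreOf 2 L : Subgroup G) : Set G) := by
  have hJT : Cfsg.thompsonSubgroupOf 2 T ≤ T := thompsonSubgroupOf_le_self T
  have hLR : L ≤ Subgroup.normalizer (Cfsg.pCoreOf 2 L : Set G) :=
    Cfsg.Agent.Lib.helper51.le_normalizer_pCoreOf 2 L
  have hLC : L ≤ Subgroup.normalizer
      ((L ⊓ Subgroup.centralizer (V : Set G) : Subgroup G) : Set G) :=
    le_normalizer_inf_centralizer hLV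
  have hKC : ⁅K, L ⊓ Subgroup.centralizer (V : Set G)⁆ ≤ Cfsg.pCoreOf 2 L := by
    have h3 := three_subgroups_mod (H₁ := K) (H₂ := Cfsg.thompsonSubgroupOf 2 T)
      (H₃ := L ⊓ Subgroup.centralizer (V : Set G)) (N := Cfsg.pCoreOf 2 L)
      (hKL.trans hLR) ((hJT.trans hTL).trans hLR) (inf_le_left.trans hLR) ?_ ?_
    · rwa [hKJ] at h3
    · have h1 : ⁅Cfsg.thompsonSubgroupOf 2 T, L ⊓ Subgroup.centralizer (V : Set G)⁆ ≤
          Cfsg.pCoreOf 2 L := (Subgroup.commutator_mono hJT le_rfl).trans hTC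
      exact (Subgroup.commutator_mono h1 le_rfl).trans
        (commutator_le_of_le_normalizer (hKL.trans hLR))
    · have h1 : ⁅L ⊓ Subgroup.centralizer (V : Set G), K⁆ ≤
          L ⊓ Subgroup.centralizer (V : Set G) :=
        commutator_le_of_le_normalizer (hKL.trans hLC)
      refine (Subgroup.commutator_mono h1 hJT).trans ?_
      rw [Subgroup.commutator_comm]
      exact hTC
  have hKnK : K ≤ Subgroup.normalizer (K : Set G) := Subgroup.le_normalizer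
  refine ⟨hKC, le_normalizer_sup hKnK (hKL.trans hLR), ?_⟩
  intro c hc
  apply mem_normalizer_of_forall_conj_mem
  intro x hx
  have hcR : c ∈ Subgroup.normalizer (Cfsg.pCoreOf 2 L : Set G) := hLR hc.1
  have hle : K ⊔ Cfsg.pCoreOf 2 L ≤
      (K ⊔ Cfsg.pCoreOf 2 L).comap (MulAut.conj c).toMonoidHom := by
    refine sup_le ?_ ?_
    · intro k hk
      rw [Subgroup.mem_comap]
      show c * k * c⁻¹ ∈ K ⊔ Cfsg.pCoreOf 2 L
      have h1 : ⁅k, c⁆ ∈ Cfsg.pCoreOf 2 L :=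
        hKC (Subgroup.commutator_mem_commutator hk hc)
      have e : c * k * c⁻¹ = k * (k⁻¹ * ⁅k, c⁆⁻¹ * k⁻¹⁻¹) := by
        simp only [commutatorElement_def]; group
      rw [e]
      refine Subgroup.mul_mem _ (Subgroup.mem_sup_left hk) (Subgroup.mem_sup_right ?_)
      exact (Subgroup.mem_normalizer_iff.mp (hLR (hKL (K.inv_mem hk))) _).mp
        (Subgroup.inv_mem _ h1)
    · intro r hr
      rw [Subgroup.mem_comap]
      show c * r * c⁻¹ ∈ K ⊔ Cfsg.pCoreOf 2 L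
      exact Subgroup.mem_sup_right ((Subgroup.mem_normalizer_iff.mp hcR r).mp hr)
  exact hle hx

/-- For a `J(T)`-component `K` and an elementary abelian 2-subgroup `V` normalized by `K`,
normalizing `K` and centralized by `O_2(K)`: `[V, K] ≤ W_K`. -/
theorem commutator_mem_wOf {T K V : Subgroup G} (hK : IsJComponent T K)
    (hVc : ∀ a ∈ V, ∀ b ∈ V, a * b = b * a) (hV2 : ∀ a ∈ V, a * a = 1)
    (hKV : K ≤ Subgroup.normalizer (V : Set G)) (hVK : V ≤ Subgroup.normalizer (K : Set G))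
    (hQV : pCoreOf 2 K ≤ Subgroup.centralizer (V : Set G)) :
    ∀ v ∈ V, ∀ k ∈ K, ⁅v, k⁆ ∈ wOf K := by
  have hp2 : Fact (Nat.Prime 2) := ⟨Nat.prime_two⟩
  obtain ⟨-, -, hidx, -, -, -⟩ := hK
  have hKVc : ∀ k ∈ K, ∀ v ∈ V, k * v * k⁻¹ ∈ V := Subgroup.le_normalizer_iff.mp hKV
  have hVKc : ∀ v ∈ V, ∀ k ∈ K, v * k * v⁻¹ ∈ K := Subgroup.le_normalizer_iff.mp hVK
  have hVp : IsPGroup 2 ↥(V ⊓ K) := by
    intro x
    refine ⟨1, ?_⟩
    apply Subtype.ext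
    rw [pow_one, Subgroup.coe_pow, Subgroup.coe_one, pow_two]
    exact hV2 _ x.2.1
  have hVKQ : V ⊓ K ≤ pCoreOf 2 K := by
    apply Cfsg.Agent.Lib.helper51.le_pCoreOf inf_le_right _ hVp
    rw [Subgroup.le_normalizer_iff]
    intro k hk x hx
    exact ⟨hKVc k hk x hx.1, K.mul_mem (K.mul_mem hk hx.2) (K.inv_mem hk)⟩
  have hU : ∀ v ∈ V, ∀ k ∈ K, ⁅v, k⁆ ∈ omegaCenterOf (pCoreOf 2 K) := by
    intro v hv k hk
    have h1 : ⁅v, k⁆ ∈ V := by
      have e : ⁅v, k⁆ = v * (k * v⁻¹ * k⁻¹) := by simp only [commutatorElement_def]; group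
      rw [e]; exact V.mul_mem hv (hKVc k hk _ (V.inv_mem hv))
    have h2 : ⁅v, k⁆ ∈ K := by
      have e : ⁅v, k⁆ = (v * k * v⁻¹) * k⁻¹ := by simp only [commutatorElement_def]
      rw [e]; exact K.mul_mem (hVKc v hv k hk) (K.inv_mem hk)
    have h3 : ⁅v, k⁆ ∈ pCoreOf 2 K := hVKQ ⟨h1, h2⟩
    have h4 : ⁅v, k⁆ ∈ Subgroup.centralizer (pCoreOf 2 K : Set G) := by
      apply Subgroup.mem_centralizer_iff.mpr
      intro q hq
      exact (Subgroup.mem_centralizer_iff.mp (hQV hq) _ h1).symm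
    exact Cfsg.Agent.Lib.helper51.mem_omegaOne_of_pow 2 ⟨h3, h4⟩
      (by rw [pow_two]; exact hV2 _ h1)
  intro v hv k hk
  have hk3 : k ^ 3 ∈ Subgroup.centralizer (V : Set G) :=
    hQV (pow_three_mem_pCoreOf hidx hk)
  rw [commutator_eq_commutator_commutator hVc hV2 (hKVc k hk)
    (fun a ha => conj_conj_conj_eq_of_pow_three_mem_centralizer hk3 ha) hv]
  exact Subgroup.commutator_mem_commutator (hU _ (hKVc k hk v hv) k hk) hk

/-- `W_K` is the kernel on `V` of the norm map of `d`. -/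
theorem mem_wOf_iff_norm {T K V : Subgroup G} (hK : IsJComponent T K)
    (hVc : ∀ a ∈ V, ∀ b ∈ V, a * b = b * a) (hV2 : ∀ a ∈ V, a * a = 1)
    (hKV : K ≤ Subgroup.normalizer (V : Set G)) (hVK : V ≤ Subgroup.normalizer (K : Set G))
    (hQV : pCoreOf 2 K ≤ Subgroup.centralizer (V : Set G)) {d : G} (hd : d ∈ K) :
    ∀ v ∈ V, v * (d * v * d⁻¹) * (d * (d * v * d⁻¹) * d⁻¹) = 1 → v ∈ wOf K := by
  intro v hv h
  have hKVc : ∀ k ∈ K, ∀ v ∈ V, k * v * k⁻¹ ∈ V := Subgroup.le_normalizer_iff.mp hKV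
  have hb := hKVc d hd v hv
  have hc := hKVc d hd _ hb
  have hbc := V.mul_mem hb hc
  have e1 : v = (d * v * d⁻¹) * (d * (d * v * d⁻¹) * d⁻¹) := by
    have h' : v * ((d * v * d⁻¹) * (d * (d * v * d⁻¹) * d⁻¹)) = 1 := by rw [← mul_assoc]; exact h
    calc v = ((d * v * d⁻¹) * (d * (d * v * d⁻¹) * d⁻¹))⁻¹ := eq_inv_of_mul_eq_one_left h'
      _ = (d * v * d⁻¹) * (d * (d * v * d⁻¹) * d⁻¹) := inv_eq_of_mul_eq_one_left (hV2 _ hbc)
  have e2 : ⁅d * v * d⁻¹, d⁆ = (d * v * d⁻¹) * (d * (d * v * d⁻¹) * d⁻¹) := by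
    have hci : (d * (d * v * d⁻¹) * d⁻¹)⁻¹ = d * (d * v * d⁻¹) * d⁻¹ :=
      inv_eq_of_mul_eq_one_left (hV2 _ hc)
    calc ⁅d * v * d⁻¹, d⁆ = (d * v * d⁻¹) * (d * (d * v * d⁻¹) * d⁻¹)⁻¹ := by
          simp only [commutatorElement_def]; group
      _ = _ := by rw [hci]
  rw [e1, ← e2]
  exact commutator_mem_wOf hK hVc hV2 hKV hVK hQV _ hb d hd

end JComp

end Cfsg.Agent.Lib.helper13
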