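import Mathlib
import Cfsg.Prelude.Def_JComponents
import Cfsg.Agent.Lib.helper13.JComp
import Cfsg.Agent.Lib.helper3.PGroupNormal

/-!
Further facts on `J(T)`-components (Kurzweil–Stellmacher 12.2): automorphisms of the four-group
`W_K`, the Sylow 2-subgroup `O_2(K) J(T)` of `K J(T)`.
-/

set_option autoImplicit false

namespace Cfsg.Agent.Lib.helper13

open Cfsg
open scoped commutatorElement

section FourGroup

variable {G : Type*} [Group G]

theorem comm_of_mul_self {W : Subgroup G} (hW2 : ∀ w ∈ W, w * w = 1) {x y : G} (hx : x ∈ W)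
    (hy : y ∈ W) : x * y = y * x := by
  have h1 := hW2 _ (W.mul_mem hx hy)
  have hxi : x⁻¹ = x := inv_eq_of_mul_eq_one_left (hW2 x hx)
  have hyi : y⁻¹ = y := inv_eq_of_mul_eq_one_left (hW2 y hy)
  calc x * y = (x * y)⁻¹ := (inv_eq_of_mul_eq_one_left h1).symm
    _ = y⁻¹ * x⁻¹ := mul_inv_rev x y
    _ = y * x := by rw [hxi, hyi]

/-- In a four-group, two distinct involutions `u`, `v` give `W = {1, u, v, u v}`. -/
theorem four_group_enum' {W : Subgroup G} (hcard : Nat.card W = 4) (hW2 : ∀ w ∈ W, w * w = 1)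
    {u v : G} (hu : u ∈ W) (hv : v ∈ W) (hu1 : u ≠ 1) (hv1 : v ≠ 1) (huv : u ≠ v) :
    ∀ y ∈ W, y = 1 ∨ y = u ∨ y = v ∨ y = u * v := by
  have h1 : u * v ≠ 1 := by
    intro h
    apply huv
    calc u = v⁻¹ := eq_inv_of_mul_eq_one_left h
      _ = v := inv_eq_of_mul_eq_one_left (hW2 v hv)
  have h2 : u * v ≠ u := fun h => hv1 (by simpa using h)
  have h3 : u * v ≠ v := fun h => hu1 (by simpa using h)
  have hfin : Finite ↥W := Nat.finite_of_card_ne_zero (by rw [hcard]; norm_num)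
  have hs : ({1, u, v, u * v} : Set G) ⊆ (W : Set G) := by
    intro x hx
    simp only [Set.mem_insert_iff, Set.mem_singleton_iff] at hx
    rcases hx with rfl | rfl | rfl | rfl
    · exact W.one_mem
    · exact hu
    · exact hv
    · exact W.mul_mem hu hv
  have hcard_s : ({1, u, v, u * v} : Set G).ncard = 4 := by
    rw [Set.ncard_insert_of_notMem, Set.ncard_insert_of_notMem, Set.ncard_pair]
    · exact fun h => h3 h.symm
    · simp only [Set.mem_insert_iff, Set.mem_singleton_iff, not_or]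
      exact ⟨huv, fun h => h2 h.symm⟩
    · simp only [Set.mem_insert_iff, Set.mem_singleton_iff, not_or]
      exact ⟨fun h => hu1 h.symm, fun h => hv1 h.symm, fun h => h1 h.symm⟩
  have hW_ncard : (W : Set G).ncard = 4 := by
    rw [← hcard]; exact (Nat.card_coe_set_eq (W : Set G)).symm
  have heq := Set.eq_of_subset_of_ncard_le hs (by rw [hcard_s, hW_ncard]) (Set.toFinite _)
  intro y hy
  have : y ∈ ({1, u, v, u * v} : Set G) := by rw [heq]; exact hy
  simpa using this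

/-- An involutory automorphism `σ` of a four-group `W` moving `u`: it fixes `u σ(u)` and
`W = {1, u, u σ(u), σ(u)}`. -/
theorem involution_four_group {W : Subgroup G} (σ : G ≃* G) (hcard : Nat.card W = 4)
    (hW2 : ∀ w ∈ W, w * w = 1) (hσW : ∀ w ∈ W, σ w ∈ W) (hσ2 : ∀ w ∈ W, σ (σ w) = w)
    {u : G} (hu : u ∈ W) (hσu : σ u ≠ u) :
    u * σ u ∈ W ∧ u * σ u ≠ 1 ∧ σ (u * σ u) = u * σ u ∧
    (∀ y ∈ W, y = 1 ∨ y = u ∨ y = u * σ u ∨ y = σ u) ∧
    (∀ y ∈ W, σ y = y → y = 1 ∨ y = u * σ u) := by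
  have hσuW := hσW u hu
  have hwW : u * σ u ∈ W := W.mul_mem hu hσuW
  have hui : u⁻¹ = u := inv_eq_of_mul_eq_one_left (hW2 u hu)
  have hu1 : u ≠ 1 := by
    intro h
    apply hσu
    rw [h, map_one]
  have hσu1 : σ u ≠ 1 := by
    intro h
    apply hu1
    rw [← map_one σ] at h
    exact σ.injective h
  have hw1 : u * σ u ≠ 1 := by
    intro h
    apply hσu
    calc σ u = u⁻¹ := (eq_inv_of_mul_eq_one_right h)
      _ = u := hui
  have hwu : u ≠ u * σ u := fun h => hσu1 (by simpa using h.symm)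
  have hfix : σ (u * σ u) = u * σ u := by
    rw [map_mul, hσ2 u hu]
    exact comm_of_mul_self hW2 hσuW hu
  have huw : u * (u * σ u) = σ u := by
    rw [← mul_assoc, hW2 u hu, one_mul]
  have hE : ∀ y ∈ W, y = 1 ∨ y = u ∨ y = u * σ u ∨ y = σ u := by
    intro y hy
    have := four_group_enum' hcard hW2 hu hwW hu1 hw1 hwu y hy
    rwa [huw] at this
  refine ⟨hwW, hw1, hfix, hE, ?_⟩
  intro y hy hyfix
  rcases hE y hy with rfl | rfl | rfl | rfl
  · left; rfl
  · exact absurd hyfix hσu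
  · right; rfl
  · exfalso
    rw [hσ2 u hu] at hyfix
    exact hσu hyfix.symm

/-- An automorphism of a four-group commuting with an involutory automorphism `σ ≠ 1` is trivial
or equal to `σ`. -/
theorem commuting_involution_four_group {W : Subgroup G} (σ τ : G ≃* G)
    (hcard : Nat.card W = 4)
    (hW2 : ∀ w ∈ W, w * w = 1) (hσW : ∀ w ∈ W, σ w ∈ W) (hσ2 : ∀ w ∈ W, σ (σ w) = w)
    {u : G} (hu : u ∈ W) (hσu : σ u ≠ u) (hτW : ∀ w ∈ W, τ w ∈ W)
    (hcomm : ∀ w ∈ W, τ (σ w) = σ (τ w)) :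
    (∀ y ∈ W, τ y = y) ∨ (∀ y ∈ W, τ y = σ y) := by
  obtain ⟨hwW, hw1, hfix, hE, hfixed⟩ := involution_four_group σ hcard hW2 hσW hσ2 hu hσu
  have hu1 : u ≠ 1 := by
    intro h
    apply hσu
    rw [h, map_one]
  have hτw : τ (u * σ u) = u * σ u := by
    have h1 : σ (τ (u * σ u)) = τ (u * σ u) := by rw [← hcomm _ hwW, hfix]
    rcases hfixed _ (hτW _ hwW) h1 with h | h
    · exfalso
      apply hw1
      rw [← map_one τ] at h
      exact τ.injective h
    · exact h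
  have hτu1 : τ u ≠ 1 := by
    intro h
    apply hu1
    rw [← map_one τ] at h
    exact τ.injective h
  have hτuw : τ u ≠ u * σ u := by
    intro h
    rw [← hτw] at h
    have h2 := τ.injective h
    have h3 : σ u = 1 := by simpa using h2.symm
    apply hu1
    rw [← map_one σ] at h3
    exact σ.injective h3
  rcases hE _ (hτW u hu) with h | h | h | h
  · exact absurd h hτu1
  · left
    intro y hy
    rcases hE y hy with rfl | rfl | rfl | rfl
    · exact map_one τ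
    · exact h
    · exact hτw
    · rw [hcomm u hu, h]
  · exact absurd h hτuw
  · right
    intro y hy
    rcases hE y hy with rfl | rfl | rfl | rfl
    · rw [map_one, map_one]
    · exact h
    · rw [hτw, hfix]
    · rw [hcomm u hu, h]

end FourGroup

section Central

variable {G : Type*} [Group G]

/-- A nontrivial subgroup `W` of a finite `p`-subgroup `J` normalizing it contains a nontrivial
element centralizing `J`. -/
theorem exists_central_of_le_normalizer [Finite G] {p : ℕ} [Fact p.Prime] {J W : Subgroup G}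
    (hJ : IsPGroup p J) (hWJ : W ≤ J) (hJW : J ≤ Subgroup.normalizer (W : Set G)) (hW : W ≠ ⊥) :
    ∃ z ∈ W, z ≠ 1 ∧ z ∈ Subgroup.centralizer (J : Set G) := by
  have hn : (W.subgroupOf J).Normal := (Subgroup.normal_subgroupOf_iff_le_normalizer hWJ).mpr hJW
  have hne : W.subgroupOf J ≠ ⊥ := by
    intro h
    apply hW
    rw [eq_bot_iff]
    intro w hw
    have h1 : (⟨w, hWJ hw⟩ : ↥J) ∈ W.subgroupOf J := Subgroup.mem_subgroupOf.mpr hw
    rw [h, Subgroup.mem_bot] at h1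
    rw [Subgroup.mem_bot]
    exact congrArg Subtype.val h1
  obtain ⟨z, hzN, hzc, hz1, -⟩ :=
    Cfsg.Agent.Lib.helper3.exists_central_of_normal_ne_bot hJ (W.subgroupOf J) hne
  refine ⟨(z : G), Subgroup.mem_subgroupOf.mp hzN, fun h => hz1 (Subtype.ext h), ?_⟩
  apply Subgroup.mem_centralizer_iff.mpr
  intro j hj
  have := Subgroup.mem_center_iff.mp hzc ⟨j, hj⟩
  exact congrArg Subtype.val this

end Central

section JComp2

variable {G : Type*} [Group G]

theorem mem_normalizer_of_conj_mem_of_inv_conj_mem {H : Subgroup G} {g : G}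
    (h1 : ∀ x ∈ H, g * x * g⁻¹ ∈ H) (h2 : ∀ x ∈ H, g⁻¹ * x * g ∈ H) :
    g ∈ Subgroup.normalizer (H : Set G) := by
  rw [Subgroup.mem_normalizer_iff]
  intro x
  refine ⟨h1 x, fun hx => ?_⟩
  have := h2 _ hx
  have e : g⁻¹ * (g * x * g⁻¹) * g = x := by group
  rwa [e] at this

/-- `J` normalizes `K` when `[K, J] = K`. -/
theorem le_normalizer_of_commutator_eq {K J : Subgroup G} (h : ⁅K, J⁆ = K) :
    J ≤ Subgroup.normalizer (K : Set G) := by
  have := Cfsg.Agent.Lib.helper1.left_le_normalizer_commutator J K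
  rwa [Subgroup.commutator_comm, h] at this

/-- `N(K) ≤ N(Ω₁(Z(K)))`. -/
theorem normalizer_le_normalizer_omegaCenterOf (X : Subgroup G) :
    Subgroup.normalizer (X : Set G) ≤ Subgroup.normalizer (omegaCenterOf X : Set G) := by
  intro g hg
  exact mem_normalizer_of_conj_mem_of_inv_conj_mem
    (fun x hx => conj_mem_omegaCenterOf hg hx)
    (fun x hx => by
      have := conj_mem_omegaCenterOf (Subgroup.inv_mem _ hg) hx
      rwa [inv_inv] at this)

/-- `N(K) ≤ N(W_K)`. -/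
theorem normalizer_le_normalizer_wOf (K : Subgroup G) :
    Subgroup.normalizer (K : Set G) ≤ Subgroup.normalizer (wOf K : Set G) := by
  have hp2 : Fact (Nat.Prime 2) := ⟨Nat.prime_two⟩
  intro g hg
  have hgQ : g ∈ Subgroup.normalizer (pCoreOf 2 K : Set G) :=
    Cfsg.Agent.Lib.helper51.normalizer_le_normalizer_pCoreOf K hg
  have hgU := normalizer_le_normalizer_omegaCenterOf _ hgQ
  rw [Subgroup.mem_normalizer_iff_map_conj_eq]
  unfold wOf
  rw [Subgroup.map_commutator, Subgroup.mem_normalizer_iff_map_conj_eq.mp hgU,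
    Subgroup.mem_normalizer_iff_map_conj_eq.mp hg]

/-- Elements of `K ∖ O_2(K)` act fixed-point-freely on `W_K`. -/
theorem eq_one_of_conj_eq_of_not_mem_pCoreOf {T K : Subgroup G} (hK : IsJComponent T K) {k : G}
    (hk : k ∈ K) (hkQ : k ∉ pCoreOf 2 K) {w : G} (hw : w ∈ wOf K) (h : k * w * k⁻¹ = w) :
    w = 1 := by
  obtain ⟨-, -, -, -, -, hnorm⟩ := jComponent_facts hK hk hkQ
  have h1 := hnorm w hw
  rw [h, h] at h1
  obtain ⟨-, -, -, -, -, hW2⟩ := hK
  rwa [hW2 w hw, one_mul] at h1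

theorem exists_ne_one_mem_wOf {T K : Subgroup G} (hK : IsJComponent T K) :
    ∃ w ∈ wOf K, w ≠ 1 := by
  obtain ⟨-, -, -, -, hcard, -⟩ := hK
  have hne : wOf K ≠ ⊥ := by
    intro h
    rw [h, Subgroup.card_bot] at hcard
    norm_num at hcard
  obtain ⟨⟨w, hw⟩, hw1⟩ := (Subgroup.ne_bot_iff_exists_ne_one).mp hne
  exact ⟨w, hw, fun h => hw1 (Subtype.ext h)⟩

/-- A subgroup normalized by `K` and containing an element of `K ∖ O_2(K)` contains `K`. -/
theorem jComponent_le_of_normalized {T K M : Subgroup G} (hK : IsJComponent T K)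
    (hKM : K ≤ Subgroup.normalizer (M : Set G)) {e : G} (he : e ∈ K) (heQ : e ∉ pCoreOf 2 K)
    (heM : e ∈ M) : K ≤ M := by
  have hp2 : Fact (Nat.Prime 2) := ⟨Nat.prime_two⟩
  obtain ⟨hdec, -⟩ := jComponent_facts hK he heQ
  obtain ⟨hgen, -, -, -, -, -⟩ := hK
  have hQK := Cfsg.Agent.Lib.helper51.pCoreOf_le 2 K
  conv_lhs => rw [← hgen]
  rw [Subgroup.closure_le]
  rintro g ⟨hgK, hgodd⟩
  apply mem_of_odd_of_mem_sup (R := pCoreOf 2 K) (hQK.trans hKM)
    (Cfsg.Agent.Lib.helper51.isPGroup_pCoreOf K) _ hgodd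
  obtain ⟨n, q, hq, rfl⟩ := hdec g hgK
  exact Subgroup.mul_mem _ (Subgroup.mem_sup_left (M.pow_mem heM n)) (Subgroup.mem_sup_right hq)

/-- `K ∩ S = O_2(K)` for a 2-subgroup `S ≥ O_2(K)`. -/
theorem inf_eq_pCoreOf_of_isPGroup {K S : Subgroup G} (hidx : (pCoreOf 2 K).relIndex K = 3)
    (hS : IsPGroup 2 S) (hQS : pCoreOf 2 K ≤ S) : K ⊓ S = pCoreOf 2 K := by
  apply le_antisymm
  · rintro x ⟨hxK, hxS⟩
    obtain ⟨a, ha⟩ := hS ⟨x, hxS⟩
    have hx2 : x ^ 2 ^ a = 1 := by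
      have := congrArg Subtype.val ha
      simpa using this
    exact mem_of_pow_mem_of_coprime _ x 3 (2 ^ a) (Nat.Coprime.pow_right a (by norm_num))
      (pow_three_mem_pCoreOf hidx hxK) (by rw [hx2]; exact Subgroup.one_mem _)
  · exact le_inf (Cfsg.Agent.Lib.helper51.pCoreOf_le 2 K) hQS

/-- `O_2(K) J` is a Sylow 2-subgroup of `K J`, of index 3. -/
theorem isSylowTwoIn_pCoreOf_sup [Finite G] {K J : Subgroup G}
    (hidx : (pCoreOf 2 K).relIndex K = 3) (hJK : J ≤ Subgroup.normalizer (K : Set G))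
    (hJ : IsPGroup 2 J) : IsSylowTwoIn (pCoreOf 2 K ⊔ J) (K ⊔ J) := by
  have hp2 : Fact (Nat.Prime 2) := ⟨Nat.prime_two⟩
  have hQK := Cfsg.Agent.Lib.helper51.pCoreOf_le 2 K
  have hJQ : J ≤ Subgroup.normalizer (pCoreOf 2 K : Set G) :=
    hJK.trans (Cfsg.Agent.Lib.helper51.normalizer_le_normalizer_pCoreOf K)
  have hS : IsPGroup 2 ↥(pCoreOf 2 K ⊔ J) :=
    (Cfsg.Agent.Lib.helper51.isPGroup_pCoreOf K).to_sup_of_normal_left' hJ hJQ
  refine ⟨sup_le_sup_right hQK J, hS, ?_⟩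
  have hinf := inf_eq_pCoreOf_of_isPGroup hidx hS le_sup_left
  have hsup : K ⊔ (pCoreOf 2 K ⊔ J) = K ⊔ J := by rw [← sup_assoc, sup_eq_left.mpr hQK]
  have hSK : pCoreOf 2 K ⊔ J ≤ Subgroup.normalizer (K : Set G) :=
    sup_le (hQK.trans Subgroup.le_normalizer) hJK
  have h1 := card_sup_mul_card_inf' K (pCoreOf 2 K ⊔ J) hSK
  rw [hsup, hinf] at h1
  have h2 := relIndex_mul_card_of_le hQK
  rw [hidx] at h2
  have h3 := relIndex_mul_card_of_le (sup_le_sup_right hQK J : pCoreOf 2 K ⊔ J ≤ K ⊔ J)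
  have hQpos : 0 < Nat.card ↥(pCoreOf 2 K) := Nat.card_pos
  have hSpos : 0 < Nat.card ↥(pCoreOf 2 K ⊔ J) := Nat.card_pos
  have h4 : (pCoreOf 2 K ⊔ J).relIndex (K ⊔ J) = 3 := by
    have : (pCoreOf 2 K ⊔ J).relIndex (K ⊔ J) *
        (Nat.card ↥(pCoreOf 2 K ⊔ J) * Nat.card ↥(pCoreOf 2 K)) =
        3 * (Nat.card ↥(pCoreOf 2 K ⊔ J) * Nat.card ↥(pCoreOf 2 K)) := by
      rw [← mul_assoc, h3, h1, ← h2]; ring
    exact Nat.eq_of_mul_eq_mul_right (Nat.mul_pos hSpos hQpos) this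
  rw [h4]; decide

/-- Some 2-power of an element of `K R`, with `R` a 2-group normalizing `K`, lies in `K`. -/
theorem exists_pow_mem_of_mem_sup {K R : Subgroup G}
    (hRK : R ≤ Subgroup.normalizer (K : Set G)) (hR : IsPGroup 2 R) {y : G} (hy : y ∈ K ⊔ R) :
    ∃ m : ℕ, y ^ 2 ^ m ∈ K := by
  have hconj : ∀ j ∈ R, ∀ k ∈ K, j * k * j⁻¹ ∈ K := Subgroup.le_normalizer_iff.mp hRK
  have hX : ∀ y ∈ K ⊔ R, ∃ k ∈ K, ∃ j ∈ R, y = k * j := by
    intro y hy
    rw [Subgroup.sup_eq_closure] at hy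
    refine Subgroup.closure_induction (p := fun y _ => ∃ k ∈ K, ∃ j ∈ R, y = k * j)
      ?_ ?_ ?_ ?_ hy
    · rintro z (hz | hz)
      · exact ⟨z, hz, 1, one_mem _, by simp⟩
      · exact ⟨1, one_mem _, z, hz, by simp⟩
    · exact ⟨1, one_mem _, 1, one_mem _, by simp⟩
    · rintro _ _ _ _ ⟨k₁, hk₁, j₁, hj₁, rfl⟩ ⟨k₂, hk₂, j₂, hj₂, rfl⟩
      exact ⟨k₁ * (j₁ * k₂ * j₁⁻¹), K.mul_mem hk₁ (hconj j₁ hj₁ k₂ hk₂), j₁ * j₂,
        R.mul_mem hj₁ hj₂, by group⟩
    · rintro _ _ ⟨k, hk, j, hj, rfl⟩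
      exact ⟨j⁻¹ * k⁻¹ * j⁻¹⁻¹, hconj j⁻¹ (R.inv_mem hj) k⁻¹ (K.inv_mem hk), j⁻¹, R.inv_mem hj,
        by group⟩
  obtain ⟨k, hk, j, hj, rfl⟩ := hX y hy
  have hpow : ∀ m : ℕ, ∃ k' ∈ K, (k * j) ^ m = k' * j ^ m := by
    intro m
    induction m with
    | zero => exact ⟨1, one_mem _, by simp⟩
    | succ m ih =>
      obtain ⟨k', hk', h⟩ := ih
      refine ⟨k' * (j ^ m * k * (j ^ m)⁻¹),
        K.mul_mem hk' (hconj _ (R.pow_mem hj m) k hk), ?_⟩
      rw [pow_succ, h, pow_succ]; group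
  obtain ⟨a, ha⟩ := hR ⟨j, hj⟩
  have hj2 : j ^ 2 ^ a = 1 := by
    have := congrArg Subtype.val ha
    simpa using this
  obtain ⟨k', hk', h⟩ := hpow (2 ^ a)
  refine ⟨a, ?_⟩
  rw [h, hj2, mul_one]
  exact hk'

end JComp2

section Tools

variable {G : Type*} [Group G]

theorem mem_centralizer_of_conj_eq {W : Subgroup G} {g : G} (h : ∀ w ∈ W, g * w * g⁻¹ = w) :
    g ∈ Subgroup.centralizer (W : Set G) := by
  apply Subgroup.mem_centralizer_iff.mpr
  intro w hw
  calc w * g = (g * w * g⁻¹) * g := by rw [h w hw]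
    _ = g * w := by group

theorem conj_eq_of_mem_centralizer {W : Subgroup G} {g : G}
    (h : g ∈ Subgroup.centralizer (W : Set G)) {w : G} (hw : w ∈ W) : g * w * g⁻¹ = w := by
  have := Subgroup.mem_centralizer_iff.mp h w hw
  rw [← this]; group

/-- A subgroup `H` of index at most 2 in `V` and `u ∈ V ∖ H`: `V = H ∪ H u`. -/
theorem mem_or_mul_mem_of_card_le [Finite G] {H V : Subgroup G} (hHV : H ≤ V)
    (hcard : Nat.card V ≤ 2 * Nat.card H) {u : G} (hu : u ∈ V) (huH : u ∉ H) :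
    ∀ v ∈ V, v ∈ H ∨ v * u ∈ H := by
  have h1 := relIndex_mul_card_of_le hHV
  have hHpos : 0 < Nat.card H := Nat.card_pos
  have hle : H.relIndex V ≤ 2 := by
    by_contra hcon
    push Not at hcon
    have h3 : 3 * Nat.card H ≤ H.relIndex V * Nat.card H := Nat.mul_le_mul_right _ hcon
    rw [h1] at h3
    omega
  have hne1 : H.relIndex V ≠ 1 := fun h => huH (Subgroup.relIndex_eq_one.mp h hu)
  have hne0 : H.relIndex V ≠ 0 := by
    intro h
    rw [h, zero_mul] at h1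
    exact (Nat.card_pos (α := V)).ne h1
  have h2 : H.relIndex V = 2 := by omega
  intro v hv
  by_cases hvH : v ∈ H
  · left; exact hvH
  · right
    have h3 : (H.subgroupOf V).index = 2 := h2
    have := Subgroup.mul_mem_iff_of_index_two h3 (a := (⟨v, hv⟩ : V)) (b := ⟨u, hu⟩)
    rw [Subgroup.mem_subgroupOf, Subgroup.mem_subgroupOf, Subgroup.mem_subgroupOf] at this
    exact this.mpr ⟨fun h => absurd h hvH, fun h => absurd h huH⟩

/-- An element of order dividing `p` of `S` commuting with a maximal elementary abelian subgroup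
of `S` lies in it. -/
theorem mem_of_mem_maxIn_of_commute [Finite G] {p : ℕ} {S A : Subgroup G} (hA : A ∈ maxIn p S)
    {x : G} (hxS : x ∈ S) (hx : x ^ p = 1) (hxA : ∀ a ∈ A, a * x = x * a) : x ∈ A := by
  obtain ⟨hAS, hAel, hAmax⟩ := hA
  have h1 : IsElementaryAbelian p (A ⊔ Subgroup.zpowers x) := by
    apply elemAb_sup hAel (isElementaryAbelian_zpowers hx)
    rw [Subgroup.zpowers_le, Subgroup.mem_centralizer_iff]
    exact hxA
  have h2 : A ⊔ Subgroup.zpowers x ≤ S := sup_le hAS (by rw [Subgroup.zpowers_le]; exact hxS)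
  have h3 := hAmax _ h2 h1
  have h4 : A = A ⊔ Subgroup.zpowers x := Subgroup.eq_of_le_of_card_ge le_sup_left h3
  rw [h4]
  exact Subgroup.mem_sup_right (Subgroup.mem_zpowers x)

/-- The elements normalizing `V` and `W` and acting trivially on `V` modulo `W`. -/
def commSubgroup (V W : Subgroup G) : Subgroup G where
  carrier := {x | x ∈ Subgroup.normalizer (V : Set G) ∧ x ∈ Subgroup.normalizer (W : Set G) ∧
    ∀ v ∈ V, ⁅v, x⁆ ∈ W}
  mul_mem' := by
    rintro x y ⟨hx1, hx2, hx3⟩ ⟨hy1, hy2, hy3⟩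
    refine ⟨Subgroup.mul_mem _ hx1 hy1, Subgroup.mul_mem _ hx2 hy2, fun v hv => ?_⟩
    have e : ⁅v, x * y⁆ = ⁅v, x⁆ * (x * ⁅v, y⁆ * x⁻¹) := by
      simp only [commutatorElement_def]; group
    rw [e]
    exact W.mul_mem (hx3 v hv) ((Subgroup.mem_normalizer_iff.mp hx2 _).mp (hy3 v hv))
  one_mem' := ⟨Subgroup.one_mem _, Subgroup.one_mem _, fun v _ => by
    have e : ⁅v, (1 : G)⁆ = 1 := by simp only [commutatorElement_def]; group
    rw [e]; exact W.one_mem⟩
  inv_mem' := by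
    rintro x ⟨hx1, hx2, hx3⟩
    refine ⟨Subgroup.inv_mem _ hx1, Subgroup.inv_mem _ hx2, fun v hv => ?_⟩
    have e : ⁅v, x⁻¹⁆ = x⁻¹ * ⁅v, x⁆⁻¹ * x⁻¹⁻¹ := by
      simp only [commutatorElement_def]; group
    rw [e]
    exact (Subgroup.mem_normalizer_iff.mp (Subgroup.inv_mem _ hx2) _).mp
      (W.inv_mem (hx3 v hv))

theorem mem_commSubgroup_iff {V W : Subgroup G} {x : G} :
    x ∈ commSubgroup V W ↔ x ∈ Subgroup.normalizer (V : Set G) ∧
      x ∈ Subgroup.normalizer (W : Set G) ∧ ∀ v ∈ V, ⁅v, x⁆ ∈ W := Iff.rfl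

theorem conj_mem_commSubgroup {V W : Subgroup G} {g x : G}
    (hgV : g ∈ Subgroup.normalizer (V : Set G)) (hgW : g ∈ Subgroup.normalizer (W : Set G))
    (hx : x ∈ commSubgroup V W) : g * x * g⁻¹ ∈ commSubgroup V W := by
  obtain ⟨hx1, hx2, hx3⟩ := hx
  refine ⟨Subgroup.mul_mem _ (Subgroup.mul_mem _ hgV hx1) (Subgroup.inv_mem _ hgV),
    Subgroup.mul_mem _ (Subgroup.mul_mem _ hgW hx2) (Subgroup.inv_mem _ hgW), fun v hv => ?_⟩
  have hv' : g⁻¹ * v * g ∈ V := (Subgroup.mem_normalizer_iff''.mp hgV v).mp hv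
  have e : ⁅v, g * x * g⁻¹⁆ = g * ⁅g⁻¹ * v * g, x⁆ * g⁻¹ := by
    simp only [commutatorElement_def]; group
  rw [e]
  exact (Subgroup.mem_normalizer_iff.mp hgW _).mp (hx3 _ hv')

theorem le_normalizer_commSubgroup {V W K : Subgroup G}
    (hKV : K ≤ Subgroup.normalizer (V : Set G)) (hKW : K ≤ Subgroup.normalizer (W : Set G)) :
    K ≤ Subgroup.normalizer (commSubgroup V W : Set G) := by
  intro k hk
  apply mem_normalizer_of_conj_mem_of_inv_conj_mem
  · intro x hx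
    exact conj_mem_commSubgroup (hKV hk) (hKW hk) hx
  · intro x hx
    have := conj_mem_commSubgroup (hKV (K.inv_mem hk)) (hKW (K.inv_mem hk)) hx
    rwa [inv_inv] at this

end Tools

end Cfsg.Agent.Lib.helper13
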