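import Mathlib
import Cfsg.Prelude.Def_JComponents
import Cfsg.Agent.S0602
import Cfsg.Agent.Lib.helper13.Thompson2
import Cfsg.Agent.Lib.helper13.JOver
import Cfsg.Agent.Lib.helper51.JBasic

/-!
The elementary part of KS 12.2 on the maximal members `T` of `straddlingTwoSubgroups M`:
`N_G(J(T)) ≤ M`, and for a 2-local `L ≰ M` with a Sylow 2-subgroup `T₀ ≥ J(T)`:
`J(T) = J(T₀)`, `T₀` again straddles, `L ∈ jOvergroups T₀`; if `T ≤ L` then `L ∈ jOvergroups T`.
-/

set_option autoImplicit false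

namespace Cfsg.Agent.Lib.helper13

open Cfsg Cfsg.Agent.Lib.helper51

universe u

section JMax

variable {G : Type u} [Group G]

/-- Normalizers grow in 2-groups. -/
theorem lt_inf_normalizer_of_lt_two [Finite G] {S A : Subgroup G} (hS : IsPGroup 2 ↥S)
    (hA : A < S) : A < S ⊓ Subgroup.normalizer (A : Set G) := by
  have hp2 : Fact (Nat.Prime 2) := ⟨Nat.prime_two⟩
  have hnil : Group.IsNilpotent S := hS.isNilpotent
  have hnc : NormalizerCondition S := Group.normalizerCondition_of_isNilpotent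
  have hlt : A.subgroupOf S < ⊤ := by
    rw [lt_top_iff_ne_top]
    intro h
    rw [Subgroup.subgroupOf_eq_top] at h
    exact absurd (le_antisymm hA.le h) hA.ne
  have h2 := hnc _ hlt
  obtain ⟨x, hxN, hxA⟩ := SetLike.exists_of_lt h2
  refine lt_of_le_of_ne (le_inf hA.le Subgroup.le_normalizer) ?_
  intro heq
  apply hxA
  rw [Subgroup.mem_subgroupOf]
  rw [heq]
  refine ⟨x.2, ?_⟩
  rw [← Subgroup.subgroupOf_normalizer_eq hA.le, Subgroup.mem_subgroupOf] at hxN
  exact hxN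

theorem thompsonSubgroupOf_two_ne_bot [Finite G] {U : Subgroup G} (hU : IsPGroup 2 ↥U)
    (hne : U ≠ ⊥) : thompsonSubgroupOf 2 U ≠ ⊥ := by
  have hp2 : Fact (Nat.Prime 2) := ⟨Nat.prime_two⟩
  have hdvd : 2 ∣ Nat.card U := by
    rcases hU.card_eq_or_dvd with h | h
    · exact absurd (Subgroup.eq_bot_of_card_eq U h) hne
    · exact h
  have h1 := (Cfsg.Agent.S0602.result (G := U) (p := 2)).2 hdvd
  unfold thompsonSubgroupOf
  rw [Ne, Subgroup.map_eq_bot_iff_of_injective _ U.subtype_injective]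
  exact h1

/-- `maxElemAbelianOrder U` is the order of any member of `maxIn 2 U`. -/
theorem maxElemAbelianOrder_eq {U A : Subgroup G} (hA : A ∈ maxIn 2 U) :
    maxElemAbelianOrder U = Nat.card A := by
  unfold maxElemAbelianOrder
  have himg : (fun B : Subgroup ↥U => Nat.card ↥B) '' maxElementaryAbelianSubgroups 2 ↥U =
      {Nat.card A} := by
    ext n
    constructor
    · rintro ⟨B, hB, rfl⟩
      have h1 := subgroupOf_mem_max_of_mem_maxIn hA
      have h2 : Nat.card B = Nat.card (A.subgroupOf U) :=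
        le_antisymm (h1.2 B hB.1) (hB.2 _ h1.1)
      rw [Set.mem_singleton_iff, ← card_subgroupOf_of_le hA.1]
      exact h2
    · intro hn
      rw [Set.mem_singleton_iff] at hn
      refine ⟨A.subgroupOf U, subgroupOf_mem_max_of_mem_maxIn hA, ?_⟩
      show Nat.card (A.subgroupOf U) = n
      rw [hn, card_subgroupOf_of_le hA.1]
  rw [himg, csSup_singleton]

/-- If `J(U) ≤ U'` then `a(U) ≤ a(U')`; in case of equality `J(U) ≤ J(U')`. -/
theorem maxElemAbelianOrder_le_of_thompson_le [Finite G] {U U' : Subgroup G}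
    (hJ : thompsonSubgroupOf 2 U ≤ U') :
    maxElemAbelianOrder U ≤ maxElemAbelianOrder U' ∧
      (maxElemAbelianOrder U' ≤ maxElemAbelianOrder U →
        thompsonSubgroupOf 2 U ≤ thompsonSubgroupOf 2 U') := by
  obtain ⟨A', hA'⟩ := maxIn_nonempty 2 U'
  obtain ⟨A₀, hA₀⟩ := maxIn_nonempty 2 U
  rw [maxElemAbelianOrder_eq hA', maxElemAbelianOrder_eq hA₀]
  have hA₀U' : A₀ ≤ U' := (le_thompsonSubgroupOf_of_mem_maxIn hA₀).trans hJ
  refine ⟨hA'.2.2 A₀ hA₀U' hA₀.2.1, fun hle => ?_⟩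
  conv_lhs => rw [thompsonSubgroupOf_eq_sSup]
  apply sSup_le
  intro A hA
  apply le_thompsonSubgroupOf_of_mem_maxIn
  refine ⟨(le_thompsonSubgroupOf_of_mem_maxIn hA).trans hJ, hA.2.1, fun B hBU' hB => ?_⟩
  exact ((hA'.2.2 B hBU' hB).trans hle).trans (hA.2.2 A₀ hA₀.1 hA₀.2.1)

/-- The key consequence of maximality: a straddling 2-subgroup containing `J(T)` has the same
Thompson subgroup, and equals `T` if it contains `T`. -/
theorem thompson_eq_of_mem_maxStraddling [Finite G] {M T T' : Subgroup G}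
    (hT : T ∈ maxStraddlingTwoSubgroups M) (hT' : T' ∈ straddlingTwoSubgroups M)
    (hJ : thompsonSubgroupOf 2 T ≤ T') :
    thompsonSubgroupOf 2 T' = thompsonSubgroupOf 2 T ∧ (T ≤ T' → T' = T) := by
  obtain ⟨h1, h2⟩ := maxElemAbelianOrder_le_of_thompson_le hJ
  obtain ⟨h3, h4⟩ := hT.2 T' hT'
  have ha : maxElemAbelianOrder T' = maxElemAbelianOrder T := le_antisymm h3 h1
  obtain ⟨h5, h6⟩ := h4 ha
  have hJle := h2 h3
  have hJeq : thompsonSubgroupOf 2 T = thompsonSubgroupOf 2 T' :=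
    Subgroup.eq_of_le_of_card_ge hJle h5
  refine ⟨hJeq.symm, fun hle => ?_⟩
  have h7 := h6 (by rw [hJeq])
  exact (Subgroup.eq_of_le_of_card_ge hle h7).symm

/-- `N_G(J(T)) ≤ M` for the maximal straddling 2-subgroups `T` of `M`, if `N_G(J(S)) ≤ M`. -/
theorem normalizer_thompson_le_of_mem_maxStraddling [Finite G] (S : Sylow 2 G) {M T : Subgroup G}
    (hMJ : Subgroup.normalizer (thompsonSubgroupOf 2 (S : Subgroup G) : Set G) ≤ M)
    (hT : T ∈ maxStraddlingTwoSubgroups M) :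
    Subgroup.normalizer (thompsonSubgroupOf 2 T : Set G) ≤ M := by
  have hp2 : Fact (Nat.Prime 2) := ⟨Nat.prime_two⟩
  obtain ⟨⟨hT2, hT1, hTM, -⟩, -⟩ := id hT
  have hSM : (S : Subgroup G) ≤ M :=
    (Subgroup.le_normalizer.trans (normalizer_le_normalizer_thompsonSubgroupOf 2 _)).trans hMJ
  have hSsyl : IsSylowTwoIn (S : Subgroup G) M := by
    refine ⟨hSM, S.isPGroup', ?_⟩
    have h1 : (S : Subgroup G).relIndex M ∣ (S : Subgroup G).index :=
      Dvd.intro _ (Subgroup.relIndex_mul_index hSM)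
    have h2 := S.not_dvd_index
    exact Nat.not_even_iff_odd.mp (fun h => h2 ((even_iff_two_dvd.mp h).trans h1))
  obtain ⟨m, hm, hconj⟩ := exists_conj_mem_of_isPGroup hSsyl hTM hT2
  obtain ⟨S', hS'⟩ : ∃ S' : Subgroup G,
      S' = (S : Subgroup G).map (MulAut.conj m⁻¹).toMonoidHom := ⟨_, rfl⟩
  have hTS' : T ≤ S' := by
    intro t ht
    rw [hS']
    refine ⟨m * t * m⁻¹, hconj t ht, ?_⟩
    simp only [MulEquiv.coe_toMonoidHom, MulAut.conj_apply]
    group
  have hS'2 : IsPGroup 2 ↥S' := by rw [hS']; exact S.isPGroup'.map _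
  have hS'M : S' ≤ M := by
    rw [hS']
    rintro _ ⟨s, hs, rfl⟩
    simp only [MulEquiv.coe_toMonoidHom, MulAut.conj_apply, inv_inv]
    exact M.mul_mem (M.mul_mem (M.inv_mem hm) (hSM hs)) hm
  have hNS' : Subgroup.normalizer (thompsonSubgroupOf 2 S' : Set G) ≤ M := by
    rw [hS', ← map_thompsonSubgroupOf, ← Subgroup.map_equiv_normalizer_eq]
    rintro _ ⟨n, hn, rfl⟩
    simp only [MulEquiv.coe_toMonoidHom, MulAut.conj_apply, inv_inv]
    exact M.mul_mem (M.mul_mem (M.inv_mem hm) (hMJ hn)) hm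
  by_contra hH
  have hTN : T ≤ Subgroup.normalizer (thompsonSubgroupOf 2 T : Set G) :=
    Subgroup.le_normalizer.trans (normalizer_le_normalizer_thompsonSubgroupOf 2 T)
  have hTT' : T ≤ S' ⊓ Subgroup.normalizer (thompsonSubgroupOf 2 T : Set G) := le_inf hTS' hTN
  have hT'mem : S' ⊓ Subgroup.normalizer (thompsonSubgroupOf 2 T : Set G) ∈
      straddlingTwoSubgroups M := by
    refine ⟨hS'2.to_le inf_le_left, ?_, inf_le_left.trans hS'M,
      Subgroup.normalizer (thompsonSubgroupOf 2 T : Set G),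
      ⟨thompsonSubgroupOf 2 T, hT2.to_le (thompsonSubgroupOf_le_self T),
        thompsonSubgroupOf_two_ne_bot hT2 hT1, rfl⟩, inf_le_right, hH⟩
    intro h
    apply hT1
    rw [eq_bot_iff, ← h]
    exact hTT'
  obtain ⟨-, hEq⟩ := thompson_eq_of_mem_maxStraddling hT hT'mem
    ((thompsonSubgroupOf_le_self T).trans hTT')
  have hT'eq := hEq hTT'
  have hTeq : T = S' := by
    by_contra hne
    have hlt : T < S' := lt_of_le_of_ne hTS' hne
    have h1 := lt_inf_normalizer_of_lt_two hS'2 hlt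
    have h2 : S' ⊓ Subgroup.normalizer (T : Set G) ≤ T :=
      (inf_le_inf_left S' (normalizer_le_normalizer_thompsonSubgroupOf 2 T)).trans hT'eq.le
    exact absurd h2 (not_le_of_gt h1)
  apply hH
  rw [hTeq]
  exact hNS'

/-- The elementary part of KS 12.2.?: a 2-local `L ≰ M` with a Sylow 2-subgroup `T₀ ≥ J(T)`. -/
theorem maxStraddling_overgroup [Finite G] (hL : Cfsg.IsCharacteristicTwoType G) (S : Sylow 2 G)
    {M T L T₀ : Subgroup G}
    (hMJ : Subgroup.normalizer (thompsonSubgroupOf 2 (S : Subgroup G) : Set G) ≤ M)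
    (hT : T ∈ maxStraddlingTwoSubgroups M) (hL2 : IsTwoLocal L) (hLM : ¬ L ≤ M)
    (hT₀ : IsSylowTwoIn T₀ L) (hJT₀ : thompsonSubgroupOf 2 T ≤ T₀) :
    thompsonSubgroupOf 2 T = thompsonSubgroupOf 2 T₀ ∧ T₀ ∈ straddlingTwoSubgroups M ∧
      L ∈ jOvergroups T₀ := by
  have hp2 : Fact (Nat.Prime 2) := ⟨Nat.prime_two⟩
  obtain ⟨⟨hT2, hT1, hTM, -⟩, -⟩ := id hT
  have hNJ := normalizer_thompson_le_of_mem_maxStraddling S hMJ hT
  have hJne := thompsonSubgroupOf_two_ne_bot hT2 hT1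
  have hT₀2 : IsPGroup 2 ↥T₀ := hT₀.2.1
  have hJT₂ : thompsonSubgroupOf 2 T ≤
      T₀ ⊓ Subgroup.normalizer (thompsonSubgroupOf 2 T : Set G) :=
    le_inf hJT₀ Subgroup.le_normalizer
  have hT₂mem : T₀ ⊓ Subgroup.normalizer (thompsonSubgroupOf 2 T : Set G) ∈
      straddlingTwoSubgroups M := by
    refine ⟨hT₀2.to_le inf_le_left, ?_, inf_le_right.trans hNJ, L, hL2,
      inf_le_left.trans hT₀.1, hLM⟩
    intro h
    apply hJne
    rw [eq_bot_iff, ← h]
    exact hJT₂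
  obtain ⟨hJ₂, -⟩ := thompson_eq_of_mem_maxStraddling hT hT₂mem hJT₂
  have hT₂eq : T₀ ⊓ Subgroup.normalizer (thompsonSubgroupOf 2 T : Set G) = T₀ := by
    by_contra hne
    have hlt : T₀ ⊓ Subgroup.normalizer (thompsonSubgroupOf 2 T : Set G) < T₀ :=
      lt_of_le_of_ne inf_le_left hne
    have h1 := lt_inf_normalizer_of_lt_two hT₀2 hlt
    have h2 : T₀ ⊓ Subgroup.normalizer
        ((T₀ ⊓ Subgroup.normalizer (thompsonSubgroupOf 2 T : Set G) : Subgroup G) : Set G) ≤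
        T₀ ⊓ Subgroup.normalizer (thompsonSubgroupOf 2 T : Set G) := by
      apply inf_le_inf_left
      have h3 := normalizer_le_normalizer_thompsonSubgroupOf 2
        (T₀ ⊓ Subgroup.normalizer (thompsonSubgroupOf 2 T : Set G))
      rwa [hJ₂] at h3
    exact absurd h2 (not_le_of_gt h1)
  rw [hT₂eq] at hT₂mem hJ₂
  refine ⟨hJ₂.symm, hT₂mem, hT₀, ?_, isTwoLocal_char hL hL2⟩
  intro hle
  apply hLM
  have hQT := pCoreOf_le_of_isSylowTwoIn hT₀
  have hJQ : thompsonSubgroupOf 2 (pCoreOf 2 L) = thompsonSubgroupOf 2 T₀ :=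
    thompsonSubgroupOf_eq_of_le hQT hle
  have h1 : L ≤ Subgroup.normalizer (thompsonSubgroupOf 2 (pCoreOf 2 L) : Set G) :=
    (le_normalizer_pCoreOf 2 L).trans (normalizer_le_normalizer_thompsonSubgroupOf 2 _)
  rw [hJQ, hJ₂] at h1
  exact h1.trans hNJ

/-- If moreover `T ≤ L` then `T` is a Sylow 2-subgroup of `L` and `L ∈ jOvergroups T`. -/
theorem maxStraddling_mem_jOvergroups [Finite G] (hL : Cfsg.IsCharacteristicTwoType G)
    (S : Sylow 2 G) {M T L : Subgroup G}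
    (hMJ : Subgroup.normalizer (thompsonSubgroupOf 2 (S : Subgroup G) : Set G) ≤ M)
    (hT : T ∈ maxStraddlingTwoSubgroups M) (hL2 : IsTwoLocal L) (hLM : ¬ L ≤ M)
    (hTL : T ≤ L) : L ∈ jOvergroups T := by
  obtain ⟨⟨hT2, hT1, hTM, -⟩, -⟩ := id hT
  obtain ⟨T₀, hT₀syl, hTT₀⟩ := exists_sylowTwoIn_ge hTL hT2
  have hJT₀ : thompsonSubgroupOf 2 T ≤ T₀ := (thompsonSubgroupOf_le_self T).trans hTT₀
  obtain ⟨-, hmem, hov⟩ := maxStraddling_overgroup hL S hMJ hT hL2 hLM hT₀syl hJT₀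
  obtain ⟨-, hEq⟩ := thompson_eq_of_mem_maxStraddling hT hmem hJT₀
  rw [hEq hTT₀] at hov
  exact hov

end JMax

end Cfsg.Agent.Lib.helper13
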