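import Mathlib
import Cfsg.Prelude.Def_JComponents
import Cfsg.Agent.Lib.helper13.Thompson2
import Cfsg.Agent.Lib.helper13.JMax
import Cfsg.Agent.Lib.helper51.JBasic

/-!
Generation of the overgroups `L ∈ jOvergroups T` (KS 12.2): `L` is generated by `N_L(J(T))`
and the commutators `[k, a]`, `k ∈ N`, `a` a minimal generator of `J(T)`, not centralizing `V`
(each of which lies in `K O₂(L)` for a `J(T)`-component `K` of `L`).
-/

set_option autoImplicit false

namespace Cfsg.Agent.Lib.helper13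

open Cfsg Cfsg.Agent.Lib.helper51
open scoped commutatorElement

universe u

section JGen

variable {G : Type u} [Group G]

/-- Frattini-type lemma: if `T` is a Sylow 2-subgroup of `L` and `L ∩ N_G(J(T)) ≤ M'`, then
every `g ∈ L` conjugating `J(T)` into `M'` lies in `M'`. -/
theorem mem_of_conj_thompson_mem [Finite G] {T L M' : Subgroup G} (hsyl : IsSylowTwoIn T L)
    (hNJ : L ⊓ Subgroup.normalizer (thompsonSubgroupOf 2 T : Set G) ≤ M') {g : G} (hg : g ∈ L)
    (h : ∀ x ∈ thompsonSubgroupOf 2 T, g * x * g⁻¹ ∈ M') : g ∈ M' := by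
  have hp2 : Fact (Nat.Prime 2) := ⟨Nat.prime_two⟩
  obtain ⟨hTL, hT2, -⟩ := id hsyl
  have hJT : thompsonSubgroupOf 2 T ≤ T := thompsonSubgroupOf_le_self T
  have hJ2 : IsPGroup 2 ↥(thompsonSubgroupOf 2 T) := hT2.to_le hJT
  have hTN : T ≤ Subgroup.normalizer (thompsonSubgroupOf 2 T : Set G) :=
    Subgroup.le_normalizer.trans (normalizer_le_normalizer_thompsonSubgroupOf 2 T)
  have hTM : T ≤ M' := (le_inf hTL hTN).trans hNJ
  have hJH : thompsonSubgroupOf 2 T ≤ L ⊓ M' := le_inf (hJT.trans hTL) (hJT.trans hTM)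
  obtain ⟨P₀, hP₀syl, hJP₀⟩ := exists_sylowTwoIn_ge hJH hJ2
  have hJgH : (thompsonSubgroupOf 2 T).map (MulAut.conj g).toMonoidHom ≤ L ⊓ M' := by
    rintro _ ⟨x, hx, rfl⟩
    exact ⟨L.mul_mem (L.mul_mem hg (hTL (hJT hx))) (L.inv_mem hg), h x hx⟩
  obtain ⟨y, hy, hconj⟩ := exists_conj_mem_of_isPGroup hP₀syl hJgH (hJ2.map _)
  have hP₀L : P₀ ≤ L := hP₀syl.1.trans inf_le_left
  obtain ⟨l, hl, hconj2⟩ := exists_conj_mem_of_isPGroup hsyl hP₀L hP₀syl.2.1
  obtain ⟨T', hT'⟩ : ∃ T' : Subgroup G, T' = T.map (MulAut.conj l⁻¹).toMonoidHom := ⟨_, rfl⟩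
  have hP₀T' : P₀ ≤ T' := by
    intro z hz
    rw [hT']
    refine ⟨l * z * l⁻¹, hconj2 z hz, ?_⟩
    simp only [MulEquiv.coe_toMonoidHom, MulAut.conj_apply]
    group
  have hJT' : thompsonSubgroupOf 2 T' = thompsonSubgroupOf 2 T :=
    thompson_eq_of_le_conj hT' (hJP₀.trans hP₀T')
  have hJP₀eq : thompsonSubgroupOf 2 P₀ = thompsonSubgroupOf 2 T := by
    rw [← hJT']
    apply thompsonSubgroupOf_eq_of_le hP₀T'
    rw [hJT']; exact hJP₀
  have hyg : y * g ∈ Subgroup.normalizer (thompsonSubgroupOf 2 P₀ : Set G) := by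
    apply mem_normalizer_thompson_of_conj_mem
    intro x hx
    rw [hJP₀eq] at hx
    have h1 := hconj _ ⟨x, hx, rfl⟩
    have e : y * g * x * (y * g)⁻¹ = y * ((MulAut.conj g).toMonoidHom x) * y⁻¹ := by
      simp only [MulEquiv.coe_toMonoidHom, MulAut.conj_apply]; group
    rw [e]; exact h1
  rw [hJP₀eq] at hyg
  have h1 : y * g ∈ M' := hNJ ⟨L.mul_mem hy.1 hg, hyg⟩
  have e : g = y⁻¹ * (y * g) := by group
  rw [e]
  exact M'.mul_mem (M'.inv_mem hy.2) h1

/-- Generation: a subgroup `M'` containing `L ∩ N_G(J(T))` and the commutators `[k, a]`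
(`k ∈ N`, `a` a minimal generator of `J(T)`, `[k, a] ∉ C(V)`) contains `L`. -/
theorem le_of_commutator_minGen_mem [Finite G] {T L V N JL M' : Subgroup G}
    (F : FineData T L V N JL)
    (hNJ : L ⊓ Subgroup.normalizer (thompsonSubgroupOf 2 T : Set G) ≤ M')
    (hE : ∀ a k : G, IsMinGen T V a → k ∈ N → ⁅k, a⁆ ∉ Subgroup.centralizer (V : Set G) →
      ⁅k, a⁆ ∈ M') : L ≤ M' := by
  have hJT : thompsonSubgroupOf 2 T ≤ T := thompsonSubgroupOf_le_self T
  have hTN : T ≤ Subgroup.normalizer (thompsonSubgroupOf 2 T : Set G) :=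
    Subgroup.le_normalizer.trans (normalizer_le_normalizer_thompsonSubgroupOf 2 T)
  have hTM : T ≤ M' := (le_inf F.TL hTN).trans hNJ
  have hJM : thompsonSubgroupOf 2 T ≤ M' := hJT.trans hTM
  have hCM : L ⊓ Subgroup.centralizer (V : Set G) ≤ M' := fun c hc =>
    hNJ ⟨hc.1, normalizer_le_normalizer_thompsonSubgroupOf 2 T (F.CT hc)⟩
  have hNM : N ≤ M' := by
    intro n hn
    apply mem_of_conj_thompson_mem F.syl hNJ (F.NL hn)
    have hle : thompsonSubgroupOf 2 T ≤ M'.comap (MulAut.conj n).toMonoidHom := by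
      refine F.gen.trans ?_
      rw [Subgroup.closure_le]
      rintro x ⟨hxJ, hx⟩
      rw [SetLike.mem_coe, Subgroup.mem_comap]
      show n * x * n⁻¹ ∈ M'
      have hxL : x ∈ L := F.TL (hJT hxJ)
      rcases hx with hx | hx
      · exact hCM (F.conjC (F.NL hn) ⟨hxL, hx⟩)
      · have e : n * x * n⁻¹ = ⁅n, x⁆ * x := by rw [commutatorElement_def]; group
        rw [e]
        apply M'.mul_mem _ (hJM hxJ)
        by_cases hc : ⁅n, x⁆ ∈ Subgroup.centralizer (V : Set G)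
        · refine hCM ⟨?_, hc⟩
          rw [commutatorElement_def]
          exact L.mul_mem (L.mul_mem (L.mul_mem (F.NL hn) hxL) (L.inv_mem (F.NL hn)))
            (L.inv_mem hxL)
        · exact hE x n hx hn hc
    intro x hx
    exact hle hx
  have hJLM : JL ≤ M' := by
    intro x hx
    obtain ⟨t, ht, hn⟩ := F.JNT x hx
    have e : x = t * (t⁻¹ * x) := by group
    rw [e]
    exact M'.mul_mem (hTM ht) (hNM hn)
  intro l hl
  exact mem_of_conj_thompson_mem F.syl hNJ hl (fun x hx => hJLM (F.conjJL hl (F.JJL hx)))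

theorem isPGroup_wOf_of_isJComponent {T K : Subgroup G} (hK : IsJComponent T K) :
    IsPGroup 2 ↥(wOf K) := by
  intro w
  refine ⟨1, ?_⟩
  apply Subtype.ext
  have := hK.2.2.2.2.2 w.1 w.2
  simp only [pow_one, Subgroup.coe_pow, Subgroup.coe_one]
  rw [pow_two]; exact this

theorem wOf_ne_bot_of_isJComponent {T K : Subgroup G} (hK : IsJComponent T K) : wOf K ≠ ⊥ := by
  intro h
  have := Subgroup.card_eq_one.mpr h
  rw [hK.2.2.2.2.1] at this
  norm_num at this

/-- Existence of a member of `jComponentsOutside M T` (S2949), from the existence of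
`J(T)`-components attached to the non-central commutators `[k, a]`. -/
theorem jComponentsOutside_nonempty_of_exists [Finite G] (hL : Cfsg.IsCharacteristicTwoType G)
    (hN : ∀ N : Subgroup G, Cfsg.IsTwoLocal N → Group.IsSolvable ↥N)
    (hZ : ∀ S : Sylow 2 G, Subgroup.centralizer (Cfsg.omegaCenterOf (S : Subgroup G) : Set G) ≤
      Subgroup.normalizer ((S : Subgroup G) : Set G))
    (S : Sylow 2 G) {M T : Subgroup G}
    (hMJ : Subgroup.normalizer (thompsonSubgroupOf 2 (S : Subgroup G) : Set G) ≤ M)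
    (hT : T ∈ maxStraddlingTwoSubgroups M)
    (HE : ∀ L V N JL : Subgroup G, FineData T L V N JL → ∀ a k : G, IsMinGen T V a → k ∈ N →
      ⁅k, a⁆ ∉ Subgroup.centralizer (V : Set G) →
      ∃ K : Subgroup G, IsJComponent T K ∧ K ≤ L ∧ ⁅k, a⁆ ∈ K ⊔ pCoreOf 2 L) :
    (jComponentsOutside M T).Nonempty := by
  have hp2 : Fact (Nat.Prime 2) := ⟨Nat.prime_two⟩
  obtain ⟨⟨hT2, hT1, hTM, L, hL2, hTL, hLM⟩, -⟩ := id hT
  have hov := maxStraddling_mem_jOvergroups hL S hMJ hT hL2 hLM hTL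
  obtain ⟨hsyl, hJR, hchar⟩ := id hov
  have hsolv := hN L hL2
  obtain ⟨V, N, JL, F⟩ := overgroup_fine hZ hsyl hsolv hchar
  have hNJ := normalizer_thompson_le_of_mem_maxStraddling S hMJ hT
  have hex : ∃ K : Subgroup G, IsJComponent T K ∧ K ≤ L ∧ ¬ K ≤ M := by
    by_contra hcon
    push Not at hcon
    apply hLM
    apply le_of_commutator_minGen_mem F (inf_le_right.trans hNJ)
    intro a k ha hk hka
    obtain ⟨K, hK, hKL, hmem⟩ := HE L V N JL F a k ha hk hka
    have hKM := hcon K hK hKL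
    have hRM : pCoreOf 2 L ≤ M := F.RT.trans hTM
    exact (sup_le hKM hRM) hmem
  obtain ⟨K, hK, hKL, hKM⟩ := hex
  refine ⟨K, ⟨hK, ?_⟩, hKM, ?_⟩
  · intro S₁ hJS₁ hS₁
    have hW : IsTwoLocal (Subgroup.normalizer (wOf K : Set G)) :=
      ⟨wOf K, isPGroup_wOf_of_isJComponent hK, wOf_ne_bot_of_isJComponent hK, rfl⟩
    have hnotM : ¬ Subgroup.normalizer (wOf K : Set G) ≤ M := fun h =>
      hKM ((Subgroup.le_normalizer.trans (normalizer_le_normalizer_wOf K)).trans h)
    exact (maxStraddling_overgroup hL S hMJ hT hW hnotM hS₁ hJS₁).1.symm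
  · have hR1 : pCoreOf 2 L ≠ ⊥ := pCoreOf_ne_bot_of_centralizer_le hT1 hchar
    have hle : pCoreOf 2 L ≤ pCoreOf 2 (K ⊔ T) :=
      le_pCoreOf (F.RT.trans le_sup_right)
        ((sup_le hKL hTL).trans (le_normalizer_pCoreOf 2 L)) F.R2
    intro h
    rw [h] at hle
    exact hR1 (le_bot_iff.mp hle)

end JGen

end Cfsg.Agent.Lib.helper13
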