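import Mathlib
import Cfsg.Prelude.Def_JComponents
import Cfsg.Agent.Lib.helper13.JOver
import Cfsg.Agent.Lib.helper13.JComp
import Cfsg.Agent.Lib.helper13.JComp2

/-!
Subnormal subgroups generated by elements of odd order, normal 2-subgroups, and automorphisms of
2-power order of a four-group commuting with a fixed-point-free automorphism of order 3.
-/

set_option autoImplicit false

namespace Cfsg.Agent.Lib.helper13

open Cfsg
open scoped commutatorElement

section Subnormal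

variable {Γ : Type*} [Group Γ]

/-- Powers of a product `a x` modulo a subgroup `M` normalized by `x` and containing `a`. -/
theorem exists_mul_pow_eq {M : Subgroup Γ} {a x : Γ} (ha : a ∈ M)
    (hx : ∀ z ∈ M, x * z * x⁻¹ ∈ M) (m : ℕ) : ∃ c ∈ M, (a * x) ^ m = c * x ^ m := by
  have hxpow : ∀ j : ℕ, ∀ z ∈ M, x ^ j * z * (x ^ j)⁻¹ ∈ M := by
    intro j
    induction j with
    | zero => intro z hz; simpa using hz
    | succ j ih =>
      intro z hz
      have e : x ^ (j + 1) * z * (x ^ (j + 1))⁻¹ = x ^ j * (x * z * x⁻¹) * (x ^ j)⁻¹ := by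
        rw [pow_succ]; group
      rw [e]
      exact ih _ (hx z hz)
  induction m with
  | zero => exact ⟨1, M.one_mem, by simp⟩
  | succ m ih =>
    obtain ⟨c, hc, hpow⟩ := ih
    refine ⟨c * (x ^ m * a * (x ^ m)⁻¹), M.mul_mem hc (hxpow m a ha), ?_⟩
    rw [pow_succ, hpow, pow_succ]
    group

/-- If `A` is subnormal, `N₀` and `X` are normal and `X` is a 2-group modulo `N₀`, then the
elements of odd order of `A X` lie in `A N₀`. -/
theorem odd_mem_sup_of_isSubnormal {A : Subgroup Γ} (hA : A.IsSubnormal)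
    (N₀ X : Subgroup Γ) [hN₀ : N₀.Normal] [hXn : X.Normal]
    (hX : ∀ x ∈ X, ∃ n : ℕ, x ^ (2 ^ n) ∈ N₀) :
    ∀ y ∈ A ⊔ X, Odd (orderOf y) → y ∈ A ⊔ N₀ := by
  induction hA with
  | top =>
    intro y _ _
    exact Subgroup.mem_sup_left (Subgroup.mem_top y)
  | step A B hAB hB hN ih =>
    intro y hy hodd
    have hyB : y ∈ B ⊔ N₀ := ih y (sup_le_sup_right hAB X hy) hodd
    obtain ⟨a, ha, x, hx, rfl⟩ := Subgroup.mem_sup_of_normal_right.mp hy
    have hxB : x ∈ B ⊔ N₀ := by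
      have e : x = a⁻¹ * (a * x) := by group
      rw [e]
      exact Subgroup.mul_mem _ (Subgroup.inv_mem _ (Subgroup.mem_sup_left (hAB ha))) hyB
    have hBA : B ≤ Subgroup.normalizer (A : Set Γ) :=
      (Subgroup.normal_subgroupOf_iff_le_normalizer hAB).mp hN
    have hBN : B ≤ Subgroup.normalizer (N₀ : Set Γ) := by
      rw [Subgroup.normalizer_eq_top_iff.mpr hN₀]; exact le_top
    have hnorm : B ⊔ N₀ ≤ Subgroup.normalizer ((A ⊔ N₀ : Subgroup Γ) : Set Γ) :=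
      sup_le (le_normalizer_sup hBA hBN) (le_sup_right.trans Subgroup.le_normalizer)
    have hxn : ∀ z ∈ A ⊔ N₀, x * z * x⁻¹ ∈ A ⊔ N₀ :=
      fun z hz => (Subgroup.mem_normalizer_iff.mp (hnorm hxB) z).mp hz
    obtain ⟨n, hn⟩ := hX x hx
    obtain ⟨c, hc, hpow⟩ := exists_mul_pow_eq (M := A ⊔ N₀) (Subgroup.mem_sup_left ha) hxn (2 ^ n)
    have h1 : (a * x) ^ (2 ^ n) ∈ A ⊔ N₀ := by
      rw [hpow]; exact Subgroup.mul_mem _ hc (Subgroup.mem_sup_right hn)
    have hcop : Nat.Coprime (2 ^ n) (orderOf (a * x)) :=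
      Nat.Coprime.pow_left n (Nat.coprime_two_left.mpr hodd)
    obtain ⟨m, hm⟩ := exists_pow_eq_self_of_coprime hcop
    rw [← hm]
    exact Subgroup.pow_mem _ h1 m

/-- A subnormal subgroup generated by its elements of odd order is normalized by every normal
2-subgroup; more precisely the conjugates of its odd-order elements by a normal 2-subgroup stay
inside. -/
theorem odd_conj_mem_of_isSubnormal {A : Subgroup Γ} (hA : A.IsSubnormal)
    (X : Subgroup Γ) [hXn : X.Normal] (hX : IsPGroup 2 X) {x k : Γ} (hx : x ∈ X) (hk : k ∈ A)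
    (hodd : Odd (orderOf k)) : x * k * x⁻¹ ∈ A := by
  have h := odd_mem_sup_of_isSubnormal hA ⊥ X (by
    intro y hy
    obtain ⟨n, hn⟩ := hX ⟨y, hy⟩
    refine ⟨n, ?_⟩
    have := congrArg Subtype.val hn
    rw [Subgroup.mem_bot]
    simpa using this) (x * k * x⁻¹)
    (Subgroup.mul_mem _ (Subgroup.mul_mem _ (Subgroup.mem_sup_right hx) (Subgroup.mem_sup_left hk))
      (Subgroup.inv_mem _ (Subgroup.mem_sup_right hx))) (by
    have e : orderOf (x * k * x⁻¹) = orderOf k := by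
      have := orderOf_map_dvd (MulAut.conj x).toMonoidHom k
      have h2 := orderOf_injective (MulAut.conj x).toMonoidHom (MulAut.conj x).injective k
      simpa using h2
    rw [e]; exact hodd)
  simpa using h

/-- A normal `p`-subgroup of a subnormal subgroup lies in `O_p`. -/
theorem le_pCore_of_isSubnormal [Finite Γ] {p : ℕ} [Fact p.Prime] {A : Subgroup Γ}
    (hA : A.IsSubnormal) :
    ∀ Y : Subgroup Γ, Y ≤ A → A ≤ Subgroup.normalizer (Y : Set Γ) → IsPGroup p Y →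
      Y ≤ Cfsg.pCore p Γ := by
  induction hA with
  | top =>
    intro Y _ hn hp
    apply Cfsg.Agent.Lib.helper40.le_pCore _ _ hp
    exact Subgroup.normalizer_eq_top_iff.mp (top_le_iff.mp hn)
  | step A B hAB hB hN ih =>
    intro Y hYA hAY hYp
    have hBA : B ≤ Subgroup.normalizer (A : Set Γ) :=
      (Subgroup.normal_subgroupOf_iff_le_normalizer hAB).mp hN
    refine (Cfsg.Agent.Lib.helper51.le_pCoreOf hYA hAY hYp).trans ?_
    exact ih (Cfsg.pCoreOf p A) ((Cfsg.Agent.Lib.helper51.pCoreOf_le p A).trans hAB)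
      (hBA.trans (Cfsg.Agent.Lib.helper51.normalizer_le_normalizer_pCoreOf (p := p) A))
      (Cfsg.Agent.Lib.helper51.isPGroup_pCoreOf A)

end Subnormal

section FourGroupAct

variable {G : Type*} [Group G]

/-- Elements of `A B` when `B` normalizes `A`. -/
theorem exists_mul_of_mem_sup' {A B : Subgroup G} (h : B ≤ Subgroup.normalizer (A : Set G))
    {y : G} (hy : y ∈ A ⊔ B) : ∃ a ∈ A, ∃ b ∈ B, y = a * b := by
  have hconj : ∀ j ∈ B, ∀ k ∈ A, j * k * j⁻¹ ∈ A := Subgroup.le_normalizer_iff.mp h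
  rw [Subgroup.sup_eq_closure] at hy
  refine Subgroup.closure_induction (p := fun y _ => ∃ k ∈ A, ∃ j ∈ B, y = k * j)
    ?_ ?_ ?_ ?_ hy
  · rintro z (hz | hz)
    · exact ⟨z, hz, 1, one_mem _, by simp⟩
    · exact ⟨1, one_mem _, z, hz, by simp⟩
  · exact ⟨1, one_mem _, 1, one_mem _, by simp⟩
  · rintro _ _ _ _ ⟨k₁, hk₁, j₁, hj₁, rfl⟩ ⟨k₂, hk₂, j₂, hj₂, rfl⟩
    exact ⟨k₁ * (j₁ * k₂ * j₁⁻¹), A.mul_mem hk₁ (hconj j₁ hj₁ k₂ hk₂), j₁ * j₂,
      B.mul_mem hj₁ hj₂, by group⟩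
  · rintro _ _ ⟨k, hk, j, hj, rfl⟩
    exact ⟨j⁻¹ * k⁻¹ * j⁻¹⁻¹, hconj j⁻¹ (B.inv_mem hj) k⁻¹ (A.inv_mem hk), j⁻¹, B.inv_mem hj,
      by group⟩

/-- The orbit of a nontrivial element of a four-group under a fixed-point-free automorphism of
order 3 (conjugation by `d`) exhausts the nontrivial elements. -/
theorem four_group_enum_conj {W : Subgroup G} (hcard : Nat.card W = 4)
    (hW2 : ∀ w ∈ W, w * w = 1) {d : G} (hdW : ∀ w ∈ W, d * w * d⁻¹ ∈ W)
    (hd3 : ∀ w ∈ W, d * (d * (d * w * d⁻¹) * d⁻¹) * d⁻¹ = w)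
    (hfpf : ∀ w ∈ W, d * w * d⁻¹ = w → w = 1) :
    ∀ z ∈ W, z ≠ 1 → ∀ y ∈ W, y = 1 ∨ y = z ∨ y = d * z * d⁻¹ ∨
      y = d * (d * z * d⁻¹) * d⁻¹ := by
  have hnorm : ∀ w ∈ W, w * (MulAut.conj d) w * (MulAut.conj d) ((MulAut.conj d) w) = 1 := by
    intro w hw
    simp only [MulAut.conj_apply]
    apply hfpf _ (W.mul_mem (W.mul_mem hw (hdW w hw)) (hdW _ (hdW w hw)))
    have e : d * (w * (d * w * d⁻¹) * (d * (d * w * d⁻¹) * d⁻¹)) * d⁻¹ =
        (d * w * d⁻¹) * (d * (d * w * d⁻¹) * d⁻¹) * (d * (d * (d * w * d⁻¹) * d⁻¹) * d⁻¹) := by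
      group
    rw [e, hd3 w hw]
    have c1 := comm_of_mul_self hW2 (W.mul_mem (hdW w hw) (hdW _ (hdW w hw))) hw
    rw [c1]
    simp only [mul_assoc]
  intro z hz hz1 y hy
  have := four_group_enum (MulAut.conj d) hcard hW2 (fun w hw => by
    simpa [MulAut.conj_apply] using hdW w hw) (fun w hw => by
    simpa [MulAut.conj_apply] using hd3 w hw) hnorm hz hz1 y hy
  simpa [MulAut.conj_apply] using this

/-- An element `x` acting on a four-group `W`, commuting there with a fixed-point-free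
automorphism of order 3 induced by `d`, and with `x ^ (2 ^ n)` acting trivially, acts trivially. -/
theorem conj_eq_of_commute_fpf {W : Subgroup G} (hcard : Nat.card W = 4)
    (hW2 : ∀ w ∈ W, w * w = 1) {d : G} (hdW : ∀ w ∈ W, d * w * d⁻¹ ∈ W)
    (hd3 : ∀ w ∈ W, d * (d * (d * w * d⁻¹) * d⁻¹) * d⁻¹ = w)
    (hfpf : ∀ w ∈ W, d * w * d⁻¹ = w → w = 1) :
    ∀ (n : ℕ) (x : G), (∀ w ∈ W, x * w * x⁻¹ ∈ W) →
      (∀ w ∈ W, x * (d * w * d⁻¹) * x⁻¹ = d * (x * w * x⁻¹) * d⁻¹) →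
      (∀ w ∈ W, x ^ (2 ^ n) * w * (x ^ (2 ^ n))⁻¹ = w) → ∀ w ∈ W, x * w * x⁻¹ = w := by
  have henum := four_group_enum_conj hcard hW2 hdW hd3 hfpf
  intro n
  induction n with
  | zero =>
    intro x _ _ h w hw
    simpa using h w hw
  | succ n ih =>
    intro x hxW hcomm hpow w hw
    by_contra hne
    have hw1 : w ≠ 1 := by
      rintro rfl
      apply hne; group
    -- `x²` moves `w` as well
    have hx2W : ∀ u ∈ W, (x ^ 2) * u * (x ^ 2)⁻¹ ∈ W := by
      intro u hu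
      have e : x ^ 2 * u * (x ^ 2)⁻¹ = x * (x * u * x⁻¹) * x⁻¹ := by rw [pow_two]; group
      rw [e]; exact hxW _ (hxW u hu)
    have hx2comm : ∀ u ∈ W, (x ^ 2) * (d * u * d⁻¹) * (x ^ 2)⁻¹ =
        d * ((x ^ 2) * u * (x ^ 2)⁻¹) * d⁻¹ := by
      intro u hu
      have e : x ^ 2 * (d * u * d⁻¹) * (x ^ 2)⁻¹ = x * (x * (d * u * d⁻¹) * x⁻¹) * x⁻¹ := by
        rw [pow_two]; group
      have e' : x ^ 2 * u * (x ^ 2)⁻¹ = x * (x * u * x⁻¹) * x⁻¹ := by rw [pow_two]; group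
      rw [e, e', hcomm u hu, hcomm _ (hxW u hu)]
    have hx2pow : ∀ u ∈ W, (x ^ 2) ^ (2 ^ n) * u * ((x ^ 2) ^ (2 ^ n))⁻¹ = u := by
      intro u hu
      have e : (x ^ 2) ^ (2 ^ n) = x ^ (2 ^ (n + 1)) := by rw [← pow_mul, pow_succ, mul_comm]
      rw [e]; exact hpow u hu
    have hfix := ih (x ^ 2) hx2W hx2comm hx2pow w hw
    have e2 : x ^ 2 * w * (x ^ 2)⁻¹ = x * (x * w * x⁻¹) * x⁻¹ := by rw [pow_two]; group
    rw [e2] at hfix
    have hdw : d * w * d⁻¹ ≠ w := fun h => hw1 (hfpf w hw h)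
    have hddw : d * (d * w * d⁻¹) * d⁻¹ ≠ w := by
      intro h
      apply hdw
      have := hd3 w hw
      rw [h] at this
      exact this
    have hxw1 : x * w * x⁻¹ ≠ 1 := by
      intro h
      apply hw1
      have : w = x⁻¹ * (x * w * x⁻¹) * x := by group
      rw [this, h]; group
    rcases henum w hw hw1 _ (hxW w hw) with h | h | h | h
    · exact hxw1 h
    · exact hne h
    · rw [h, hcomm w hw, h] at hfix
      exact hddw hfix
    · rw [h, hcomm _ (hdW w hw), hcomm w hw, h, hd3 w hw] at hfix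
      exact hdw hfix

/-- If `k ∉ O_2(K)` where `O_2(K)` has index 3 in `K`, then no 2-power of `k` lies in `O_2(K)`. -/
theorem pow_two_pow_not_mem_pCoreOf {K : Subgroup G} (hidx : (pCoreOf 2 K).relIndex K = 3)
    {k : G} (hk : k ∈ K) (hkR : k ∉ pCoreOf 2 K) (n : ℕ) : k ^ (2 ^ n) ∉ pCoreOf 2 K := by
  induction n with
  | zero => simpa using hkR
  | succ n ih =>
    intro h
    apply ih
    have h3 := pow_three_mem_pCoreOf hidx (K.pow_mem hk (2 ^ n))
    have e : k ^ (2 ^ n) = (k ^ (2 ^ n)) ^ 3 * ((k ^ (2 ^ (n + 1))))⁻¹ := by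
      rw [pow_succ 2 n, pow_mul]
      generalize k ^ 2 ^ n = g
      group
    rw [e]
    exact Subgroup.mul_mem _ h3 (Subgroup.inv_mem _ h)

end FourGroupAct

end Cfsg.Agent.Lib.helper13
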