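import Mathlib
import Cfsg.Agent.Lib.helper14.FF7
import Cfsg.Agent.Lib.helper13.JSub

/-!
Root subgroups (transvection subgroups of order 2) in a failure-of-factorization configuration
normalize the four-group `[V, k]` of an element `k` of order 3 with fixed-point-free action on it.
-/

set_option autoImplicit false

namespace Cfsg.Agent.Lib.helper13

open Cfsg
open Cfsg.Agent.Lib.helper14
open scoped commutatorElement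

section Root

variable {G : Type*} [Group G] [Finite G] {V H Q B W : Subgroup G}

theorem root_le_normalizer (S : FFSet 2 V H Q) (hB : IsRoot 2 V H B) {k : G} (hk : k ∈ H)
    (hk3 : k ^ 3 = 1) (hWV : W ≤ V) (hW4 : Nat.card W = 4)
    (hVk : ∀ v ∈ V, ⁅v, k⁆ ∈ W) (hfpf : ∀ w ∈ W, k * w * k⁻¹ = w → w = 1) :
    B ≤ Subgroup.normalizer (W : Set G) := by
  have hp2 : Fact (Nat.Prime 2) := ⟨Nat.prime_two⟩
  have hV2 : ∀ v ∈ V, v * v = 1 := fun v hv => by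
    have := S.Vpow v hv
    rwa [pow_two] at this
  have hkV : k ∈ Subgroup.normalizer (V : Set G) := S.hHV hk
  have hW2 : ∀ w ∈ W, w * w = 1 := fun w hw => hV2 w (hWV hw)
  have hkW : ∀ w ∈ W, k * w * k⁻¹ ∈ W := by
    intro w hw
    have h1 := hVk w (hWV hw)
    have e : k * w * k⁻¹ = (w⁻¹ * ⁅w, k⁆)⁻¹ := by simp only [commutatorElement_def]; group
    rw [e]; exact W.inv_mem (W.mul_mem (W.inv_mem hw) h1)
  have hk3W : ∀ w ∈ W, k * (k * (k * w * k⁻¹) * k⁻¹) * k⁻¹ = w := by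
    intro w _
    calc k * (k * (k * w * k⁻¹) * k⁻¹) * k⁻¹ = k ^ 3 * w * (k ^ 3)⁻¹ := by
          simp only [pow_succ, pow_zero, one_mul, mul_inv_rev, mul_assoc]
      _ = w := by rw [hk3]; group
  have hinj : ∀ u₁ u₂ : G, ⁅u₁, k⁆ = ⁅u₂, k⁆ → k * (u₂⁻¹ * u₁) * k⁻¹ = u₂⁻¹ * u₁ := by
    intro u₁ u₂ h
    simp only [commutatorElement_def] at h
    have h' : u₁ * k * u₁⁻¹ = u₂ * k * u₂⁻¹ := mul_right_cancel h
    calc k * (u₂⁻¹ * u₁) * k⁻¹ = u₂⁻¹ * (u₂ * k * u₂⁻¹) * u₁ * k⁻¹ := by group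
      _ = u₂⁻¹ * (u₁ * k * u₁⁻¹) * u₁ * k⁻¹ := by rw [h']
      _ = u₂⁻¹ * u₁ := by group
  have hsurj : ∀ U : Subgroup G, U ≤ V → Nat.card U = 4 →
      (∀ u ∈ U, k * u * k⁻¹ = u → u = 1) → ∀ x ∈ W, ∃ u ∈ U, ⁅u, k⁆ = x := by
    intro U hUV hU4 hUf x hx
    let f : ↥U → ↥W := fun u => ⟨⁅(u : G), k⁆, hVk u (hUV u.2)⟩
    have hf : Function.Injective f := by
      intro u₁ u₂ h
      have h1 : ⁅(u₁ : G), k⁆ = ⁅(u₂ : G), k⁆ := congrArg Subtype.val h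
      have h2 := hUf _ (U.mul_mem (U.inv_mem u₂.2) u₁.2) (hinj _ _ h1)
      apply Subtype.ext
      calc (u₁ : G) = u₂ * ((u₂ : G)⁻¹ * u₁) := by group
        _ = u₂ := by rw [h2, mul_one]
    have hb := hf.bijective_of_nat_card_le (by rw [hW4, hU4])
    obtain ⟨u, hu⟩ := hb.2 ⟨x, hx⟩
    exact ⟨u, u.2, congrArg Subtype.val hu⟩
  have hWBV : ⁅V, ⁅Q, B⁆ ⊔ B⁆ ≤ V := S.comm_le_V (E_le S hB)
  have hWB4 : Nat.card ↥(⁅V, ⁅Q, B⁆ ⊔ B⁆) = 4 := by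
    rw [E_card_comm S hB]; norm_num
  -- `k` normalizes `E = [Q, B] B`
  have hcjE : cj k (⁅Q, B⁆ ⊔ B) = ⁅Q, B⁆ ⊔ B := by
    by_contra hne
    have hB₁ : IsRoot 2 V H (cj k B) := hB.cj S hk
    have hB₂ : IsRoot 2 V H (cj k (cj k B)) := hB₁.cj S hk
    have hE₁ : cj k (⁅Q, B⁆ ⊔ B) = ⁅Q, cj k B⁆ ⊔ cj k B := E_cj S hk B
    have hE₂ : cj k (⁅Q, cj k B⁆ ⊔ cj k B) = ⁅Q, cj k (cj k B)⁆ ⊔ cj k (cj k B) :=
      E_cj S hk (cj k B)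
    have hne01 : ⁅Q, B⁆ ⊔ B ≠ ⁅Q, cj k B⁆ ⊔ cj k B := by
      rw [← hE₁]; exact fun h => hne h.symm
    have hne12 : ⁅Q, cj k B⁆ ⊔ cj k B ≠ ⁅Q, cj k (cj k B)⁆ ⊔ cj k (cj k B) := by
      rw [← hE₂, ← hE₁]
      intro h
      exact hne (cj_inj h).symm
    have hne02 : ⁅Q, B⁆ ⊔ B ≠ ⁅Q, cj k (cj k B)⁆ ⊔ cj k (cj k B) := by
      rw [← hE₂, ← hE₁]
      intro h
      apply hne
      have h3 : cj k (cj k (cj k (⁅Q, B⁆ ⊔ B))) = ⁅Q, B⁆ ⊔ B := by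
        rw [cj_mul, cj_mul]
        have e : k * k * k = k ^ 3 := by
          simp only [pow_succ, pow_zero, one_mul]
        rw [e, hk3, cj_one]
      calc cj k (⁅Q, B⁆ ⊔ B) = cj k (cj k (cj k (⁅Q, B⁆ ⊔ B))) := congrArg (cj k) h
        _ = ⁅Q, B⁆ ⊔ B := h3
    obtain ⟨d01a, d01b, -⟩ := (E_dichotomy S hB hB₁).resolve_left hne01
    obtain ⟨d12a, d12b, -⟩ := (E_dichotomy S hB₁ hB₂).resolve_left hne12
    obtain ⟨d02a, d02b, -⟩ := (E_dichotomy S hB hB₂).resolve_left hne02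
    have hW₁ : cj k ⁅V, ⁅Q, B⁆ ⊔ B⁆ = ⁅V, ⁅Q, cj k B⁆ ⊔ cj k B⁆ := by
      rw [W_cj' hkV, hE₁]
    have hW₂ : cj k ⁅V, ⁅Q, cj k B⁆ ⊔ cj k B⁆ = ⁅V, ⁅Q, cj k (cj k B)⁆ ⊔ cj k (cj k B)⁆ := by
      rw [W_cj' hkV, hE₂]
    have hW₁V : ⁅V, ⁅Q, cj k B⁆ ⊔ cj k B⁆ ≤ V := S.comm_le_V (E_le S hB₁)
    have hW₂V : ⁅V, ⁅Q, cj k (cj k B)⁆ ⊔ cj k (cj k B)⁆ ≤ V := S.comm_le_V (E_le S hB₂)
    have hfix0 : ∀ u ∈ ⁅V, ⁅Q, B⁆ ⊔ B⁆, k * u * k⁻¹ = u → u = 1 := by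
      intro u hu hfix
      have h1 : u ∈ ⁅V, ⁅Q, cj k B⁆ ⊔ cj k B⁆ := by
        rw [← hW₁, ← hfix]; exact conj_mem_cj hu
      have h2 : u ∈ ⁅V, ⁅Q, B⁆ ⊔ B⁆ ⊓
          (V ⊓ Subgroup.centralizer ((⁅Q, B⁆ ⊔ B : Subgroup G) : Set G)) :=
        ⟨hu, hWBV hu, d01b h1⟩
      rw [E_inf_fix S hB] at h2
      exact Subgroup.mem_bot.mp h2
    have hfix1 : ∀ u ∈ ⁅V, ⁅Q, cj k B⁆ ⊔ cj k B⁆, k * u * k⁻¹ = u → u = 1 := by
      intro u hu hfix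
      have h1 : u ∈ ⁅V, ⁅Q, cj k (cj k B)⁆ ⊔ cj k (cj k B)⁆ := by
        rw [← hW₂, ← hfix]; exact conj_mem_cj hu
      have h2 : u ∈ ⁅V, ⁅Q, cj k B⁆ ⊔ cj k B⁆ ⊓
          (V ⊓ Subgroup.centralizer ((⁅Q, cj k B⁆ ⊔ cj k B : Subgroup G) : Set G)) :=
        ⟨hu, hW₁V hu, d12b h1⟩
      rw [E_inf_fix S hB₁] at h2
      exact Subgroup.mem_bot.mp h2
    have hs0 := hsurj _ hWBV hWB4 hfix0
    have hs1 := hsurj _ hW₁V (by rw [E_card_comm S hB₁]; norm_num) hfix1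
    have hWne : ∃ x ∈ W, x ≠ 1 := by
      by_contra hcon
      push Not at hcon
      have hbot : W = ⊥ := (Subgroup.eq_bot_iff_forall W).mpr hcon
      rw [hbot, Subgroup.card_bot] at hW4
      norm_num at hW4
    obtain ⟨x, hx, hx1⟩ := hWne
    obtain ⟨u, hu, hux⟩ := hs0 x hx
    obtain ⟨u', hu', hu'x⟩ := hs1 x hx
    have hcu : k * u * k⁻¹ ∈ ⁅V, ⁅Q, cj k B⁆ ⊔ cj k B⁆ := by
      rw [← hW₁]; exact conj_mem_cj hu
    have hcu' : k * u'⁻¹ * k⁻¹ ∈ ⁅V, ⁅Q, cj k (cj k B)⁆ ⊔ cj k (cj k B)⁆ := by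
      rw [← hW₂]; exact conj_mem_cj (Subgroup.inv_mem _ hu')
    have e1 : u = u' * (k * u'⁻¹ * k⁻¹) * (k * u * k⁻¹) := by
      have e2 : u' * (k * u'⁻¹ * k⁻¹) = ⁅u', k⁆ := by simp only [commutatorElement_def]; group
      rw [e2, hu'x, ← hux]
      simp only [commutatorElement_def]; group
    have huC : u ∈ Subgroup.centralizer ((⁅Q, B⁆ ⊔ B : Subgroup G) : Set G) := by
      rw [e1]
      exact Subgroup.mul_mem _ (Subgroup.mul_mem _ (d01b hu') (d02b hcu')) (d01b hcu)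
    have h2 : u ∈ ⁅V, ⁅Q, B⁆ ⊔ B⁆ ⊓
        (V ⊓ Subgroup.centralizer ((⁅Q, B⁆ ⊔ B : Subgroup G) : Set G)) := ⟨hu, hWBV hu, huC⟩
    rw [E_inf_fix S hB] at h2
    have hu1 : u = 1 := Subgroup.mem_bot.mp h2
    apply hx1
    rw [← hux, hu1]
    simp
  have hkWB : cj k ⁅V, ⁅Q, B⁆ ⊔ B⁆ = ⁅V, ⁅Q, B⁆ ⊔ B⁆ := by rw [W_cj' hkV, hcjE]
  have hkCB : cj k (V ⊓ Subgroup.centralizer ((⁅Q, B⁆ ⊔ B : Subgroup G) : Set G)) =
      V ⊓ Subgroup.centralizer ((⁅Q, B⁆ ⊔ B : Subgroup G) : Set G) := by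
    rw [cj_inf, S.cjV hk, cj_centralizer, hcjE]
  have hkWBc : ∀ u ∈ ⁅V, ⁅Q, B⁆ ⊔ B⁆, k * u * k⁻¹ ∈ ⁅V, ⁅Q, B⁆ ⊔ B⁆ := by
    intro u hu
    have := conj_mem_cj (x := k) hu
    rwa [hkWB] at this
  by_cases hcase : ∃ w ∈ ⁅V, ⁅Q, B⁆ ⊔ B⁆, ⁅w, k⁆ ≠ 1
  · obtain ⟨w, hw, hwk⟩ := hcase
    have hzW : ⁅w, k⁆ ∈ W := hVk w (hWBV hw)
    have hzWB : ⁅w, k⁆ ∈ ⁅V, ⁅Q, B⁆ ⊔ B⁆ := by
      have e : ⁅w, k⁆ = w * (k * w⁻¹ * k⁻¹) := by simp only [commutatorElement_def]; group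
      rw [e]
      exact Subgroup.mul_mem _ hw (hkWBc _ (Subgroup.inv_mem _ hw))
    have hle : W ≤ ⁅V, ⁅Q, B⁆ ⊔ B⁆ := by
      intro y hy
      rcases four_group_enum_conj hW4 hW2 hkW hk3W hfpf _ hzW hwk y hy with h | h | h | h
      · rw [h]; exact Subgroup.one_mem _
      · rw [h]; exact hzWB
      · rw [h]; exact hkWBc _ hzWB
      · rw [h]; exact hkWBc _ (hkWBc _ hzWB)
    have hfinV : Finite ↥(⁅V, ⁅Q, B⁆ ⊔ B⁆) := inferInstance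
    have hWeq : W = ⁅V, ⁅Q, B⁆ ⊔ B⁆ :=
      Subgroup.eq_of_le_of_card_ge hle (by rw [hW4, hWB4])
    rw [hWeq]
    intro b hb
    apply mem_normalizer_of_cj_eq
    rw [W_cj' (S.hHV (hB.le hb)),
      cj_eq_of_mem_normalizer (Subgroup.le_normalizer (Subgroup.mem_sup_right hb))]
  · push Not at hcase
    have hWC : W ≤ Subgroup.centralizer (B : Set G) := by
      intro x hx
      obtain ⟨u, hu, hux⟩ := hsurj W hWV hW4 hfpf x hx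
      have huV : u ∈ ⁅V, ⁅Q, B⁆ ⊔ B⁆ ⊔
          (V ⊓ Subgroup.centralizer ((⁅Q, B⁆ ⊔ B : Subgroup G) : Set G)) := by
        rw [E_sup_fix S hB]; exact hWV hu
      have hn : V ⊓ Subgroup.centralizer ((⁅Q, B⁆ ⊔ B : Subgroup G) : Set G) ≤
          Subgroup.normalizer ((⁅V, ⁅Q, B⁆ ⊔ B⁆ : Subgroup G) : Set G) :=
        le_normalizer_of_le_comm S.Vcomm inf_le_left hWBV
      obtain ⟨a, ha, c, hc, rfl⟩ := exists_mul_of_mem_sup' hn huV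
      have hak : ⁅a, k⁆ = 1 := hcase a ha
      have hak' : k * a⁻¹ * k⁻¹ = a⁻¹ := by
        simp only [commutatorElement_def] at hak
        calc k * a⁻¹ * k⁻¹ = a⁻¹ * (a * k * a⁻¹ * k⁻¹) := by group
          _ = a⁻¹ := by rw [hak, mul_one]
      have e : ⁅a * c, k⁆ = a * (c * (k * c⁻¹ * k⁻¹)) * a⁻¹ := by
        simp only [commutatorElement_def]
        calc a * c * k * (a * c)⁻¹ * k⁻¹ = a * (c * (k * c⁻¹ * k⁻¹)) * (k * a⁻¹ * k⁻¹) := by group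
          _ = a * (c * (k * c⁻¹ * k⁻¹)) * a⁻¹ := by rw [hak']
      have hcc : c * (k * c⁻¹ * k⁻¹) ∈
          V ⊓ Subgroup.centralizer ((⁅Q, B⁆ ⊔ B : Subgroup G) : Set G) := by
        refine Subgroup.mul_mem _ hc ?_
        have := conj_mem_cj (x := k) (Subgroup.inv_mem _ hc)
        rwa [hkCB] at this
      have e' : ⁅a * c, k⁆ = c * (k * c⁻¹ * k⁻¹) := by
        rw [e]
        have hcomm := S.Vcomm a (hWBV ha) _ hcc.1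
        calc a * (c * (k * c⁻¹ * k⁻¹)) * a⁻¹ = (c * (k * c⁻¹ * k⁻¹)) * a * a⁻¹ := by rw [hcomm]
          _ = c * (k * c⁻¹ * k⁻¹) := by group
      rw [← hux, e']
      exact Subgroup.centralizer_le (by
        intro b hb
        exact Subgroup.mem_sup_right hb) hcc.2
    intro b hb
    apply mem_normalizer_of_forall_conj_mem
    intro x hx
    have := Subgroup.mem_centralizer_iff.mp (hWC hx) b hb
    have e : b * x * b⁻¹ = x := by rw [this]; group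
    rw [e]; exact hx

end Root

end Cfsg.Agent.Lib.helper13
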