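import Mathlib
import Cfsg.Agent.Lib.helper13.JRoot
import Cfsg.Agent.Lib.helper13.FaithModel
import Cfsg.Agent.Lib.helper14.FFBridge
import Cfsg.Agent.S0606
import Cfsg.Agent.S0612

/-!
In a finite solvable group `Γ` acting on a normal elementary abelian 2-subgroup `V` with
`O_2(Γ / C_Γ(V)) = 1`, the Thompson subgroup normalizes every four-group `W = [V, d]` on which an
element `d` of order 3 (modulo `C_Γ(V)`) acts fixed-point-freely.  Application: a subnormal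
`J(T^g)`-component `K` of `⟨K, J(T)⟩` has `W_K` normalized by `J(T)`.
-/

set_option autoImplicit false

namespace Cfsg.Agent.Lib.helper13

open Cfsg
open scoped commutatorElement

universe u

section GammaThm

theorem thompson_le_normalizer_of_fpf {Γ : Type u} [Group Γ] [Finite Γ]
    (hsolv : Group.IsSolvable Γ) (V : Subgroup Γ) [V.Normal] (hV : IsElementaryAbelian 2 V)
    (hO : Cfsg.pCore 2 (Γ ⧸ Subgroup.centralizer (V : Set Γ)) = ⊥)
    (W : Subgroup Γ) (hWV : W ≤ V) (hW4 : Nat.card W = 4) (d : Γ)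
    (hd3 : d ^ 3 ∈ Subgroup.centralizer (V : Set Γ))
    (hVd : ∀ v ∈ V, ⁅v, d⁆ ∈ W) (hfpf : ∀ w ∈ W, d * w * d⁻¹ = w → w = 1) :
    Cfsg.thompsonSubgroup 2 Γ ≤ Subgroup.normalizer (W : Set Γ) := by
  have hp2 : Fact (Nat.Prime 2) := ⟨Nat.prime_two⟩
  have hfin := fm_finite V
  have hsep : Cfsg.IsPSolvable 2 Γ := Cfsg.Agent.Lib.helper29.isPSolvable_of_isSolvable 2 hsolv
  have hV' := fmV_elemAb V hV
  have hTn : (⊤ : Subgroup Γ).Normal := inferInstance
  have S := Cfsg.Agent.Lib.helper14.ffSet_of_hyp (fmV V) ((⊤ : Subgroup Γ).map (fmPi V)) hV'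
    (fm_hHV V ⊤) (fm_faithful V ⊤) (fm_hS1 V hsep hO ⊤)
  have hJn : (Cfsg.thompsonSubgroup 2 Γ).Normal := by
    have := thompsonSubgroup_characteristic 2 Γ
    infer_instance
  have hbo : ∀ B ∈ Cfsg.maxElementaryAbelianSubgroups 2 Γ, Cfsg.IsBestOffenderOn 2 V B :=
    fun B hB => Cfsg.Agent.S0606.result V hV B hB
  have hHV := fm_hHV V (Cfsg.thompsonSubgroup 2 Γ)
  have hf := fm_faithful V (Cfsg.thompsonSubgroup 2 Γ)
  have hS1 := fm_hS1 V hsep hO (Cfsg.thompsonSubgroup 2 Γ)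
  have hS3 : (Cfsg.thompsonSubgroup 2 Γ).map (fmPi V) =
      ⨆ A : {A : Subgroup (FM V) // A ≤ (Cfsg.thompsonSubgroup 2 Γ).map (fmPi V) ∧
        IsBestOffenderOn 2 (fmV V) A}, (A : Subgroup (FM V)) :=
    fm_hS3 V (Cfsg.maxElementaryAbelianSubgroups 2 Γ) hbo
  obtain ⟨W', hW'def⟩ : ∃ W' : Subgroup (FM V),
      W' = (W.subgroupOf V).map (SemidirectProduct.inl : ↥V →* FM V) := ⟨_, rfl⟩
  have hW'V : W' ≤ fmV V := by
    rw [hW'def]
    rintro _ ⟨v, -, rfl⟩
    exact ⟨v, rfl⟩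
  have hW'4 : Nat.card W' = 4 := by
    rw [hW'def, Subgroup.card_map_of_injective SemidirectProduct.inl_injective,
      card_subgroupOf_of_le hWV, hW4]
  have hk : fmPi V d ∈ (⊤ : Subgroup Γ).map (fmPi V) :=
    Subgroup.mem_map_of_mem _ (Subgroup.mem_top d)
  have hk3 : (fmPi V d) ^ 3 = 1 := by
    rw [← map_pow, ← MonoidHom.mem_ker, fmPi_ker]; exact hd3
  have hVk : ∀ v ∈ fmV V, ⁅v, fmPi V d⁆ ∈ W' := by
    rintro _ ⟨v, rfl⟩
    have e : ⁅(SemidirectProduct.inl v : FM V), fmPi V d⁆ =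
        SemidirectProduct.inl (v * MulAut.conjNormal d v⁻¹) := by
      rw [map_mul, ← fmPi_mul_inl, map_inv]
      simp only [commutatorElement_def]; group
    rw [e, hW'def]
    refine ⟨v * MulAut.conjNormal d v⁻¹, ?_, rfl⟩
    rw [SetLike.mem_coe, Subgroup.mem_subgroupOf]
    have e2 : ((v * MulAut.conjNormal d v⁻¹ : ↥V) : Γ) = ⁅(v : Γ), d⁆ := by
      rw [Subgroup.coe_mul, MulAut.conjNormal_apply]
      simp only [commutatorElement_def, Subgroup.coe_inv]; group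
    rw [e2]; exact hVd v v.2
  have hfpf' : ∀ w ∈ W', fmPi V d * w * (fmPi V d)⁻¹ = w → w = 1 := by
    rw [hW'def]
    rintro _ ⟨w, hw, rfl⟩ hfix
    rw [fmPi_mul_inl] at hfix
    have h1 := SemidirectProduct.inl_injective hfix
    have h2 : d * (w : Γ) * d⁻¹ = w := by
      have := congrArg Subtype.val h1
      rwa [MulAut.conjNormal_apply] at this
    have h3 := hfpf w (Subgroup.mem_subgroupOf.mp hw) h2
    have h4 : w = 1 := Subtype.ext h3
    rw [h4, map_one]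
  have key : ∀ A ∈ Cfsg.maxElementaryAbelianSubgroups 2 Γ,
      A.map (fmPi V) ≤ Subgroup.normalizer (W' : Set (FM V)) := by
    intro A hA
    have hAE : A.map (fmPi V) ≤ (Cfsg.thompsonSubgroup 2 Γ).map (fmPi V) :=
      Subgroup.map_mono (le_thompsonSubgroup hA)
    by_cases hA1 : A.map (fmPi V) = ⊥
    · rw [hA1]; exact bot_le
    have hE1 : (Cfsg.thompsonSubgroup 2 Γ).map (fmPi V) ≠ ⊥ := by
      intro h
      apply hA1
      rw [h] at hAE
      exact le_bot_iff.mp hAE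
    obtain ⟨m, B, hB, -, hsup⟩ := Cfsg.Agent.S0612.result (fmV V)
      ((Cfsg.thompsonSubgroup 2 Γ).map (fmPi V)) hV' hHV hf hS1 hS3 hE1 (A.map (fmPi V)) hAE
      (isBestOffenderOn_map V (hbo A hA)) hA1
    rw [← hsup]
    apply iSup_le
    intro i
    obtain ⟨hBA, hBbo, hBV, hBmin⟩ := hB i
    have hR := Cfsg.Agent.Lib.helper14.isRoot_of_min (fmV V) _ hV' hHV hf hS1 hS3 hE1 (B i)
      (hBA.trans hAE) hBbo hBV hBmin
    have hR' : Cfsg.Agent.Lib.helper14.IsRoot 2 (fmV V) ((⊤ : Subgroup Γ).map (fmPi V)) (B i) :=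
      ⟨hR.le.trans (Subgroup.map_mono le_top), hR.card, hR.cardc⟩
    exact root_le_normalizer S hR' hk hk3 hW'V hW'4 hVk hfpf'
  unfold Cfsg.thompsonSubgroup
  apply sSup_le
  intro A hA a ha
  apply mem_normalizer_of_forall_conj_mem
  intro w hw
  have h1 : fmPi V a ∈ Subgroup.normalizer (W' : Set (FM V)) :=
    key A hA (Subgroup.mem_map_of_mem _ ha)
  have h2 : (SemidirectProduct.inl (⟨w, hWV hw⟩ : ↥V) : FM V) ∈ W' := by
    rw [hW'def]
    exact ⟨⟨w, hWV hw⟩, Subgroup.mem_subgroupOf.mpr hw, rfl⟩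
  have h3 := (Subgroup.mem_normalizer_iff.mp h1 _).mp h2
  rw [fmPi_mul_inl, hW'def] at h3
  obtain ⟨w₁, hw₁, hw₁eq⟩ := h3
  have h4 := SemidirectProduct.inl_injective hw₁eq
  have h5 : (w₁ : Γ) = a * w * a⁻¹ := by
    have := congrArg Subtype.val h4
    rwa [MulAut.conjNormal_apply] at this
  rw [← h5]; exact Subgroup.mem_subgroupOf.mp hw₁

end GammaThm

section Transfer

variable {G : Type u} [Group G]

theorem mem_centralizer_subtype_iff (L : Subgroup G) (B : Subgroup ↥L) (y : ↥L) :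
    y ∈ Subgroup.centralizer (B : Set ↥L) ↔
      (y : G) ∈ Subgroup.centralizer ((B.map L.subtype : Subgroup G) : Set G) := by
  constructor
  · intro hy
    have h1 : (y : G) ∈ (Subgroup.centralizer (B : Set ↥L)).map L.subtype := ⟨y, hy, rfl⟩
    rw [map_subtype_centralizer] at h1
    exact h1.2
  · intro hy
    have h1 : (y : G) ∈ (Subgroup.centralizer (B : Set ↥L)).map L.subtype := by
      rw [map_subtype_centralizer]; exact ⟨y.2, hy⟩
    obtain ⟨c, hc, hcy⟩ := h1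
    have : c = y := Subtype.ext hcy
    rwa [← this]

/-- The map `u ↦ [u, k]` is onto a finite subgroup `W` on which `k` acts without fixed points. -/
theorem exists_commutator_eq_of_fpf {W : Subgroup G} [Finite ↥W] {k : G}
    (hVk : ∀ w ∈ W, ⁅w, k⁆ ∈ W) (hfpf : ∀ w ∈ W, k * w * k⁻¹ = w → w = 1) :
    ∀ x ∈ W, ∃ u ∈ W, ⁅u, k⁆ = x := by
  intro x hx
  let f : ↥W → ↥W := fun u => ⟨⁅(u : G), k⁆, hVk u u.2⟩
  have hf : Function.Injective f := by
    intro u₁ u₂ h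
    have h1 : ⁅(u₁ : G), k⁆ = ⁅(u₂ : G), k⁆ := congrArg Subtype.val h
    simp only [commutatorElement_def] at h1
    have h' : (u₁ : G) * k * (u₁ : G)⁻¹ = u₂ * k * (u₂ : G)⁻¹ := mul_right_cancel h1
    have h2 : k * ((u₂ : G)⁻¹ * u₁) * k⁻¹ = (u₂ : G)⁻¹ * u₁ := by
      calc k * ((u₂ : G)⁻¹ * u₁) * k⁻¹ = (u₂ : G)⁻¹ * (u₂ * k * (u₂ : G)⁻¹) * u₁ * k⁻¹ := by group
        _ = (u₂ : G)⁻¹ * (u₁ * k * (u₁ : G)⁻¹) * u₁ * k⁻¹ := by rw [h']
        _ = (u₂ : G)⁻¹ * u₁ := by group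
    have h3 := hfpf _ (W.mul_mem (W.inv_mem u₂.2) u₁.2) h2
    apply Subtype.ext
    calc (u₁ : G) = u₂ * ((u₂ : G)⁻¹ * u₁) := by group
      _ = u₂ := by rw [h3, mul_one]
  have hb := hf.bijective_of_nat_card_le le_rfl
  obtain ⟨u, hu⟩ := hb.2 ⟨x, hx⟩
  exact ⟨u, u.2, congrArg Subtype.val hu⟩

/-- A largest elementary abelian 2-subgroup of a Sylow 2-subgroup `T` of `L` is a largest
elementary abelian 2-subgroup of every subgroup `H ≤ L` containing it. -/
theorem subgroupOf_mem_max_of_isSylowTwoIn [Finite G] {T L H A : Subgroup G}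
    (hTL : IsSylowTwoIn T L) (hHL : H ≤ L) (hA : A ∈ maxIn 2 T) (hAH : A ≤ H) :
    A.subgroupOf H ∈ maxElementaryAbelianSubgroups 2 ↥H := by
  have hp2 : Fact (Nat.Prime 2) := ⟨Nat.prime_two⟩
  refine ⟨(isElementaryAbelian_subgroupOf_iff hAH).mpr hA.2.1, fun B hB => ?_⟩
  rw [card_subgroupOf_of_le hAH]
  obtain ⟨P, hP⟩ := exists_sylow_of_isSylowTwoIn hTL
  have hBel : IsElementaryAbelian 2 (B.map H.subtype) := elemAb_map _ hB
  have hBL : B.map H.subtype ≤ L := (Subgroup.map_subtype_le _).trans hHL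
  have hB2 : IsPGroup 2 ((B.map H.subtype).subgroupOf L) :=
    (elemAb_isPGroup hBel).comap_of_injective L.subtype L.subtype_injective
  obtain ⟨g, hg⟩ := exists_conj_map_le_sylow hB2 P
  have hle : (B.map H.subtype).map (MulAut.conj (g : G)).toMonoidHom ≤ T := by
    rintro _ ⟨b, hb, rfl⟩
    have h1 : g * (⟨b, hBL hb⟩ : ↥L) * g⁻¹ ∈ (P : Subgroup ↥L) :=
      hg ⟨⟨b, hBL hb⟩, Subgroup.mem_subgroupOf.mpr hb, rfl⟩
    rw [hP] at h1
    exact Subgroup.mem_subgroupOf.mp h1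
  have h2 := hA.2.2 _ hle (elemAb_map _ hBel)
  rw [Subgroup.card_map_of_injective (MulAut.conj (g : G)).injective, Subgroup.card_subtype] at h2
  exact h2

end Transfer

end Cfsg.Agent.Lib.helper13
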