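import Mathlib
import Cfsg.Agent.Lib.helper13.JThm

/-!
A `J(T')`-component `K` (for any `T'`) contained in a solvable overgroup `L` with Sylow 2-subgroup
`T` and subnormal in `⟨K, J(T)⟩` has its four-group `W_K` normalized by `J(T)`.
-/

set_option autoImplicit false

namespace Cfsg.Agent.Lib.helper13

open Cfsg
open scoped commutatorElement

universe u

section JNorm

variable {G : Type u} [Group G]

theorem thompsonSubgroupOf_le_normalizer_wOf [Finite G] {T L K T' : Subgroup G}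
    (hTL : IsSylowTwoIn T L) (hLsolv : Group.IsSolvable ↥L) (hKL : K ≤ L)
    (hK : IsJComponent T' K)
    (hKsn : (K.subgroupOf (K ⊔ thompsonSubgroupOf 2 T)).IsSubnormal) :
    thompsonSubgroupOf 2 T ≤ Subgroup.normalizer (wOf K : Set G) := by
  have hp2 : Fact (Nat.Prime 2) := ⟨Nat.prime_two⟩
  obtain ⟨J, hJdef⟩ : ∃ J, J = thompsonSubgroupOf 2 T := ⟨_, rfl⟩
  rw [← hJdef] at hKsn ⊢
  obtain ⟨H, hHdef⟩ : ∃ H, H = K ⊔ J := ⟨_, rfl⟩
  rw [← hHdef] at hKsn
  have hKH : K ≤ H := hHdef ▸ le_sup_left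
  have hJH : J ≤ H := hHdef ▸ le_sup_right
  have hJT : J ≤ T := hJdef ▸ thompsonSubgroupOf_le_self T
  have hHL : H ≤ L := hHdef ▸ sup_le hKL (hJT.trans hTL.1)
  have hsolvH : Group.IsSolvable ↥H :=
    Group.isSolvable_of_isSolvable_injective (Subgroup.inclusion_injective hHL)
  obtain ⟨hgen, -, hidx, -, hW4, hW2⟩ := id hK
  have hRK := Cfsg.Agent.Lib.helper51.pCoreOf_le 2 K
  have hQH := Cfsg.Agent.Lib.helper51.pCoreOf_le 2 H
  have hHQ : H ≤ Subgroup.normalizer (pCoreOf 2 H : Set G) :=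
    Cfsg.Agent.Lib.helper51.le_normalizer_pCoreOf 2 H
  have hQn : (Cfsg.pCore 2 ↥H).Normal := Cfsg.Agent.Lib.helper40.pCore_normal' 2 ↥H
  have hQp : IsPGroup 2 (Cfsg.pCore 2 ↥H) := Cfsg.Agent.Lib.helper40.pCore_isPGroup 2 ↥H
  have hQmem : ∀ q ∈ pCoreOf 2 H, ∃ hq : q ∈ H, (⟨q, hq⟩ : ↥H) ∈ Cfsg.pCore 2 ↥H := by
    rintro _ ⟨q', hq', rfl⟩
    exact ⟨q'.2, hq'⟩
  -- (i) `O_2(H)` normalizes `K`
  have hQK_odd : ∀ q ∈ pCoreOf 2 H, ∀ k ∈ K, Odd (orderOf k) → q * k * q⁻¹ ∈ K := by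
    intro q hq k hk hodd
    obtain ⟨hqH, hq'⟩ := hQmem q hq
    have hk' : (⟨k, hKH hk⟩ : ↥H) ∈ K.subgroupOf H := Subgroup.mem_subgroupOf.mpr hk
    have hodd' : Odd (orderOf (⟨k, hKH hk⟩ : ↥H)) := by
      rw [← Subgroup.orderOf_coe]; exact hodd
    have := odd_conj_mem_of_isSubnormal hKsn (Cfsg.pCore 2 ↥H) hQp hq' hk' hodd'
    exact Subgroup.mem_subgroupOf.mp this
  have hconj_cl : ∀ q : G, (∀ k ∈ K, Odd (orderOf k) → q * k * q⁻¹ ∈ K) →
      ∀ k ∈ K, q * k * q⁻¹ ∈ K := by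
    intro q hq k hk
    have hk' : k ∈ Subgroup.closure {g : G | g ∈ K ∧ Odd (orderOf g)} := by rw [hgen]; exact hk
    refine Subgroup.closure_induction (p := fun k _ => q * k * q⁻¹ ∈ K) ?_ ?_ ?_ ?_ hk'
    · rintro x ⟨hxK, hxodd⟩
      exact hq x hxK hxodd
    · have e : q * 1 * q⁻¹ = 1 := by group
      rw [e]; exact K.one_mem
    · intro a b _ _ ha hb
      have e : q * (a * b) * q⁻¹ = (q * a * q⁻¹) * (q * b * q⁻¹) := by group
      rw [e]; exact K.mul_mem ha hb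
    · intro a _ ha
      have e : q * a⁻¹ * q⁻¹ = (q * a * q⁻¹)⁻¹ := by group
      rw [e]; exact K.inv_mem ha
  have hQK : pCoreOf 2 H ≤ Subgroup.normalizer (K : Set G) := by
    intro q hq
    exact mem_normalizer_of_conj_mem_of_inv_conj_mem (hconj_cl q (hQK_odd q hq)) (fun x hx => by
      have := hconj_cl q⁻¹ (hQK_odd q⁻¹ (Subgroup.inv_mem _ hq)) x hx
      rwa [inv_inv] at this)
  -- (ii) `[O_2(H), K] ≤ O_2(K)`
  have hKQR : K ⊓ pCoreOf 2 H ≤ pCoreOf 2 K := by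
    apply Cfsg.Agent.Lib.helper51.le_pCoreOf inf_le_left _
      ((Cfsg.Agent.Lib.helper51.isPGroup_pCoreOf H).to_le inf_le_right)
    intro k hk
    exact Cfsg.Agent.Lib.helper14.mem_normalizer_inf (Subgroup.le_normalizer hk) (hHQ (hKH hk))
  have hQKR : ∀ q ∈ pCoreOf 2 H, ∀ k ∈ K, q * k * q⁻¹ * k⁻¹ ∈ pCoreOf 2 K := by
    intro q hq k hk
    apply hKQR
    refine ⟨K.mul_mem ((Subgroup.mem_normalizer_iff.mp (hQK hq) k).mp hk) (K.inv_mem hk), ?_⟩
    have e : q * k * q⁻¹ * k⁻¹ = q * (k * q⁻¹ * k⁻¹) := by group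
    rw [e]
    exact Subgroup.mul_mem _ hq
      ((Subgroup.mem_normalizer_iff.mp (hHQ (hKH hk)) _).mp (Subgroup.inv_mem _ hq))
  -- (iii) `O_2(K) ≤ O_2(H)`
  have hRQ : pCoreOf 2 K ≤ pCoreOf 2 H := by
    have hY1 : (pCoreOf 2 K).subgroupOf H ≤ K.subgroupOf H := by
      intro x hx
      rw [Subgroup.mem_subgroupOf] at hx ⊢
      exact hRK hx
    have hY2 : K.subgroupOf H ≤
        Subgroup.normalizer ((((pCoreOf 2 K).subgroupOf H : Subgroup ↥H)) : Set ↥H) := by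
      intro k hk
      rw [Subgroup.mem_normalizer_iff]
      intro x
      rw [Subgroup.mem_subgroupOf, Subgroup.mem_subgroupOf]
      exact Subgroup.mem_normalizer_iff.mp
        (Cfsg.Agent.Lib.helper51.le_normalizer_pCoreOf 2 K (Subgroup.mem_subgroupOf.mp hk)) x
    have hY3 : IsPGroup 2 ↥((pCoreOf 2 K).subgroupOf H) :=
      (Cfsg.Agent.Lib.helper51.isPGroup_pCoreOf K).comap_of_injective H.subtype
        H.subtype_injective
    have h1 := le_pCore_of_isSubnormal (p := 2) hKsn ((pCoreOf 2 K).subgroupOf H) hY1 hY2 hY3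
    intro r hr
    exact ⟨⟨r, hKH (hRK hr)⟩, h1 (Subgroup.mem_subgroupOf.mpr hr), rfl⟩
  -- facts on `K`
  obtain ⟨d, hdK, hdR⟩ := exists_not_mem_pCoreOf hidx
  obtain ⟨hdec, hWU, hKW, hRW, hd3W, -⟩ := jComponent_facts hK hdK hdR
  have hfpf : ∀ k ∈ K, k ∉ pCoreOf 2 K → ∀ w ∈ wOf K, k * w * k⁻¹ = w → w = 1 :=
    fun k hk hkR w hw h => eq_one_of_conj_eq_of_not_mem_pCoreOf hK hk hkR hw h
  have hWR : wOf K ≤ pCoreOf 2 K := fun w hw => (omegaCenterOf_le _ (hWU w hw)).1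
  have hWH : wOf K ≤ H := hWR.trans (hRK.trans hKH)
  have hfinW : Finite ↥(wOf K) := inferInstance
  -- `O_2(H)` centralizes `W`
  have hQW : ∀ q ∈ pCoreOf 2 H, ∀ w ∈ wOf K, q * w * q⁻¹ = w := by
    intro q hq
    obtain ⟨n, hn⟩ : ∃ n : ℕ, q ^ (2 ^ n) = 1 := by
      obtain ⟨n, hn⟩ := (Cfsg.Agent.Lib.helper51.isPGroup_pCoreOf H) ⟨q, hq⟩
      exact ⟨n, by simpa using congrArg Subtype.val hn⟩
    have hqW : ∀ w ∈ wOf K, q * w * q⁻¹ ∈ wOf K := fun w hw =>
      (Subgroup.mem_normalizer_iff.mp (normalizer_le_normalizer_wOf K (hQK hq)) w).mp hw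
    apply conj_eq_of_commute_fpf hW4 hW2 (hKW d hdK) hd3W (hfpf d hdK hdR) n q hqW
    · intro w hw
      have hc := hQKR q hq d hdK
      have hdw := hKW d hdK _ (hqW w hw)
      have hcomm := hRW _ hc _ hdw
      calc q * (d * w * d⁻¹) * q⁻¹
          = (q * d * q⁻¹ * d⁻¹) * (d * (q * w * q⁻¹) * d⁻¹) * (q * d * q⁻¹ * d⁻¹)⁻¹ := by group
        _ = (d * (q * w * q⁻¹) * d⁻¹) * (q * d * q⁻¹ * d⁻¹) * (q * d * q⁻¹ * d⁻¹)⁻¹ := by
            rw [hcomm]
        _ = d * (q * w * q⁻¹) * d⁻¹ := by group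
    · intro w _
      rw [hn]; group
  have hWVH : wOf K ≤ omegaCenterOf (pCoreOf 2 H) := by
    intro w hw
    have hwc : w ∈ Subgroup.centralizer ((pCoreOf 2 H : Subgroup G) : Set G) := by
      rw [Subgroup.mem_centralizer_iff]
      intro q hq
      have := hQW q hq w hw
      calc q * w = (q * w * q⁻¹) * q := by group
        _ = w * q := by rw [this]
    have hwm : w ∈ pCoreOf 2 H ⊓ Subgroup.centralizer ((pCoreOf 2 H : Subgroup G) : Set G) :=
      ⟨hRQ (hWR hw), hwc⟩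
    exact Cfsg.Agent.Lib.helper51.mem_omegaOne_of_pow 2 hwm (by rw [pow_two]; exact hW2 w hw)
  -- the normal closure `V` of `W` in `H`
  have hUn : ((omegaCenterOf (pCoreOf 2 H)).subgroupOf H).Normal :=
    (Subgroup.normal_subgroupOf_iff_le_normalizer
      ((omegaCenterOf_le _).trans (inf_le_left.trans hQH))).mpr
      (hHQ.trans (normalizer_le_normalizer_omegaCenterOf _))
  obtain ⟨V, hVdef⟩ : ∃ V : Subgroup ↥H,
      V = Subgroup.normalClosure (((wOf K).subgroupOf H : Subgroup ↥H) : Set ↥H) := ⟨_, rfl⟩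
  have hVn : V.Normal := by rw [hVdef]; exact Subgroup.normalClosure_normal
  have hWV : (wOf K).subgroupOf H ≤ V := by rw [hVdef]; exact Subgroup.le_normalClosure
  have hVle : V ≤ (omegaCenterOf (pCoreOf 2 H)).subgroupOf H := by
    rw [hVdef]
    apply Subgroup.normalClosure_le_normal
    intro x hx
    exact Subgroup.mem_subgroupOf.mpr (hWVH (Subgroup.mem_subgroupOf.mp hx))
  have hVGle : V.map H.subtype ≤ omegaCenterOf (pCoreOf 2 H) := by
    rintro _ ⟨v, hv, rfl⟩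
    exact Subgroup.mem_subgroupOf.mp (hVle hv)
  have hVGc : ∀ a ∈ V.map H.subtype, ∀ b ∈ V.map H.subtype, a * b = b * a :=
    fun a ha b hb => omegaCenterOf_comm (hVGle ha) (hVGle hb)
  have hVG2 : ∀ a ∈ V.map H.subtype, a * a = 1 :=
    fun a ha => mul_self_of_mem_omegaCenterOf (hVGle ha)
  have hHVG : H ≤ Subgroup.normalizer ((V.map H.subtype : Subgroup G) : Set G) :=
    le_normalizer_map_subtype H V hVn
  have hVGQ : V.map H.subtype ≤ pCoreOf 2 H := hVGle.trans ((omegaCenterOf_le _).trans inf_le_left)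
  have hQCV : pCoreOf 2 H ≤ Subgroup.centralizer ((V.map H.subtype : Subgroup G) : Set G) := by
    intro q hq
    rw [Subgroup.mem_centralizer_iff]
    intro v hv
    exact (Subgroup.mem_centralizer_iff.mp (omegaCenterOf_le _ (hVGle hv)).2 q hq).symm
  have hWVG : wOf K ≤ V.map H.subtype := by
    intro w hw
    exact ⟨⟨w, hWH hw⟩, hWV (Subgroup.mem_subgroupOf.mpr hw), rfl⟩
  have hcomW : ∀ v ∈ V.map H.subtype, ∀ k ∈ K, ⁅v, k⁆ ∈ wOf K :=
    commutator_mem_wOf hK hVGc hVG2 (hKH.trans hHVG) (hVGQ.trans hQK) (hRQ.trans hQCV)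
  have hVel : IsElementaryAbelian 2 V := by
    rw [← isElementaryAbelian_map_subtype_iff, isElementaryAbelian_iff]
    exact ⟨hVGc, fun a ha => by rw [pow_two]; exact hVG2 a ha⟩
  have hCn : (Subgroup.centralizer (V : Set ↥H)).Normal := inferInstance
  have hCmem : ∀ y : ↥H, y ∈ Subgroup.centralizer (V : Set ↥H) ↔
      (y : G) ∈ Subgroup.centralizer ((V.map H.subtype : Subgroup G) : Set G) :=
    mem_centralizer_subtype_iff H V
  -- `O_2(H / C_H(V)) = 1`
  have hO : Cfsg.pCore 2 (↥H ⧸ Subgroup.centralizer (V : Set ↥H)) = ⊥ := by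
    have hPn := Cfsg.Agent.Lib.helper40.pCore_normal' 2 (↥H ⧸ Subgroup.centralizer (V : Set ↥H))
    have hPp := Cfsg.Agent.Lib.helper40.pCore_isPGroup 2 (↥H ⧸ Subgroup.centralizer (V : Set ↥H))
    obtain ⟨X, hXdef⟩ : ∃ X : Subgroup ↥H,
        X = (Cfsg.pCore 2 (↥H ⧸ Subgroup.centralizer (V : Set ↥H))).comap
          (QuotientGroup.mk' (Subgroup.centralizer (V : Set ↥H))) := ⟨_, rfl⟩
    have hXn : X.Normal := by rw [hXdef]; exact hPn.comap _
    have hX2 : ∀ x ∈ X, ∃ n : ℕ, x ^ (2 ^ n) ∈ Subgroup.centralizer (V : Set ↥H) := by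
      intro x hx
      rw [hXdef, Subgroup.mem_comap] at hx
      obtain ⟨n, hn⟩ := hPp ⟨_, hx⟩
      refine ⟨n, ?_⟩
      have h1 := congrArg Subtype.val hn
      simp only [Subgroup.coe_pow, Subgroup.coe_one, QuotientGroup.mk'_apply] at h1
      rw [← QuotientGroup.mk_pow] at h1
      exact (QuotientGroup.eq_one_iff _).mp h1
    have hSN := odd_mem_sup_of_isSubnormal hKsn (Subgroup.centralizer (V : Set ↥H)) X hX2
    -- conjugation by `x ∈ X` maps `K` into `K C`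
    have hstep : ∀ x ∈ X, ∀ k : ↥H, k ∈ K.subgroupOf H →
        x * k * x⁻¹ ∈ K.subgroupOf H ⊔ Subgroup.centralizer (V : Set ↥H) := by
      intro x hx
      have hle : K ≤ ((K.subgroupOf H ⊔ Subgroup.centralizer (V : Set ↥H)).comap
          (MulAut.conj x).toMonoidHom).map H.subtype := by
        conv_lhs => rw [← hgen]
        rw [Subgroup.closure_le]
        rintro g ⟨hgK, hgodd⟩
        refine ⟨⟨g, hKH hgK⟩, ?_, rfl⟩
        rw [SetLike.mem_coe, Subgroup.mem_comap]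
        show x * ⟨g, hKH hgK⟩ * x⁻¹ ∈ _
        apply hSN
        · exact Subgroup.mul_mem _ (Subgroup.mul_mem _ (Subgroup.mem_sup_right hx)
            (Subgroup.mem_sup_left (Subgroup.mem_subgroupOf.mpr hgK)))
            (Subgroup.inv_mem _ (Subgroup.mem_sup_right hx))
        · have e : orderOf (x * ⟨g, hKH hgK⟩ * x⁻¹) = orderOf g := by
            have h2 := orderOf_injective (MulAut.conj x).toMonoidHom (MulAut.conj x).injective
              (⟨g, hKH hgK⟩ : ↥H)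
            have h3 : orderOf (⟨g, hKH hgK⟩ : ↥H) = orderOf g := by
              rw [← Subgroup.orderOf_coe]
            rw [← h3, ← h2]
            rfl
          rw [e]; exact hgodd
      intro k hk
      obtain ⟨y, hy, hyk⟩ := hle (Subgroup.mem_subgroupOf.mp hk)
      have : y = k := Subtype.ext hyk
      rw [this, SetLike.mem_coe, Subgroup.mem_comap] at hy
      exact hy
    -- `X` centralizes `W`
    have hXW : ∀ x ∈ X, ∀ w ∈ wOf K, (x : G) * w * (x : G)⁻¹ = w := by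
      intro x hx
      obtain ⟨n, hn⟩ := hX2 x hx
      have hd' : (⟨d, hKH hdK⟩ : ↥H) ∈ K.subgroupOf H := Subgroup.mem_subgroupOf.mpr hdK
      -- `e = x d x⁻¹ d⁻¹`
      have heX : x * ⟨d, hKH hdK⟩ * x⁻¹ * (⟨d, hKH hdK⟩ : ↥H)⁻¹ ∈ X := by
        have e : x * ⟨d, hKH hdK⟩ * x⁻¹ * (⟨d, hKH hdK⟩ : ↥H)⁻¹ =
            x * (⟨d, hKH hdK⟩ * x⁻¹ * (⟨d, hKH hdK⟩ : ↥H)⁻¹) := by group
        rw [e]
        exact X.mul_mem hx (hXn.conj_mem _ (X.inv_mem hx) _)
      have heKC : x * ⟨d, hKH hdK⟩ * x⁻¹ * (⟨d, hKH hdK⟩ : ↥H)⁻¹ ∈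
          K.subgroupOf H ⊔ Subgroup.centralizer (V : Set ↥H) :=
        Subgroup.mul_mem _ (hstep x hx _ hd') (Subgroup.mem_sup_left (Subgroup.inv_mem _ hd'))
      obtain ⟨a, ha, c, hc, hac⟩ := Subgroup.mem_sup_of_normal_right.mp heKC
      obtain ⟨m, hm⟩ := hX2 _ heX
      -- `a ^ (2 ^ m) ∈ C`
      have hapow : a ^ (2 ^ m) ∈ Subgroup.centralizer (V : Set ↥H) := by
        have hac' : x * ⟨d, hKH hdK⟩ * x⁻¹ * (⟨d, hKH hdK⟩ : ↥H)⁻¹ = (a * c * a⁻¹) * a := by
          rw [← hac]; group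
        obtain ⟨c₂, hc₂, hpow⟩ := exists_mul_pow_eq
          (M := Subgroup.centralizer (V : Set ↥H)) (a := a * c * a⁻¹) (x := a)
          (hCn.conj_mem c hc a) (fun z hz => hCn.conj_mem z hz a) (2 ^ m)
        rw [← hac', ] at hpow
        have e : a ^ (2 ^ m) = c₂⁻¹ *
            (x * ⟨d, hKH hdK⟩ * x⁻¹ * (⟨d, hKH hdK⟩ : ↥H)⁻¹) ^ (2 ^ m) := by
          rw [hpow]; group
        rw [e]
        exact Subgroup.mul_mem _ (Subgroup.inv_mem _ hc₂) hm
      have haK : (a : G) ∈ K := Subgroup.mem_subgroupOf.mp ha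
      have haR : (a : G) ∈ pCoreOf 2 K := by
        by_contra haR
        have h1 := pow_two_pow_not_mem_pCoreOf hidx haK haR m
        obtain ⟨w, hw, hw1⟩ := exists_ne_one_mem_wOf hK
        apply hw1
        apply hfpf _ (K.pow_mem haK _) h1 w hw
        have h2 := (hCmem _).mp hapow
        have h3 := Subgroup.mem_centralizer_iff.mp h2 w (hWVG hw)
        simp only [Subgroup.coe_pow] at h3
        calc (a : G) ^ 2 ^ m * w * ((a : G) ^ 2 ^ m)⁻¹ = (w * (a : G) ^ 2 ^ m) * ((a : G) ^ 2 ^ m)⁻¹ := by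
              rw [h3]
          _ = w := by group
      have haC : a ∈ Subgroup.centralizer (V : Set ↥H) :=
        (hCmem a).mpr (hQCV (hRQ haR))
      have heC : x * ⟨d, hKH hdK⟩ * x⁻¹ * (⟨d, hKH hdK⟩ : ↥H)⁻¹ ∈
          Subgroup.centralizer (V : Set ↥H) := by
        rw [← hac]; exact Subgroup.mul_mem _ haC hc
      have heC' : (x : G) * d * (x : G)⁻¹ * d⁻¹ ∈
          Subgroup.centralizer ((V.map H.subtype : Subgroup G) : Set G) := (hCmem _).mp heC
      have hEc : ∀ v ∈ V.map H.subtype,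
          ((x : G) * d * (x : G)⁻¹ * d⁻¹) * v = v * ((x : G) * d * (x : G)⁻¹ * d⁻¹) :=
        fun v hv => (Subgroup.mem_centralizer_iff.mp heC' v hv).symm
      have hxVG : ∀ v ∈ V.map H.subtype, (x : G) * v * (x : G)⁻¹ ∈ V.map H.subtype :=
        fun v hv => (Subgroup.mem_normalizer_iff.mp (hHVG x.2) v).mp hv
      have hdVG : ∀ v ∈ V.map H.subtype, d * v * d⁻¹ ∈ V.map H.subtype :=
        fun v hv => (Subgroup.mem_normalizer_iff.mp (hHVG (hKH hdK)) v).mp hv
      -- `x` normalizes `W`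
      have hsurj := exists_commutator_eq_of_fpf (W := wOf K) (k := d)
        (fun w hw => hcomW w (hWVG hw) d hdK) (hfpf d hdK hdR)
      have hxW : ∀ w ∈ wOf K, (x : G) * w * (x : G)⁻¹ ∈ wOf K := by
        intro w hw
        obtain ⟨u, hu, rfl⟩ := hsurj w hw
        have hu' := hxVG u (hWVG hu)
        have hcu := hcomW _ hu' d hdK
        have e1 := hEc _ hu'
        have e2 := hEc _ (hWVG hcu)
        have e : (x : G) * ⁅u, d⁆ * (x : G)⁻¹ = ⁅(x : G) * u * (x : G)⁻¹, d⁆ := by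
          simp only [commutatorElement_def] at e2 ⊢
          calc (x : G) * (u * d * u⁻¹ * d⁻¹) * (x : G)⁻¹
              = ((x : G) * u * (x : G)⁻¹) * ((x : G) * d * (x : G)⁻¹ * d⁻¹) * d *
                  ((x : G) * u * (x : G)⁻¹)⁻¹ * d⁻¹ * ((x : G) * d * (x : G)⁻¹ * d⁻¹)⁻¹ := by
                group
            _ = ((x : G) * d * (x : G)⁻¹ * d⁻¹) * ((x : G) * u * (x : G)⁻¹) * d *
                  ((x : G) * u * (x : G)⁻¹)⁻¹ * d⁻¹ * ((x : G) * d * (x : G)⁻¹ * d⁻¹)⁻¹ := by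
                rw [e1]
            _ = ((x : G) * d * (x : G)⁻¹ * d⁻¹) * (((x : G) * u * (x : G)⁻¹) * d *
                  ((x : G) * u * (x : G)⁻¹)⁻¹ * d⁻¹) * ((x : G) * d * (x : G)⁻¹ * d⁻¹)⁻¹ := by
                group
            _ = (((x : G) * u * (x : G)⁻¹) * d *
                  ((x : G) * u * (x : G)⁻¹)⁻¹ * d⁻¹) * ((x : G) * d * (x : G)⁻¹ * d⁻¹) *
                  ((x : G) * d * (x : G)⁻¹ * d⁻¹)⁻¹ := by
                rw [e2]
            _ = (x : G) * u * (x : G)⁻¹ * d * ((x : G) * u * (x : G)⁻¹)⁻¹ * d⁻¹ := by group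
        rw [e]; exact hcu
      apply conj_eq_of_commute_fpf hW4 hW2 (hKW d hdK) hd3W (hfpf d hdK hdR) n (x : G) hxW
      · intro w hw
        have hdw := hKW d hdK _ (hxW w hw)
        have e2 := hEc _ (hWVG hdw)
        calc (x : G) * (d * w * d⁻¹) * (x : G)⁻¹
            = ((x : G) * d * (x : G)⁻¹ * d⁻¹) * (d * ((x : G) * w * (x : G)⁻¹) * d⁻¹) *
                ((x : G) * d * (x : G)⁻¹ * d⁻¹)⁻¹ := by group
          _ = (d * ((x : G) * w * (x : G)⁻¹) * d⁻¹) * ((x : G) * d * (x : G)⁻¹ * d⁻¹) *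
                ((x : G) * d * (x : G)⁻¹ * d⁻¹)⁻¹ := by rw [e2]
          _ = d * ((x : G) * w * (x : G)⁻¹) * d⁻¹ := by group
      · intro w hw
        have h2 := (hCmem _).mp hn
        have h3 := Subgroup.mem_centralizer_iff.mp h2 w (hWVG hw)
        simp only [Subgroup.coe_pow] at h3
        calc (x : G) ^ 2 ^ n * w * ((x : G) ^ 2 ^ n)⁻¹ = (w * (x : G) ^ 2 ^ n) * ((x : G) ^ 2 ^ n)⁻¹ := by
              rw [h3]
          _ = w := by group
    -- hence `X ≤ C_H(V)`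
    have hXC : X ≤ Subgroup.centralizer (V : Set ↥H) := by
      have hCXn : (Subgroup.centralizer (X : Set ↥H)).Normal := inferInstance
      have hVX : V ≤ Subgroup.centralizer (X : Set ↥H) := by
        rw [hVdef]
        apply Subgroup.normalClosure_le_normal
        intro w hw
        rw [SetLike.mem_coe, Subgroup.mem_centralizer_iff]
        intro x hx
        apply Subtype.ext
        have h1 := hXW x hx (w : G) (Subgroup.mem_subgroupOf.mp hw)
        simp only [Subgroup.coe_mul]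
        calc (x : G) * (w : G) = ((x : G) * w * (x : G)⁻¹) * x := by group
          _ = (w : G) * x := by rw [h1]
      exact Subgroup.le_centralizer_iff.mp hVX
    rw [eq_bot_iff]
    intro y hy
    obtain ⟨x, rfl⟩ := QuotientGroup.mk_surjective y
    have hxX : x ∈ X := by rw [hXdef, Subgroup.mem_comap]; exact hy
    rw [Subgroup.mem_bot]
    exact (QuotientGroup.eq_one_iff x).mpr (hXC hxX)
  -- apply the structure theorem
  have hmain := thompson_le_normalizer_of_fpf hsolvH V hVel hO ((wOf K).subgroupOf H) hWV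
    (by rw [card_subgroupOf_of_le hWH]; exact hW4) ⟨d, hKH hdK⟩
    (by
      rw [hCmem]
      exact hQCV (hRQ (pow_three_mem_pCoreOf hidx hdK)))
    (by
      intro v hv
      rw [Subgroup.mem_subgroupOf]
      exact hcomW (v : G) ⟨v, hv, rfl⟩ d hdK)
    (by
      intro w hw hfix
      apply Subtype.ext
      exact hfpf d hdK hdR (w : G) (Subgroup.mem_subgroupOf.mp hw) (congrArg Subtype.val hfix))
  -- conclusion
  rw [hJdef, thompsonSubgroupOf_eq_sSup]
  apply sSup_le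
  intro A hA a ha
  have hAJ : A ≤ J := by rw [hJdef]; exact le_thompsonSubgroupOf_of_mem_maxIn hA
  have hAH : A ≤ H := hAJ.trans hJH
  have hAmax := subgroupOf_mem_max_of_isSylowTwoIn hTL hHL hA hAH
  have h1 : (⟨a, hAH ha⟩ : ↥H) ∈ Subgroup.normalizer (((wOf K).subgroupOf H : Subgroup ↥H) : Set ↥H) :=
    hmain (le_thompsonSubgroup hAmax (Subgroup.mem_subgroupOf.mpr ha))
  apply mem_normalizer_of_forall_conj_mem
  intro w hw
  have h2 := (Subgroup.mem_normalizer_iff.mp h1 ⟨w, hWH hw⟩).mp (Subgroup.mem_subgroupOf.mpr hw)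
  exact Subgroup.mem_subgroupOf.mp h2

end JNorm

end Cfsg.Agent.Lib.helper13
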