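import Mathlib
import Cfsg.Prelude.Def_JComponents
import Cfsg.Agent.S2942
import Cfsg.Agent.S2944
import Cfsg.Agent.S2945
import Cfsg.Agent.Lib.helper27.PLocal
import Cfsg.Agent.Lib.helper29.Zipper

/-!
Towards the uniqueness of the maximal 2-local overgroup of `⟨K, J(T)⟩` (KS 12.2):
Sylow conjugacy for `IsSylowTwoIn`, conjugation invariance of `jComponentsZero`, the subgroup
`compW T H` generated by the `W_K'` for the members `K' ≤ H` of `jComponentsZero T`, and the
identification of a maximal 2-local overgroup with the normalizer of `compW T (N_G(K))`.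
-/

set_option autoImplicit false

namespace Cfsg.Agent.Lib.helper13

open Cfsg Cfsg.Agent.Lib.helper51

universe u

section JUniq

variable {G : Type u} [Group G]

/-- Every 2-local subgroup lies in a maximal 2-local subgroup. -/
theorem exists_isMaximalTwoLocal_ge [Finite G] {X : Subgroup G} (hX : IsTwoLocal X) :
    ∃ L : Subgroup G, IsMaximalTwoLocal L ∧ X ≤ L := by
  have hfin : ({Y : Subgroup G | IsTwoLocal Y ∧ X ≤ Y}).Finite := Set.toFinite _
  obtain ⟨L, hL⟩ := hfin.exists_maximal ⟨X, hX, le_rfl⟩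
  refine ⟨L, ⟨hL.1.1, fun N hN hLN => ?_⟩, hL.1.2⟩
  exact le_antisymm (hL.2 ⟨hN, hL.1.2.trans hLN⟩ hLN) hLN

/-- Sylow conjugacy for `IsSylowTwoIn`. -/
theorem isSylowTwoIn_conj [Finite G] {A B H : Subgroup G} (hA : IsSylowTwoIn A H)
    (hB : IsSylowTwoIn B H) : ∃ h ∈ H, B = A.map (MulAut.conj h).toMonoidHom := by
  have hp2 : Fact (Nat.Prime 2) := ⟨Nat.prime_two⟩
  obtain ⟨P, hP⟩ := exists_sylow_of_isSylowTwoIn hA
  obtain ⟨Q, hQ⟩ := exists_sylow_of_isSylowTwoIn hB
  obtain ⟨g, hg⟩ := MulAction.exists_smul_eq ↥H P Q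
  refine ⟨(g : G), g.2, ?_⟩
  have h1 : (Q : Subgroup ↥H) = (P : Subgroup ↥H).map (MulAut.conj g).toMonoidHom := by
    rw [← hg, Sylow.coe_subgroup_smul]; rfl
  rw [hP, hQ] at h1
  have h2 := congrArg (Subgroup.map H.subtype) h1
  rw [Subgroup.map_subgroupOf_eq_of_le hB.1, Subgroup.map_map] at h2
  rw [h2]
  ext x
  constructor
  · rintro ⟨y, hy, rfl⟩
    exact ⟨(y : G), Subgroup.mem_subgroupOf.mp hy, by simp⟩
  · rintro ⟨y, hy, rfl⟩
    exact ⟨⟨y, hA.1 hy⟩, Subgroup.mem_subgroupOf.mpr hy, by simp⟩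

theorem isSylowTwoIn_map_conj {A H : Subgroup G} (hA : IsSylowTwoIn A H) (g : G) :
    IsSylowTwoIn (A.map (MulAut.conj g).toMonoidHom) (H.map (MulAut.conj g).toMonoidHom) := by
  obtain ⟨h1, h2, h3⟩ := hA
  refine ⟨Subgroup.map_mono h1, h2.map _, ?_⟩
  rw [Subgroup.relIndex_map_map_of_injective _ _ (MulAut.conj g).injective]
  exact h3

/-- `jComponentsZero T` depends on `T` only through `J(T)`. -/
theorem mem_jComponentsZero_congr {T T' K : Subgroup G}
    (h : thompsonSubgroupOf 2 T' = thompsonSubgroupOf 2 T) (hK : K ∈ jComponentsZero T) :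
    K ∈ jComponentsZero T' := by
  refine ⟨component_congr h hK.1, fun S hS hsyl => ?_⟩
  rw [h] at hS ⊢
  exact hK.2 S hS hsyl

/-- Conjugates of members of `jComponentsZero T` are members of `jComponentsZero Tᵐ`. -/
theorem mem_jComponentsZero_map_conj {T K : Subgroup G} (hK : K ∈ jComponentsZero T) (m : G) :
    K.map (MulAut.conj m).toMonoidHom ∈ jComponentsZero (T.map (MulAut.conj m).toMonoidHom) := by
  refine ⟨conj_component hK.1 m, fun S hJS hS => ?_⟩
  have hJ : thompsonSubgroupOf 2 (T.map (MulAut.conj m).toMonoidHom) =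
      (thompsonSubgroupOf 2 T).map (MulAut.conj m).toMonoidHom :=
    (map_thompsonSubgroupOf (MulAut.conj m) T).symm
  rw [hJ] at hJS ⊢
  rw [wOf_map_conj, ← Subgroup.map_equiv_normalizer_eq] at hS
  have hS₀ := isSylowTwoIn_map_conj hS m⁻¹
  rw [Cfsg.Agent.Lib.helper51.map_conj_map_conj_inv] at hS₀
  have hJS₀ : thompsonSubgroupOf 2 T ≤ S.map (MulAut.conj m⁻¹).toMonoidHom := by
    have := Subgroup.map_mono (f := (MulAut.conj m⁻¹).toMonoidHom) hJS
    rwa [Cfsg.Agent.Lib.helper51.map_conj_map_conj_inv] at this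
  have h := hK.2 _ hJS₀ hS₀
  rw [← h, map_thompsonSubgroupOf, Cfsg.Agent.Lib.helper51.map_conj_inv_map_conj]

/-- A conjugate of a member of `jComponentsZero T` that is again a `J(T)`-component is again a
member of `jComponentsZero T`. -/
theorem mem_jComponentsZero_of_conj [Finite G] (hL : Cfsg.IsCharacteristicTwoType G)
    (hN : ∀ N : Subgroup G, Cfsg.IsTwoLocal N → Group.IsSolvable ↥N)
    (hZ : ∀ S : Sylow 2 G, Subgroup.centralizer (Cfsg.omegaCenterOf (S : Subgroup G) : Set G) ≤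
      Subgroup.normalizer ((S : Subgroup G) : Set G))
    {T K : Subgroup G} (hT : IsPGroup 2 ↥T) (hK : K ∈ jComponentsZero T) (l : G)
    (hc : IsJComponent T (K.map (MulAut.conj l).toMonoidHom)) :
    K.map (MulAut.conj l).toMonoidHom ∈ jComponentsZero T := by
  refine ⟨hc, fun S' hJS' hS' => ?_⟩
  obtain ⟨-, S'', hS'', hJ''⟩ := Cfsg.Agent.S2944.normalizer_wOf_le hL hN hZ T hT K hK
  rw [wOf_map_conj, ← Subgroup.map_equiv_normalizer_eq] at hS'
  obtain ⟨h, -, hh⟩ := isSylowTwoIn_conj (isSylowTwoIn_map_conj hS'' l) hS'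
  rw [← Cfsg.Agent.Lib.helper51.map_conj_mul] at hh
  rw [← hJ''] at hJS' ⊢
  exact thompson_eq_of_le_conj hh hJS'

/-- Conjugation by an element of `L` preserves subnormality in `L`. -/
theorem isSubnormal_subgroupOf_map_conj {K L : Subgroup G} (hKL : K ≤ L)
    (h : (K.subgroupOf L).IsSubnormal) {l : G} (hl : l ∈ L) :
    ((K.map (MulAut.conj l).toMonoidHom).subgroupOf L).IsSubnormal := by
  have h1 : Cfsg.Agent.Lib.helper29.SNChain K L :=
    Cfsg.Agent.Lib.helper29.snChain_iff.mpr ⟨hKL, h⟩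
  have h2 : Cfsg.Agent.Lib.helper29.SNChain (K.map (MulAut.conj l).toMonoidHom)
      (L.map (MulAut.conj l).toMonoidHom) := h1.conj l
  have e : L.map (MulAut.conj l).toMonoidHom = L :=
    Cfsg.Agent.Lib.helper51.map_conj_eq_of_mem_normalizer (Subgroup.le_normalizer hl)
  rw [e] at h2
  exact h2.isSubnormal

theorem wOf_le_pCoreOf (K : Subgroup G) : wOf K ≤ pCoreOf 2 K := by
  unfold wOf
  have h1 : omegaCenterOf (pCoreOf 2 K) ≤ pCoreOf 2 K := (omegaCenterOf_le _).trans inf_le_left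
  exact (Subgroup.commutator_mono h1 le_rfl).trans
    (Cfsg.Agent.Lib.helper13.commutator_le_of_le_normalizer (le_normalizer_pCoreOf 2 K))

/-- In a solvable subgroup `H` of characteristic 2 with a Sylow 2-subgroup `T₁` such that
`J(T₁) = J(T)`, any two `J(T)`-components normalize each other's `W`, and their `W` lie in
`O₂(H)`. -/
theorem jComponent_le_normalizer_wOf [Finite G] (hL : Cfsg.IsCharacteristicTwoType G)
    (hN : ∀ N : Subgroup G, Cfsg.IsTwoLocal N → Group.IsSolvable ↥N)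
    (hZ : ∀ S : Sylow 2 G, Subgroup.centralizer (Cfsg.omegaCenterOf (S : Subgroup G) : Set G) ≤
      Subgroup.normalizer ((S : Subgroup G) : Set G))
    {T T₁ H K' K'' : Subgroup G} (hsyl : IsSylowTwoIn T₁ H) (hT₁1 : T₁ ≠ ⊥)
    (hJ : thompsonSubgroupOf 2 T₁ = thompsonSubgroupOf 2 T)
    (hsolv : Group.IsSolvable ↥H)
    (hchar : Subgroup.centralizer (pCoreOf 2 H : Set G) ≤ pCoreOf 2 H)
    (hK' : IsJComponent T K') (hK'H : K' ≤ H) (hK'' : IsJComponent T K'') (hK''H : K'' ≤ H) :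
    K' ≤ Subgroup.normalizer (wOf K'' : Set G) ∧ wOf K' ≤ pCoreOf 2 H := by
  obtain ⟨V, D, JL, F⟩ := overgroup_fine hZ hsyl hsolv hchar
  have h1 := component_normalized hL hN hZ hsyl.2.1 hT₁1 F (component_congr hJ hK') hK'H
  have h2 := component_normalized hL hN hZ hsyl.2.1 hT₁1 F (component_congr hJ hK'') hK''H
  refine ⟨h1.2.2.2.1.trans (h2.2.1.trans (normalizer_le_normalizer_wOf K'')), ?_⟩
  obtain ⟨d, a, P, -, -, -, -, -, -, -, hQR, -, -⟩ :=
    exists_invPair hL hN hZ hsyl.2.1 hT₁1 F (component_congr hJ hK') hK'H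
  exact (wOf_le_pCoreOf K').trans hQR

/-- The subgroup generated by the `W_K'` for the members `K' ≤ H` of `jComponentsZero T`. -/
def compW (T H : Subgroup G) : Subgroup G :=
  ⨆ K' : Subgroup G, ⨆ _ : K' ∈ jComponentsZero T ∧ K' ≤ H, wOf K'

theorem wOf_le_compW {T H K' : Subgroup G} (hK' : K' ∈ jComponentsZero T) (hK'H : K' ≤ H) :
    wOf K' ≤ compW T H :=
  le_iSup₂ (f := fun (K' : Subgroup G) (_ : K' ∈ jComponentsZero T ∧ K' ≤ H) => wOf K') K'
    ⟨hK', hK'H⟩

theorem compW_le {T H Y : Subgroup G}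
    (h : ∀ K' : Subgroup G, K' ∈ jComponentsZero T → K' ≤ H → wOf K' ≤ Y) : compW T H ≤ Y :=
  iSup₂_le (fun K' hK' => h K' hK'.1 hK'.2)

end JUniq

end Cfsg.Agent.Lib.helper13
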