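import Mathlib
import Cfsg.Prelude.Def_LieTypeChar
import Cfsg.Agent.Lib.helper44.LODefs
import Cfsg.Agent.S0292

/-!
S2363 piece POO (core, racing copy by helper13): the odd-dimensional orthogonal groups, with the
core arithmetic lemma `lo_good` taken as a hypothesis.
-/

set_option autoImplicit false

namespace Cfsg.Agent.Lib.helper44.LO

open Cfsg

theorem h13_prod_pow_range (q m : ℕ) :
    ∏ i ∈ Finset.range m, q ^ (2 * (i + 1)) = q ^ (m ^ 2 + m) := by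
  induction m with
  | zero => simp
  | succ k ih =>
    rw [Finset.prod_range_succ, ih, ← pow_add]
    congr 1
    ring

theorem h13_prod_sub_le (q m : ℕ) :
    ∏ i ∈ Finset.range m, (q ^ (2 * (i + 1)) - 1) ≤ q ^ (m ^ 2 + m) := by
  rw [← h13_prod_pow_range]
  exact Finset.prod_le_prod' (fun i _ => Nat.sub_le _ _)

theorem h13_not_dvd_prod_sub {p : ℕ} (hp : p.Prime) (q : ℕ) (hpq : p ∣ q) (hq : 0 < q) (m : ℕ) :
    ¬ p ∣ ∏ i ∈ Finset.range m, (q ^ (2 * (i + 1)) - 1) := by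
  intro h
  rw [Prime.dvd_finsetProd_iff hp.prime] at h
  obtain ⟨i, -, hi⟩ := h
  have h1 : p ∣ q ^ (2 * (i + 1)) := dvd_pow hpq (by omega)
  have h2 : 1 ≤ q ^ (2 * (i + 1)) := Nat.one_le_pow _ _ hq
  have h3 : p ∣ 1 := by
    have := (Nat.dvd_sub h1 hi)
    rwa [Nat.sub_sub_self h2] at this
  exact hp.one_lt.ne' (Nat.dvd_one.mp h3)

theorem h13_lo_poo_core
    (hgood : ∀ {p : ℕ} (_ : p.Prime) (f : ℕ) (_ : 1 ≤ f) (c n N M e : ℕ)
      (_ : c * n = (p ^ f) ^ N * M) (_ : ¬ p ∣ c) (_ : ¬ p ∣ M) (_ : M < c * (p ^ f) ^ e)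
      (_ : e ≤ 2 * N) (_ : 3 * e ≤ 5 * N), LOGood p n)
    {F : Type} [Field F] [Fintype F] (p : ℕ) (hp : p.Prime) [CharP F p] (m : ℕ) (hm : 3 ≤ m)
    (hodd : Odd (Fintype.card F)) : LOGood p (Nat.card (Cfsg.POmega F (Cfsg.quadFormOdd m F))) := by
  obtain ⟨f, -, hcard⟩ := FiniteField.card F p
  have hf : 1 ≤ (f : ℕ) := f.pos
  have hord := Cfsg.Agent.S0292.result (F := F) rfl hodd m hm
  rw [hcard] at hord
  have hqpos : 0 < p ^ (f : ℕ) := pos_of_gt (Nat.one_lt_pow (by omega) hp.one_lt)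
  have hpq : p ∣ p ^ (f : ℕ) := dvd_pow_self p (by omega)
  have hp2 : ¬ p ∣ 2 := by
    intro h
    have hp2' : p = 2 := (Nat.prime_dvd_prime_iff_eq hp Nat.prime_two).mp h
    rw [hcard, hp2'] at hodd
    exact (Nat.not_even_iff_odd.mpr hodd) (Even.pow_of_ne_zero even_two (by omega))
  refine hgood hp f hf 2 _ (m ^ 2) (∏ i ∈ Finset.range m, ((p ^ (f : ℕ)) ^ (2 * (i + 1)) - 1))
    (m ^ 2 + m) hord hp2 (h13_not_dvd_prod_sub hp _ hpq hqpos m) ?_ ?_ ?_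
  · have h1 := h13_prod_sub_le (p ^ (f : ℕ)) m
    have h2 : 0 < (p ^ (f : ℕ)) ^ (m ^ 2 + m) := pos_of_gt (Nat.one_le_pow _ _ hqpos)
    omega
  · nlinarith
  · nlinarith

end Cfsg.Agent.Lib.helper44.LO
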