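import Mathlib
import Cfsg.Prelude.Def_LieTypeChar
import Cfsg.Agent.Lib.helper44.LODefs
import Cfsg.Agent.Lib.helper6.LOARITH
import Cfsg.Agent.Lib.helper13.LOPOOcore

/-!
S2363 piece POO (racing copy by helper13).
-/

set_option autoImplicit false

namespace Cfsg.Agent.Lib.helper44.LO

open Cfsg

/-- POO. -/
theorem h13_lo_poo {F : Type} [Field F] [Fintype F] (p : ℕ) (hp : p.Prime) [CharP F p] (m : ℕ) (hm : 3 ≤ m)
    (hodd : Odd (Fintype.card F)) : LOGood p (Nat.card (Cfsg.POmega F (Cfsg.quadFormOdd m F))) :=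
  h13_lo_poo_core (fun hp f hf c n N M e hc hcp hMp hM h1 h2 => lo_good hp f hf c n N M e hc hcp hMp hM h1 h2)
    p hp m hm hodd

end Cfsg.Agent.Lib.helper44.LO
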