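import Mathlib
import Cfsg.Agent.Lib.helper68.HallPet
import Cfsg.Agent.Lib.helper79.PearlX
import Cfsg.Agent.Lib.helper13.Count
import Cfsg.Agent.Lib.helper43.P3FRAT
import Cfsg.Agent.Lib.helper83.P3Small

/-! Racer copy (helper13) of sub-piece NUA of S5239 piece NONUNIF (helper68's sub-split). -/

set_option autoImplicit false

namespace Cfsg.Agent.Lib.helper79.P3

open Cfsg.Agent.Lib.helper68

/-- NUA (M/L). Some `u ∈ P_2 ∖ P_(n-1)` commutes with `h`. -/
theorem h13_p3_nu_a {G : Type*} [Group G] [Finite G] (n : ℕ) (hn : 4 ≤ n) (hG : Nat.card G = 3 ^ n) (x : G)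
    (hx : x ^ 3 = 1) (hC : Nat.card (Subgroup.centralizer ({x} : Set G)) = 3 ^ 2) (h : G) (hh : h ∉ gam G 2)
    (hCh : Nat.card (Subgroup.centralizer ({h} : Set G)) ≠ 3 ^ 2) :
    ∃ u ∈ gam G 2, u ∉ gam G (n - 1) ∧ com u h = 1 := by
  have : Fact (Nat.Prime 3) := ⟨by norm_num⟩
  have h3 : Nat.Prime 3 := by norm_num
  have hP2 : Nat.card (gam G 2) = 3 ^ (n - 2) :=
    Cfsg.Agent.Lib.helper79.h79_px_card 3 n hG x hC (by omega) 2 le_rfl (by omega)
  have hPn1 : Nat.card (gam G (n - 1)) = 3 ^ (n - (n - 1)) :=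
    Cfsg.Agent.Lib.helper79.h79_px_card 3 n hG x hC (by omega) (n - 1) (by omega) (by omega)
  have hn1 : n - (n - 1) = 1 := by omega
  rw [hn1, pow_one] at hPn1
  have hZ : Nat.card (Subgroup.center G) = 3 := h83_p3_center_card n (by omega) hG x hC
  obtain ⟨C, hCdef⟩ : ∃ C : Subgroup G, C = Subgroup.centralizer ({h} : Set G) := ⟨_, rfl⟩
  rw [← hCdef] at hCh
  have hhC : h ∈ C := by
    rw [hCdef, Subgroup.mem_centralizer_iff]
    intro y hy
    rw [Set.mem_singleton_iff] at hy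
    rw [hy]
  have hZC : Subgroup.center G ≤ C := by
    rw [hCdef]
    exact Subgroup.center_le_centralizer _
  have hCdvd : Nat.card C ∣ 3 ^ n := by
    rw [← hG]
    exact Subgroup.card_subgroup_dvd_card C
  obtain ⟨k, hkn, hk⟩ := (Nat.dvd_prime_pow h3).1 hCdvd
  have hk3 : 3 ≤ k := by
    by_contra hlt
    have hk2 : k ≠ 2 := fun h2 => hCh (by rw [hk, h2])
    have hk1 : k ≤ 1 := by omega
    have hle : Nat.card C ≤ Nat.card (Subgroup.center G) := by
      rw [hk, hZ]
      calc 3 ^ k ≤ 3 ^ 1 := Nat.pow_le_pow_right (by norm_num) hk1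
        _ = 3 := by norm_num
    have heq : Subgroup.center G = C := Subgroup.eq_of_le_of_card_ge hZC hle
    have hhZ : h ∈ Subgroup.center G := by
      rw [heq]
      exact hhC
    have htop : C = ⊤ := by
      rw [hCdef, eq_top_iff]
      intro g _
      rw [Subgroup.mem_centralizer_iff]
      intro y hy
      rw [Set.mem_singleton_iff] at hy
      rw [hy]
      exact (Subgroup.mem_center_iff.1 hhZ g).symm
    rw [htop, Subgroup.card_top, hG] at hk
    have hnk := Nat.pow_right_injective (by norm_num : 2 ≤ 3) hk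
    omega
  have hprod := Cfsg.Agent.Lib.helper13.card_mul_card_le_sup_inf C (gam G 2)
  have hinf : 9 ≤ Nat.card (C ⊓ gam G 2 : Subgroup G) := by
    by_cases htop : C ⊔ gam G 2 = ⊤
    · have hCtop : C = ⊤ := h43_p3_frat n (by omega) hG C htop
      rw [hCtop, top_inf_eq, hP2]
      calc 9 = 3 ^ 2 := by norm_num
        _ ≤ 3 ^ (n - 2) := Nat.pow_le_pow_right (by norm_num) (by omega)
    · have hsdvd : Nat.card (C ⊔ gam G 2 : Subgroup G) ∣ 3 ^ n := by
        rw [← hG]
        exact Subgroup.card_subgroup_dvd_card _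
      obtain ⟨j, hjn, hj⟩ := (Nat.dvd_prime_pow h3).1 hsdvd
      have hjlt : j < n := by
        rcases Nat.lt_or_ge j n with h' | h'
        · exact h'
        · exfalso
          have hjn' : j = n := le_antisymm hjn h'
          apply htop
          apply (Subgroup.card_eq_iff_eq_top _).1
          rw [hj, hjn', hG]
      rw [hk, hP2, hj] at hprod
      have h1 : 3 ^ 3 * 3 ^ (n - 2) ≤ 3 ^ (n - 1) * Nat.card (C ⊓ gam G 2 : Subgroup G) := by
        calc 3 ^ 3 * 3 ^ (n - 2) ≤ 3 ^ k * 3 ^ (n - 2) :=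
              Nat.mul_le_mul_right _ (Nat.pow_le_pow_right (by norm_num) hk3)
          _ ≤ 3 ^ j * Nat.card (C ⊓ gam G 2 : Subgroup G) := hprod
          _ ≤ 3 ^ (n - 1) * Nat.card (C ⊓ gam G 2 : Subgroup G) :=
              Nat.mul_le_mul_right _ (Nat.pow_le_pow_right (by norm_num) (by omega))
      have h2 : 3 ^ 3 * 3 ^ (n - 2) = 3 ^ (n - 1) * 9 := by
        have h21 : n - 1 = (n - 2) + 1 := by omega
        rw [h21, pow_succ]
        ring
      rw [h2] at h1
      exact Nat.le_of_mul_le_mul_left h1 (pow_pos (by norm_num) _)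
  have hex : ∃ u ∈ (C ⊓ gam G 2 : Subgroup G), u ∉ gam G (n - 1) := by
    by_contra hcon
    push Not at hcon
    have hle : (C ⊓ gam G 2 : Subgroup G) ≤ gam G (n - 1) := fun u hu => hcon u hu
    have h4 := Subgroup.card_le_of_le hle
    rw [hPn1] at h4
    omega
  obtain ⟨u, hu, hun⟩ := hex
  refine ⟨u, (Subgroup.mem_inf.1 hu).2, hun, ?_⟩
  have huC : u ∈ C := (Subgroup.mem_inf.1 hu).1
  rw [hCdef, Subgroup.mem_centralizer_iff] at huC
  have hcomm : h * u = u * h := huC h (Set.mem_singleton h)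
  unfold com
  calc u⁻¹ * h⁻¹ * u * h = u⁻¹ * h⁻¹ * (u * h) := by group
    _ = u⁻¹ * h⁻¹ * (h * u) := by rw [hcomm]
    _ = 1 := by group

end Cfsg.Agent.Lib.helper79.P3
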