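import Mathlib

/-! Racer copy (helper13) of leaf C10 (`in_E`) of helper45's sub-split of S5238 block F leaf FC. -/

namespace Cfsg.Agent.Lib.helper45.PearlC

/-- C10 IN_E (M/L, the crux; tools passed as hypotheses): an element `w` with central commutators
lies in `E`. -/
theorem h13_in_E {G : Type*} [Group G] [Finite G] (p : ℕ) [Fact p.Prime] (n : ℕ)
    (hG : Nat.card G = p ^ n) (E : Subgroup G) (hE : Nat.card ↥E = p ^ 3)
    (hna : ¬ IsMulCommutative ↥E) (hC : Subgroup.centralizer (E : Set G) ≤ E)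
    (hCp : Nat.card ↥(Subgroup.centralizer (E : Set G)) = p)
    (hZ : Subgroup.center G = Subgroup.centralizer (E : Set G))
    (w : G) (hw : ∀ g : G, w * g * w⁻¹ * g⁻¹ ∈ Subgroup.center G)
    (hidx : Nat.card G ≤ p * Nat.card ↥(Subgroup.centralizer ({w} : Set G)))
    (hstep : ∀ A B C : Subgroup G, C ≤ B →
      Nat.card ↥(A ⊓ B) * Nat.card ↥C ≤ Nat.card ↥(A ⊓ C) * Nat.card ↥B)
    (hcg : ∀ (D : Subgroup G), D ≤ E → Nat.card ↥E ≤ p * Nat.card ↥D → ∀ e ∈ E, e ∉ D →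
      ∀ g : G, (∀ d ∈ D, d * g = g * d) → e * g = g * e →
        g ∈ Subgroup.centralizer (E : Set G))
    (hcc : ∀ a b : G, a ∈ E → b ∈ E → a * b * a⁻¹ * b⁻¹ ∈ Subgroup.centralizer (E : Set G))
    (hpow : ∀ c : G, c ∈ Subgroup.center G → c ≠ 1 → ∀ z : G, z ∈ Subgroup.center G →
      ∃ k : ℕ, z = c ^ k)
    (hadj : ∀ (d e w c : G) (k : ℕ), (∀ g : G, c * g = g * c) → d * e * d⁻¹ * e⁻¹ = c →
      w * e * w⁻¹ * e⁻¹ = c ^ k → d * w = w * d → e * (w * (d ^ k)⁻¹) = (w * (d ^ k)⁻¹) * e) :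
    w ∈ E := by
  have hpp : p.Prime := Fact.out
  obtain ⟨M, hM⟩ : ∃ M : Subgroup G, M = Subgroup.centralizer ({w} : Set G) := ⟨_, rfl⟩
  rw [← hM] at hidx
  have hMw : ∀ g ∈ M, g * w = w * g := by
    intro g hg
    rw [hM, Subgroup.mem_centralizer_iff] at hg
    exact (hg w (Set.mem_singleton w)).symm
  obtain ⟨D, hD⟩ : ∃ D : Subgroup G, D = E ⊓ M := ⟨_, rfl⟩
  have hDE : D ≤ E := hD ▸ inf_le_left
  have hDM : D ≤ M := hD ▸ inf_le_right
  have h1 := hstep E ⊤ M le_top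
  rw [inf_top_eq, Subgroup.card_top, ← hD] at h1
  have hED : Nat.card ↥E ≤ p * Nat.card ↥D := by
    have hMpos : 0 < Nat.card ↥M := Nat.card_pos
    have h2 : Nat.card ↥E * Nat.card ↥M ≤ (p * Nat.card ↥D) * Nat.card ↥M := by
      calc Nat.card ↥E * Nat.card ↥M ≤ Nat.card ↥D * Nat.card G := h1
        _ ≤ Nat.card ↥D * (p * Nat.card ↥M) := Nat.mul_le_mul_left _ hidx
        _ = (p * Nat.card ↥D) * Nat.card ↥M := by ring
    exact Nat.le_of_mul_le_mul_right h2 hMpos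
  by_cases hEM : E ≤ M
  · apply hC
    rw [Subgroup.mem_centralizer_iff]
    intro e he
    exact hMw e (hEM he)
  · obtain ⟨e, heE, heM⟩ := SetLike.not_le_iff_exists.1 hEM
    have heD : e ∉ D := fun h => heM (hDM h)
    have hDdvd : Nat.card ↥D ∣ p ^ 3 := by
      rw [← hE]
      exact Subgroup.card_dvd_of_le hDE
    obtain ⟨j, hj3, hj⟩ := (Nat.dvd_prime_pow hpp).1 hDdvd
    have hDne : D ≠ E := fun h => heD (h ▸ heE)
    have hj2 : j = 2 := by
      have hj3' : j ≠ 3 := by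
        intro h
        apply hDne
        exact Subgroup.eq_of_le_of_card_ge hDE (by rw [hE, hj, h])
      have h3 : p ^ 3 ≤ p ^ (j + 1) := by
        have h31 : p ^ (j + 1) = p * p ^ j := by ring
        rw [h31, ← hj, ← hE]
        exact hED
      have h4 := (Nat.pow_le_pow_iff_right hpp.one_lt).1 h3
      omega
    subst hj2
    have hDcomm : ∀ a ∈ D, ∀ b ∈ D, a * b = b * a := by
      intro a ha b hb
      have h5 := IsPGroup.commutative_of_card_eq_prime_sq (G := ↥D) hj ⟨a, ha⟩ ⟨b, hb⟩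
      exact congrArg Subtype.val h5
    have hex : ∃ d ∈ D, d * e ≠ e * d := by
      by_contra hcon
      push Not at hcon
      have hDC : D ≤ Subgroup.centralizer (E : Set G) := by
        intro g hg
        exact hcg D hDE hED e heE heD g (fun d hd => hDcomm d hd g hg) ((hcon g hg).symm)
      have h6 := Subgroup.card_le_of_le hDC
      rw [hj, hCp] at h6
      have h7 : p < p ^ 2 := by
        calc p = p ^ 1 := (pow_one p).symm
          _ < p ^ 2 := Nat.pow_lt_pow_right hpp.one_lt (by norm_num)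
      omega
    obtain ⟨d, hdD, hde⟩ := hex
    obtain ⟨c, hc⟩ : ∃ c : G, c = d * e * d⁻¹ * e⁻¹ := ⟨_, rfl⟩
    have hcC : c ∈ Subgroup.centralizer (E : Set G) := by
      rw [hc]
      exact hcc d e (hDE hdD) heE
    have hcZ : c ∈ Subgroup.center G := by
      rw [hZ]
      exact hcC
    have hc1 : c ≠ 1 := by
      intro h
      apply hde
      have h8 : d * e = c * (e * d) := by
        rw [hc]
        group
      rw [h8, h, one_mul]
    obtain ⟨k, hk⟩ := hpow c hcZ hc1 (w * e * w⁻¹ * e⁻¹) (hw e)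
    have hcg' : ∀ g : G, c * g = g * c := fun g => (Subgroup.mem_center_iff.1 hcZ g).symm
    have hdw : d * w = w * d := hMw d (hDM hdD)
    have hcomm_e := hadj d e w c k hcg' hc.symm hk hdw
    have hdkD : d ^ k ∈ D := D.pow_mem hdD k
    have hgD : ∀ d' ∈ D, d' * (w * (d ^ k)⁻¹) = (w * (d ^ k)⁻¹) * d' := by
      intro d' hd'
      have h5 : d' * w = w * d' := hMw d' (hDM hd')
      have h6 : d' * (d ^ k)⁻¹ = (d ^ k)⁻¹ * d' := hDcomm d' hd' ((d ^ k)⁻¹) (D.inv_mem hdkD)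
      calc d' * (w * (d ^ k)⁻¹) = (d' * w) * (d ^ k)⁻¹ := by rw [mul_assoc]
        _ = w * (d' * (d ^ k)⁻¹) := by rw [h5, mul_assoc]
        _ = w * (d ^ k)⁻¹ * d' := by rw [h6, mul_assoc]
    have hgC := hcg D hDE hED e heE heD (w * (d ^ k)⁻¹) hgD hcomm_e
    have hgE : w * (d ^ k)⁻¹ ∈ E := hC hgC
    have h9 : w = (w * (d ^ k)⁻¹) * d ^ k := by group
    rw [h9]
    exact E.mul_mem hgE (hDE hdkD)

end Cfsg.Agent.Lib.helper45.PearlC
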