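import Mathlib

/-! Racer copy (helper13) of piece FD1 of the S5238 block F split (helper88):
`char_chain_of_not_exp`. -/

set_option autoImplicit false

namespace Cfsg.Agent.Lib.helper88.PearlF

/-- The power formula when the commutator `d` of `b` and `a` is central. -/
theorem h13_mul_pow_of_central {E : Type*} [Group E] (a b d : E) (hd : ∀ g : E, d * g = g * d)
    (hba : b * a = a * b * d) (n : ℕ) : (a * b) ^ n = a ^ n * b ^ n * d ^ (n.choose 2) := by
  have hdc : ∀ (k : ℕ) (g : E), d ^ k * g = g * d ^ k := fun k g =>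
    ((show Commute d g from hd g).pow_left k).eq
  have hb : ∀ k : ℕ, b ^ k * a = a * b ^ k * d ^ k := by
    intro k
    induction k with
    | zero => simp
    | succ k ih =>
      calc b ^ (k + 1) * a = b ^ k * (b * a) := by rw [pow_succ, mul_assoc]
        _ = b ^ k * (a * b * d) := by rw [hba]
        _ = (b ^ k * a) * b * d := by simp only [mul_assoc]
        _ = a * b ^ k * d ^ k * b * d := by rw [ih]
        _ = a * b ^ k * (d ^ k * b) * d := by simp only [mul_assoc]
        _ = a * b ^ k * (b * d ^ k) * d := by rw [hdc]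
        _ = a * b ^ (k + 1) * d ^ (k + 1) := by simp only [pow_succ, mul_assoc]
  induction n with
  | zero => simp
  | succ n ih =>
    have hch : (n + 1).choose 2 = n + n.choose 2 := by
      rw [Nat.choose_succ_succ' n 1, Nat.choose_one_right]
    calc (a * b) ^ (n + 1) = (a * b) ^ n * (a * b) := pow_succ _ _
      _ = a ^ n * b ^ n * d ^ (n.choose 2) * (a * b) := by rw [ih]
      _ = a ^ n * b ^ n * (d ^ (n.choose 2) * (a * b)) := by simp only [mul_assoc]
      _ = a ^ n * b ^ n * ((a * b) * d ^ (n.choose 2)) := by rw [hdc]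
      _ = a ^ n * (b ^ n * a) * b * d ^ (n.choose 2) := by simp only [mul_assoc]
      _ = a ^ n * (a * b ^ n * d ^ n) * b * d ^ (n.choose 2) := by rw [hb n]
      _ = a ^ n * a * b ^ n * (d ^ n * b) * d ^ (n.choose 2) := by simp only [mul_assoc]
      _ = a ^ n * a * b ^ n * (b * d ^ n) * d ^ (n.choose 2) := by rw [hdc]
      _ = a ^ (n + 1) * b ^ (n + 1) * d ^ ((n + 1).choose 2) := by
        rw [hch, pow_add d, pow_succ a, pow_succ b]
        simp only [mul_assoc]

/-- FD1: a nonabelian group of order `p³`, `p` odd, not of exponent `p`, has a characteristic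
chain `A < B` with `|A| = p`, `|B| = p²` (`A = Z(E)`, `B = Ω₁(E)`). -/
theorem h13_char_chain_of_not_exp {E : Type*} [Group E] [Finite E] (p : ℕ) [Fact p.Prime] (hp : p ≠ 2)
    (hcard : Nat.card E = p ^ 3) (hna : ¬ IsMulCommutative E) (x : E) (hx : x ^ p ≠ 1) :
    ∃ A B : Subgroup E, A.Characteristic ∧ B.Characteristic ∧ A ≤ B ∧ Nat.card A = p ∧
      Nat.card B = p ^ 2 := by
  have hpp : p.Prime := Fact.out
  have hEp : IsPGroup p E := IsPGroup.of_card hcard
  have hnc : ¬ ∀ a b : E, a * b = b * a := fun h => hna ⟨⟨h⟩⟩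
  have hnt : Nontrivial E := by
    by_contra h
    rw [not_nontrivial_iff_subsingleton] at h
    exact hnc (fun a b => by rw [Subsingleton.elim a b])
  have hZdvd : Nat.card (Subgroup.center E) ∣ p ^ 3 := hcard ▸ Subgroup.card_subgroup_dvd_card _
  obtain ⟨k, hk3, hk⟩ := (Nat.dvd_prime_pow hpp).1 hZdvd
  have hZidx : (Subgroup.center E).index * p ^ k = p ^ 3 := by
    rw [← hk, ← hcard]
    exact Subgroup.index_mul_card _
  have hk1 : k = 1 := by
    have hk0 : k ≠ 0 := by
      intro h0
      rw [h0, pow_zero] at hk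
      have h1 := hEp.bot_lt_center
      rw [Subgroup.card_eq_one.1 hk] at h1
      exact lt_irrefl _ h1
    have hk3' : k ≠ 3 := by
      intro h3
      rw [h3, ← hcard] at hk
      have htop := (Subgroup.card_eq_iff_eq_top _).1 hk
      apply hnc
      intro a b
      have hb : b ∈ Subgroup.center E := by rw [htop]; exact Subgroup.mem_top b
      exact Subgroup.mem_center_iff.1 hb a
    have hk2 : k ≠ 2 := by
      intro h2
      rw [h2] at hZidx
      have hidx : (Subgroup.center E).index = p := by
        have h3 : (Subgroup.center E).index * p ^ 2 = p * p ^ 2 := by rw [hZidx]; ring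
        exact Nat.eq_of_mul_eq_mul_right (pow_pos hpp.pos 2) h3
      have hq : Nat.card (E ⧸ Subgroup.center E) = p := by
        rw [← Subgroup.index_eq_card]; exact hidx
      have : IsCyclic (E ⧸ Subgroup.center E) := isCyclic_of_prime_card hq
      exact hnc (commutative_of_cyclic_center_quotient (QuotientGroup.mk' (Subgroup.center E))
        (by rw [QuotientGroup.ker_mk']))
    omega
  subst hk1
  rw [pow_one] at hk hZidx
  have hidx : (Subgroup.center E).index = p ^ 2 := by
    have h3 : (Subgroup.center E).index * p = p ^ 2 * p := by rw [hZidx]; ring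
    exact Nat.eq_of_mul_eq_mul_right hpp.pos h3
  have hq : Nat.card (E ⧸ Subgroup.center E) = p ^ 2 := by
    rw [← Subgroup.index_eq_card]; exact hidx
  have hQ := IsPGroup.commutative_of_card_eq_prime_sq hq
  -- commutators are central
  have hcomm : ∀ a b : E, b⁻¹ * a⁻¹ * b * a ∈ Subgroup.center E := by
    intro a b
    rw [← QuotientGroup.eq_one_iff]
    simp only [QuotientGroup.mk_mul, QuotientGroup.mk_inv]
    rw [mul_assoc, hQ (b : E ⧸ Subgroup.center E) (a : E ⧸ Subgroup.center E)]
    group
  -- central elements have order dividing p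
  have hzp : ∀ z ∈ Subgroup.center E, z ^ p = 1 := by
    intro z hz
    have h1 := pow_card_eq_one' (G := Subgroup.center E) (x := ⟨z, hz⟩)
    rw [hk] at h1
    have h2 := congrArg Subtype.val h1
    simpa using h2
  -- the power formula
  have hpow : ∀ a b : E, (a * b) ^ p = a ^ p * b ^ p := by
    intro a b
    have hd := hcomm a b
    have h1 := h13_mul_pow_of_central a b (b⁻¹ * a⁻¹ * b * a)
      (fun g => (Subgroup.mem_center_iff.1 hd g).symm) (by group) p
    have hp3 : 2 < p := lt_of_le_of_ne hpp.two_le (Ne.symm hp)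
    obtain ⟨m, hm⟩ := hpp.dvd_choose_self (by norm_num : (2 : ℕ) ≠ 0) hp3
    rw [hm, pow_mul, hzp _ hd, one_pow, mul_one] at h1
    exact h1
  -- p-th powers are central
  have hpc : ∀ g : E, g ^ p ∈ Subgroup.center E := by
    intro g
    rw [Subgroup.mem_center_iff]
    intro h
    have hc := hcomm h g
    -- g⁻¹ * h⁻¹ * g * h is central
    have e1 : h⁻¹ * g * h = g * (g⁻¹ * h⁻¹ * g * h) := by group
    have e2 : (h⁻¹ * g * h) ^ p = h⁻¹ * g ^ p * h := by
      have := conj_pow (a := h⁻¹) (b := g) (i := p)
      rw [inv_inv] at this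
      exact this
    have e3 : (g * (g⁻¹ * h⁻¹ * g * h)) ^ p = g ^ p := by
      have hcm : Commute g (g⁻¹ * h⁻¹ * g * h) := (Subgroup.mem_center_iff.1 hc g)
      rw [hcm.mul_pow, hzp _ hc, mul_one]
    rw [e1, e3] at e2
    -- e2 : g ^ p = h⁻¹ * g ^ p * h
    calc h * g ^ p = h * (h⁻¹ * g ^ p * h) := by rw [← e2]
      _ = g ^ p * h := by group
  -- the power homomorphism
  let f : E →* E :=
    { toFun := fun g => g ^ p
      map_one' := one_pow p
      map_mul' := hpow }
  have hfr : f.range ≤ Subgroup.center E := by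
    rintro _ ⟨g, rfl⟩
    exact hpc g
  have hrc : Nat.card f.range = p := by
    have h1 : Nat.card f.range ∣ p := hk ▸ Subgroup.card_dvd_of_le hfr
    rcases (Nat.dvd_prime hpp).1 h1 with h | h
    · exfalso
      have hbot := Subgroup.card_eq_one.1 h
      have hxr : f x ∈ f.range := ⟨x, rfl⟩
      rw [hbot, Subgroup.mem_bot] at hxr
      exact hx hxr
    · exact h
  have hker : Nat.card f.ker = p ^ 2 := by
    have h1 : f.ker.index * Nat.card f.ker = p ^ 3 := by
      rw [← hcard]; exact Subgroup.index_mul_card _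
    rw [Subgroup.index_ker, hrc] at h1
    have h3 : Nat.card f.ker * p = p ^ 2 * p := by rw [mul_comm, h1]; ring
    exact Nat.eq_of_mul_eq_mul_right hpp.pos h3
  refine ⟨Subgroup.center E, f.ker, inferInstance, ?_, ?_, hk, hker⟩
  · rw [Subgroup.characteristic_iff_comap_le]
    intro ϕ g hg
    rw [Subgroup.mem_comap, MonoidHom.mem_ker] at hg
    rw [MonoidHom.mem_ker]
    have h1 : ϕ (g ^ p) = 1 := by
      rw [map_pow]
      exact hg
    have h2 : g ^ p = 1 := by
      have := congrArg ϕ.symm h1
      simpa using this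
    exact h2
  · intro z hz
    rw [MonoidHom.mem_ker]
    exact hzp z hz

end Cfsg.Agent.Lib.helper88.PearlF
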