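import Mathlib
import Cfsg.Agent.Lib.helper65.PearlBasic

/-! Racer copy (helper13) of piece I2 of the S5238 lemma split (helper65): `rel_dl_ph`. -/

set_option autoImplicit false

namespace Cfsg.Agent.Lib.helper65.PearlPow

open Cfsg.Agent.Lib.helper68

variable {H : Type*} [Group H]

/-- I2 (M). `dl (ph x s) n = com (com (s n) x) (dl s n) * com (dl s n) x`, so the quotient is the
conjugate of `com (ph x s n) (dl s n)` (weight `(v+1)+(v+1)`) by `ph x (dl s) n`. -/
theorem h13_rel_dl_ph {v : ℕ} (x : H) {s : ℕ → H} (hs : PolySeq v s) :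
    Rel (2 * v + 2) (ph x (dl s)) (dl (ph x s)) := by
  have hd : PolySeq (v + 1) (dl s) := PolySeq.diff hs
  have hp : PolySeq (v + 1) (ph x s) := polyseq_ph x hs
  have hc : PolySeq (v + 1 + (v + 1)) (fun n => com (ph x s n) (dl s n)) := PolySeq.comm hp hd
  have hpd : PolySeq (v + 1 + 1) (ph x (dl s)) := polyseq_ph x hd
  have hconj := polyseq_conj hc hpd
  have e : (fun n : ℕ => ((ph x (dl s)) n)⁻¹ * (dl (ph x s)) n) =
      fun n => ((ph x (dl s)) n)⁻¹ * com (ph x s n) (dl s n) * (ph x (dl s)) n := by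
    funext n
    unfold dl ph com
    group
  unfold Rel
  rw [e]
  have e2 : 2 * v + 2 = v + 1 + (v + 1) := by ring
  rw [e2]
  exact hconj

end Cfsg.Agent.Lib.helper65.PearlPow
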