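import Mathlib
import Cfsg.Agent.Lib.helper26.S4409Defs

/-! S4409, piece CL2: class 2 with central squares implies that the derived subgroup has
exponent 2. -/

set_option autoImplicit false

namespace Cfsg.Agent.Lib.helper26.S4409

variable {G : Type*} [Group G]

open scoped commutatorElement

theorem cl2 (X : Subgroup G) (h : ⁅X, X⁆ ≤ Subgroup.centralizer (X : Set G))
    (hsq : ∀ x ∈ X, x * x ∈ Subgroup.centralizer (X : Set G)) : ∀ a ∈ ⁅X, X⁆, a * a = 1 := by
  have hle : ⁅X, X⁆ ≤ X := by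
    rw [Subgroup.commutator_le]
    intro g₁ h₁ g₂ h₂
    exact X.mul_mem (X.mul_mem (X.mul_mem h₁ h₂) (X.inv_mem h₁)) (X.inv_mem h₂)
  have hcomm : ∀ a ∈ ⁅X, X⁆, ∀ b ∈ X, b * a = a * b := by
    intro a ha b hb
    exact (Subgroup.mem_centralizer_iff.mp (h ha)) b hb
  have hgen : ∀ x ∈ X, ∀ y ∈ X, ⁅x, y⁆ * ⁅x, y⁆ = 1 := by
    intro x hx y hy
    have hc : ⁅x, y⁆ ∈ ⁅X, X⁆ := Subgroup.commutator_mem_commutator hx hy
    have h1 := hcomm _ hc x hx
    have h2 := (Subgroup.mem_centralizer_iff.mp (hsq x hx)) y hy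
    have e0 : (x * x) * y * (x * x)⁻¹ * y⁻¹ = x * ⁅x, y⁆ * x⁻¹ * ⁅x, y⁆ := by
      rw [commutatorElement_def]; group
    have e1 : ⁅x, y⁆ * ⁅x, y⁆ = (x * x) * y * (x * x)⁻¹ * y⁻¹ := by
      rw [e0, h1]; group
    rw [e1, ← h2]; group
  intro a ha
  rw [Subgroup.commutator_def] at ha
  refine Subgroup.closure_induction (p := fun a _ => a * a = 1) ?_ ?_ ?_ ?_ ha
  · rintro x ⟨g₁, h₁, g₂, h₂, rfl⟩
    exact hgen g₁ h₁ g₂ h₂
  · exact one_mul 1
  · intro x y hx hy px py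
    have hx' : x ∈ ⁅X, X⁆ := by rw [Subgroup.commutator_def]; exact hx
    have hy' : y ∈ ⁅X, X⁆ := by rw [Subgroup.commutator_def]; exact hy
    have hyx : y * x = x * y := hcomm x hx' y (hle hy')
    calc x * y * (x * y) = x * (y * x) * y := by group
      _ = x * (x * y) * y := by rw [hyx]
      _ = (x * x) * (y * y) := by group
      _ = 1 := by rw [px, py, one_mul]
  · intro x hx px
    calc x⁻¹ * x⁻¹ = (x * x)⁻¹ := by group
      _ = 1 := by rw [px, inv_one]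

end Cfsg.Agent.Lib.helper26.S4409
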