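import Mathlib
import Cfsg.Agent.Lib.helper26.S4409Defs

/-!
S4409 piece MAXQ1 (racing copy by helper13): for a maximal invariant subgroup `M` of the
2-group `X`, the derived subgroup of `X` lies in `M`.
-/

set_option autoImplicit false

namespace Cfsg.Agent.Lib.helper26.S4409

variable {G : Type*} [Group G]

theorem helper13_map_conj_of_mem_normalizer (A : Subgroup G) (g : G)
    (hg : g ∈ Subgroup.normalizer (A : Set G)) :
    A.map (MulAut.conj g).toMonoidHom = A := by
  ext x
  constructor
  · rintro ⟨y, hy, rfl⟩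
    exact (Subgroup.mem_normalizer_iff.mp hg y).mp hy
  · intro hx
    refine ⟨g⁻¹ * x * g, ?_, ?_⟩
    · exact (Subgroup.mem_normalizer_iff''.mp hg x).mp hx
    · simp [MulAut.conj_apply, mul_assoc]

theorem helper13_mem_normalizer_of_map_conj (A : Subgroup G) (g : G)
    (h : A.map (MulAut.conj g).toMonoidHom = A) (h' : A.map (MulAut.conj g⁻¹).toMonoidHom = A) :
    g ∈ Subgroup.normalizer (A : Set G) := by
  rw [Subgroup.mem_normalizer_iff]
  intro x
  constructor
  · intro hx
    have : (MulAut.conj g).toMonoidHom x ∈ A.map (MulAut.conj g).toMonoidHom :=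
      Subgroup.mem_map_of_mem _ hx
    rw [h] at this
    simpa [MulAut.conj_apply] using this
  · intro hx
    have : (MulAut.conj g⁻¹).toMonoidHom (g * x * g⁻¹) ∈ A.map (MulAut.conj g⁻¹).toMonoidHom :=
      Subgroup.mem_map_of_mem _ hx
    rw [h'] at this
    simpa [MulAut.conj_apply, mul_assoc] using this

theorem helper13_normalizer_sup_comm (X M : Subgroup G) (g : G)
    (hgX : g ∈ Subgroup.normalizer (X : Set G)) (hgM : g ∈ Subgroup.normalizer (M : Set G)) :
    g ∈ Subgroup.normalizer ((M ⊔ ⁅X, X⁆ : Subgroup G) : Set G) := by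
  have hgX' : g⁻¹ ∈ Subgroup.normalizer (X : Set G) := inv_mem hgX
  have hgM' : g⁻¹ ∈ Subgroup.normalizer (M : Set G) := inv_mem hgM
  apply helper13_mem_normalizer_of_map_conj
  · rw [Subgroup.map_sup, Subgroup.map_commutator, helper13_map_conj_of_mem_normalizer M g hgM,
      helper13_map_conj_of_mem_normalizer X g hgX]
  · rw [Subgroup.map_sup, Subgroup.map_commutator, helper13_map_conj_of_mem_normalizer M g⁻¹ hgM',
      helper13_map_conj_of_mem_normalizer X g⁻¹ hgX']

theorem helper13_maxq1 [Finite G] (X H M : Subgroup G) (hX : IsPGroup 2 ↥X)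
    (hH : H ≤ Subgroup.normalizer (X : Set G)) (hMax : IsMaxInv X H M) : ⁅X, X⁆ ≤ M := by
  obtain ⟨hMX, hne, hXM, hHM, hmax⟩ := hMax
  have hcX : ⁅X, X⁆ ≤ X := by
    rw [Subgroup.commutator_le]
    intro a ha b hb
    rw [commutatorElement_def]
    exact X.mul_mem (X.mul_mem (X.mul_mem ha hb) (X.inv_mem ha)) (X.inv_mem hb)
  rcases hmax (M ⊔ ⁅X, X⁆) le_sup_left (sup_le hMX hcX)
      (fun g hg => helper13_normalizer_sup_comm X M g (Subgroup.le_normalizer hg) (hXM hg))
      (fun g hg => helper13_normalizer_sup_comm X M g (hH hg) (hHM hg)) with h | h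
  · have : ⁅X, X⁆ ≤ M ⊔ ⁅X, X⁆ := le_sup_right
    rwa [h] at this
  · exfalso
    have hM'n : (M.subgroupOf X).Normal := Subgroup.normal_subgroupOf_of_le_normalizer hXM
    have hM'top : M.subgroupOf X ≠ ⊤ := by
      intro ht
      exact hne (le_antisymm hMX (Subgroup.subgroupOf_eq_top.mp ht))
    have hf : Fact (Nat.Prime 2) := ⟨Nat.prime_two⟩
    have hnil : Group.IsNilpotent ↥X := hX.isNilpotent
    have hsol : Group.IsSolvable ↥X := inferInstance
    have hQsol : Group.IsSolvable (↥X ⧸ M.subgroupOf X) := inferInstance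
    have hQnt : Nontrivial (↥X ⧸ M.subgroupOf X) := QuotientGroup.nontrivial_iff.mpr hM'top
    have hlt : _root_.commutator (↥X ⧸ M.subgroupOf X) < ⊤ :=
      Group.IsSolvable.commutator_lt_top_of_nontrivial _
    apply hlt.ne
    have h1 : (M ⊔ ⁅X, X⁆).subgroupOf X = ⊤ := by rw [h]; exact Subgroup.subgroupOf_self X
    have h2 : (⁅X, X⁆).subgroupOf X = _root_.commutator ↥X := by
      rw [← Subgroup.map_subtype_commutator]
      exact Subgroup.comap_map_eq_self_of_injective X.subtype_injective _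
    have h3 : M.subgroupOf X ⊔ _root_.commutator ↥X = ⊤ := by
      rw [← h2, ← h1]
      exact (Subgroup.subgroupOf_sup hMX hcX).symm
    have h4 : (_root_.commutator ↥X).map (QuotientGroup.mk' (M.subgroupOf X)) = ⊤ := by
      have := congrArg (Subgroup.map (QuotientGroup.mk' (M.subgroupOf X))) h3
      rw [Subgroup.map_sup, QuotientGroup.map_mk'_self, bot_sup_eq,
        Subgroup.map_top_of_surjective _ (QuotientGroup.mk'_surjective (M.subgroupOf X))] at this
      exact this
    have h5 : (⊤ : Subgroup (↥X ⧸ M.subgroupOf X)) =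
        (⊤ : Subgroup ↥X).map (QuotientGroup.mk' (M.subgroupOf X)) :=
      (Subgroup.map_top_of_surjective _ (QuotientGroup.mk'_surjective (M.subgroupOf X))).symm
    calc _root_.commutator (↥X ⧸ M.subgroupOf X)
        = ⁅(⊤ : Subgroup (↥X ⧸ M.subgroupOf X)), ⊤⁆ := commutator_def _
      _ = ⁅(⊤ : Subgroup ↥X).map (QuotientGroup.mk' (M.subgroupOf X)),
            (⊤ : Subgroup ↥X).map (QuotientGroup.mk' (M.subgroupOf X))⁆ := by rw [← h5]
      _ = Subgroup.map (QuotientGroup.mk' (M.subgroupOf X))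
            (⁅(⊤ : Subgroup ↥X), (⊤ : Subgroup ↥X)⁆ : Subgroup ↥X) :=
          (Subgroup.map_commutator _ _ _).symm
      _ = (_root_.commutator ↥X).map (QuotientGroup.mk' (M.subgroupOf X)) := by
          rw [commutator_def]
      _ = ⊤ := h4

end Cfsg.Agent.Lib.helper26.S4409
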