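import Mathlib
import Cfsg.Agent.Lib.helper26.S4409Defs

/-! S4409, piece VFIX: an element of odd order acting nontrivially on a four-group fixes no
involution of it. -/

set_option autoImplicit false

namespace Cfsg.Agent.Lib.helper26.S4409

variable {G : Type*} [Group G]

/-- four distinct elements exhaust a subgroup of order 4 -/
theorem helper13_four (M : Subgroup G) (hcard : Nat.card ↥M = 4) (w x y z : G)
    (hw : w ∈ M) (hx : x ∈ M) (hy : y ∈ M) (hz : z ∈ M)
    (hwx : w ≠ x) (hwy : w ≠ y) (hwz : w ≠ z) (hxy : x ≠ y) (hxz : x ≠ z) (hyz : y ≠ z) :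
    ∀ t ∈ M, t = w ∨ t = x ∨ t = y ∨ t = z := by
  classical
  have hfin : Finite ↥M := Nat.finite_of_card_ne_zero (by rw [hcard]; norm_num)
  let _ : Fintype ↥M := Fintype.ofFinite _
  have hs : ({⟨w, hw⟩, ⟨x, hx⟩, ⟨y, hy⟩, ⟨z, hz⟩} : Finset ↥M) = Finset.univ := by
    apply Finset.eq_univ_of_card
    rw [← Nat.card_eq_fintype_card, hcard]
    rw [Finset.card_insert_of_notMem, Finset.card_insert_of_notMem, Finset.card_insert_of_notMem,
      Finset.card_singleton]
    · simpa using hyz
    · simp only [Finset.mem_insert, Finset.mem_singleton, Subtype.mk.injEq, not_or]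
      exact ⟨hxy, hxz⟩
    · simp only [Finset.mem_insert, Finset.mem_singleton, Subtype.mk.injEq, not_or]
      exact ⟨hwx, hwy, hwz⟩
  intro t ht
  have hmem : (⟨t, ht⟩ : ↥M) ∈ ({⟨w, hw⟩, ⟨x, hx⟩, ⟨y, hy⟩, ⟨z, hz⟩} : Finset ↥M) := by
    rw [hs]; exact Finset.mem_univ _
  simpa using hmem

theorem vfix (M : Subgroup G) (hV : IsV4 M) (g : G) (hg : g ∈ Subgroup.normalizer (M : Set G))
    (hodd : Odd (orderOf g)) (hgc : g ∉ Subgroup.centralizer (M : Set G)) (v : G) (hv : v ∈ M)
    (hv1 : v ≠ 1) (hc : g * v = v * g) : False := by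
  obtain ⟨hcard, hsq⟩ := hV
  apply hgc
  rw [Subgroup.mem_centralizer_iff]
  intro a ha
  by_contra hne
  have ha1 : a ≠ 1 := by
    rintro rfl
    exact hne (by rw [one_mul, mul_one])
  have hav : a ≠ v := by
    rintro rfl
    exact hne hc.symm
  have hvv : v * v = 1 := hsq v hv
  have hva : v * a ∈ M := M.mul_mem hv ha
  have hb : g * a * g⁻¹ ∈ M := (Subgroup.mem_normalizer_iff.mp hg a).mp ha
  have hb1 : g * a * g⁻¹ ≠ 1 := by
    intro h1
    apply ha1
    have h2 : a = g⁻¹ * (g * a * g⁻¹) * g := by group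
    rw [h2, h1]; group
  have hbv : g * a * g⁻¹ ≠ v := by
    intro h1
    apply hav
    have h2 : a = g⁻¹ * (g * a * g⁻¹) * g := by group
    rw [h2, h1, mul_assoc, ← hc]; group
  have hba : g * a * g⁻¹ ≠ a := by
    intro h1
    apply hne
    have h2 : g * a = (g * a * g⁻¹) * g := by group
    rw [h2, h1]
  have h4 := helper13_four M hcard 1 v a (v * a) M.one_mem hv ha hva (Ne.symm hv1) (Ne.symm ha1)
    (by
      intro h1
      apply hav
      have h2 : a = v⁻¹ * (v * a) := by group
      rw [h2, ← h1, mul_one]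
      exact inv_eq_of_mul_eq_one_left hvv)
    (Ne.symm hav)
    (by
      intro h1
      apply ha1
      have h2 : a = v⁻¹ * (v * a) := by group
      rw [h2, ← h1]; group)
    (by
      intro h1
      apply hv1
      have h2 : v = (v * a) * a⁻¹ := by group
      rw [h2, ← h1]; group)
    (g * a * g⁻¹) hb
  have hbva : g * a * g⁻¹ = v * a := by
    rcases h4 with h | h | h | h
    · exact absurd h hb1
    · exact absurd h hbv
    · exact absurd h hba
    · exact h
  have hgv : g * v * g⁻¹ = v := by rw [hc]; group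
  have h2 : (g * g) * a * (g * g)⁻¹ = a := by
    have e1 : (g * g) * a * (g * g)⁻¹ = g * (g * a * g⁻¹) * g⁻¹ := by group
    have e2 : g * (v * a) * g⁻¹ = (g * v * g⁻¹) * (g * a * g⁻¹) := by group
    rw [e1, hbva, e2, hgv, hbva, ← mul_assoc, hvv, one_mul]
  have hgg : g * g ∈ Subgroup.centralizer ({a} : Set G) := by
    rw [Subgroup.mem_centralizer_iff]
    intro x hx
    rw [Set.mem_singleton_iff] at hx
    subst hx
    have e3 : (g * g) * x = ((g * g) * x * (g * g)⁻¹) * (g * g) := by group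
    rw [e3, h2]
  obtain ⟨k, hk⟩ := hodd
  have hgpow : g = (g * g) ^ (k + 1) := by
    have e4 : (g * g) ^ (k + 1) = g ^ (2 * k + 1) * g := by
      rw [← pow_two, ← pow_mul, ← pow_succ]; congr 1
    rw [e4, ← hk, pow_orderOf_eq_one, one_mul]
  have hgcen : g ∈ Subgroup.centralizer ({a} : Set G) := by
    rw [hgpow]; exact Subgroup.pow_mem _ hgg _
  have h5 := (Subgroup.mem_centralizer_iff.mp hgcen) a rfl
  exact hne h5

end Cfsg.Agent.Lib.helper26.S4409
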