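import Mathlib
import Cfsg.Agent.Lib.helper44.SL3Defs
import Cfsg.Agent.Lib.helper44.PresDefs
import Cfsg.Agent.Lib.helper38.SL3MATa
import Cfsg.Agent.Lib.helper38.SL3MATw
import Cfsg.Agent.Lib.helper72.SL3MATs

/-!
# S2287, piece MATG: the relators `relsGen` hold in `SL₃(F)` at the standard matrices

Assembly of the matrix facts MATa (`mC_cube`, `mC_conj`, `mH3_conj`, `mH3_mC`), MATw (`mat_weyl`,
`mat_torus`) and MATs (`h72_mat_steinberg`, `h72_mat_r11`, the landed copy of helper72); the MATp-type facts are proved here directly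
(`helper13_mX01_add`, `helper13_mX01_pow`, `helper13_polyWord_mX01`).
The auxiliary lemmas `helper13_*` are reused by the pieces MATP and MATF.
-/

set_option autoImplicit false

namespace Cfsg.Agent.Lib.helper44.SL3

open Polynomial

theorem helper13_cm_one {G : Type*} [Group G] {a b : G} (h : Commute a b) : cm a b = 1 := by
  unfold cm
  rw [h.eq]
  group

theorem helper13_commute_of_conj {G : Type*} [Group G] {a b : G} (h : a * b * a⁻¹ = b) :
    Commute a b := by
  unfold Commute SemiconjBy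
  exact mul_inv_eq_iff_eq_mul.mp h

theorem helper13_mX01_add {F : Type*} [Field F] (a b : F) :
    mX01 F (a + b) = mX01 F a * mX01 F b :=
  Matrix.SpecialLinearGroup.transvection_add _ a b

theorem helper13_mX01_zero {F : Type*} [Field F] : mX01 F 0 = 1 :=
  Matrix.SpecialLinearGroup.transvection_coeff_zero _

theorem helper13_mX01_pow {F : Type*} [Field F] (a : F) (k : ℕ) :
    mX01 F a ^ k = mX01 F (k • a) := by
  induction k with
  | zero => rw [pow_zero, zero_smul, helper13_mX01_zero]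
  | succ k ih => rw [pow_succ, ih, ← helper13_mX01_add, succ_nsmul]

theorem helper13_mX01_comm {F : Type*} [Field F] (a b : F) :
    Commute (mX01 F a) (mX01 F b) := by
  unfold Commute SemiconjBy
  rw [← helper13_mX01_add, ← helper13_mX01_add, add_comm]

theorem helper13_h_conj {F : Type*} [Field F] (ω : Fˣ) (a : F) :
    mH3 ω * mX01 F a * (mH3 ω)⁻¹ = mX01 F ((ω : F) * a) := by
  have h := mH3_conj ω (0 : Fin 3) 1 (by decide) a
  simpa [mX01] using h

theorem helper13_hpow_conj {F : Type*} [Field F] (ω : Fˣ) (n : ℕ) (a : F) :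
    mH3 ω ^ n * mX01 F a * (mH3 ω ^ n)⁻¹ = mX01 F ((ω : F) ^ n * a) := by
  induction n with
  | zero => simp
  | succ n ih =>
    have e : mH3 ω ^ (n + 1) * mX01 F a * (mH3 ω ^ (n + 1))⁻¹ =
        mH3 ω * (mH3 ω ^ n * mX01 F a * (mH3 ω ^ n)⁻¹) * (mH3 ω)⁻¹ := by
      simp only [pow_succ', mul_inv_rev, mul_assoc]
    rw [e, ih, helper13_h_conj, pow_succ', mul_assoc]

theorem helper13_hinv_conj {F : Type*} [Field F] (ω : Fˣ) (a : F) :
    (mH3 ω)⁻¹ * mX01 F a * mH3 ω = mX01 F (((ω⁻¹ : Fˣ) : F) * a) := by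
  have h := helper13_h_conj ω (((ω⁻¹ : Fˣ) : F) * a)
  rw [← mul_assoc, Units.mul_inv, one_mul] at h
  rw [← h]
  group

theorem helper13_k'_conj {F : Type*} [Field F] (ω : Fˣ) (a : F) :
    wk' (mH3 ω) (mC F) * mX01 F a * (wk' (mH3 ω) (mC F))⁻¹ = mX01 F ((ω : F) * a) := by
  have h12 : (1 : Fin 3) ≠ 2 := by decide
  have h20 : (2 : Fin 3) ≠ 0 := by decide
  have e1 : ∀ b : F, mC F * Matrix.SpecialLinearGroup.transvection h12 b * (mC F)⁻¹ =
      Matrix.SpecialLinearGroup.transvection h20 b := fun b => mC_conj 1 2 h12 b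
  have e2 : ∀ b : F, mC F * Matrix.SpecialLinearGroup.transvection h20 b * (mC F)⁻¹ =
      mX01 F b := fun b => mC_conj 2 0 h20 b
  have e3 : ∀ b : F, mH3 ω * Matrix.SpecialLinearGroup.transvection h12 b * (mH3 ω)⁻¹ =
      Matrix.SpecialLinearGroup.transvection h12 ((ω : F) * b) := by
    intro b
    have h := mH3_conj ω (1 : Fin 3) 2 h12 b
    simpa using h
  have e4 : ∀ b : F, mX01 F b =
      mC F * mC F * Matrix.SpecialLinearGroup.transvection h12 b * (mC F * mC F)⁻¹ := by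
    intro b
    rw [← e2 b, ← e1 b]
    group
  unfold wk'
  rw [e4 a, e4 ((ω : F) * a), ← e3 a]
  group

theorem helper13_rel_comm {F : Type*} [Field F] (ω : Fˣ) :
    cm (mX01 F 1) (mH3 ω * mX01 F 1 * (mH3 ω)⁻¹) = 1 := by
  rw [helper13_h_conj]
  exact helper13_cm_one (helper13_mX01_comm _ _)

theorem helper13_rel_pow {F : Type*} [Field F] (ω : Fˣ) (j : ℕ) (hj : (ω : F) ^ j = 1 + ω) :
    mH3 ω ^ j * mX01 F 1 * (mH3 ω ^ j)⁻¹ *
      (mX01 F 1 * (mH3 ω * mX01 F 1 * (mH3 ω)⁻¹))⁻¹ = 1 := by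
  rw [helper13_hpow_conj, helper13_h_conj, ← helper13_mX01_add, mul_one, mul_one, hj]
  exact mul_inv_cancel _

theorem helper13_rel_upow {F : Type*} [Field F] (ω : Fˣ) (p : ℕ) [CharP F p] :
    mX01 F 1 ^ p * (mH3 ω * wk (mH3 ω) (mC F) * wk' (mH3 ω) (mC F))⁻¹ = 1 := by
  have h1 : mH3 ω * wk (mH3 ω) (mC F) * wk' (mH3 ω) (mC F) = 1 := (mH3_mC ω).2
  rw [h1, helper13_mX01_pow, nsmul_eq_mul, CharP.cast_eq_zero, zero_mul, helper13_mX01_zero]
  simp

theorem helper13_rel_hk {F : Type*} [Field F] (ω : Fˣ) :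
    cm (mH3 ω) (wk (mH3 ω) (mC F)) = 1 :=
  helper13_cm_one (mH3_mC ω).1

theorem helper13_rel_hk' {F : Type*} [Field F] (ω : Fˣ) :
    cm ((mH3 ω)⁻¹ * wk' (mH3 ω) (mC F)) (mX01 F 1) = 1 := by
  apply helper13_cm_one
  apply helper13_commute_of_conj
  have e : (mH3 ω)⁻¹ * wk' (mH3 ω) (mC F) * mX01 F 1 * ((mH3 ω)⁻¹ * wk' (mH3 ω) (mC F))⁻¹ =
      (mH3 ω)⁻¹ * (wk' (mH3 ω) (mC F) * mX01 F 1 * (wk' (mH3 ω) (mC F))⁻¹) * mH3 ω := by
    group
  rw [e, helper13_k'_conj, helper13_hinv_conj, ← mul_assoc, Units.inv_mul, one_mul]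

theorem helper13_polyWord_mX01 {F : Type*} [Field F] {p : ℕ} [Fact p.Prime]
    [Algebra (ZMod p) F] (ω : Fˣ) (f : (ZMod p)[X]) :
    Pres.polyWord (mH3 ω) (mX01 F 1) f = mX01 F (aeval (ω : F) f) := by
  have hp : NeZero p := ⟨(Fact.out : p.Prime).ne_zero⟩
  have key : ∀ N : ℕ, ((List.range N).map fun n =>
      (mH3 ω ^ n * mX01 F 1 * (mH3 ω ^ n)⁻¹) ^ (f.coeff n).val).prod =
      mX01 F (∑ n ∈ Finset.range N, algebraMap (ZMod p) F (f.coeff n) * (ω : F) ^ n) := by
    intro N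
    induction N with
    | zero => simp [helper13_mX01_zero]
    | succ N ih =>
      rw [List.range_succ, List.map_append, List.prod_append, ih, Finset.sum_range_succ]
      simp only [List.map_cons, List.map_nil, List.prod_cons, List.prod_nil, mul_one]
      rw [helper13_hpow_conj, helper13_mX01_pow, ← helper13_mX01_add]
      congr 2
      have h1 : algebraMap (ZMod p) F (f.coeff N) = ((f.coeff N).val : F) := by
        conv_lhs => rw [← ZMod.natCast_zmod_val (f.coeff N)]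
        rw [map_natCast]
      rw [h1, nsmul_eq_mul, mul_one]
  unfold Pres.polyWord
  rw [key, aeval_eq_sum_range]
  congr 1
  apply Finset.sum_congr rfl
  intro n _
  rw [Algebra.smul_def]

-- MATG
theorem mat_relsGen {F : Type*} [Field F] [Fintype F] {p : ℕ} [Fact p.Prime]
    [Algebra (ZMod p) F] (ω : Fˣ) (j : ℕ) (hj : (ω : F) ^ j = 1 + ω) :
    ∀ w ∈ relsGen p j (minpoly (ZMod p) (ω : F)) (mX01 F 1) (mH3 ω) (mC F) 1, w = 1 := by
  have hchar : CharP F p := charP_of_injective_algebraMap (algebraMap (ZMod p) F).injective p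
  intro w hw
  simp only [relsGen, List.mem_cons, List.mem_nil_iff, or_false] at hw
  rcases hw with rfl | rfl | rfl | rfl | rfl | rfl | rfl | rfl | rfl | rfl | rfl | rfl | rfl | rfl
  · exact helper13_rel_comm ω
  · exact helper13_rel_pow ω j hj
  · rw [helper13_polyWord_mX01, minpoly.aeval, helper13_mX01_zero]
  · exact helper13_rel_upow ω p
  · exact mC_cube
  · exact helper13_rel_hk ω
  · exact helper13_rel_hk' ω
  · exact h72_mat_steinberg.1
  · exact h72_mat_steinberg.2.1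
  · rw [h72_mat_steinberg.2.2]
    exact mul_inv_cancel _
  · exact h72_mat_r11 ω
  · exact mul_inv_eq_one.mpr (mat_torus ω)
  · exact mul_inv_eq_one.mpr mat_weyl
  · rfl

end Cfsg.Agent.Lib.helper44.SL3
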