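import Mathlib
import Cfsg.Agent.Lib.helper44.SL3Defs
import Cfsg.Agent.Lib.helper13.SL3MATG
import Cfsg.Agent.Lib.helper64.SL3MAT4

/-!
# S2287, piece MATF: the relators `relsFour` hold in `SL₃(F)` at the standard matrices
(the case `q = 4`, `ω² = ω + 1`).
-/

set_option autoImplicit false

namespace Cfsg.Agent.Lib.helper44.SL3

open Polynomial

-- MATF
theorem mat_relsFour {F : Type*} [Field F] [Fintype F] [Algebra (ZMod 2) F] (ω : Fˣ)
    (hω : (ω : F) ^ 2 = ω + 1) :
    ∀ w ∈ relsFour (mX01 F 1) (mH3 ω) (mC F) 1, w = 1 := by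
  have hchar : CharP F 2 := charP_of_injective_algebraMap (algebraMap (ZMod 2) F).injective 2
  have h4 := mat_four ω hω
  intro w hw
  simp only [relsFour, List.mem_cons, List.mem_nil_iff, or_false] at hw
  rcases hw with rfl | rfl | rfl | rfl | rfl | rfl | rfl | rfl | rfl | rfl | rfl | rfl | rfl | rfl
  · exact helper13_rel_comm ω
  · exact helper13_rel_pow ω 2 (by rw [hω, add_comm])
  · exact helper13_rel_upow ω 2
  · exact mC_cube
  · exact helper13_rel_hk ω
  · exact helper13_rel_hk' ω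
  · exact mul_inv_eq_one.mpr h4.1
  · exact h4.2.1
  · exact mul_inv_eq_one.mpr h4.2.2.1
  · rw [h72_mat_steinberg.2.2]
    exact mul_inv_cancel _
  · exact mul_inv_eq_one.mpr h4.2.2.2
  · exact mul_inv_eq_one.mpr (mat_torus ω)
  · exact mul_inv_eq_one.mpr mat_weyl
  · rfl

end Cfsg.Agent.Lib.helper44.SL3
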