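import Mathlib
import Cfsg.Agent.Lib.helper44.SL3Defs
import Cfsg.Agent.Lib.helper13.SL3MATG

/-!
# S2287, piece MATP: the relators `relsPrime` hold in `SL₃(F)` at the standard matrices
(prime field case: `h = 1`).
-/

set_option autoImplicit false

namespace Cfsg.Agent.Lib.helper44.SL3

open Polynomial

-- MATP
theorem mat_relsPrime {F : Type*} [Field F] [Fintype F] {p : ℕ} [Fact p.Prime]
    [Algebra (ZMod p) F] :
    ∀ w ∈ relsPrime p (mX01 F 1) (1 : Matrix.SpecialLinearGroup (Fin 3) F) (mC F) 1, w = 1 := by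
  have hchar : CharP F p := charP_of_injective_algebraMap (algebraMap (ZMod p) F).injective p
  intro w hw
  simp only [relsPrime, List.mem_cons, List.mem_nil_iff, or_false] at hw
  rcases hw with rfl | rfl | rfl | rfl | rfl | rfl | rfl | rfl
  · rw [helper13_mX01_pow, nsmul_eq_mul, CharP.cast_eq_zero, zero_mul, helper13_mX01_zero]
  · rfl
  · rfl
  · exact mC_cube
  · exact h72_mat_steinberg.1
  · exact h72_mat_steinberg.2.1
  · rw [h72_mat_steinberg.2.2]
    exact mul_inv_cancel _
  · exact mul_inv_eq_one.mpr mat_weyl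

end Cfsg.Agent.Lib.helper44.SL3
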