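import Mathlib
import Cfsg.Agent.Lib.helper49.SPEDefs

/-!
S2333 piece ECOUNT (racing copy by helper13): a lower bound for the number of independent pairs.
-/

set_option autoImplicit false

namespace Cfsg.Agent.Lib.helper49.SPE

open Matrix

theorem h13_indep_of_ne {F : Type*} [Field F] {n : ℕ} (u v : Fin n → F) (hu : u ≠ 0)
    (hv : ∀ κ : F, v ≠ κ • u) : Indep u v := by
  intro s t h
  have ht : t = 0 := by
    by_contra ht
    apply hv (-(t⁻¹ * s))
    have h1 : t • v = -(s • u) := by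
      rw [eq_neg_iff_add_eq_zero, add_comm]; exact h
    calc v = t⁻¹ • (t • v) := by rw [smul_smul, inv_mul_cancel₀ ht, one_smul]
      _ = t⁻¹ • (-(s • u)) := by rw [h1]
      _ = (-(t⁻¹ * s)) • u := by rw [smul_neg, smul_smul, neg_smul]
  subst ht
  rw [zero_smul, add_zero] at h
  rcases smul_eq_zero.mp h with h | h
  · exact ⟨h, rfl⟩
  · exact absurd h hu

theorem h13_card_indep {F : Type*} [Field F] [Fintype F] {n : ℕ} :
    (Fintype.card F ^ n - 1) * (Fintype.card F ^ n - Fintype.card F) ≤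
      Nat.card {p : (Fin n → F) × (Fin n → F) // Indep p.1 p.2} := by
  classical
  have hV : Fintype.card (Fin n → F) = Fintype.card F ^ n := by
    rw [Fintype.card_fun, Fintype.card_fin]
  let φ : (Σ u : {u : Fin n → F // u ≠ 0}, {v : Fin n → F // ∀ κ : F, v ≠ κ • u.1}) →
      {p : (Fin n → F) × (Fin n → F) // Indep p.1 p.2} :=
    fun x => ⟨(x.1.1, x.2.1), h13_indep_of_ne x.1.1 x.2.1 x.1.2 x.2.2⟩
  have hφ : Function.Injective φ := by
    rintro ⟨⟨u, hu⟩, ⟨v, hv⟩⟩ ⟨⟨u', hu'⟩, ⟨v', hv'⟩⟩ h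
    simp only [φ, Subtype.mk.injEq, Prod.mk.injEq] at h
    obtain ⟨rfl, rfl⟩ := h
    rfl
  have h1 := Nat.card_le_card_of_injective φ hφ
  refine le_trans ?_ h1
  rw [Nat.card_sigma]
  have h2 : ∀ u : {u : Fin n → F // u ≠ 0},
      Fintype.card F ^ n - Fintype.card F ≤
        Nat.card {v : Fin n → F // ∀ κ : F, v ≠ κ • u.1} := by
    intro u
    rw [Nat.card_eq_fintype_card, Fintype.card_subtype]
    have h3 : (Finset.univ.filter (fun v : Fin n → F => ∀ κ : F, v ≠ κ • u.1)) =
        Finset.univ \ (Finset.univ.image (fun κ : F => κ • u.1)) := by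
      ext v
      simp [eq_comm]
    rw [h3, Finset.card_univ_sdiff, hV]
    exact Nat.sub_le_sub_left (le_trans Finset.card_image_le (le_of_eq Finset.card_univ)) _
  have h4 : Fintype.card {u : Fin n → F // u ≠ 0} = Fintype.card F ^ n - 1 := by
    rw [Fintype.card_subtype, Finset.filter_ne' , Finset.card_erase_of_mem (Finset.mem_univ _),
      Finset.card_univ, hV]
  calc (Fintype.card F ^ n - 1) * (Fintype.card F ^ n - Fintype.card F)
      = ∑ _u : {u : Fin n → F // u ≠ 0}, (Fintype.card F ^ n - Fintype.card F) := by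
        rw [Finset.sum_const, Finset.card_univ, smul_eq_mul, h4]
    _ ≤ _ := Finset.sum_le_sum (fun u _ => h2 u)

end Cfsg.Agent.Lib.helper49.SPE
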