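import Mathlib
import Cfsg.Prelude.Def_Classical
import Cfsg.Prelude.Def_GeometricClasses
import Cfsg.Agent.Lib.helper53.SfoBINREP

/-!
S5977 block A, piece KAPPAJ (racing copy by helper13): a self-adjoint square root of `δ`
anticommuting with an isometry `x` with `x * x = -1`, from an adapted orthogonal basis.
-/

set_option autoImplicit false

namespace Cfsg.Agent.Lib.helper59.Sfk

open Matrix Cfsg.Geo

theorem h13_polar_isom {F : Type*} [Field F] {ι : Type} [Fintype ι] [DecidableEq ι]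
    (Q : QuadraticForm F (ι → F)) (x : GL ι F) (hx : x ∈ Cfsg.isometryGroup F (⇑Q))
    (u v : ι → F) :
    QuadraticMap.polar (⇑Q) ((x : Matrix ι ι F) *ᵥ u) ((x : Matrix ι ι F) *ᵥ v) =
      QuadraticMap.polar (⇑Q) u v := by
  have h1 : ∀ w : ι → F, Q ((x : Matrix ι ι F) *ᵥ w) = Q w := fun w => hx w w
  unfold QuadraticMap.polar
  rw [← Matrix.mulVec_add, h1, h1, h1]

/-- KAPPAJ (L): a self-adjoint square root of `δ` anticommuting with `x`:
`κ' e_i = α e_i + β x e_i`, `κ' (x e_i) = β e_i - α x e_i`, `α² + β² = δ`. -/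
theorem h13_sfk_kappa_neg {F : Type*} [Field F] [Fintype F] {ι : Type} [Fintype ι] [DecidableEq ι]
    (h2 : (2 : F) ≠ 0) (Q : QuadraticForm F (ι → F))
    (hQ : (QuadraticMap.polarBilin Q).Nondegenerate) (δ : F)
    (x : GL ι F) (hx : x ∈ Cfsg.isometryGroup F (⇑Q))
    (hxx : (x : Matrix ι ι F) * (x : Matrix ι ι F) = -1)
    (m : ℕ) (e : Fin m → (ι → F))
    (hli : LinearIndependent F (Sum.elim e (fun i => (x : Matrix ι ι F) *ᵥ e i)))
    (hcard : Fintype.card ι = 2 * m)
    (ho1 : ∀ i j, i ≠ j → QuadraticMap.polar (⇑Q) (e i) (e j) = 0)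
    (ho2 : ∀ i j, QuadraticMap.polar (⇑Q) (e i) ((x : Matrix ι ι F) *ᵥ e j) = 0)
    (hne : ∀ i, Q (e i) ≠ 0) :
    ∃ (κ' : Matrix ι ι F) (α β : F), κ' * κ' = δ • (1 : Matrix ι ι F) ∧
      (∀ u v : ι → F, QuadraticMap.polar (⇑Q) (κ' *ᵥ u) v = QuadraticMap.polar (⇑Q) u (κ' *ᵥ v)) ∧
      (x : Matrix ι ι F) * κ' = -(κ' * (x : Matrix ι ι F)) ∧
      ∀ i, κ' *ᵥ e i = α • e i + β • ((x : Matrix ι ι F) *ᵥ e i) := by
  classical
  obtain ⟨α, β, hαβ⟩ := Cfsg.Agent.Lib.helper24.sfo_bin_rep h2 (1 : F) 1 δ one_ne_zero one_ne_zero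
  have hαβ' : α * α + β * β = δ := by
    rw [← hαβ]; ring
  -- the basis
  have hc : Fintype.card (Fin m ⊕ Fin m) = Module.finrank F (ι → F) := by
    rw [Module.finrank_fintype_fun_eq_card, Fintype.card_sum, Fintype.card_fin, hcard]
    ring
  have hsp : Submodule.span F (Set.range (Sum.elim e (fun i => (x : Matrix ι ι F) *ᵥ e i))) = ⊤ :=
    hli.span_eq_top_of_card_eq_finrank' hc
  let bas : Module.Basis (Fin m ⊕ Fin m) F (ι → F) := Module.Basis.mk hli (by rw [hsp])
  have hb1 : ∀ i, bas (Sum.inl i) = e i := by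
    intro i
    simp only [bas, Module.Basis.mk_apply, Sum.elim_inl]
  have hb2 : ∀ i, bas (Sum.inr i) = (x : Matrix ι ι F) *ᵥ e i := by
    intro i
    simp only [bas, Module.Basis.mk_apply, Sum.elim_inr]
  let xl : (ι → F) →ₗ[F] (ι → F) := Matrix.toLin' (x : Matrix ι ι F)
  have hxl : ∀ v, xl v = (x : Matrix ι ι F) *ᵥ v := fun v => Matrix.toLin'_apply _ v
  have hxx' : ∀ v, (x : Matrix ι ι F) *ᵥ ((x : Matrix ι ι F) *ᵥ v) = -v := by
    intro v
    rw [Matrix.mulVec_mulVec, hxx, Matrix.neg_mulVec, Matrix.one_mulVec]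
  let kl : (ι → F) →ₗ[F] (ι → F) :=
    bas.constr F (Sum.elim (fun i => α • e i + β • ((x : Matrix ι ι F) *ᵥ e i))
      (fun i => β • e i - α • ((x : Matrix ι ι F) *ᵥ e i)))
  have hk1 : ∀ i, kl (e i) = α • e i + β • ((x : Matrix ι ι F) *ᵥ e i) := by
    intro i
    rw [← hb1 i]
    simp only [kl, Module.Basis.constr_basis, Sum.elim_inl]
    rw [hb1 i]
  have hk2 : ∀ i, kl ((x : Matrix ι ι F) *ᵥ e i) =
      β • e i - α • ((x : Matrix ι ι F) *ᵥ e i) := by
    intro i
    rw [← hb2 i]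
    simp only [kl, Module.Basis.constr_basis, Sum.elim_inr]
    rw [hb2 i]
  have hkmul : ∀ v, (LinearMap.toMatrix' kl) *ᵥ v = kl v := by
    intro v
    rw [← Matrix.toLin'_apply, Matrix.toLin'_toMatrix']
  -- Gram facts
  have hpc : ∀ u v : ι → F, QuadraticMap.polar (⇑Q) u v = QuadraticMap.polar (⇑Q) v u :=
    fun u v => QuadraticMap.polar_comm _ _ _
  have hg1 : ∀ i j, QuadraticMap.polar (⇑Q) ((x : Matrix ι ι F) *ᵥ e i) (e j) = 0 := by
    intro i j
    rw [hpc]
    exact ho2 j i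
  have hg2 : ∀ i j, QuadraticMap.polar (⇑Q) ((x : Matrix ι ι F) *ᵥ e i)
      ((x : Matrix ι ι F) *ᵥ e j) = QuadraticMap.polar (⇑Q) (e i) (e j) :=
    fun i j => h13_polar_isom Q x hx _ _
  refine ⟨LinearMap.toMatrix' kl, α, β, ?_, ?_, ?_, ?_⟩
  · -- square
    have h : kl ∘ₗ kl = δ • LinearMap.id := by
      apply bas.ext
      rintro (i | i)
      · rw [hb1, LinearMap.comp_apply, hk1, map_add, map_smul, map_smul, hk1, hk2]
        simp only [LinearMap.smul_apply, LinearMap.id_apply]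
        rw [← hαβ']
        module
      · rw [hb2, LinearMap.comp_apply, hk2, map_sub, map_smul, map_smul, hk1, hk2]
        simp only [LinearMap.smul_apply, LinearMap.id_apply]
        rw [← hαβ']
        module
    rw [← LinearMap.toMatrix'_comp, h, map_smul, LinearMap.toMatrix'_id]
  · -- self-adjoint
    intro u v
    rw [hkmul, hkmul]
    let B := QuadraticMap.polarBilin Q
    have hB : ∀ u v : ι → F, B u v = QuadraticMap.polar (⇑Q) u v := fun u v => rfl
    have h : B ∘ₗ kl = B.compl₂ kl := by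
      apply LinearMap.ext_basis bas bas
      rintro (i | i) (j | j) <;>
      (simp only [LinearMap.comp_apply, LinearMap.compl₂_apply, hb1, hb2, hk1, hk2, hB,
          QuadraticMap.polar_add_left, QuadraticMap.polar_add_right,
          QuadraticMap.polar_smul_left, QuadraticMap.polar_smul_right,
          QuadraticMap.polar_sub_left, QuadraticMap.polar_sub_right, hg1, hg2, ho2, smul_eq_mul]
       try ring)
    have h' := congrArg (fun f => f u v) h
    simpa [hB] using h'
  · -- anticommutes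
    have h : xl ∘ₗ kl = -(kl ∘ₗ xl) := by
      apply bas.ext
      rintro (i | i)
      · rw [hb1, LinearMap.comp_apply, LinearMap.neg_apply, LinearMap.comp_apply, hxl, hxl, hk1,
          hk2, Matrix.mulVec_add, Matrix.mulVec_smul, Matrix.mulVec_smul, hxx']
        module
      · rw [hb2, LinearMap.comp_apply, LinearMap.neg_apply, LinearMap.comp_apply, hxl, hxl, hk2,
          hxx', map_neg, hk1, Matrix.mulVec_sub, Matrix.mulVec_smul, Matrix.mulVec_smul, hxx']
        module
    have h3 : LinearMap.toMatrix' (xl ∘ₗ kl) = LinearMap.toMatrix' (-(kl ∘ₗ xl)) := by rw [h]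
    rw [LinearMap.toMatrix'_comp, map_neg, LinearMap.toMatrix'_comp] at h3
    simpa [xl] using h3
  · intro i
    rw [hkmul, hk1]

end Cfsg.Agent.Lib.helper59.Sfk
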