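import Mathlib
import Cfsg.Agent.Lib.helper24.SfoDefs

/-! S5981, piece OFREE (racing copy): a similarity of prime order `r ∤ q - 1` without nonzero
fixed vectors acts freely on the vectors of value one. -/

set_option autoImplicit false

namespace Cfsg.Agent.Lib.helper24

open Module Matrix Cfsg.Geo

/-- PIECE OFREE (racing copy). -/
theorem h13_sfo_free_count {F : Type*} [Field F] [Fintype F] {n : ℕ} (h2 : (2 : F) ≠ 0)
    (Q : (Fin n → F) → F) (hQ : IsNondegenerateQuadraticForm Q) (r : ℕ) [Fact r.Prime]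
    (hrF : (r : F) ≠ 0) (hnd : ¬ r ∣ Fintype.card F - 1) (g : GL (Fin n) F)
    (hg : g ∈ quadSimilarityGroup Q) (hgr : (g : Matrix (Fin n) (Fin n) F) ^ r = 1)
    (hker : LinearMap.ker (Matrix.toLin' (g : Matrix (Fin n) (Fin n) F) - 1) = ⊥) :
    r ∣ sfoCount Q 1 := by
  classical
  have hr : r.Prime := Fact.out
  unfold sfoCount
  by_cases hex : ∃ v₀ : Fin n → F, Q v₀ = 1
  swap
  · have hemp : IsEmpty {v : Fin n → F // Q v = 1} := ⟨fun v => hex ⟨v.1, v.2⟩⟩
    rw [Nat.card_of_isEmpty]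
    exact dvd_zero r
  obtain ⟨v₀, hv₀⟩ := hex
  obtain ⟨c, hc⟩ := hg
  have hQ0 : Q 0 = 0 := by
    have h := hQ.smul 0 0
    simpa using h
  have hpow : ∀ (k : ℕ) (v : Fin n → F),
      Q (((g : Matrix (Fin n) (Fin n) F) ^ k) *ᵥ v) = (c : F) ^ k * Q v := by
    intro k
    induction k with
    | zero => intro v; simp
    | succ k ih =>
      intro v
      rw [pow_succ', ← Matrix.mulVec_mulVec, hc, ih, pow_succ']
      ring
  have hcr : (c : F) ^ r = 1 := by
    have h := hpow r v₀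
    rw [hgr, Matrix.one_mulVec, hv₀, mul_one] at h
    exact h.symm
  have hc1 : c = 1 := by
    have hcr' : c ^ r = 1 := Units.ext (by rw [Units.val_pow_eq_pow_val, hcr]; rfl)
    have hord : orderOf c ∣ r := orderOf_dvd_of_pow_eq_one hcr'
    have hcard : orderOf c ∣ Fintype.card F - 1 := by
      rw [← Fintype.card_units]; exact orderOf_dvd_card
    rcases (Nat.dvd_prime hr).1 hord with h1 | h1
    · exact orderOf_eq_one_iff.mp h1
    · exact absurd (h1 ▸ hcard) hnd
  have hiso : g ∈ sfoIsom Q := by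
    intro v
    rw [hc, hc1, Units.val_one, one_mul]
  have hle : Subgroup.zpowers g ≤ sfoIsom Q := (Subgroup.zpowers_le).mpr hiso
  have hgr' : g ^ r = 1 := Units.ext (by rw [Units.val_pow_eq_pow_val, hgr]; rfl)
  have hP : IsPGroup r ↥(Subgroup.zpowers g) := by
    rintro ⟨h, hh⟩
    obtain ⟨z, rfl⟩ := Subgroup.mem_zpowers_iff.mp hh
    refine ⟨1, Subtype.ext ?_⟩
    show (g ^ z) ^ r ^ 1 = 1
    rw [pow_one, ← _root_.zpow_natCast, ← _root_.zpow_mul, mul_comm, _root_.zpow_mul,
      _root_.zpow_natCast, hgr', _root_.one_zpow]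
  let act : MulAction ↥(Subgroup.zpowers g) {v : Fin n → F // Q v = 1} :=
    { smul := fun h v => ⟨((h : GL (Fin n) F) : Matrix (Fin n) (Fin n) F) *ᵥ (v : Fin n → F), by
        rw [hle h.2 v]; exact v.2⟩
      one_smul := fun v => Subtype.ext (by
        show (((1 : ↥(Subgroup.zpowers g)) : GL (Fin n) F) : Matrix (Fin n) (Fin n) F) *ᵥ
          (v : Fin n → F) = v
        rw [Subgroup.coe_one, Units.val_one, Matrix.one_mulVec])
      mul_smul := fun a b v => Subtype.ext (by
        show (((a * b : ↥(Subgroup.zpowers g)) : GL (Fin n) F) : Matrix (Fin n) (Fin n) F) *ᵥ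
          (v : Fin n → F) = ((a : GL (Fin n) F) : Matrix (Fin n) (Fin n) F) *ᵥ
            (((b : GL (Fin n) F) : Matrix (Fin n) (Fin n) F) *ᵥ (v : Fin n → F))
        rw [Subgroup.coe_mul, Units.val_mul, Matrix.mulVec_mulVec]) }
  have hmod := hP.card_modEq_card_fixedPoints {v : Fin n → F // Q v = 1}
  have hemp : IsEmpty ↥(MulAction.fixedPoints ↥(Subgroup.zpowers g) {v : Fin n → F // Q v = 1}) := by
    refine ⟨fun x => ?_⟩
    obtain ⟨v, hv⟩ := x
    have h1 := hv ⟨g, Subgroup.mem_zpowers g⟩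
    have h2' : (g : Matrix (Fin n) (Fin n) F) *ᵥ (v : Fin n → F) = v := congrArg Subtype.val h1
    have h3 : (v : Fin n → F) ∈
        LinearMap.ker (Matrix.toLin' (g : Matrix (Fin n) (Fin n) F) - 1) := by
      rw [LinearMap.mem_ker, LinearMap.sub_apply, Matrix.toLin'_apply, h2']
      simp
    rw [hker, Submodule.mem_bot] at h3
    have h4 := v.2
    rw [h3, hQ0] at h4
    exact zero_ne_one h4
  have h0 : Nat.card ↥(MulAction.fixedPoints ↥(Subgroup.zpowers g) {v : Fin n → F // Q v = 1})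
      = 0 := Nat.card_of_isEmpty
  rw [h0] at hmod
  exact (Nat.modEq_zero_iff_dvd).mp hmod

end Cfsg.Agent.Lib.helper24
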