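import Mathlib
import Cfsg.Agent.Lib.helper24.SfoDefs

/-! S5981, piece OTRANS (racing copy): the isometry group of a nondegenerate quadratic form is
transitive on the vectors of a given nonzero value (reflections). -/

set_option autoImplicit false

namespace Cfsg.Agent.Lib.helper24

open Module Matrix Cfsg.Geo

/-- The reflection in an anisotropic vector, as an isometry. -/
theorem h13_sfo_refl {F : Type*} [Field F] {n : ℕ}
    (Q : (Fin n → F) → F) (hQ : IsNondegenerateQuadraticForm Q) (u : Fin n → F) (hu : Q u ≠ 0) :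
    ∃ g ∈ sfoIsom Q, ∀ x : Fin n → F, (g : Matrix (Fin n) (Fin n) F) *ᵥ x =
      x - (QuadraticMap.polar Q x u / Q u) • u := by
  classical
  have hB := hQ.polar_bilinear
  have hpol : ∀ a b : Fin n → F, Q (a + b) = Q a + Q b + QuadraticMap.polar Q a b := by
    intro a b; unfold QuadraticMap.polar; ring
  have hBvv : ∀ a : Fin n → F, QuadraticMap.polar Q a a = 2 * Q a := by
    intro a
    have h := hQ.smul 2 a
    rw [two_smul] at h
    unfold QuadraticMap.polar; rw [h]; ring
  let L : (Fin n → F) →ₗ[F] (Fin n → F) :=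
    { toFun := fun x => x - (QuadraticMap.polar Q x u / Q u) • u
      map_add' := fun x y => by
        rw [hB.add_left, add_div, add_smul]; abel
      map_smul' := fun c x => by
        simp only [RingHom.id_apply]
        rw [hB.smul_left, smul_sub, smul_smul, mul_div_assoc] }
  have hL : ∀ x, L x = x - (QuadraticMap.polar Q x u / Q u) • u := fun x => rfl
  have hLL : ∀ x, L (L x) = x := by
    intro x
    rw [hL (L x), hL x]
    have e1 : x - (QuadraticMap.polar Q x u / Q u) • u =
        x + (-(QuadraticMap.polar Q x u / Q u)) • u := by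
      rw [neg_smul, sub_eq_add_neg]
    have e2 : QuadraticMap.polar Q (x - (QuadraticMap.polar Q x u / Q u) • u) u =
        - QuadraticMap.polar Q x u := by
      rw [e1, hB.add_left, hB.smul_left, hBvv]
      field_simp
      ring
    rw [e2, neg_div, neg_smul]; abel
  have hMM : LinearMap.toMatrix' L * LinearMap.toMatrix' L = 1 := by
    rw [← LinearMap.toMatrix'_comp, ← LinearMap.toMatrix'_id]
    congr 1
    apply LinearMap.ext
    intro x
    exact hLL x
  refine ⟨⟨LinearMap.toMatrix' L, LinearMap.toMatrix' L, hMM, hMM⟩, ?_, ?_⟩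
  · intro x
    show Q ((LinearMap.toMatrix' L) *ᵥ x) = Q x
    rw [LinearMap.toMatrix'_mulVec, hL]
    have e1 : x - (QuadraticMap.polar Q x u / Q u) • u =
        x + (-(QuadraticMap.polar Q x u / Q u)) • u := by
      rw [neg_smul, sub_eq_add_neg]
    rw [e1, hpol, hQ.smul, hB.smul_right]
    field_simp
    ring
  · intro x
    show (LinearMap.toMatrix' L) *ᵥ x = _
    rw [LinearMap.toMatrix'_mulVec, hL]

/-- PIECE OTRANS (racing copy). -/
theorem h13_sfo_isom_transitive {F : Type*} [Field F] {n : ℕ} (h2 : (2 : F) ≠ 0)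
    (Q : (Fin n → F) → F) (hQ : IsNondegenerateQuadraticForm Q) (v w : Fin n → F)
    (hvw : Q v = Q w) (hv : Q v ≠ 0) :
    ∃ g ∈ sfoIsom Q, (g : Matrix (Fin n) (Fin n) F) *ᵥ v = w := by
  classical
  have hB := hQ.polar_bilinear
  have hpol : ∀ a b : Fin n → F, Q (a + b) = Q a + Q b + QuadraticMap.polar Q a b := by
    intro a b; unfold QuadraticMap.polar; ring
  have hBvv : ∀ a : Fin n → F, QuadraticMap.polar Q a a = 2 * Q a := by
    intro a
    have h := hQ.smul 2 a
    rw [two_smul] at h
    unfold QuadraticMap.polar; rw [h]; ring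
  have hw : Q w ≠ 0 := hvw ▸ hv
  have e1 : v - w = v + (-1 : F) • w := by rw [neg_one_smul, sub_eq_add_neg]
  have hQsub : Q (v - w) = 2 * Q v - QuadraticMap.polar Q v w := by
    rw [e1, hpol, hQ.smul, hB.smul_right, ← hvw]; ring
  have hBsub : QuadraticMap.polar Q v (v - w) = 2 * Q v - QuadraticMap.polar Q v w := by
    rw [e1, hB.add_right, hB.smul_right, hBvv]; ring
  by_cases hc : Q (v - w) = 0
  · have hBvw : QuadraticMap.polar Q v w = 2 * Q v := by
      rw [hQsub] at hc; linear_combination -hc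
    have hQadd : Q (v + w) = 4 * Q v := by
      rw [hpol, hBvw, ← hvw]; ring
    have hBadd : QuadraticMap.polar Q v (v + w) = 4 * Q v := by
      rw [hB.add_right, hBvv, hBvw]; ring
    have h4 : (4 : F) ≠ 0 := by
      have h22 : (4 : F) = 2 * 2 := by norm_num
      rw [h22]; exact mul_ne_zero h2 h2
    have hne1 : Q (v + w) ≠ 0 := by rw [hQadd]; exact mul_ne_zero h4 hv
    obtain ⟨g1, hg1, hg1x⟩ := h13_sfo_refl Q hQ (v + w) hne1
    obtain ⟨g2, hg2, hg2x⟩ := h13_sfo_refl Q hQ w hw
    refine ⟨g2 * g1, (sfoIsom Q).mul_mem hg2 hg1, ?_⟩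
    rw [Units.val_mul, ← Matrix.mulVec_mulVec, hg1x]
    have hc1 : QuadraticMap.polar Q v (v + w) / Q (v + w) = 1 := by
      rw [hBadd, hQadd]; exact div_self (mul_ne_zero h4 hv)
    have e3 : v - (1 : F) • (v + w) = (-1 : F) • w := by
      rw [one_smul, neg_one_smul]; abel
    rw [hc1, e3, hg2x, hB.smul_left, hBvv]
    have hc2 : -1 * (2 * Q w) / Q w = -2 := by
      field_simp
    rw [hc2, neg_one_smul, neg_smul, two_smul]; abel
  · obtain ⟨g, hg, hgx⟩ := h13_sfo_refl Q hQ (v - w) hc
    refine ⟨g, hg, ?_⟩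
    have hc1 : QuadraticMap.polar Q v (v - w) / Q (v - w) = 1 := by
      rw [hBsub, ← hQsub]; exact div_self hc
    rw [hgx, hc1, one_smul]; abel

end Cfsg.Agent.Lib.helper24
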