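import Mathlib
import Cfsg.Agent.Lib.helper24.SfuDefs
import Cfsg.Agent.Lib.helper46.SfuONB
import Cfsg.Agent.Lib.helper9.SfuSESQ

/-! S5982, piece DETN (racing copy): the determinant of an isometry of a unitary form has
norm one. -/

set_option autoImplicit false

namespace Cfsg.Agent.Lib.helper24

open Module Matrix Cfsg.Geo

/-- PIECE DETN (racing copy). -/
theorem h13_sfu_det_norm {F : Type*} [Field F] [Fintype F] {n : ℕ} (q₀ : ℕ)
    (hcard : Fintype.card F = q₀ ^ 2) (f : (Fin n → F) → (Fin n → F) → F)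
    (hf : IsUnitaryFormPow q₀ f) (g : GL (Fin n) F) (hg : g ∈ sfuIsom f) :
    (g : Matrix (Fin n) (Fin n) F).det ^ (q₀ + 1) = 1 := by
  classical
  rcases Nat.eq_zero_or_pos n with hn0 | hnpos
  · subst hn0
    rw [Matrix.det_isEmpty, one_pow]
  have hne : Nonempty (Fin n) := ⟨⟨0, hnpos⟩⟩
  obtain ⟨hadd_r, hsmul_r, -, hinv, hadd⟩ := sfu_sesq q₀ hcard f hf
  obtain ⟨e, hli, he⟩ := sfu_onb q₀ hcard f hf
  have hq0 : q₀ ≠ 0 := by
    rintro rfl
    have hpos : 0 < Fintype.card F := Fintype.card_pos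
    rw [hcard] at hpos
    simp at hpos
  have hzero_l : ∀ x, f 0 x = 0 := by
    intro x
    have h := hf.smul_left 0 0 x
    simpa using h
  have hzero_r : ∀ x, f x 0 = 0 := by
    intro x
    rw [hf.herm, hzero_l, zero_pow hq0]
  have hsum_l : ∀ (c : Fin n → F) (w : Fin n → (Fin n → F)) (x : Fin n → F)
      (s : Finset (Fin n)), f (∑ j ∈ s, c j • w j) x = ∑ j ∈ s, c j * f (w j) x := by
    intro c w x s
    induction s using Finset.induction_on with
    | empty => simp [hzero_l]
    | insert a s ha ih =>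
      rw [Finset.sum_insert ha, Finset.sum_insert ha, hf.add_left, hf.smul_left, ih]
  have hsum_r : ∀ (c : Fin n → F) (w : Fin n → (Fin n → F)) (x : Fin n → F)
      (s : Finset (Fin n)), f x (∑ j ∈ s, c j • w j) = ∑ j ∈ s, c j ^ q₀ * f x (w j) := by
    intro c w x s
    induction s using Finset.induction_on with
    | empty => simp [hzero_r]
    | insert a s ha ih =>
      rw [Finset.sum_insert ha, Finset.sum_insert ha, hadd_r, hsmul_r, ih]
  obtain ⟨φ, hφ⟩ : ∃ φ : F →+* F, ∀ x, φ x = x ^ q₀ :=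
    ⟨{ toFun := fun x => x ^ q₀
       map_one' := one_pow _
       map_mul' := fun a b => mul_pow a b q₀
       map_zero' := zero_pow hq0
       map_add' := hadd }, fun x => rfl⟩
  obtain ⟨b, hb⟩ : ∃ b : Basis (Fin n) F (Fin n → F), ∀ i, b i = e i :=
    ⟨basisOfLinearIndependentOfCardEqFinrank hli (by simp), fun i => by simp⟩
  obtain ⟨M, hMdef⟩ : ∃ M : Matrix (Fin n) (Fin n) F,
      M = LinearMap.toMatrix b b (Matrix.toLin' (g : Matrix (Fin n) (Fin n) F)) := ⟨_, rfl⟩
  have hM : ∀ j, (g : Matrix (Fin n) (Fin n) F) *ᵥ e j = ∑ i, M i j • e i := by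
    intro j
    have h := b.sum_repr ((g : Matrix (Fin n) (Fin n) F) *ᵥ e j)
    rw [← h]
    apply Finset.sum_congr rfl
    intro i _
    rw [hMdef, LinearMap.toMatrix_apply, Matrix.toLin'_apply, hb, hb]
  have hgram : M.transpose * M.map φ = 1 := by
    ext i j
    rw [Matrix.mul_apply]
    have h1 := hg (e i) (e j)
    rw [hM i, hM j, hsum_l] at h1
    simp only [hsum_r, he] at h1
    rw [Matrix.one_apply, ← h1]
    apply Finset.sum_congr rfl
    intro k _
    simp [hφ]
  have hdet : M.det = (g : Matrix (Fin n) (Fin n) F).det := by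
    rw [hMdef, LinearMap.det_toMatrix, LinearMap.det_toLin']
  have h2 := congrArg Matrix.det hgram
  rw [Matrix.det_mul, Matrix.det_transpose, Matrix.det_one] at h2
  have h3 : (M.map φ).det = M.det ^ q₀ := by
    have h4 := RingHom.map_det φ M
    rw [RingHom.mapMatrix_apply, hφ] at h4
    exact h4.symm
  rw [h3, hdet] at h2
  rw [pow_succ, mul_comm]; exact h2

end Cfsg.Agent.Lib.helper24
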