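import Mathlib
import Cfsg.Agent.Lib.helper24.SroDefs

/-! S5989 split, PIECE EMB: nondegenerate subspaces of dimension at least two are universal,
gluing of an orthogonal sum `N ⊥ ⟨v⟩` onto an odd-dimensional nondegenerate space, and isometric
embedding of an odd-dimensional nondegenerate space in any larger nondegenerate subspace. -/

set_option autoImplicit false
set_option linter.unusedSectionVars false
set_option linter.unusedVariables false

namespace Cfsg.Agent.Lib.helper24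

open Module Cfsg.Agent.Lib.helper45 Cfsg.Agent.Lib.helper49

universe u

section sroemb

variable {F : Type u} [Field F] [Fintype F]

/-- Two injective parametrisations with matching values of the forms give an isometry of the
ranges. -/
theorem sro_iso_of_param {V V₀ P : Type u} [AddCommGroup V] [Module F V] [AddCommGroup V₀]
    [Module F V₀] [AddCommGroup P] [Module F P]
    (Q : QuadraticForm F V) (Q₀ : QuadraticForm F V₀) (W : Submodule F V) (W₀ : Submodule F V₀)
    (g : P →ₗ[F] V) (g₀ : P →ₗ[F] V₀) (hg : Function.Injective g) (hg₀ : Function.Injective g₀)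
    (hr : LinearMap.range g = W) (hr₀ : LinearMap.range g₀ = W₀)
    (hQ : ∀ p, Q₀ (g₀ p) = Q (g p)) : SrIsoTo Q W Q₀ W₀ := by
  subst hr
  subst hr₀
  refine ⟨(LinearEquiv.ofInjective g hg).symm.trans (LinearEquiv.ofInjective g₀ hg₀), fun w => ?_⟩
  obtain ⟨p, hp⟩ := (LinearEquiv.ofInjective g hg).surjective w
  subst hp
  rw [LinearEquiv.trans_apply, LinearEquiv.symm_apply_apply, LinearEquiv.ofInjective_apply,
    LinearEquiv.ofInjective_apply]
  exact hQ p

/-- A nondegenerate subspace of dimension at least two represents every nonzero value. -/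
theorem sro_univ {V : Type u} [AddCommGroup V] [Module F V] [FiniteDimensional F V]
    (Q : QuadraticForm F V) (h2 : (2 : F) ≠ 0) (X : Submodule F V)
    (hX : SpNd (QuadraticMap.polarBilin Q) X) (hdim : 2 ≤ finrank F X) (a : F) (ha : a ≠ 0) :
    ∃ v ∈ X, Q v = a := by
  have hP : ∃ P : Submodule F V, P ≤ X ∧ finrank F P = 2 ∧
      ∃ ε : ℤ, (ε = 1 ∨ ε = -1) ∧ SrTy Q P ε := by
    by_cases h3 : finrank F X = 2
    · rcases sr_ty_or Q X hX 1 (by omega) with h | h
      · exact ⟨X, le_rfl, h3, 1, Or.inl rfl, h⟩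
      · exact ⟨X, le_rfl, h3, -1, Or.inr rfl, h⟩
    · obtain ⟨W, hWX, hWnd, hWdim, hWty⟩ :=
        sr_exists_ty Q h2 1 (Or.inl rfl) 1 X hX (by omega) (by intro h; norm_num at h)
      exact ⟨W, hWX, by omega, 1, Or.inl rfl, hWty⟩
  obtain ⟨P, hPX, hPdim, ε, hε, hty⟩ := hP
  have h1 := hty a
  rw [if_neg ha, hPdim] at h1
  have hq : (2 : ℤ) ≤ (Fintype.card F : ℤ) := by exact_mod_cast Fintype.one_lt_card
  have hne : srNu Q P a ≠ 0 := by
    intro h0
    rw [h0] at h1
    rcases hε with rfl | rfl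
    · norm_num at h1
      nlinarith
    · norm_num at h1
      nlinarith
  unfold srNu at hne
  have hne2 : Nonempty {w : P // (Q.comp P.subtype) w = a} := by
    by_contra hemp
    rw [not_nonempty_iff] at hemp
    exact hne Nat.card_of_isEmpty
  obtain ⟨⟨w, hw⟩⟩ := hne2
  exact ⟨w.1, hPX w.2, hw⟩

/-- Isometry of two nondegenerate even-dimensional subspaces (of two ambient spaces) of the same
dimension and type. -/
theorem sro_isometric2 {V V₀ : Type u} [AddCommGroup V] [Module F V] [FiniteDimensional F V]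
    [AddCommGroup V₀] [Module F V₀] [FiniteDimensional F V₀]
    (Q : QuadraticForm F V) (Q₀ : QuadraticForm F V₀) (ε : ℤ) (hε : ε = 1 ∨ ε = -1) (e : ℕ)
    (N : Submodule F V) (N' : Submodule F V₀)
    (h0 : finrank F N = 2 * e ∧ SpNd (QuadraticMap.polarBilin Q) N ∧ SrTy Q N ε)
    (h1 : finrank F N' = 2 * e ∧ SpNd (QuadraticMap.polarBilin Q₀) N' ∧ SrTy Q₀ N' ε) :
    ∃ φ : N ≃ₗ[F] N', ∀ x : N, Q₀ (φ x : V₀) = Q (x : V) := by
  rcases hε with rfl | rfl
  · obtain ⟨T₀, hT₀⟩ := sr_plus_iso Q N h0.2.1 e h0.1 h0.2.2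
    obtain ⟨T₁, hT₁⟩ := sr_plus_iso Q₀ N' h1.2.1 e h1.1 h1.2.2
    refine ⟨T₀.trans T₁.symm, fun x => ?_⟩
    have h3 := hT₁ (T₁.symm (T₀ x))
    rw [LinearEquiv.apply_symm_apply, hT₀, QuadraticMap.comp_apply, QuadraticMap.comp_apply] at h3
    exact h3.symm
  · obtain ⟨a, c, hac⟩ := exists_aniso F
    obtain ⟨k₀, hk₀, hT₀⟩ := sr_minus_iso Q N h0.2.1 e h0.1 h0.2.2
    obtain ⟨k₁, hk₁, hT₁⟩ := sr_minus_iso Q₀ N' h1.2.1 e h1.1 h1.2.2
    have hk : k₀ = k₁ := by omega
    subst hk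
    obtain ⟨T₀, hT₀⟩ := hT₀ a c hac
    obtain ⟨T₁, hT₁⟩ := hT₁ a c hac
    refine ⟨T₀.trans T₁.symm, fun x => ?_⟩
    have h3 := hT₁ (T₁.symm (T₀ x))
    rw [LinearEquiv.apply_symm_apply, hT₀, QuadraticMap.comp_apply, QuadraticMap.comp_apply] at h3
    exact h3.symm

/-- Gluing: a nondegenerate odd-dimensional space `W₀` is isometric to `N ⊥ ⟨v⟩` for a suitable
vector `v` of any nondegenerate subspace `Y ⊥ N` of dimension at least two, where `N` is any
nondegenerate subspace of dimension `dim W₀ - 1` (of either type). -/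
theorem sro_glue {V V₀ : Type u} [AddCommGroup V] [Module F V] [FiniteDimensional F V]
    [AddCommGroup V₀] [Module F V₀] [FiniteDimensional F V₀]
    (Q : QuadraticForm F V) (Q₀ : QuadraticForm F V₀) (h2 : (2 : F) ≠ 0)
    (W₀ : Submodule F V₀) (hW₀ : SpNd (QuadraticMap.polarBilin Q₀) W₀)
    (hm : Odd (finrank F W₀))
    (N Y : Submodule F V) (hN : SpNd (QuadraticMap.polarBilin Q) N)
    (hNdim : finrank F N + 1 = finrank F W₀) (ε : ℤ) (hε : ε = 1 ∨ ε = -1) (hNty : SrTy Q N ε)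
    (hY : SpNd (QuadraticMap.polarBilin Q) Y) (hYdim : 2 ≤ finrank F Y)
    (horth : ∀ u ∈ N, ∀ v ∈ Y, QuadraticMap.polar Q u v = 0) :
    ∃ v ∈ Y, Q v ≠ 0 ∧ SrIsoTo Q (N ⊔ Submodule.span F {v}) Q₀ W₀ := by
  classical
  obtain ⟨e, he⟩ := hm
  have hNd : finrank F N = 2 * e := by omega
  have hq : (2 : ℤ) ≤ (Fintype.card F : ℤ) := by exact_mod_cast Fintype.one_lt_card
  have hεe : ε = -1 → 1 ≤ e := by
    intro hε1
    by_contra he0
    have he0' : e = 0 := by omega
    have h1 := hNty 0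
    rw [if_pos rfl, hNd, he0', hε1] at h1
    have hfin : Finite N := Module.finite_of_finite F
    have hpos : 1 ≤ srNu Q N 0 := by
      unfold srNu
      have hne : Nonempty {w : N // (Q.comp N.subtype) w = 0} := ⟨⟨0, by simp⟩⟩
      exact Nat.card_pos
    have hpos' : (1 : ℤ) ≤ (srNu Q N 0 : ℤ) := by exact_mod_cast hpos
    norm_num at h1
    nlinarith
  obtain ⟨N', hN'W, hN'nd, hN'dim, hN'ty⟩ :=
    sr_exists_ty Q₀ h2 ε hε e W₀ hW₀ (by omega) hεe
  obtain ⟨φ, hφ⟩ := sro_isometric2 Q Q₀ ε hε e N N' ⟨hNd, hN, hNty⟩ ⟨hN'dim, hN'nd, hN'ty⟩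
  obtain ⟨hLnd, hLsup, hLinf, hLdim⟩ :=
    so_rel (QuadraticMap.polarBilin Q₀) (sr_sym Q₀) W₀ N' hW₀ hN'nd hN'W
  have hL1 : finrank F ↥(spPerp (QuadraticMap.polarBilin Q₀) N' ⊓ W₀) = 1 := by omega
  obtain ⟨u', hu'0, hu'⟩ := finrank_eq_one_iff'.mp hL1
  have huL : (u' : V₀) ∈ spPerp (QuadraticMap.polarBilin Q₀) N' ⊓ W₀ := u'.2
  have hu0 : (u' : V₀) ≠ 0 := fun h => hu'0 (Subtype.ext h)
  have hspan : ∀ w ∈ spPerp (QuadraticMap.polarBilin Q₀) N' ⊓ W₀, ∃ c : F, w = c • (u' : V₀) := by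
    intro w hw
    obtain ⟨c, hc⟩ := hu' ⟨w, hw⟩
    refine ⟨c, ?_⟩
    have h3 := congrArg Subtype.val hc
    simpa using h3.symm
  have hQu : Q₀ (u' : V₀) ≠ 0 := by
    intro h0
    apply hu0
    apply hLnd _ huL
    intro w hw
    obtain ⟨c, hw'⟩ := hspan w hw
    rw [hw', map_smul, QuadraticMap.polarBilin_apply_apply, sr_polar_self, h0, mul_zero,
      smul_zero]
  obtain ⟨v, hvY, hQv⟩ := sro_univ Q h2 Y hY hYdim (Q₀ (u' : V₀)) hQu
  have hQv0 : Q v ≠ 0 := by rw [hQv]; exact hQu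
  refine ⟨v, hvY, hQv0, ?_⟩
  have hgv : ∀ p : N × F, (N.subtype.coprod (LinearMap.toSpanSingleton F V v)) p =
      (p.1 : V) + p.2 • v := fun p => by simp
  have hg₀v : ∀ p : N × F, ((N'.subtype.comp φ.toLinearMap).coprod
      (LinearMap.toSpanSingleton F V₀ (u' : V₀))) p = (φ p.1 : V₀) + p.2 • (u' : V₀) :=
    fun p => by simp
  apply sro_iso_of_param Q Q₀ _ _ (N.subtype.coprod (LinearMap.toSpanSingleton F V v))
    ((N'.subtype.comp φ.toLinearMap).coprod (LinearMap.toSpanSingleton F V₀ (u' : V₀)))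
  · rw [← LinearMap.ker_eq_bot, LinearMap.ker_eq_bot']
    rintro ⟨n, t⟩ h
    rw [hgv] at h
    have hn0 : (n : V) = 0 := by
      apply hN _ n.2
      intro w hw
      have e1 : (n : V) = -(t • v) := eq_neg_of_add_eq_zero_left h
      rw [e1, map_neg, map_smul, LinearMap.neg_apply, LinearMap.smul_apply,
        QuadraticMap.polarBilin_apply_apply, QuadraticMap.polar_comm, horth w hw v hvY,
        smul_zero, neg_zero]
    have ht0 : t = 0 := by
      rw [hn0, zero_add] at h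
      rcases smul_eq_zero.mp h with h | h
      · exact h
      · exfalso
        apply hQv0
        rw [h, map_zero]
    have hn0' : n = 0 := Subtype.ext hn0
    rw [hn0', ht0]
    rfl
  · rw [← LinearMap.ker_eq_bot, LinearMap.ker_eq_bot']
    rintro ⟨n, t⟩ h
    rw [hg₀v] at h
    have hφn : (φ n : V₀) ∈ N' ⊓ (spPerp (QuadraticMap.polarBilin Q₀) N' ⊓ W₀) := by
      refine ⟨(φ n).2, ?_⟩
      have e1 : (φ n : V₀) = -(t • (u' : V₀)) := eq_neg_of_add_eq_zero_left h
      rw [e1]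
      exact Submodule.neg_mem _ (Submodule.smul_mem _ t huL)
    rw [hLinf, Submodule.mem_bot] at hφn
    have hn0 : n = 0 := by
      have h4 : φ n = 0 := Subtype.ext hφn
      exact φ.map_eq_zero_iff.mp h4
    have ht0 : t = 0 := by
      rw [hφn, zero_add] at h
      rcases smul_eq_zero.mp h with h | h
      · exact h
      · exact absurd h hu0
    rw [hn0, ht0]
    rfl
  · rw [LinearMap.range_coprod, Submodule.range_subtype, ← LinearMap.span_singleton_eq_range]
  · rw [LinearMap.range_coprod, LinearMap.range_comp, LinearEquiv.range, Submodule.map_top,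
      Submodule.range_subtype]
    have hspan2 : LinearMap.range (LinearMap.toSpanSingleton F V₀ (u' : V₀)) =
        spPerp (QuadraticMap.polarBilin Q₀) N' ⊓ W₀ := by
      apply le_antisymm
      · rintro _ ⟨t, rfl⟩
        exact Submodule.smul_mem _ t huL
      · intro w hw
        obtain ⟨c, hc⟩ := hspan w hw
        exact ⟨c, by rw [hc]; rfl⟩
    rw [hspan2, hLsup]
  · intro p
    rw [hgv, hg₀v, QuadraticMap.map_add Q₀, QuadraticMap.map_add Q, hφ, QuadraticMap.map_smul,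
      QuadraticMap.map_smul, hQv]
    have hp1 : QuadraticMap.polar Q (p.1 : V) (p.2 • v) = 0 := by
      rw [QuadraticMap.polar_smul_right, horth _ p.1.2 v hvY, smul_zero]
    have hp2 : QuadraticMap.polar Q₀ (φ p.1 : V₀) (p.2 • (u' : V₀)) = 0 := by
      rw [QuadraticMap.polar_smul_right]
      have h5 := (Submodule.mem_inf.mp huL).1 (φ p.1 : V₀) (φ p.1).2
      rw [QuadraticMap.polarBilin_apply_apply] at h5
      rw [h5, smul_zero]
    rw [hp1, hp2]

/-- Embedding: a nondegenerate odd-dimensional space embeds isometrically in every nondegenerate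
subspace of larger dimension. -/
theorem sro_embed {V V₀ : Type u} [AddCommGroup V] [Module F V] [FiniteDimensional F V]
    [AddCommGroup V₀] [Module F V₀] [FiniteDimensional F V₀]
    (Q : QuadraticForm F V) (Q₀ : QuadraticForm F V₀) (h2 : (2 : F) ≠ 0)
    (W₀ : Submodule F V₀) (hW₀ : SpNd (QuadraticMap.polarBilin Q₀) W₀)
    (hm : Odd (finrank F W₀))
    (X : Submodule F V) (hX : SpNd (QuadraticMap.polarBilin Q) X)
    (hdim : finrank F W₀ < finrank F X) :
    ∃ W : Submodule F V, W ≤ X ∧ SrIsoTo Q W Q₀ W₀ := by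
  obtain ⟨e, he⟩ := hm
  have hT1 : ∀ v, Q ((1 : Module.End F V) v) = Q v := fun v => rfl
  obtain ⟨N, hNX, hNnd, -, hNdim, hNty⟩ :=
    sr_exists_plus Q h2 1 hT1 (one_mul 1) e X hX (fun x hx => hx) (by omega)
  obtain ⟨hYnd, hYsup, hYinf, hYdim⟩ :=
    so_rel (QuadraticMap.polarBilin Q) (sr_sym Q) X N hX hNnd hNX
  obtain ⟨v, hvY, hQv, hiso⟩ := sro_glue Q Q₀ h2 W₀ hW₀ ⟨e, he⟩ N
    (spPerp (QuadraticMap.polarBilin Q) N ⊓ X) hNnd (by omega) 1 (Or.inl rfl) hNty hYnd
    (by omega) (fun u hu v hv => by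
      have h5 := (Submodule.mem_inf.mp hv).1 u hu
      rwa [QuadraticMap.polarBilin_apply_apply] at h5)
  refine ⟨N ⊔ Submodule.span F {v}, sup_le hNX ?_, hiso⟩
  rw [Submodule.span_singleton_le_iff_mem]
  exact (Submodule.mem_inf.mp hvY).2

end sroemb

end Cfsg.Agent.Lib.helper24
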