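import Mathlib
import Cfsg.Agent.Lib.helper81.WTDefs

/-! S4414, piece E1: the sum over `Y` acts as zero on an irreducible module on which `Y ≠ 1`
acts faithfully. -/

set_option autoImplicit false

namespace Cfsg.Agent.Lib.helper81.WT

open scoped TensorProduct

universe u v w

/-- [E1] the sum over Y acts as zero on an irreducible module on which Y ≠ 1 is faithful -/
theorem sum_eq_zero {S : Type u} [Group S] [Finite S] {E : Type v} [AddCommGroup E] [Module (ZMod 2) E] [Finite E]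
    (ρ : Representation (ZMod 2) S E)
    (hirr : ∀ N : Submodule (ZMod 2) E, (∀ s : S, ∀ m ∈ N, ρ s m ∈ N) → N = ⊥ ∨ N = ⊤)
    (Y : Subgroup S) [Y.Normal] [Fintype ↥Y] (hY : Y ≠ ⊥) (hfaith : ∀ x ∈ Y, ρ x = 1 → x = 1) :
    ∑ y : ↥Y, ρ (y : S) = 0 := by
  classical
  have hYfix : ∀ (z : ↥Y) (e : E),
      ρ (z : S) ((∑ y : ↥Y, ρ (y : S)) e) = (∑ y : ↥Y, ρ (y : S)) e := by
    intro z e
    rw [LinearMap.sum_apply, map_sum]
    have h1 : ∀ y : ↥Y, ρ (z : S) (ρ (y : S) e) = ρ ((z * y : ↥Y) : S) e := by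
      intro y; rw [Subgroup.coe_mul, map_mul]; rfl
    simp_rw [h1]
    exact Fintype.sum_equiv (Equiv.mulLeft z) _ _ (fun y => rfl)
  have hSinv : ∀ (s : S) (e : E),
      ρ s ((∑ y : ↥Y, ρ (y : S)) e) = (∑ y : ↥Y, ρ (y : S)) (ρ s e) := by
    intro s e
    rw [LinearMap.sum_apply, LinearMap.sum_apply, map_sum]
    have h1 : ∀ y : ↥Y, ρ s (ρ (y : S) e) = ρ ((MulAut.conjNormal s y : ↥Y) : S) (ρ s e) := by
      intro y
      rw [MulAut.conjNormal_apply, ← Module.End.mul_apply, ← map_mul, ← Module.End.mul_apply,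
        ← map_mul]
      congr 2; group
    simp_rw [h1]
    exact Fintype.sum_equiv (MulAut.conjNormal s).toEquiv _ _ (fun y => rfl)
  rcases hirr (LinearMap.range (∑ y : ↥Y, ρ (y : S))) (by
    rintro s m ⟨e, rfl⟩
    exact ⟨ρ s e, (hSinv s e).symm⟩) with h | h
  · exact LinearMap.range_eq_bot.mp h
  · exfalso
    apply hY
    rw [Subgroup.eq_bot_iff_forall]
    intro x hx
    apply hfaith x hx
    ext e
    obtain ⟨e', rfl⟩ : e ∈ LinearMap.range (∑ y : ↥Y, ρ (y : S)) := by rw [h]; trivial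
    exact hYfix ⟨x, hx⟩ e'

end Cfsg.Agent.Lib.helper81.WT
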