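import Mathlib
import Cfsg.Agent.Lib.helper81.WTDefs

/-! S4414, piece FX (racing copy): a 2-group acting on a nonzero finite subspace in
characteristic 2 has a nonzero fixed vector. -/

set_option autoImplicit false

namespace Cfsg.Agent.Lib.helper81.WT

open scoped TensorProduct

universe u v w

/-- [FX] a 2-group acting on a nonzero finite subspace in char 2 has a nonzero fixed vector -/
theorem helper13_exists_fixed {S : Type u} [Group S] [Finite S] {F : Type w} [Field F] [Finite F] [CharP F 2]
    {V : Type v} [AddCommGroup V] [Module F V]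
    (R : Representation F S V) (Y : Subgroup S) [Y.Normal] [Fintype ↥Y]
    [Finite V] (T : Subgroup S) (hT : IsPGroup 2 ↥T) (W : Submodule F V)
    (hW : ∀ s ∈ T, ∀ w ∈ W, R s w ∈ W) (hW0 : W ≠ ⊥) :
    ∃ w ∈ W, w ≠ 0 ∧ ∀ s ∈ T, R s w = w := by
  classical
  let act : MulAction ↥T ↥W :=
    { smul := fun t w => ⟨R (t : S) (w : V), hW t t.2 w w.2⟩
      one_smul := fun w => by
        apply Subtype.ext
        show R ((1 : ↥T) : S) (w : V) = w
        rw [Subgroup.coe_one, map_one]; rfl
      mul_smul := fun a b w => by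
        apply Subtype.ext
        show R ((a * b : ↥T) : S) (w : V) = R (a : S) (R (b : S) (w : V))
        rw [Subgroup.coe_mul, map_mul]; rfl }
  have hfact : Fact (Nat.Prime 2) := ⟨Nat.prime_two⟩
  have hdvd : 2 ∣ Nat.card ↥W := by
    obtain ⟨w, hwW, hw0⟩ := (Submodule.ne_bot_iff W).mp hW0
    have h2 : addOrderOf (⟨w, hwW⟩ : ↥W) = 2 := by
      apply addOrderOf_eq_prime
      · apply Subtype.ext
        show (2 : ℕ) • w = 0
        rw [two_nsmul, ← two_smul F, CharTwo.two_eq_zero, zero_smul]
      · intro h; exact hw0 (congrArg Subtype.val h)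
    rw [← h2]; exact addOrderOf_dvd_natCard _
  have h0 : (0 : ↥W) ∈ MulAction.fixedPoints ↥T ↥W := by
    intro t
    apply Subtype.ext
    show R (t : S) ((0 : ↥W) : V) = ((0 : ↥W) : V)
    simp
  obtain ⟨b, hb, hb0⟩ := hT.exists_fixed_point_of_prime_dvd_card_of_fixed_point ↥W hdvd h0
  refine ⟨b, b.2, fun h => hb0 (Subtype.ext h.symm), fun s hs => ?_⟩
  have h3 := hb ⟨s, hs⟩
  exact congrArg Subtype.val h3

end Cfsg.Agent.Lib.helper81.WT
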